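import Groth.Agent.Lib.ModelFibre.Stalk

/-!
# The local rings of a flat scheme over an affine base are flat
-/

universe u

open CategoryTheory AlgebraicGeometry IsLocalRing

namespace Groth.Agent.Lib.ModelFibre.Chart

open Groth.Agent.Lib.ModelFibre.Stalk

variable {R : Type u} [CommRing R] {X : Scheme.{u}} (p : X ⟶ Spec (CommRingCat.of R))

/-- The structure map of an affine open of a scheme over `Spec R`. -/
noncomputable def chartHom {U : X.Opens} (hU : IsAffineOpen U) : CommRingCat.of R ⟶ Γ(X, U) :=
  Spec.preimage (hU.fromSpec ≫ p)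

lemma baseHom_eq {U : X.Opens} (hU : IsAffineOpen U) {x : X} (hx : x ∈ U) :
    baseHom p x = (X.presheaf.germ U x hx).hom.comp (chartHom p hU).hom := by
  have h : CommRingCat.ofHom (baseHom p x) = chartHom p hU ≫ X.presheaf.germ U x hx := by
    apply Spec.map_injective
    rw [← fromSpecStalk_comp, Spec.map_comp, chartHom, Spec.map_preimage,
      ← hU.fromSpecStalk_eq_fromSpecStalk hx]
    exact Category.assoc _ _ _
  exact congrArg CommRingCat.Hom.hom h

/-- Local rings of a flat scheme over `Spec R` are flat over `R`. -/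
theorem baseHom_flat [Flat p] (x : X) : (baseHom p x).Flat := by
  obtain ⟨_, ⟨U, hU, rfl⟩, hx, -⟩ :=
    X.isBasis_affineOpens.exists_subset_of_mem_open (Set.mem_univ x) isOpen_univ
  have : IsOpenImmersion hU.fromSpec := hU.isOpenImmersion_fromSpec
  have hflat : (chartHom p hU).hom.Flat := by
    rw [← HasRingHomProperty.Spec_iff (P := @Flat), chartHom, Spec.map_preimage]
    infer_instance
  rw [baseHom_eq p hU hx]
  let alg : Algebra Γ(X, U) (X.presheaf.stalk x) := (X.presheaf.germ U x hx).hom.toAlgebra
  have : IsLocalization.AtPrime (X.presheaf.stalk x) (hU.primeIdealOf ⟨x, hx⟩).asIdeal :=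
    hU.isLocalization_stalk ⟨x, hx⟩
  exact RingHom.Flat.comp hflat (IsLocalization.flat _ (hU.primeIdealOf ⟨x, hx⟩).asIdeal.primeCompl)

/-- Nonzerodivisors of the base act injectively on the local rings of a flat scheme. -/
theorem isSMulRegular_baseHom [Flat p] (x : X) {r : R} (hr : IsRegular r) :
    IsSMulRegular (X.presheaf.stalk x) (baseHom p x r) := by
  let alg : Algebra R (X.presheaf.stalk x) := (baseHom p x).toAlgebra
  have : Module.Flat R (X.presheaf.stalk x) := baseHom_flat p x
  have h : IsSMulRegular (X.presheaf.stalk x) r := Module.Flat.isSMulRegular_of_isRegular hr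
  intro a b hab
  exact h (show r • a = r • b by rw [Algebra.smul_def, Algebra.smul_def]; exact hab)

end Groth.Agent.Lib.ModelFibre.Chart
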