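import Mathlib
import Groth.Agent.Lib.Ideal.Prime
import Groth.Agent.Lib.Ideal.Comap
import Groth.Agent.Lib.ModelFibre.Chart
import Groth.Prelude.Def_CurvBase

/-!
# Stalks of ideal sheaves: extensionality, products, kernels of integral closed subschemes
-/

universe u

open CategoryTheory AlgebraicGeometry TopologicalSpace Opposite IsLocalRing

namespace Groth.Agent.Lib.ModelFibre.StalkIdeal

open Groth.Agent.Lib.Ideal.Prime

variable {X : Scheme.{u}}

theorem ext_of_stalkIdeal {I J : X.IdealSheafData} (h : ∀ x, stalkIdeal I x = stalkIdeal J x) : I = J := by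
  refine Scheme.IdealSheafData.ext (funext fun U => ?_)
  refine Ideal.eq_of_localization_maximal fun P hP => ?_
  let x : X := U.2.fromSpec ⟨P, hP.isPrime⟩
  have hx : x ∈ U.1 := U.2.range_fromSpec.le ⟨_, rfl⟩
  have hP' : (U.2.primeIdealOf ⟨x, hx⟩).asIdeal = P := by
    have : IsOpenImmersion U.2.fromSpec := U.2.isOpenImmersion_fromSpec
    have : U.2.primeIdealOf ⟨x, hx⟩ = ⟨P, hP.isPrime⟩ := by
      apply U.2.fromSpec.isOpenEmbedding.injective
      rw [U.2.fromSpec_primeIdealOf]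
    rw [this]
  letI := TopCat.Presheaf.algebra_section_stalk X.presheaf (⟨x, hx⟩ : U.1)
  have hloc := U.2.isLocalization_stalk ⟨x, hx⟩
  have : IsLocalization.AtPrime (X.presheaf.stalk x) P := by
    have hP'' : (U.2.primeIdealOf ⟨x, hx⟩).asIdeal.primeCompl = P.primeCompl := by
      ext a
      show a ∉ (U.2.primeIdealOf ⟨x, hx⟩).asIdeal ↔ a ∉ P
      rw [hP']
    show IsLocalization P.primeCompl _
    exact hP'' ▸ hloc
  let ε : X.presheaf.stalk x ≃ₐ[Γ(X, U.1)] Localization.AtPrime P :=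
    IsLocalization.algEquiv P.primeCompl _ _
  have key : ∀ K : Ideal Γ(X, U.1), Ideal.map (algebraMap Γ(X, U.1) (Localization.AtPrime P)) K =
      (Ideal.map (X.presheaf.germ U.1 x hx).hom K).map ε.toRingEquiv.toRingHom := by
    intro K
    rw [Ideal.map_map]
    congr 1
    ext a
    exact (ε.commutes a).symm
  rw [key, key, ← stalkIdeal_eq I U hx, ← stalkIdeal_eq J U hx, h x]

theorem stalkIdeal_top (x : X) : stalkIdeal (⊤ : X.IdealSheafData) x = ⊤ := by
  obtain ⟨U, hU, hxU, -⟩ := exists_isAffineOpen_mem_and_subset (show x ∈ (⊤ : X.Opens) from trivial)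
  rw [stalkIdeal_eq _ ⟨U, hU⟩ hxU, Scheme.IdealSheafData.ideal_top]
  exact Ideal.map_top _

theorem stalkIdeal_mul (I J : X.IdealSheafData) (x : X) :
    stalkIdeal (I * J) x = stalkIdeal I x * stalkIdeal J x := by
  obtain ⟨U, hU, hxU, -⟩ := exists_isAffineOpen_mem_and_subset (show x ∈ (⊤ : X.Opens) from trivial)
  rw [stalkIdeal_eq _ ⟨U, hU⟩ hxU, stalkIdeal_eq I ⟨U, hU⟩ hxU, stalkIdeal_eq J ⟨U, hU⟩ hxU,
    Scheme.IdealSheafData.ideal_mul, Pi.mul_apply, Ideal.map_mul]

theorem stalkIdeal_pow (I : X.IdealSheafData) (n : ℕ) (x : X) :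
    stalkIdeal (I ^ n) x = stalkIdeal I x ^ n := by
  induction n with
  | zero => rw [pow_zero, pow_zero, show (1 : X.IdealSheafData) = ⊤ from rfl, stalkIdeal_top, Ideal.one_eq_top]
  | succ n ih => rw [pow_succ, pow_succ, stalkIdeal_mul, ih]

theorem stalkIdeal_prod {ι : Type*} (s : Finset ι) (I : ι → X.IdealSheafData) (x : X) :
    stalkIdeal (∏ i ∈ s, I i) x = ∏ i ∈ s, stalkIdeal (I i) x := by
  classical
  induction s using Finset.induction_on with
  | empty => rw [Finset.prod_empty, Finset.prod_empty, show (1 : X.IdealSheafData) = ⊤ from rfl,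
      stalkIdeal_top, Ideal.one_eq_top]
  | insert a s ha ih => rw [Finset.prod_insert ha, Finset.prod_insert ha, stalkIdeal_mul, ih]

theorem map_stalkSpecializes (I : X.IdealSheafData) {x y : X} (h : y ⤳ x) :
    (stalkIdeal I x).map (X.presheaf.stalkSpecializes h).hom = stalkIdeal I y := by
  obtain ⟨U, hU, hxU, -⟩ := exists_isAffineOpen_mem_and_subset (show x ∈ (⊤ : X.Opens) from trivial)
  have hyU : y ∈ U := h.mem_open U.2 hxU
  rw [stalkIdeal_eq I ⟨U, hU⟩ hxU, stalkIdeal_eq I ⟨U, hU⟩ hyU, Ideal.map_map, ← CommRingCat.hom_comp,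
    TopCat.Presheaf.germ_stalkSpecializes]

theorem stalkIdeal_eq_top_iff (I : X.IdealSheafData) (x : X) :
    stalkIdeal I x = ⊤ ↔ x ∉ I.support := by
  obtain ⟨U, hU, hxU, -⟩ := exists_isAffineOpen_mem_and_subset (show x ∈ (⊤ : X.Opens) from trivial)
  letI := TopCat.Presheaf.algebra_section_stalk X.presheaf (⟨x, hxU⟩ : U)
  have := hU.isLocalization_stalk ⟨x, hxU⟩
  rw [mem_support_iff_le_prime I ⟨U, hU⟩ hxU, stalkIdeal_eq I ⟨U, hU⟩ hxU]
  have h := (IsLocalization.map_algebraMap_ne_top_iff_disjoint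
    (hU.primeIdealOf ⟨x, hxU⟩).asIdeal.primeCompl (X.presheaf.stalk x) (I.ideal ⟨U, hU⟩))
  constructor
  · intro htop hle
    refine h.2 ?_ htop
    exact Set.disjoint_left.2 fun a ha haI => ha (hle haI)
  · intro hle
    by_contra htop
    exact hle fun a haI => by
      by_contra hna
      exact Set.disjoint_left.1 (h.1 htop) hna haI

/-- The stalk of the kernel of an integral closed subscheme at one of its points is the prime of its generic
point. -/
theorem stalkIdeal_ker {Y : Scheme.{u}} [IsIntegral Y] (ι : Y ⟶ X) [IsClosedImmersion ι] (x : X)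
    (h : ι (genericPoint Y) ⤳ x) :
    (stalkIdeal ι.ker x).IsPrime ∧ ∀ q : PrimeSpectrum (X.presheaf.stalk x),
      X.fromSpecStalk x q = ι (genericPoint Y) → q.asIdeal = stalkIdeal ι.ker x := by
  obtain ⟨U, hU, hxU, -⟩ := exists_isAffineOpen_mem_and_subset (show x ∈ (⊤ : X.Opens) from trivial)
  have hξU : ι (genericPoint Y) ∈ U := h.mem_open U.2 hxU
  have : Nonempty (ι ⁻¹ᵁ U : Y.Opens) := ⟨⟨genericPoint Y, hξU⟩⟩
  have hP : (hU.primeIdealOf ⟨_, hξU⟩).asIdeal = ι.ker.ideal ⟨U, hU⟩ := by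
    letI := TopCat.Presheaf.algebra_section_stalk X.presheaf (⟨_, hξU⟩ : U)
    have := hU.isLocalization_stalk ⟨_, hξU⟩
    rw [← IsLocalization.AtPrime.comap_maximalIdeal (X.presheaf.stalk (ι (genericPoint Y)))
      (hU.primeIdealOf ⟨_, hξU⟩).asIdeal, Scheme.Hom.ker_apply]
    ext a
    rw [Ideal.mem_comap, RingHom.mem_ker, mem_maximalIdeal, mem_nonunits_iff]
    show ¬ IsUnit (X.presheaf.germ U _ hξU a) ↔ ι.app U a = 0
    rw [← Y.germToFunctionField_injective (ι ⁻¹ᵁ U) |>.eq_iff, map_zero]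
    have hgerm : Y.germToFunctionField (ι ⁻¹ᵁ U) (ι.app U a) =
        ι.stalkMap (genericPoint Y) (X.presheaf.germ U _ hξU a) :=
      (Scheme.Hom.germ_stalkMap_apply ι U (genericPoint Y) hξU a).symm
    rw [hgerm]
    constructor
    · intro hu
      by_contra hne
      exact hu (isUnit_of_map_unit (ι.stalkMap (genericPoint Y)).hom _ (isUnit_iff_ne_zero.2 hne))
    · intro h0 hu
      exact (hu.map (ι.stalkMap (genericPoint Y)).hom).ne_zero h0
  letI := TopCat.Presheaf.algebra_section_stalk X.presheaf (⟨x, hxU⟩ : U)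
  have := hU.isLocalization_stalk ⟨x, hxU⟩
  have hle : ι.ker.ideal ⟨U, hU⟩ ≤ (hU.primeIdealOf ⟨x, hxU⟩).asIdeal := by
    rw [← hP]
    exact (Groth.Agent.Lib.AssPt.Basic.specializes_iff_primeIdealOf hU hxU hξU).1 h
  have hprime : (ι.ker.ideal ⟨U, hU⟩).IsPrime := hP ▸ (hU.primeIdealOf ⟨_, hξU⟩).2
  have hdisj : Disjoint ((hU.primeIdealOf ⟨x, hxU⟩).asIdeal.primeCompl : Set Γ(X, U))
      (ι.ker.ideal ⟨U, hU⟩ : Set Γ(X, U)) := Set.disjoint_left.2 fun a ha haI => ha (hle haI)
  rw [stalkIdeal_eq _ ⟨U, hU⟩ hxU]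
  refine ⟨IsLocalization.isPrime_of_isPrime_disjoint _ _ _ hprime hdisj, fun q hq => ?_⟩
  have : IsOpenImmersion hU.fromSpec := hU.isOpenImmersion_fromSpec
  have hq' : (Spec.map (X.presheaf.germ U x hxU)) q = hU.primeIdealOf ⟨_, hξU⟩ := by
    apply hU.fromSpec.isOpenEmbedding.injective
    rw [hU.fromSpec_primeIdealOf]
    refine Eq.trans ?_ hq
    rw [← hU.fromSpecStalk_eq_fromSpecStalk hxU]
    rfl
  have hq'' : q.asIdeal.comap (X.presheaf.germ U x hxU).hom = ι.ker.ideal ⟨U, hU⟩ :=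
    (congrArg PrimeSpectrum.asIdeal hq').trans hP
  rw [← hq'']
  exact (IsLocalization.map_comap (hU.primeIdealOf ⟨x, hxU⟩).asIdeal.primeCompl (X.presheaf.stalk x)
    q.asIdeal).symm

/-- An ideal sheaf with nonzero principal stalks is effective Cartier on a locally noetherian scheme with
integral local rings. -/
theorem isEffCartierIdeal [IsLocallyNoetherian X] (hdom : ∀ x : X, IsDomain (X.presheaf.stalk x))
    {I : X.IdealSheafData} (h : ∀ x, ∃ p, p ≠ 0 ∧ stalkIdeal I x = Ideal.span {p}) :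
    BlowUp.IsEffCartierIdeal I := by
  intro x
  have := hdom x
  obtain ⟨p, hp0, hp⟩ := h x
  obtain ⟨U, hxU, hU, hinj⟩ := X.exists_germ_injective x
  letI := TopCat.Presheaf.algebra_section_stalk X.presheaf (⟨x, hxU⟩ : U)
  have := hU.isLocalization_stalk ⟨x, hxU⟩
  set M := (hU.primeIdealOf ⟨x, hxU⟩).asIdeal.primeCompl
  rw [stalkIdeal_eq I ⟨U, hU⟩ hxU] at hp
  obtain ⟨⟨⟨a, haI⟩, ⟨s, hs⟩⟩, has⟩ := (IsLocalization.mem_map_algebraMap_iff M (X.presheaf.stalk x)).1
    (hp.ge (Ideal.mem_span_singleton_self p))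
  have hsu : IsUnit (algebraMap Γ(X, U) (X.presheaf.stalk x) s) := IsLocalization.map_units _ ⟨s, hs⟩
  have hspan : Ideal.span {p} = Ideal.span {algebraMap Γ(X, U) (X.presheaf.stalk x) a} := by
    rw [← has]; exact (Ideal.span_singleton_mul_right_unit hsu p).symm
  have : IsNoetherianRing Γ(X, U) := IsLocallyNoetherian.component_noetherian ⟨U, hU⟩
  obtain ⟨T, hT⟩ := IsNoetherian.noetherian (I.ideal ⟨U, hU⟩)
  have hden : ∀ b ∈ T, ∃ t ∈ M, t * b ∈ Ideal.span {a} := fun b hb => by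
    have hbI : b ∈ I.ideal ⟨U, hU⟩ := hT ▸ Submodule.subset_span hb
    have h1 : algebraMap Γ(X, U) (X.presheaf.stalk x) b ∈
        (Ideal.span {a}).map (algebraMap Γ(X, U) (X.presheaf.stalk x)) := by
      rw [Ideal.map_span, Set.image_singleton, ← hspan, ← hp]
      exact Ideal.mem_map_of_mem _ hbI
    exact (IsLocalization.algebraMap_mem_map_algebraMap_iff M (X.presheaf.stalk x) _ b).1 h1
  choose t htM htb using hden
  set d := ∏ b ∈ T.attach, t b.1 b.2 with hd
  have hdM : d ∈ M := prod_mem fun b _ => htM _ _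
  have hxd : x ∈ X.basicOpen d := by
    rw [Scheme.mem_basicOpen X d x hxU]
    exact IsLocalization.map_units (X.presheaf.stalk x) (⟨d, hdM⟩ : M)
  have hle := X.basicOpen_le d
  refine ⟨⟨X.basicOpen d, hU.basicOpen d⟩, hxd, (X.presheaf.map (homOfLE hle).op).hom a, ?_, ?_⟩
  · have hinj' : Function.Injective (X.presheaf.germ (X.basicOpen d) x hxd).hom := by
      refine (injective_iff_map_eq_zero _).2 fun z hz => ?_
      have := hU.isLocalization_basicOpen d
      obtain ⟨⟨w, e⟩, hw⟩ := IsLocalization.surj (Submonoid.powers d) z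
      have h1 : X.presheaf.germ U x hxU w = 0 := by
        rw [← X.presheaf.germ_res_apply (homOfLE hle) x hxd w]
        exact (congrArg (X.presheaf.germ (X.basicOpen d) x hxd).hom hw.symm).trans
          (by rw [map_mul, hz, zero_mul])
      rw [hinj (h1.trans (map_zero _).symm), map_zero] at hw
      exact (IsLocalization.map_units _ e).mul_left_eq_zero.1 hw
    have : IsDomain Γ(X, X.basicOpen d) := hinj'.isDomain _
    refine mem_nonZeroDivisors_of_ne_zero fun h0 => hp0 ?_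
    have h1 := congrArg (X.presheaf.germ (X.basicOpen d) x hxd).hom h0
    rw [map_zero] at h1
    have h2 : algebraMap Γ(X, U) (X.presheaf.stalk x) a = 0 :=
      (X.presheaf.germ_res_apply (homOfLE hle) x hxd a).symm.trans h1
    rw [h2, Ideal.span_singleton_zero, Ideal.span_singleton_eq_bot] at hspan
    exact hspan
  · rw [← I.map_ideal (U := ⟨X.basicOpen d, hU.basicOpen d⟩) (V := ⟨U, hU⟩) hle]
    refine le_antisymm ?_ ?_
    · rw [← hT, Ideal.map_span, Ideal.span_le]
      rintro _ ⟨b, hb, rfl⟩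
      have hdvd : t b hb ∣ d := Finset.dvd_prod_of_mem (fun b : {b // b ∈ T} => t b.1 b.2)
        (Finset.mem_attach _ ⟨b, hb⟩)
      obtain ⟨c, hc⟩ := hdvd
      have hdb : d * b ∈ Ideal.span {a} := by
        rw [hc, mul_comm (t b hb), mul_assoc]
        exact Ideal.mul_mem_left _ _ (htb b hb)
      have h1 := Ideal.mem_map_of_mem (X.presheaf.map (homOfLE hle).op).hom hdb
      rw [map_mul, Ideal.map_span, Set.image_singleton] at h1
      have := hU.isLocalization_basicOpen d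
      exact (Ideal.unit_mul_mem_iff_mem _ (IsLocalization.Away.algebraMap_isUnit d)).1 h1
    · rw [Ideal.span_singleton_le_iff_mem]
      exact Ideal.mem_map_of_mem _ haI

/-- The stalks of the ideal sheaf of `V(I) ⊆ Spec R` pulled back to a scheme over `Spec R`. -/
theorem stalkIdeal_comap_idealSheaf {R : Type u} [CommRing R] (p : X ⟶ Spec (CommRingCat.of R))
    (I : Ideal R) (x : X) :
    stalkIdeal ((Curv2.idealSheaf R I).comap p) x = I.map (Stalk.baseHom p x) := by
  obtain ⟨U, hU, hxU, -⟩ := exists_isAffineOpen_mem_and_subset (show x ∈ (⊤ : X.Opens) from trivial)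
  have e : U ≤ p ⁻¹ᵁ ⊤ := fun _ _ => trivial
  rw [stalkIdeal_eq _ ⟨U, hU⟩ hxU,
    Groth.Agent.Lib.Ideal.Comap.ideal_comap p _ ⟨⊤, isAffineOpen_top _⟩ ⟨U, hU⟩ e,
    Curv2.idealSheaf, Scheme.IdealSheafData.ofIdealTop_ideal, Ideal.map_map, Ideal.map_map, Ideal.map_map]
  congr 1
  ext r
  simp only [RingHom.comp_apply, Stalk.baseHom, Coh.toGlobal]
  rw [Scheme.Hom.appLE, CommRingCat.hom_comp, RingHom.comp_apply]
  exact (X.presheaf.germ_res_apply _ _ _ _).trans (congrArg _ (congrArg (p.app ⊤).hom (by simp)))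

end Groth.Agent.Lib.ModelFibre.StalkIdeal
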