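import Mathlib

/-!
# Local rings at points maximal for generalization
-/

universe u

open CategoryTheory AlgebraicGeometry IsLocalRing

namespace Groth.Agent.Lib.ModelFibre.MaxPoint

variable {X : Scheme.{u}} {η : X}

lemma generalization_of_mem_irreducibleComponents (h : closure ({η} : Set X) ∈ irreducibleComponents X)
    (y : X) (hy : y ⤳ η) : y = η := by
  have h1 : closure ({η} : Set X) ⊆ closure {y} :=
    closure_minimal (Set.singleton_subset_iff.2 hy.mem_closure) isClosed_closure
  have h2 := h.2 isIrreducible_singleton.closure h1
  exact (specializes_iff_closure_subset.2 h1).antisymm (specializes_iff_closure_subset.2 h2) |>.eq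

/-- The local ring at a point with no proper generalization has a single prime. -/
theorem subsingleton_primeSpectrum (hη : ∀ y : X, y ⤳ η → y = η) :
    Subsingleton (PrimeSpectrum (X.presheaf.stalk η)) := by
  refine ⟨fun p q => ?_⟩
  apply (X.fromSpecStalk η).isEmbedding.injective
  have h : ∀ p : Spec (X.presheaf.stalk η), X.fromSpecStalk η p = η := fun p => hη _ (by
    have : X.fromSpecStalk η p ∈ Set.range (X.fromSpecStalk η) := ⟨p, rfl⟩
    rwa [Scheme.range_fromSpecStalk] at this)
  exact (h p).trans (h q).symm

/-- The local ring of a reduced scheme at a point with no proper generalization is a field. -/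
theorem isField_stalk [IsReduced X] (hη : ∀ y : X, y ⤳ η → y = η) :
    IsField (X.presheaf.stalk η) := by
  have := subsingleton_primeSpectrum hη
  rw [IsLocalRing.isField_iff_maximalIdeal_eq, eq_bot_iff]
  intro x hx
  have hnil : x ∈ nilradical (X.presheaf.stalk η) := by
    rw [nilradical_eq_sInf, Submodule.mem_sInf]
    intro J hJ
    have : (⟨J, hJ⟩ : PrimeSpectrum (X.presheaf.stalk η)) = closedPoint _ := Subsingleton.elim _ _
    rw [PrimeSpectrum.ext_iff] at this
    change J = _ at this
    rw [this]
    exact hx
  exact IsNilpotent.eq_zero (mem_nilradical.1 hnil)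

end Groth.Agent.Lib.ModelFibre.MaxPoint
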