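import Mathlib
import Groth.Prelude.Def_Coh
import Groth.Prelude.Def_ModelsG

/-!
# The local ring of a closed fibre of a scheme over an affine base

For a cartesian square over `Spec k → Spec R` with `R → k` surjective, the local ring of the base change at a
point `a` is the quotient of the local ring at its image by the extension of `ker (R → k)`.
-/

universe u

open CategoryTheory AlgebraicGeometry Limits IsLocalRing

namespace Groth.Agent.Lib.ModelFibre.Stalk

variable {R : Type u} [CommRing R] {X : Scheme.{u}}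

/-- The map `R → O_{X,x}` of a scheme over `Spec R`. -/
noncomputable def baseHom (f : X ⟶ Spec (CommRingCat.of R)) (x : X) : R →+* X.presheaf.stalk x :=
  (X.presheaf.germ ⊤ x trivial).hom.comp (Coh.toGlobal f)

lemma fromSpecStalk_comp (f : X ⟶ Spec (CommRingCat.of R)) (x : X) :
    X.fromSpecStalk x ≫ f = Spec.map (CommRingCat.ofHom (baseHom f x)) := by
  have h' : f = X.toSpecΓ ≫ Spec.map ((Scheme.ΓSpecIso (CommRingCat.of R)).inv ≫ f.appTop) := by
    rw [Spec.map_comp, ← Scheme.toSpecΓ_naturality_assoc, toSpecΓ_SpecMap_ΓSpecIso_inv,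
      Category.comp_id]
  conv_lhs => rw [h']
  rw [← Category.assoc, Scheme.fromSpecStalk_toSpecΓ, ← Spec.map_comp]
  rfl

variable {k : Type u} [CommRing k] (φ : R →+* k) {Xs : Scheme.{u}} {gs : Xs ⟶ X}
  {fs : Xs ⟶ Spec (CommRingCat.of k)} {f : X ⟶ Spec (CommRingCat.of R)}

/-- The kernel of `O_{X,x} → O_{Xs,a}`. -/
theorem ker_stalkMap (hφ : Function.Surjective φ)
    (hs : IsPullback gs fs f (Spec.map (CommRingCat.ofHom φ))) (a : Xs) :
    RingHom.ker (gs.stalkMap a).hom = (RingHom.ker φ).map (baseHom f (gs a)) := by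
  have : IsClosedImmersion (Spec.map (CommRingCat.ofHom φ)) :=
    IsClosedImmersion.spec_of_surjective _ hφ
  have : IsClosedImmersion gs := MorphismProperty.of_isPullback hs.flip inferInstance
  set x := gs a with hx
  set J := (RingHom.ker φ).map (baseHom f x) with hJ
  have hle : J ≤ RingHom.ker (gs.stalkMap a).hom := by
    refine Ideal.map_le_iff_le_comap.2 fun r hr => ?_
    rw [Ideal.mem_comap, RingHom.mem_ker]
    show (gs.stalkMap a).hom ((X.presheaf.germ ⊤ x trivial).hom (Coh.toGlobal f r)) = 0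
    rw [Scheme.Hom.germ_stalkMap_apply]
    have h2 : (gs.app ⊤).hom (Coh.toGlobal f r) = 0 := by
      have h3 : (Scheme.ΓSpecIso (CommRingCat.of R)).inv ≫ f.appTop ≫ gs.appTop =
          CommRingCat.ofHom φ ≫ (Scheme.ΓSpecIso (CommRingCat.of k)).inv ≫ fs.appTop := by
        rw [← Scheme.Hom.comp_appTop, hs.w, Scheme.Hom.comp_appTop,
          Scheme.ΓSpecIso_inv_naturality_assoc]
      have h4 := congrArg (fun g => (CommRingCat.Hom.hom g) r) h3
      refine h4.trans ?_
      show fs.appTop.hom ((Scheme.ΓSpecIso (CommRingCat.of k)).inv.hom (φ r)) = 0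
      rw [RingHom.mem_ker.1 hr, map_zero, map_zero]
    rw [h2, map_zero]
  refine le_antisymm ?_ hle
  have : Nontrivial (X.presheaf.stalk x ⧸ J) :=
    Ideal.Quotient.nontrivial_iff.2 fun h => by
      have h5 : RingHom.ker (gs.stalkMap a).hom = ⊤ := top_le_iff.1 (h ▸ hle)
      exact RingHom.ker_ne_top _ h5
  have : IsLocalRing (X.presheaf.stalk x ⧸ J) :=
    .of_surjective' (Ideal.Quotient.mk J) Ideal.Quotient.mk_surjective
  let Q : CommRingCat.{u} := CommRingCat.of (X.presheaf.stalk x ⧸ J)
  have : IsLocalRing Q := ‹IsLocalRing (X.presheaf.stalk x ⧸ J)›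
  let mk : X.presheaf.stalk x ⟶ Q := CommRingCat.ofHom (Ideal.Quotient.mk J)
  have : IsLocalHom mk.hom :=
    .of_surjective (Ideal.Quotient.mk J) Ideal.Quotient.mk_surjective
  have hk : RingHom.ker φ ≤ RingHom.ker ((Ideal.Quotient.mk J).comp (baseHom f x)) := fun r hr =>
    RingHom.mem_ker.2 (Ideal.Quotient.eq_zero_iff_mem.2 (Ideal.mem_map_of_mem _ hr))
  let q : k →+* X.presheaf.stalk x ⧸ J :=
    φ.liftOfSurjective hφ ⟨(Ideal.Quotient.mk J).comp (baseHom f x), hk⟩
  have hq : q.comp φ = (Ideal.Quotient.mk J).comp (baseHom f x) :=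
    RingHom.liftOfSurjective_comp φ hφ _
  let h : Spec Q ⟶ Xs := hs.lift (Spec.map mk ≫ X.fromSpecStalk x) (Spec.map (CommRingCat.ofHom q))
    (by
      rw [Category.assoc, fromSpecStalk_comp, ← Spec.map_comp, ← Spec.map_comp,
        ← CommRingCat.ofHom_comp, hq]
      rfl)
  have hhι : h ≫ gs = Spec.map mk ≫ X.fromSpecStalk x := hs.lift_fst _ _ _
  have hpt : h (closedPoint Q) = a := by
    apply gs.isEmbedding.injective
    rw [← Scheme.Hom.comp_apply, hhι, Scheme.Hom.comp_apply]
    have : Spec.map mk (closedPoint Q) = closedPoint (X.presheaf.stalk x) :=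
      IsLocalRing.comap_closedPoint mk.hom
    rw [this, Scheme.fromSpecStalk_closedPoint]
  let ψ : Xs.presheaf.stalk a ⟶ Q :=
    Xs.presheaf.stalkSpecializes (specializes_of_eq hpt) ≫ Scheme.stalkClosedPointTo h
  have key : gs.stalkMap a ≫ ψ = mk := by
    apply Spec.map_injective
    rw [← cancel_mono (X.fromSpecStalk x), Spec.map_comp, Category.assoc,
      Scheme.SpecMap_stalkMap_fromSpecStalk, ← hhι, ← Category.assoc]
    congr 1
    simp only [ψ, Spec.map_comp, Category.assoc,
      Scheme.SpecMap_stalkSpecializes_fromSpecStalk, Scheme.Spec_stalkClosedPointTo_fromSpecStalk]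
  intro s hs'
  have : mk.hom s = 0 := by
    rw [← key]
    show ψ.hom ((gs.stalkMap a).hom s) = 0
    rw [RingHom.mem_ker.1 hs', map_zero]
  exact Ideal.Quotient.eq_zero_iff_mem.1 this

/-- `O_{Xs,a} ≅ O_{X,x}/ker(φ) O_{X,x}`. -/
noncomputable def quotientEquiv (hφ : Function.Surjective φ)
    (hs : IsPullback gs fs f (Spec.map (CommRingCat.ofHom φ))) (a : Xs) :
    (X.presheaf.stalk (gs a) ⧸ (RingHom.ker φ).map (baseHom f (gs a))) ≃+* Xs.presheaf.stalk a :=
  have : IsClosedImmersion (Spec.map (CommRingCat.ofHom φ)) :=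
    IsClosedImmersion.spec_of_surjective _ hφ
  have : IsClosedImmersion gs := MorphismProperty.of_isPullback hs.flip inferInstance
  (Ideal.quotEquivOfEq (ker_stalkMap φ hφ hs a).symm).trans
    (RingHom.quotientKerEquivOfSurjective (gs.stalkMap_surjective a))

end Groth.Agent.Lib.ModelFibre.Stalk
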