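import Groth.Agent.Lib.ModelFibre.LenEuler
import Mathlib.RingTheory.DiscreteValuationRing.Basic
import Mathlib.RingTheory.TensorProduct.Free
import Mathlib.LinearAlgebra.TensorProduct.Prod
import Mathlib.Algebra.Module.PID
import Mathlib.RingTheory.Nakayama
import Mathlib.RingTheory.SimpleModule.Basic

/-!
# The defect of multiplication by a uniformizer on finitely generated modules
-/

universe u

open TensorProduct

namespace Groth.Agent.Lib.ModelFibre.EulerAlg

noncomputable section

variable {R : Type u} [CommRing R] [IsDomain R] [IsDiscreteValuationRing R] {π : R}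
  (hπ : Irreducible π)

/-- Multiplication by `π`. -/
abbrev mulπ (π : R) (M : Type u) [AddCommGroup M] [Module R M] : M →ₗ[R] M :=
  LinearMap.lsmul R M π

section Transport

variable {M N : Type u} [AddCommGroup M] [Module R M] [AddCommGroup N] [Module R N]

omit [IsDomain R] [IsDiscreteValuationRing R] in
theorem length_ker_congr (e : M ≃ₗ[R] N) :
    Module.length R (LinearMap.ker (mulπ π M)) = Module.length R (LinearMap.ker (mulπ π N)) := by
  refine (LinearEquiv.ofSubmodules e _ _ ?_).length_eq
  ext x
  simp only [Submodule.mem_map, LinearMap.mem_ker, LinearMap.lsmul_apply]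
  exact ⟨fun ⟨y, hy, hyx⟩ => hyx ▸ (show π • e y = 0 by rw [← map_smul, hy, map_zero]),
    fun hx => ⟨e.symm x, by rw [← map_smul, hx, map_zero], e.apply_symm_apply x⟩⟩

omit [IsDomain R] [IsDiscreteValuationRing R] in
theorem length_coker_congr (e : M ≃ₗ[R] N) :
    Module.length R (M ⧸ LinearMap.range (mulπ π M)) =
      Module.length R (N ⧸ LinearMap.range (mulπ π N)) := by
  refine (Submodule.Quotient.equiv _ _ e ?_).length_eq
  ext x
  simp only [Submodule.mem_map, LinearMap.mem_range, LinearMap.lsmul_apply]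
  exact ⟨fun ⟨y, ⟨z, hz⟩, hyx⟩ => ⟨e z, by rw [← map_smul, hz]; exact hyx⟩,
    fun ⟨z, hz⟩ => ⟨e.symm x, ⟨e.symm z, by rw [← map_smul, hz]⟩, e.apply_symm_apply x⟩⟩

omit [IsDomain R] [IsDiscreteValuationRing R] in
theorem length_ker_prod (hN : LinearMap.ker (mulπ π N) = ⊥) :
    Module.length R (LinearMap.ker (mulπ π (M × N))) = Module.length R (LinearMap.ker (mulπ π M)) := by
  have h : (LinearMap.ker (mulπ π M)).map (LinearMap.inl R M N) =
      LinearMap.ker (mulπ π (M × N)) := by
    ext ⟨a, b⟩
    simp only [Submodule.mem_map, LinearMap.mem_ker, LinearMap.lsmul_apply, LinearMap.inl_apply,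
      Prod.smul_mk, Prod.mk_eq_zero, Prod.ext_iff]
    refine ⟨fun ⟨y, hy, h1, h2⟩ => ?_, fun ⟨ha, hb⟩ => ⟨a, ha, rfl, ?_⟩⟩
    · subst h1; subst h2
      exact ⟨hy, smul_zero _⟩
    · have : b ∈ LinearMap.ker (mulπ π N) := hb
      rw [hN] at this
      exact ((Submodule.mem_bot R).mp this).symm
  exact ((Submodule.equivMapOfInjective _ LinearMap.inl_injective _).trans
    (LinearEquiv.ofEq _ _ h)).length_eq.symm

omit [IsDomain R] [IsDiscreteValuationRing R] in
theorem length_coker_prod :
    Module.length R ((M × N) ⧸ LinearMap.range (mulπ π (M × N))) =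
      Module.length R (M ⧸ LinearMap.range (mulπ π M)) +
        Module.length R (N ⧸ LinearMap.range (mulπ π N)) := by
  rw [← Module.length_prod]
  refine LinearEquiv.length_eq ((Submodule.quotEquivOfEq _ _ ?_).trans (LinearMap.quotKerEquivOfSurjective
    ((LinearMap.range (mulπ π M)).mkQ.prodMap (LinearMap.range (mulπ π N)).mkQ)
    (Prod.map_surjective.mpr ⟨Submodule.mkQ_surjective _, Submodule.mkQ_surjective _⟩)))
  rw [LinearMap.ker_prodMap, Submodule.ker_mkQ, Submodule.ker_mkQ]
  ext ⟨a, b⟩
  simp only [Submodule.mem_prod, LinearMap.mem_range, LinearMap.lsmul_apply, Prod.smul_def, Prod.exists,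
    Prod.mk.injEq]
  exact ⟨fun ⟨c, d, hc, hd⟩ => ⟨⟨c, hc⟩, ⟨d, hd⟩⟩, fun ⟨⟨c, hc⟩, ⟨d, hd⟩⟩ => ⟨c, d, hc, hd⟩⟩

end Transport

include hπ

theorem length_quot_self : Module.length R (R ⧸ LinearMap.range (mulπ π R)) = 1 := by
  have hmax : (IsLocalRing.maximalIdeal R) = LinearMap.range (mulπ π R) := by
    rw [hπ.maximalIdeal_eq]
    ext x
    simp [Ideal.mem_span_singleton', mul_comm]
  rw [← hmax, Module.length_eq_one_iff]
  exact (isSimpleModule_iff_isCoatom).mpr (IsLocalRing.maximalIdeal.isMaximal R).out

theorem length_coker_pi (ι : Type u) [Fintype ι] :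
    Module.length R ((ι → R) ⧸ LinearMap.range (mulπ π (ι → R))) = (Fintype.card ι : ℕ∞) := by
  let φ : (ι → R) →ₗ[R] (ι → R ⧸ LinearMap.range (mulπ π R)) :=
    LinearMap.pi fun i => (LinearMap.range (mulπ π R)).mkQ ∘ₗ LinearMap.proj i
  have hφ : Function.Surjective φ := fun y =>
    ⟨fun i => ((LinearMap.range (mulπ π R)).mkQ_surjective (y i)).choose,
      funext fun i => ((LinearMap.range (mulπ π R)).mkQ_surjective (y i)).choose_spec⟩
  have hk : LinearMap.range (mulπ π (ι → R)) = LinearMap.ker φ := by
    ext x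
    simp only [φ, LinearMap.mem_ker, LinearMap.mem_range, funext_iff, LinearMap.pi_apply,
      LinearMap.coe_comp, Function.comp_apply, LinearMap.proj_apply, Submodule.mkQ_apply, Pi.zero_apply,
      Submodule.Quotient.mk_eq_zero, LinearMap.lsmul_apply, Pi.smul_apply]
    exact ⟨fun ⟨y, hy⟩ i => ⟨y i, hy i⟩,
      fun h => ⟨fun i => (h i).choose, fun i => (h i).choose_spec⟩⟩
  rw [((Submodule.quotEquivOfEq _ _ hk).trans (φ.quotKerEquivOfSurjective hφ)).length_eq,
    Module.length_pi_of_fintype]
  simp [length_quot_self hπ]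

theorem finite_length_coker (M : Type u) [AddCommGroup M] [Module R M] [Module.Finite R M] :
    Module.length R (M ⧸ LinearMap.range (mulπ π M)) ≠ ⊤ := by
  obtain ⟨n, f, hf⟩ := Module.Finite.exists_fin' R M
  let q : ((Fin n → R) ⧸ LinearMap.range (mulπ π (Fin n → R))) →ₗ[R]
      M ⧸ LinearMap.range (mulπ π M) :=
    Submodule.mapQ _ _ f (by rintro _ ⟨x, rfl⟩; exact ⟨f x, (map_smul f π x).symm⟩)
  have hq : Function.Surjective q := by
    intro y
    obtain ⟨m, rfl⟩ := Submodule.mkQ_surjective _ y
    obtain ⟨x, rfl⟩ := hf m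
    exact ⟨Submodule.Quotient.mk x, rfl⟩
  refine ne_top_of_le_ne_top ?_ (Module.length_le_of_surjective q hq)
  rw [length_coker_congr (π := π) (LinearEquiv.funCongrLeft R R (Equiv.ulift.{u} (α := Fin n)))]
  rw [length_coker_pi hπ]
  exact ENat.natCast_ne_top _

/-- For torsion modules of finite length kernel and cokernel of `π` have the same length. -/
theorem defect_torsion (M : Type u) [AddCommGroup M] [Module R M] (hM : Module.length R M ≠ ⊤) :
    Module.length R (LinearMap.ker (mulπ π M)) =
      Module.length R (M ⧸ LinearMap.range (mulπ π M)) := by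
  have h1 := Module.length_eq_add_of_exact (LinearMap.ker (mulπ π M)).subtype
    (mulπ π M).rangeRestrict (Submodule.injective_subtype _) (mulπ π M).surjective_rangeRestrict
    (LinearMap.exact_iff.mpr (by rw [LinearMap.ker_rangeRestrict, Submodule.range_subtype]))
  have h2 := Module.length_eq_add_of_exact (LinearMap.range (mulπ π M)).subtype
    (LinearMap.range (mulπ π M)).mkQ (Submodule.injective_subtype _) (Submodule.mkQ_surjective _)
    (LinearMap.exact_subtype_mkQ _)
  rw [h2, add_comm] at h1
  refine (WithTop.add_right_cancel ?_ h1).symm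
  exact ne_top_of_le_ne_top hM
    (Module.length_le_of_injective _ (Submodule.injective_subtype _))

/-- `l(M/πM) - l(M[π])` is the rank. -/
theorem defect (M : Type u) [AddCommGroup M] [Module R M] [Module.Finite R M] :
    Module.length R (LinearMap.ker (mulπ π M)) ≠ ⊤ ∧
      Module.length R (M ⧸ LinearMap.range (mulπ π M)) =
        Module.length R (LinearMap.ker (mulπ π M)) +
          (Module.finrank (FractionRing R) (FractionRing R ⊗[R] M) : ℕ∞) := by
  let T := Submodule.torsion R M
  haveI : Module.Free R (M ⧸ T) := Module.free_of_finite_type_torsion_free'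
  obtain ⟨s, hs⟩ := Module.projective_lifting_property T.mkQ LinearMap.id T.mkQ_surjective
  obtain ⟨e⟩ : Nonempty (M ≃ₗ[R] T × (M ⧸ T)) := ⟨LinearEquiv.symm <| LinearEquiv.ofBijective
    (LinearMap.coprod T.subtype s) ⟨by
      rw [injective_iff_map_eq_zero]
      rintro ⟨t, y⟩ h
      replace h : (t : M) + s y = 0 := h
      have h' := congrArg T.mkQ h
      rw [map_add, map_zero, show T.mkQ (t : M) = 0 from (Submodule.Quotient.mk_eq_zero T).mpr t.2,
        zero_add, show T.mkQ (s y) = y from LinearMap.congr_fun hs y] at h'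
      subst h'
      rw [map_zero, add_zero] at h
      exact Prod.ext (Subtype.ext h) rfl, fun m => by
      refine ⟨(⟨m - s (T.mkQ m), (Submodule.Quotient.mk_eq_zero T).mp ?_⟩, T.mkQ m),
        sub_add_cancel m _⟩
      show T.mkQ (m - s (T.mkQ m)) = 0
      rw [map_sub, show T.mkQ (s (T.mkQ m)) = T.mkQ m from LinearMap.congr_fun hs _, sub_self]⟩⟩
  haveI : Module.Finite R T := Module.Finite.of_injective T.subtype T.injective_subtype
  have hT : ∀ t : T, ∃ a : R, a ≠ 0 ∧ a • t = 0 := fun t => by
    obtain ⟨a, ha⟩ := t.2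
    exact ⟨a, nonZeroDivisors.ne_zero a.2, Subtype.ext ha⟩
  have hTlen : Module.length R T ≠ ⊤ := by
    rw [Module.length_ne_top_iff]
    obtain ⟨a, ha, hann⟩ : ∃ a : R, a ≠ 0 ∧ ∀ t : T, a • t = 0 := by
      obtain ⟨S, hS⟩ := Module.Finite.fg_top (R := R) (M := T)
      choose b hb0 hb using hT
      refine ⟨∏ x ∈ S, b x, Finset.prod_ne_zero_iff.mpr fun x _ => hb0 x, fun t => ?_⟩
      have : (⊤ : Submodule R T) ≤ LinearMap.ker (LinearMap.lsmul R T (∏ x ∈ S, b x)) := by
        rw [← hS, Submodule.span_le]
        intro x hx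
        show (∏ y ∈ S, b y) • x = 0
        classical
        rw [← Finset.prod_erase_mul S b hx, mul_smul, hb x, smul_zero]
      exact LinearMap.mem_ker.mp (this trivial)
    obtain ⟨n, u, rfl⟩ := IsDiscreteValuationRing.eq_unit_mul_pow_irreducible ha hπ
    have hk : ∀ t : T, π ^ n • t = 0 := fun t => by
      have h := hann t
      rw [mul_smul] at h
      simpa using congrArg ((↑u⁻¹ : R) • ·) h
    rw [← Module.length_ne_top_iff]
    clear hann ha
    revert hk
    suffices H : ∀ (N : Type u) [AddCommGroup N] [Module R N] [Module.Finite R N],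
        (∀ t : N, π ^ n • t = 0) → Module.length R N ≠ ⊤ from H T
    induction n with
    | zero =>
      intro N _ _ _ hk
      haveI : Subsingleton N := subsingleton_of_forall_eq 0 fun t => by simpa using hk t
      rw [Module.length_eq_zero]
      exact ENat.zero_ne_top
    | succ m ih =>
      intro N _ _ _ hk
      haveI : Module.Finite R (LinearMap.range (mulπ π N)) :=
        Module.Finite.of_surjective (mulπ π N).rangeRestrict (mulπ π N).surjective_rangeRestrict
      have h2 := Module.length_eq_add_of_exact (LinearMap.range (mulπ π N)).subtype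
        (LinearMap.range (mulπ π N)).mkQ (Submodule.injective_subtype _) (Submodule.mkQ_surjective _)
        (LinearMap.exact_subtype_mkQ _)
      rw [h2]
      refine WithTop.add_ne_top.mpr ⟨ih _ ?_, finite_length_coker hπ N⟩
      rintro ⟨_, y, rfl⟩
      exact Subtype.ext (by simpa [pow_succ, mul_smul] using hk y)
  have hkerF : LinearMap.ker (mulπ π (M ⧸ T)) = ⊥ :=
    LinearMap.ker_eq_bot.mpr (smul_right_injective (M ⧸ T) hπ.ne_zero)
  haveI : Subsingleton (FractionRing R ⊗[R] T) := by
    refine subsingleton_of_forall_eq 0 fun z => ?_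
    induction z using TensorProduct.induction_on with
    | zero => rfl
    | tmul c t =>
      obtain ⟨a, ha, hat⟩ := hT t
      have h0 : algebraMap R (FractionRing R) a ≠ 0 :=
        (map_ne_zero_iff _ (IsFractionRing.injective R (FractionRing R))).mpr ha
      rw [show c = a • (c / algebraMap R (FractionRing R) a) by
        rw [Algebra.smul_def, mul_div_cancel₀ c h0], TensorProduct.smul_tmul, hat,
        TensorProduct.tmul_zero]
    | add x y hx hy => rw [hx, hy, add_zero]
  have hrank : Module.finrank (FractionRing R) (FractionRing R ⊗[R] M) = Module.finrank R (M ⧸ T) := by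
    rw [((e.baseChange R (FractionRing R) M (T × (M ⧸ T))).trans
        (TensorProduct.prodRight R (FractionRing R) (FractionRing R) T (M ⧸ T))).finrank_eq,
      ]
    refine (LinearEquiv.finrank_eq (LinearEquiv.ofBijective (LinearMap.snd (FractionRing R)
      (FractionRing R ⊗[R] T) (FractionRing R ⊗[R] (M ⧸ T))) ⟨?_, Prod.snd_surjective⟩)).trans Module.finrank_baseChange
    intro x y h
    exact Prod.ext (Subsingleton.elim _ _) h
  refine ⟨?_, ?_⟩
  · rw [length_ker_congr e, length_ker_prod hkerF]
    exact ne_top_of_le_ne_top hTlen (Module.length_le_of_injective _ (Submodule.injective_subtype _))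
  · rw [length_ker_congr e, length_ker_prod hkerF, length_coker_congr e, length_coker_prod,
      defect_torsion hπ T hTlen, hrank]
    congr 1
    let b := Module.Free.chooseBasis R (M ⧸ T)
    rw [length_coker_congr (π := π) b.equivFun, Module.finrank_eq_card_chooseBasisIndex]
    rw [length_coker_pi hπ]

end

end Groth.Agent.Lib.ModelFibre.EulerAlg
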