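import Groth.Prelude.Def_ModelsG
import Groth.Agent.Lib.ModelFibre.StalkIdeal
import Groth.Agent.Lib.ModelFibre.Chart
import Groth.Agent.Lib.SurfInt.ColonSeq
import Groth.Agent.Lib.CurveBundle.EndAlg
import Groth.Agent.Lib.Curves.LES

/-!
# `0 → O →π O → O_{X_k} → 0` for a flat scheme over a discrete valuation ring
-/

set_option linter.style.haveILetI false

universe u

open CategoryTheory Limits AlgebraicGeometry IsLocalRing Groth.Agent.Lib.ModelFibre TopologicalSpace

namespace Groth.Agent.Lib.ModelFibre.FlatSeq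

open Groth.Agent.Lib
open Groth.Agent.Lib.Ideal.Prime (stalkIdeal)

noncomputable section

variable {R : Type u} [CommRing R] [IsDomain R] [IsDiscreteValuationRing R]
  (X : Over (Spec (CommRingCat.of R))) [Flat X.hom]

theorem stalk_specialFibreIdeal {π : R} (hπ : Irreducible π) (x : X.left) :
    stalkIdeal (Models.specialFibreIdeal R X) x = _root_.Ideal.span {Stalk.baseHom X.hom x π} := by
  rw [Models.specialFibreIdeal, StalkIdeal.stalkIdeal_comap_idealSheaf, hπ.maximalIdeal_eq,
    _root_.Ideal.map_span, Set.image_singleton]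

theorem flatSeq {π : R} (hπ : Irreducible π) :
    ∃ w, (ShortComplex.mk (CurveBundle.EndAlg.scal (Coh.structureModule X.left) (Coh.toGlobal X.hom π))
      (_root_.ClSub.toSubscheme (Models.specialFibreIdeal R X)) w).ShortExact := by
  have hst := stalk_specialFibreIdeal X hπ
  have hstalk : ∀ (x : X.left) (r : (Coh.structureModule X.left).presheaf.stalk x),
      Modules.StalkModule.stalkMapₗ
        (CurveBundle.EndAlg.scal (Coh.structureModule X.left) (Coh.toGlobal X.hom π)) x r =
          Stalk.baseHom X.hom x π • r := fun x r => CurveBundle.EndAlg.stalk_scal _ _ x r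
  have hq : ∀ (x : X.left) (r : X.left.presheaf.stalk x),
      Modules.StalkModule.stalkMapₗ (_root_.ClSub.toSubscheme (Models.specialFibreIdeal R X)) x
        ((SurfInt.Stalk.oStalk x).symm r) = SurfInt.Stalk.quotStalk (Models.specialFibreIdeal R X) x r :=
    fun _ _ => rfl
  have w : CurveBundle.EndAlg.scal (Coh.structureModule X.left) (Coh.toGlobal X.hom π) ≫
      _root_.ClSub.toSubscheme (Models.specialFibreIdeal R X) = 0 := by
    refine Modules.StalkModule.hom_ext_stalkMapₗ fun x => LinearMap.ext fun z => ?_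
    obtain ⟨r, rfl⟩ := (SurfInt.Stalk.oStalk x).symm.surjective z
    rw [Modules.StalkModule.stalkMapₗ_comp, LinearMap.comp_apply, Modules.StalkModule.stalkMapₗ_zero,
      LinearMap.zero_apply, hstalk, ← map_smul, hq]
    refine LinearMap.mem_ker.mp ?_
    rw [SurfInt.Stalk.ker_quotStalk, hst, smul_eq_mul]
    exact _root_.Ideal.mul_mem_right _ _ (_root_.Ideal.mem_span_singleton_self _)
  refine ⟨w, ?_⟩
  haveI : Mono (CurveBundle.EndAlg.scal (Coh.structureModule X.left) (Coh.toGlobal X.hom π)) := by
    rw [Modules.StalkModule.mono_iff_stalkMapₗ_injective]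
    intro x a b hab
    rw [hstalk, hstalk] at hab
    apply (SurfInt.Stalk.oStalk x).injective
    replace hab := congrArg (SurfInt.Stalk.oStalk x) hab
    rw [map_smul, map_smul] at hab
    exact Chart.isSMulRegular_baseHom X.hom x (IsRegular.of_ne_zero hπ.ne_zero) hab
  haveI := ClSub.Quot.epi_toSubscheme (Models.specialFibreIdeal R X)
  refine { exact := (Modules.Stalk.exact_iff_stalk _).mpr fun x => ?_ }
  rw [ShortComplex.ab_exact_iff_function_exact]
  intro y
  change Modules.StalkModule.stalkMapₗ (_root_.ClSub.toSubscheme (Models.specialFibreIdeal R X)) x y = 0 ↔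
    ∃ z, Modules.StalkModule.stalkMapₗ
      (CurveBundle.EndAlg.scal (Coh.structureModule X.left) (Coh.toGlobal X.hom π)) x z = y
  obtain ⟨r, rfl⟩ := (SurfInt.Stalk.oStalk x).symm.surjective y
  rw [hq, ← LinearMap.mem_ker, SurfInt.Stalk.ker_quotStalk, hst, _root_.Ideal.mem_span_singleton']
  refine ⟨fun ⟨a, ha⟩ => ⟨(SurfInt.Stalk.oStalk x).symm a, ?_⟩, fun ⟨z, hz⟩ => ⟨SurfInt.Stalk.oStalk x z, ?_⟩⟩
  · rw [hstalk, ← map_smul, smul_eq_mul, mul_comm, ha]
  · rw [hstalk] at hz
    have := congrArg (SurfInt.Stalk.oStalk x) hz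
    rw [map_smul, LinearEquiv.apply_symm_apply, smul_eq_mul, mul_comm] at this
    exact this

end

end Groth.Agent.Lib.ModelFibre.FlatSeq
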