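import Groth.Agent.Lib.TensorMod.Gen
import Groth.Agent.Lib.TensorMod.Pullback
import Groth.Agent.Lib.ClSub.Cartier
import Groth.Agent.Lib.Ideal.EffCartier
import Groth.Agent.Lib.TensorMod.HomGlue
import Groth.Agent.Lib.Modules.StalkModule
import Groth.Prelude.Def_PicLoc

/-!
# The pullback of the ideal module of an effective Cartier divisor
-/

universe u

open CategoryTheory CategoryTheory.Limits AlgebraicGeometry TopologicalSpace
open Groth.Agent.Lib Groth.Agent.Lib.TensorMod.Dual

namespace Groth.Agent.Lib.ModelFibre.IdealPull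

variable {E Y : Scheme.{u}} (ι : E ⟶ Y)

/-- If the local equations of an effective Cartier divisor stay regular on `E`, the pullback of its ideal
module is the ideal module of the pulled back divisor. -/
theorem nonempty_pullback_idealMod {I : Y.IdealSheafData} (hI : BlowUp.IsEffCartierIdeal I)
    (hJ : ∀ (U : Y.affineOpens) (s : Γ(Y, U.1)), s ∈ nonZeroDivisors Γ(Y, U.1) →
      I.ideal U = _root_.Ideal.span {s} → ∀ x (hx : x ∈ ι ⁻¹ᵁ U.1),
        E.presheaf.germ _ x hx (ι.app U.1 s) ∈ nonZeroDivisors (E.presheaf.stalk x)) :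
    Nonempty ((Scheme.Modules.pullback ι).obj (_root_.ClSub.idealMod I) ≅
      _root_.ClSub.idealMod (I.comap ι)) := by
  classical
  set J := I.comap ι
  let adj := Scheme.Modules.pullbackPushforwardAdjunction ι
  let χ : (Scheme.Modules.pullback ι).obj (_root_.ClSub.idealMod I) ⟶ Coh.structureModule E :=
    (Scheme.Modules.pullback ι).map (_root_.ClSub.idealModι I) ≫ (PicLoc.pullbackStructureIso ι).hom
  have hχ : ∀ (U : Y.Opens) (m : Γ(_root_.ClSub.idealMod I, U)),
      (adj.homEquiv _ _ χ).app U m = ι.app U ((_root_.ClSub.idealModι I).app U m) := by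
    intro U m
    have h : adj.homEquiv _ _ χ =
        _root_.ClSub.idealModι I ≫ adj.homEquiv _ _ (PicLoc.pullbackStructureIso ι).hom :=
      Adjunction.homEquiv_naturality_left _ _ _
    rw [h]
    have h2 : adj.homEquiv _ _ (PicLoc.pullbackStructureIso ι).hom =
        SheafOfModules.unitToPushforwardObjUnit ι.toRingCatSheafHom := by
      exact (adj.homEquiv _ _).apply_symm_apply _
    rw [h2]
    rfl
  -- the composite with the projection to the subscheme vanishes
  have hzero : χ ≫ _root_.ClSub.toSubscheme J = 0 := by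
    apply (adj.homEquiv _ _).injective
    rw [Adjunction.homEquiv_naturality_right]
    refine Scheme.Modules.hom_ext _ _ fun U => ?_
    ext m
    have h0 : I.subschemeι.app U ((_root_.ClSub.idealModι I).app U m) = 0 :=
      (ClSub.Sections.mem_range_idealModι_app_iff I U _).1 ⟨m, rfl⟩
    have hsq : (I.comapIso ι).hom ≫ pullback.snd _ _ ≫ I.subschemeι = J.subschemeι ≫ ι := by
      rw [← pullback.condition, ← Category.assoc, Scheme.IdealSheafData.comapIso_hom_fst]
    have h1 : J.subschemeι.app (ι ⁻¹ᵁ U) (ι.app U ((_root_.ClSub.idealModι I).app U m)) = 0 := by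
      obtain ⟨r, hr⟩ : ∃ r : Γ(Y, U), r = (_root_.ClSub.idealModι I).app U m := ⟨_, rfl⟩
      rw [← hr] at h0 ⊢
      have hc := congr($(Scheme.Hom.congr_app hsq U) r)
      erw [Scheme.Hom.comp_app, Scheme.Hom.comp_app, ConcreteCategory.comp_apply, ConcreteCategory.comp_apply,
        ConcreteCategory.comp_apply, ConcreteCategory.comp_apply, h0, map_zero, map_zero] at hc
      rw [eqToHom_op, eqToHom_map] at hc
      exact (map_eq_zero_iff _ (ConcreteCategory.bijective_of_isIso (eqToHom _ : _ ⟶ _)).1).1 hc.symm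
    rw [Scheme.Modules.Hom.comp_app]
    show (_root_.ClSub.toSubscheme J).app (ι ⁻¹ᵁ U) ((adj.homEquiv _ _ χ).app U m) = _
    rw [hχ]
    refine h1.trans ?_
    simp [Adjunction.homEquiv_unit]
    rfl
  let φ : (Scheme.Modules.pullback ι).obj (_root_.ClSub.idealMod I) ⟶ _root_.ClSub.idealMod J :=
    kernel.lift _ χ hzero
  have hφ : φ ≫ _root_.ClSub.idealModι J = χ := kernel.lift_ι _ _ _
  suffices hiso : IsIso φ from ⟨asIso φ⟩
  have hinv := PicLoc.isInvertible_pullback ι (ClSub.Cartier.isInvertible_idealMod hI)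
  rw [Modules.StalkModule.isIso_iff_stalkMapₗ_bijective]
  intro x
  obtain ⟨U, hxU, s, hs, hIU⟩ := hI (ι x)
  obtain ⟨m, hm⟩ := (ClSub.Sections.mem_range_idealModι_app_affine_iff I U s).mpr
    (hIU ▸ _root_.Ideal.mem_span_singleton_self s)
  let n : Γ((Scheme.Modules.pullback ι).obj (_root_.ClSub.idealMod I), ι ⁻¹ᵁ U.1) :=
    (adj.unit.app _).app U.1 m
  have hn : (_root_.ClSub.idealModι J).app _ (φ.app _ n) = ι.app U.1 s := by
    rw [← hm, ← hχ, Adjunction.homEquiv_unit, ← hφ]
    rfl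
  obtain ⟨V₀, e₀, hxV₀, he₀⟩ := (TensorMod.Gen.isInvertible_iff.1 hinv) x
  obtain ⟨V, hVle, hxV⟩ := ClSub.Basis.exists_affine_le (U := V₀ ⊓ ι ⁻¹ᵁ U.1) (x := x) ⟨hxV₀, hxU⟩
  have hV0 : V.1 ≤ V₀ := hVle.trans inf_le_left
  have hVU : V.1 ≤ ι ⁻¹ᵁ U.1 := hVle.trans inf_le_right
  set t : Γ(E, V.1) := E.presheaf.map (homOfLE hVU).op (ι.app U.1 s)
  have hJV : J.ideal V = _root_.Ideal.span {t} := by
    rw [Ideal.Comap.ideal_comap ι I U V hVU, hIU, _root_.Ideal.map_span, Set.image_singleton]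
    rfl
  have htnz : t ∈ nonZeroDivisors Γ(E, V.1) := Ideal.EffCartier.mem_nonZeroDivisors_of_germ fun y hy => by
    show E.presheaf.germ V.1 y hy (E.presheaf.map (homOfLE hVU).op (ι.app U.1 s)) ∈ _
    rw [TopCat.Presheaf.germ_res_apply]
    exact hJ U s hs hIU y (hVU hy)
  let P := (Scheme.Modules.pullback ι).obj (_root_.ClSub.idealMod I)
  have hιn : (_root_.ClSub.idealModι J).app V.1 (φ.app V.1 (rs P hVU n)) = t := by
    rw [show φ.app V.1 (rs P hVU n) = rs (_root_.ClSub.idealMod J) hVU (φ.app _ n) from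
      (TensorMod.HomGlue.rs_app φ hVU n).symm]
    rw [← TensorMod.HomGlue.rs_app (_root_.ClSub.idealModι J) hVU (φ.app _ n), hn]
    rfl
  obtain ⟨b, hb⟩ := (he₀ V.1 hV0).2 (rs P hVU n)
  set e := rs P hV0 e₀
  have he : TensorMod.Gen.IsGen P V.1 e := he₀.res hV0
  obtain ⟨a, ha⟩ := (_root_.Ideal.mem_span_singleton' (α := Γ(E, V.1))).1
    (hJV ▸ (ClSub.Sections.mem_range_idealModι_app_affine_iff J V _).1 ⟨φ.app V.1 e, rfl⟩)
  have hba : b * a = 1 := by
    refine (mul_cancel_right_mem_nonZeroDivisors htnz).1 ?_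
    rw [one_mul, mul_assoc, ha]
    conv_rhs => rw [← hιn, ← hb]
    rw [Scheme.Modules.Hom.app_smul, Scheme.Modules.Hom.app_smul]
    rfl
  have key : ∀ W : E.affineOpens, W.1 ≤ V.1 → Function.Bijective (φ.app W.1) := by
    intro W hWV
    set tW : Γ(E, W.1) := E.presheaf.map (homOfLE hWV).op t
    set aW : Γ(E, W.1) := E.presheaf.map (homOfLE hWV).op a
    set bW : Γ(E, W.1) := E.presheaf.map (homOfLE hWV).op b
    have htW : tW ∈ nonZeroDivisors Γ(E, W.1) := ClSub.Cartier.map_mem_nonZeroDivisors hWV htnz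
    have hbaW : bW * aW = 1 := by simp only [bW, aW, ← map_mul, hba, map_one]
    have hval : ∀ r : Γ(E, W.1),
        (_root_.ClSub.idealModι J).app W.1 (φ.app W.1 (r • rs P hWV e)) = r * (aW * tW) := fun r => by
      rw [Scheme.Modules.Hom.app_smul, Scheme.Modules.Hom.app_smul]
      show r * _ = _
      congr 1
      rw [← TensorMod.HomGlue.rs_app φ hWV e, ← TensorMod.HomGlue.rs_app (_root_.ClSub.idealModι J) hWV]
      show E.presheaf.map (homOfLE hWV).op ((_root_.ClSub.idealModι J).app V.1 (φ.app V.1 e)) = _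
      rw [← ha, map_mul]
    constructor
    · intro y y' hyy
      obtain ⟨r, rfl⟩ := (he W.1 hWV).2 y
      obtain ⟨r', rfl⟩ := (he W.1 hWV).2 y'
      have h := congrArg ((_root_.ClSub.idealModι J).app W.1) hyy
      simp only [hval] at h
      replace h : r * aW * tW = r' * aW * tW := by rw [mul_assoc, mul_assoc]; exact h
      rw [mul_cancel_right_mem_nonZeroDivisors htW] at h
      have h' := congrArg (bW * ·) h
      simp only [mul_left_comm bW, hbaW, mul_one] at h'
      subst h'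
      rfl
    · intro z
      have hz := (ClSub.Sections.mem_range_idealModι_app_affine_iff J W _).1 ⟨z, rfl⟩
      rw [← J.map_ideal (U := W) (V := V) hWV, hJV, _root_.Ideal.map_span, Set.image_singleton] at hz
      obtain ⟨c, hc⟩ := (_root_.Ideal.mem_span_singleton' (α := Γ(E, W.1))).1 hz
      refine ⟨(c * bW) • rs P hWV e, ClSub.Sections.idealModι_app_injective J W.1 ?_⟩
      rw [hval, ← hc, show c * bW * (aW * tW) = c * (bW * aW) * tW by ring, hbaW, mul_one]
      rfl
  have hbasis : ∀ U' : E.Opens, x ∈ U' → ∃ W ≤ U', x ∈ W ∧ Function.Bijective (φ.app W) := by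
    intro U' hU'
    obtain ⟨W, hW, hxW⟩ := ClSub.Basis.exists_affine_le (U := U' ⊓ V.1) (x := x) ⟨hU', hxV⟩
    exact ⟨W.1, hW.trans inf_le_left, hxW, key W (hW.trans inf_le_right)⟩
  refine ⟨ClSub.Basis.stalk_injective_of_basis φ x fun U' hU' => ?_,
    ClSub.Basis.stalk_surjective_of_basis φ x fun U' hU' => ?_⟩
  · obtain ⟨W, h1, h2, h3⟩ := hbasis U' hU'
    exact ⟨W, h1, h2, h3.1⟩
  · obtain ⟨W, h1, h2, h3⟩ := hbasis U' hU'
    exact ⟨W, h1, h2, h3.2⟩

end Groth.Agent.Lib.ModelFibre.IdealPull
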