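import Groth.Agent.Lib.ModelFibre.Horizontal
import Groth.Agent.H34.SplitP1.Bundle
import Groth.Agent.Lib.TensorMod.Integral
import Groth.Agent.Lib.ClSub.Cartier
import Groth.Agent.Lib.JacCrit.OverField
import Groth.Prelude.Def_PicLoc

/-!
# Closed subschemes with ideal generated by a global function near them; smooth models
-/

universe u

open CategoryTheory Limits AlgebraicGeometry IsLocalRing TopologicalSpace Groth.Agent.Lib.ModelFibre
open Groth.Agent.Lib Groth.Agent.H34.SplitP1
open Groth.Agent.Lib.TensorMod.Dual Groth.Agent.Lib.TensorMod.Gen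
open Groth.Agent.Lib.TensorMod.HomGlue (rs_app)

namespace Groth.Agent.Lib.ModelFibre.SmoothModel

/-- `O(1)` on the projective line over a field is not trivial. -/
theorem twist_one_not_iso_unit (k : Type u) [Field k] :
    ¬ Nonempty (Twist.twistProjSpace 1 k 1 ≅ Coh.structureModule (P1 k)) := by
  rintro ⟨g⟩
  let f : ∀ a : Fin 2, Γ(P1 k, U k a) := fun a => g.hom.app (U k a) (gen k 1 a)
  have hunit : ∀ a, IsUnit (f a) := fun a => by
    obtain ⟨c, hc⟩ := (isGen_gen (k := k) 1 a (U k a) le_rfl).2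
      (g.inv.app (U k a) (1 : Γ(P1 k, U k a)))
    refine IsUnit.of_mul_eq_one c ?_
    have h := congrArg (g.hom.app (U k a)) hc
    simp only [Scheme.Modules.Hom.app_smul, rs_self] at h
    have h2 : g.hom.app (U k a) (g.inv.app (U k a) (1 : Γ(P1 k, U k a))) = (1 : Γ(P1 k, U k a)) := by
      show ((g.inv ≫ g.hom).app (U k a)) (1 : Γ(P1 k, U k a)) = _
      rw [g.inv_hom_id]
      rfl
    rw [h2] at h
    rw [mul_comm]
    exact h
  have hC : ∀ a, ∃ c : k, c ≠ 0 ∧ f a = φ k a (Polynomial.C c) := fun a => by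
    obtain ⟨q, hq⟩ := (φ_bijective k a).2 (f a)
    obtain ⟨v, hv⟩ := (hunit a).exists_right_inv
    obtain ⟨v', rfl⟩ := (φ_bijective k a).2 v
    have hu : IsUnit q := IsUnit.of_mul_eq_one v' ((φ_bijective k a).1 (by rw [map_mul, hq, hv, map_one]))
    obtain ⟨c, hc, rfl⟩ := Polynomial.isUnit_iff.1 hu
    exact ⟨c, hc.ne_zero, hq.symm⟩
  obtain ⟨c0, hc0, h0⟩ := hC 0
  obtain ⟨c1, -, h1⟩ := hC 1
  have h : rs (Coh.structureModule (P1 k)) (U01_le k 1) (f 1) =
      (data k).up 1 • rs (Coh.structureModule (P1 k)) (U01_le k 0) (f 0) := by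
    simp only [f]
    rw [rs_app, rs_app, gen_transition, Scheme.Modules.Hom.app_smul]
  have h' : ψ k 1 (Polynomial.C c1) = ψ k 0 Polynomial.X * ψ k 0 (Polynomial.C c0) := by
    rw [h1, h0] at h
    refine h.trans ?_
    show (data k).up 1 * ψ k 0 (Polynomial.C c0) = _
    rw [show (1 : ℤ) = ((1 : ℕ) : ℤ) from rfl, Data.up_natCast, pow_one]
    rfl
  have hC' : ψ k 1 (Polynomial.C c1) = ψ k 0 (Polynomial.C c1) := (data k).C_eq c1
  rw [hC', ← map_mul] at h'
  have h2 := congrArg (fun q : Polynomial k => q.coeff 1) ((data k).inj0 h')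
  simp at h2
  exact hc0 h2.symm

variable {Y : Scheme.{u}}

/-- The pullback of the ideal module is trivial if the ideal is generated by a global nonzerodivisor near
the subscheme. -/
theorem pullback_idealMod_trivial {E : Scheme.{u}} (ι : E ⟶ Y) (I : Y.IdealSheafData) (s : Γ(Y, ⊤))
    (hs : ∀ z, IsSMulRegular (Y.presheaf.stalk z) (Y.presheaf.germ ⊤ z trivial s))
    (U : Y.Opens) (hι : ∀ e, ι e ∈ U)
    (hI : ∀ z ∈ U, Ideal.Prime.stalkIdeal I z = Ideal.span {Y.presheaf.germ ⊤ z trivial s}) :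
    Nonempty ((Scheme.Modules.pullback ι).obj (_root_.ClSub.idealMod I) ≅ Coh.structureModule E) := by
  have hV : ∀ V : Y.affineOpens, V.1 ≤ U →
      I.ideal V = Ideal.span {Y.presheaf.map (homOfLE (le_top : V.1 ≤ ⊤)).op s} := fun V hVU => by
    refine Ideal.eq_of_localization_maximal fun P hP => ?_
    let x : Y := V.2.fromSpec ⟨P, hP.isPrime⟩
    have hx : x ∈ V.1 := V.2.range_fromSpec.le ⟨_, rfl⟩
    have : IsOpenImmersion V.2.fromSpec := V.2.isOpenImmersion_fromSpec
    have hP' : V.2.primeIdealOf ⟨x, hx⟩ = ⟨P, hP.isPrime⟩ := by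
      apply V.2.fromSpec.isOpenEmbedding.injective
      rw [V.2.fromSpec_primeIdealOf]
    let := TopCat.Presheaf.algebra_section_stalk Y.presheaf (⟨x, hx⟩ : V.1)
    have hloc := V.2.isLocalization_stalk ⟨x, hx⟩
    have : IsLocalization.AtPrime (Y.presheaf.stalk x) P := by
      have e : (V.2.primeIdealOf ⟨x, hx⟩).asIdeal.primeCompl = P.primeCompl := by
        ext a
        show a ∉ (V.2.primeIdealOf ⟨x, hx⟩).asIdeal ↔ a ∉ P
        rw [hP']
      show IsLocalization P.primeCompl _
      exact e ▸ hloc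
    let ε : Y.presheaf.stalk x ≃ₐ[Γ(Y, V.1)] Localization.AtPrime P :=
      IsLocalization.algEquiv P.primeCompl _ _
    have key : ∀ K : Ideal Γ(Y, V.1), Ideal.map (algebraMap Γ(Y, V.1) (Localization.AtPrime P)) K =
        (Ideal.map (Y.presheaf.germ V.1 x hx).hom K).map ε.toRingEquiv.toRingHom := fun K => by
      rw [Ideal.map_map]
      congr 1
      ext a
      exact (ε.commutes a).symm
    rw [key, key, ← Ideal.Prime.stalkIdeal_eq I V hx, hI x (hVU hx),
      Ideal.map_span (Y.presheaf.germ V.1 x hx).hom, Set.image_singleton,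
      TopCat.Presheaf.germ_res_apply]
  -- the section of the ideal over `U`
  set sU : Γ(Y, U) := Y.presheaf.map (homOfLE (le_top : U ≤ ⊤)).op s
  obtain ⟨m, hm⟩ := (ClSub.Sections.mem_range_idealModι_app_iff I U sU).2 (by
    refine TopCat.Sheaf.eq_of_locally_eq' I.subscheme.sheaf
      (fun V : {V : Y.affineOpens // V.1 ≤ U} => I.subschemeι ⁻¹ᵁ V.1.1) (I.subschemeι ⁻¹ᵁ U)
      (fun V => homOfLE fun z hz => V.2 hz) ?_ _ _ fun V => ?_
    · intro z hz
      obtain ⟨W, hW, hzW, hWU⟩ := exists_isAffineOpen_mem_and_subset (show I.subschemeι z ∈ U from hz)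
      exact Opens.mem_iSup.2 ⟨⟨⟨W, hW⟩, hWU⟩, hzW⟩
    · have h1 : Y.presheaf.map (homOfLE V.2).op sU ∈ I.ideal V.1 := by
        rw [hV V.1 V.2, ← ConcreteCategory.comp_apply, ← Functor.map_comp]
        exact Ideal.mem_span_singleton_self _
      rw [← I.ker_subschemeι_app V.1, RingHom.mem_ker] at h1
      change _ = (I.subscheme.presheaf.map _).hom 0
      rw [map_zero]
      refine Eq.trans ?_ h1
      exact (congr($(Scheme.Hom.naturality I.subschemeι (homOfLE V.2).op) sU)).symm)
  let M := _root_.ClSub.idealMod I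
  let m' : Γ(M.restrict U.ι, ⊤) :=
    M.presheaf.map (homOfLE (show U.ι ''ᵁ ⊤ ≤ U from U.ι_image_le _)).op m
  have : IsIso (ClSub.Cartier.ofSection (M.restrict U.ι) m') := by
    refine ClSub.Basis.isIso_of_bijective_affine _ fun V => ?_
    have hWU : U.ι ''ᵁ V.1 ≤ U := U.ι_image_le _
    let W : Y.affineOpens := ⟨U.ι ''ᵁ V.1, V.2.image_of_isOpenImmersion U.ι⟩
    set sW : Γ(Y, W.1) := Y.presheaf.map (homOfLE (le_top : W.1 ≤ ⊤)).op s
    have key : ∀ r : Γ(Y, W.1),
        (_root_.ClSub.idealModι I).app W.1 (r • M.presheaf.map (homOfLE hWU).op m) = r * sW := fun r => by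
      rw [Scheme.Modules.Hom.app_smul, ClSub.Basis.map_app, hm]
      show r * _ = _
      congr 1
      show Y.presheaf.map _ (Y.presheaf.map _ s) = _
      rw [← ConcreteCategory.comp_apply, ← Functor.map_comp]
      rfl
    have hnzd : ∀ a b : Γ(Y, W.1), a * sW = b * sW → a = b := fun a b hab => by
      refine TopCat.Presheaf.section_ext Y.sheaf W.1 a b fun z hz => hs z ?_
      have h := congrArg (Y.presheaf.germ W.1 z hz) hab
      simp only [map_mul, sW, TopCat.Presheaf.germ_res_apply] at h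
      show Y.presheaf.germ ⊤ z trivial s * _ = Y.presheaf.germ ⊤ z trivial s * _
      exact (mul_comm _ _).trans (h.trans (mul_comm _ _))
    have happ : ∀ r : Γ(Y, W.1), (ClSub.Cartier.ofSection (M.restrict U.ι) m').app V.1 r =
        r • M.presheaf.map (homOfLE hWU).op m := fun r => ClSub.Cartier.ofSection_restrict_app M U m V.1 r
    constructor
    · intro a b hab
      exact hnzd a b ((key a).symm.trans ((congr((_root_.ClSub.idealModι I).app W.1
        $((happ a).symm.trans (hab.trans (happ b))))).trans (key b)))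
    · intro y
      have hy : (_root_.ClSub.idealModι I).app W.1 y ∈ I.ideal W :=
        (ClSub.Sections.mem_range_idealModι_app_affine_iff I W _).mp ⟨y, rfl⟩
      rw [hV W hWU] at hy
      obtain ⟨r, hr⟩ := (Ideal.mem_span_singleton' (α := Γ(Y, W.1))).mp hy
      exact ⟨r, (happ r).trans (ClSub.Sections.idealModι_app_injective I W.1 ((key r).trans hr))⟩
  let j : E ⟶ U.toScheme := IsOpenImmersion.lift U.ι ι (by
    rintro _ ⟨e, rfl⟩
    rw [Scheme.Opens.range_ι]
    exact hι e)
  have hj : j ≫ U.ι = ι := IsOpenImmersion.lift_fac _ _ _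
  exact ⟨(Scheme.Modules.pullbackCongr hj.symm).app M ≪≫ ((Scheme.Modules.pullbackComp j U.ι).app M).symm ≪≫
    (Scheme.Modules.pullback j).mapIso (((Scheme.Modules.restrictFunctorIsoPullback U.ι).app M).symm ≪≫
      (asIso (ClSub.Cartier.ofSection (M.restrict U.ι) m')).symm) ≪≫
    PicLoc.pullbackStructureIso j⟩

variable {R : Type u} [CommRing R] [IsDomain R] [IsDiscreteValuationRing R]

/-- A smooth model of an integral scheme over a discrete valuation ring is integral. -/
theorem isIntegral {X C : Scheme.{u}} (p : X ⟶ Spec (CommRingCat.of R)) [Flat p]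
    (fC : C ⟶ Spec (CommRingCat.of (FractionRing R))) (iX : C ⟶ X)
    (hiX : IsPullback iX fC p (Spec.map (CommRingCat.ofHom (algebraMap R (FractionRing R)))))
    [AlgebraicGeometry.IsIntegral C] : AlgebraicGeometry.IsIntegral X := by
  obtain ⟨π, hπ⟩ := IsDiscreteValuationRing.exists_irreducible R
  have := SmoothGeneric.isOpenImmersion_gK hiX
  have hrange : iX.opensRange = p ⁻¹ᵁ PrimeSpectrum.basicOpen π := by
    ext1
    rw [Scheme.Hom.coe_opensRange, SmoothGeneric.range_gK hiX hπ, RegularExt.basicOpen_toGlobal]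
  have hint : AlgebraicGeometry.IsIntegral (p ⁻¹ᵁ PrimeSpectrum.basicOpen π : X.Opens).toScheme := by
    have : Nonempty iX.opensRange.toScheme :=
      iX.isoOpensRange.hom.homeomorph.toEquiv.nonempty_congr.1 inferInstance
    rw [← hrange]
    exact isIntegral_of_isOpenImmersion iX.isoOpensRange.inv
  have : AlgebraicGeometry.IsReduced X := CodimOne.isReduced_of_flat p hπ.ne_zero
  set T : X.Opens := p ⁻¹ᵁ PrimeSpectrum.basicOpen π
  have hdense : Dense (T : Set X) := by
    rw [dense_iff_inter_open]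
    rintro O hO ⟨z, hz⟩
    obtain ⟨y, hy, hy'⟩ := CodimOne.exists_mem_preimage_basicOpen p hπ.ne_zero ⟨O, hO⟩ z hz
    exact ⟨y, hy, hy'⟩
  have hirr : IsIrreducible (T : Set X) := by
    have h0 := (IrreducibleSpace.isIrreducible_univ T.toScheme).image T.ι T.ι.continuous.continuousOn
    rwa [Set.image_univ, Scheme.Opens.range_ι] at h0
  have : IrreducibleSpace X := by
    rw [irreducibleSpace_def]
    have h0 := hirr.closure
    rwa [hdense.closure_eq] at h0
  exact isIntegral_of_irreducibleSpace_of_isReduced X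

/-- On a smooth scheme over a discrete valuation ring the uniformizer generates a prime in the local rings
of the closed fibre. -/
theorem isPrime_span_baseHom {X : Scheme.{u}} (p : X ⟶ Spec (CommRingCat.of R)) [Smooth p] {π : R}
    (hπ : Irreducible π) (y : X) (hy : y ∈ Models.specialFibreSet R (Over.mk p)) :
    (Ideal.span {Stalk.baseHom p y π}).IsPrime := by
  set Sk := Spec.map (CommRingCat.ofHom (residue R))
  have : Smooth (pullback.snd p Sk) := inferInstance
  obtain ⟨a, ha⟩ : y ∈ Set.range (pullback.fst p Sk) := by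
    rw [Scheme.Pullback.range_fst]
    refine ⟨closedPoint (ResidueField R), ?_⟩
    rw [show p y = closedPoint R from hy]
    exact IsLocalRing.PrimeSpectrum.comap_residue R _
  have hreg : IsRegularLocalRing ((pullback p Sk).presheaf.stalk a) := by
    refine Groth.Agent.Lib.JacCrit.OverField.isRegularLocalRing_stalk (pullback.snd p Sk) a ?_
    rw [Scheme.Hom.smoothLocus_eq_top]
    trivial
  have := Groth.Agent.Lib.Regular.Quotient.isDomain ((pullback p Sk).presheaf.stalk a)
  subst ha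
  have e := Stalk.quotientEquiv (residue R) residue_surjective (IsPullback.of_hasPullback p Sk) a
  have : IsDomain (X.presheaf.stalk (pullback.fst p Sk a) ⧸
      (RingHom.ker (residue R)).map (Stalk.baseHom p (pullback.fst p Sk a))) := e.injective.isDomain e.toRingHom
  have h := (Ideal.Quotient.isDomain_iff_prime _).1 this
  rw [ker_residue, hπ.maximalIdeal_eq, Ideal.map_span, Set.image_singleton] at h
  exact h

/-- On a smooth model the closed fibre is the disjoint union of its components, so that the ideal of a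
vertical prime divisor has trivial restriction to it. -/
theorem pullback_idealMod_vertComp {X C : Scheme.{u}} (p : X ⟶ Spec (CommRingCat.of R)) [Smooth p]
    [AlgebraicGeometry.IsIntegral X] [IsLocallyNoetherian X]
    (fC : C ⟶ Spec (CommRingCat.of (FractionRing R))) (iX : C ⟶ X)
    (hiX : IsPullback iX fC p (Spec.map (CommRingCat.ofHom (algebraMap R (FractionRing R)))))
    [AlgebraicGeometry.IsIntegral C] [LocallyOfFiniteType fC] (hdim : topologicalKrullDim C ≤ 1)
    (Γ : ArSurf.VertComp R (Over.mk p)) :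
    Nonempty ((Scheme.Modules.pullback Γ.ι).obj (_root_.ClSub.idealMod Γ.ι.ker) ≅
      Coh.structureModule Γ.curve.left) := by
  obtain ⟨π, hπ⟩ := IsDiscreteValuationRing.exists_irreducible R
  have := SmoothGeneric.isOpenImmersion_gK hiX
  let s : Γ(X, ⊤) := RegularExt.glob p π
  have hgen : genericPoint X ∉ Models.specialFibreSet R (Over.mk p) := fun h => by
    have h1 : genericPoint X ∈ Set.range iX := ⟨_, genericPoint_eq_of_isOpenImmersion iX⟩
    rw [SmoothGeneric.range_gK hiX hπ, RegularExt.basicOpen_toGlobal] at h1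
    apply h1
    show π ∈ (p (genericPoint X)).asIdeal
    rw [show p (genericPoint X) = closedPoint R from h]
    exact hπ.maximalIdeal_eq.ge (Ideal.mem_span_singleton_self π)
  have : AlgebraicGeometry.IsIntegral (Over.mk p).left := ‹AlgebraicGeometry.IsIntegral X›
  have hcomp := Horizontal.range_mem_fibreComponents (Over.mk p)
    (Horizontal.ringKrullDim_stalk_le_two p fC iX hiX hdim) hgen Γ
  set ξ : X := Γ.ι (genericPoint Γ.curve.left)
  have hgξ : ∀ e, ξ ⤳ Γ.ι e := fun e => (genericPoint_specializes e).map Γ.ι.continuous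
  have hfib : ∀ e, Γ.ι e ∈ Models.specialFibreSet R (Over.mk p) := fun e => hcomp.1.2 ⟨e, rfl⟩
  have hπmem : ∀ (V : X.affineOpens),
      X.presheaf.map (homOfLE (le_top : V.1 ≤ ⊤)).op s ∈ Γ.ι.ker.ideal V := fun V => by
    rw [Scheme.Hom.ker_apply, RingHom.mem_ker]
    have h0 : Γ.ι.appTop s = 0 := by
      have hw : Γ.ι ≫ p = Γ.curve.hom ≫ Spec.map (CommRingCat.ofHom (residue R)) := Γ.w
      have h3 : (Scheme.ΓSpecIso (CommRingCat.of R)).inv ≫ p.appTop ≫ Γ.ι.appTop =
          CommRingCat.ofHom (residue R) ≫ (Scheme.ΓSpecIso (CommRingCat.of (ResidueField R))).inv ≫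
            Γ.curve.hom.appTop := by
        rw [← Scheme.Hom.comp_appTop, hw, Scheme.Hom.comp_appTop, Scheme.ΓSpecIso_inv_naturality_assoc]
      refine (congrArg (fun φ => (CommRingCat.Hom.hom φ) π) h3).trans ?_
      show Γ.curve.hom.appTop.hom ((Scheme.ΓSpecIso _).inv.hom (residue R π)) = 0
      rw [(residue_eq_zero_iff _).2 (hπ.maximalIdeal_eq.ge (Ideal.mem_span_singleton_self π)), map_zero, map_zero]
    have h1 := congr($(Scheme.Hom.naturality Γ.ι (homOfLE (le_top : V.1 ≤ ⊤)).op) s)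
    refine h1.trans ?_
    show (Γ.curve.left.presheaf.map _).hom (Γ.ι.appTop s) = 0
    rw [h0, map_zero]
  have hstalk : ∀ e, Ideal.Prime.stalkIdeal Γ.ι.ker (Γ.ι e) = Ideal.span {Stalk.baseHom p (Γ.ι e) π} := by
    intro e
    obtain ⟨h1, h2⟩ := StalkIdeal.stalkIdeal_ker Γ.ι (Γ.ι e) (hgξ e)
    set y := Γ.ι e
    obtain ⟨q, hq⟩ : ξ ∈ Set.range (X.fromSpecStalk y) := by
      rw [Scheme.range_fromSpecStalk]; exact hgξ e
    let q0 : PrimeSpectrum (X.presheaf.stalk y) := ⟨_, isPrime_span_baseHom p hπ y (hfib e)⟩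
    have hle : q0.asIdeal ≤ q.asIdeal := by
      rw [Ideal.span_singleton_le_iff_mem, h2 q hq]
      obtain ⟨V, hV, hyV, -⟩ := exists_isAffineOpen_mem_and_subset (show y ∈ (⊤ : X.Opens) from trivial)
      rw [Ideal.Prime.stalkIdeal_eq _ ⟨V, hV⟩ hyV]
      have := Ideal.mem_map_of_mem (X.presheaf.germ V y hyV).hom (hπmem ⟨V, hV⟩)
      rw [TopCat.Presheaf.germ_res_apply] at this
      exact this
    set η := X.fromSpecStalk y q0
    have hηξ : η ⤳ ξ := by
      rw [← hq]
      exact ((PrimeSpectrum.le_iff_specializes q0 q).1 hle).map (X.fromSpecStalk y).continuous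
    have hηfib : η ∈ Models.specialFibreSet R (Over.mk p) := by
      show p η = closedPoint R
      show (X.fromSpecStalk y ≫ p) q0 = _
      rw [Stalk.fromSpecStalk_comp]
      refine PrimeSpectrum.ext ((maximalIdeal.isMaximal R).eq_of_le (PrimeSpectrum.isPrime _).ne_top ?_).symm
      rw [hπ.maximalIdeal_eq, Ideal.span_singleton_le_iff_mem]
      exact Ideal.mem_span_singleton_self (Stalk.baseHom p y π)
    have hsub : Set.range Γ.ι ⊆ closure {η} := by
      rintro _ ⟨e', rfl⟩
      exact (hηξ.trans (hgξ e')).mem_closure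
    obtain ⟨e', he'⟩ := hcomp.2 ⟨isIrreducible_singleton.closure,
      (Models.isClosed_specialFibreSet R (Over.mk p)).closure_subset_iff.2
        (Set.singleton_subset_iff.2 hηfib)⟩ hsub (subset_closure rfl)
    have hη : η = ξ := (hηξ.antisymm (he' ▸ hgξ e')).eq
    exact (h2 q0 hη).symm
  have hloc : ∀ e, ∃ W : X.Opens, Γ.ι e ∈ W ∧ ∀ z ∈ W,
      Ideal.Prime.stalkIdeal Γ.ι.ker z = Ideal.span {Stalk.baseHom p z π} := by
    intro e
    obtain ⟨V, hV, hyV, -⟩ := exists_isAffineOpen_mem_and_subset (show Γ.ι e ∈ (⊤ : X.Opens) from trivial)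
    let := TopCat.Presheaf.algebra_section_stalk X.presheaf (⟨Γ.ι e, hyV⟩ : V)
    have := hV.isLocalization_stalk ⟨Γ.ι e, hyV⟩
    set sV := X.presheaf.map (homOfLE (le_top : V ≤ ⊤)).op s
    have : IsNoetherianRing Γ(X, V) := IsLocallyNoetherian.component_noetherian ⟨V, hV⟩
    let IV : Ideal Γ(X, V) := Γ.ι.ker.ideal ⟨V, hV⟩
    obtain ⟨G, hG⟩ := IsNoetherian.noetherian IV
    have hex : ∀ j ∈ G, ∃ t : (hV.primeIdealOf ⟨Γ.ι e, hyV⟩).asIdeal.primeCompl,
        (t : Γ(X, V)) * j ∈ Ideal.span {sV} := fun j hj => by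
      have h1 : algebraMap Γ(X, V) (X.presheaf.stalk (Γ.ι e)) j ∈
          Ideal.span {Stalk.baseHom p (Γ.ι e) π} := by
        rw [← hstalk e, Ideal.Prime.stalkIdeal_eq _ ⟨V, hV⟩ hyV]
        exact Ideal.mem_map_of_mem _ (hG.le (Submodule.subset_span hj))
      have h2 : Stalk.baseHom p (Γ.ι e) π = algebraMap Γ(X, V) (X.presheaf.stalk (Γ.ι e)) sV :=
        (TopCat.Presheaf.germ_res_apply X.presheaf (homOfLE (le_top : V ≤ ⊤)) _ hyV s).symm
      rw [h2, ← Set.image_singleton, ← Ideal.map_span,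
        IsLocalization.algebraMap_mem_map_algebraMap_iff (hV.primeIdealOf ⟨Γ.ι e, hyV⟩).asIdeal.primeCompl] at h1
      obtain ⟨t, ht, ht'⟩ := h1
      exact ⟨⟨t, ht⟩, ht'⟩
    choose! t ht using hex
    classical
    set T : Γ(X, V) := ∏ j ∈ G, (t j : Γ(X, V))
    refine ⟨X.basicOpen T, ?_, fun z hz => ?_⟩
    · rw [Scheme.mem_basicOpen _ _ _ hyV, map_prod]
      refine IsUnit.prod_iff.2 fun j _ => ?_
      exact IsLocalization.map_units (X.presheaf.stalk (Γ.ι e)) (t j)
    have hzV : z ∈ V := X.basicOpen_le T hz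
    have hTu : IsUnit (X.presheaf.germ V z hzV T) := (Scheme.mem_basicOpen _ _ _ hzV).1 hz
    rw [Ideal.Prime.stalkIdeal_eq _ ⟨V, hV⟩ hzV]
    have h2 : Stalk.baseHom p z π = X.presheaf.germ V z hzV sV :=
      (TopCat.Presheaf.germ_res_apply X.presheaf (homOfLE (le_top : V ≤ ⊤)) _ hzV s).symm
    refine le_antisymm ?_ ?_
    · rw [show Γ.ι.ker.ideal ⟨V, hV⟩ = Ideal.span (G : Set Γ(X, V)) from hG.symm, Ideal.map_span, Ideal.span_le]
      rintro _ ⟨j, hj, rfl⟩
      rw [h2]
      refine (Ideal.unit_mul_mem_iff_mem _ hTu).1 ?_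
      obtain ⟨c, hc⟩ := Ideal.mem_span_singleton'.1 (ht j hj)
      have hT : T * j = (∏ i ∈ G.erase j, (t i : Γ(X, V))) * c * sV := by
        rw [show T = (t j : Γ(X, V)) * ∏ i ∈ G.erase j, (t i : Γ(X, V)) from
          (Finset.mul_prod_erase G _ hj).symm, mul_assoc _ c sV, hc]
        ring
      have hT' := congrArg (X.presheaf.germ V z hzV) hT
      simp only [map_mul] at hT'
      show _ * X.presheaf.germ V z hzV j ∈ _
      rw [hT']
      exact Ideal.mul_mem_left _ _ (Ideal.mem_span_singleton_self _)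
    · rw [Ideal.span_singleton_le_iff_mem, h2]
      exact Ideal.mem_map_of_mem _ (hπmem ⟨V, hV⟩)
  choose W hW hWI using hloc
  refine pullback_idealMod_trivial Γ.ι Γ.ι.ker s (fun z => ?_) (⨆ e, W e)
    (fun e => Opens.mem_iSup.2 ⟨e, hW e⟩) fun z hz => ?_
  · intro a b hab
    exact Chart.isSMulRegular_baseHom p z (IsRegular.of_ne_zero hπ.ne_zero) hab
  · obtain ⟨e, he⟩ := Opens.mem_iSup.1 hz
    exact hWI e z he

end Groth.Agent.Lib.ModelFibre.SmoothModel
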