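import Groth.Prelude.Def_ModelsG
import Groth.Agent.Lib.ModelFibre.Components
import Groth.Agent.Lib.ModelFibre.IdealPull
import Groth.Agent.Lib.ModelFibre.SmoothModel
import Groth.Agent.Lib.Curves.Degree
import Groth.Agent.Lib.TensorMod.TensorInv
import Groth.Agent.Lib.TensorMod.Invertible
import Groth.Agent.Lib.Snapper.Chi
import Groth.Agent.Lib.SurfInt.Push
import Groth.Agent.Lib.Cyc.TorPD
import Groth.Agent.Lib.ProjSpace.BaseChange

/-!
# Intersection numbers with vertical prime divisors on a regular fibred surface over a discrete valuation ring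
-/

set_option linter.style.haveILetI false

universe u

open CategoryTheory Limits AlgebraicGeometry IsLocalRing TopologicalSpace Groth.Agent.Lib.ModelFibre
open Groth.Agent.Lib

namespace Groth.Agent.Lib.ModelFibre.Inter

noncomputable section

variable {R : Type u} [CommRing R] [IsDomain R] [IsDiscreteValuationRing R]

/-- A regular integral scheme, proper and flat over the base, with local rings of dimension at most two. -/
structure IsSurf (X : Over (Spec (CommRingCat.of R))) : Prop where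
  isIntegral : AlgebraicGeometry.IsIntegral X.left
  isProper : IsProper X.hom
  flat : Flat X.hom
  reg : ∀ x : X.left, IsRegularLocalRing (X.left.presheaf.stalk x)
  dim_le : ∀ z : X.left, ringKrullDim (X.left.presheaf.stalk z) ≤ 2

theorem IsSurf.of_isArithSurface {X : Over (Spec (CommRingCat.of R))}
    (h : ArSurf.IsArithSurface R X) : IsSurf X := by
  obtain ⟨hreg, hint, hdim, hflat, n, i, hi, hw⟩ := h
  refine ⟨hint, ?_, hflat, hreg, fun z => ?_⟩
  · rw [← hw]
    infer_instance
  · exact (Cyc.TorPD.ringKrullDim_stalk_le z).trans hdim.le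

theorem IsSurf.of_model {C X : Scheme.{u}} {f : C ⟶ Spec (CommRingCat.of (FractionRing R))}
    {p : X ⟶ Spec (CommRingCat.of R)} (hC : Curve.IsSmoothProperCurve (FractionRing R) C f)
    (hX : Models.IsRegularProperModel R X p C f) : IsSurf (Over.mk p) := by
  obtain ⟨hCp, hCs, hCi, hCd⟩ := hC
  obtain ⟨⟨hflat, hlft, hqc, g, hg⟩, hp, hreg⟩ := hX
  haveI := hflat
  haveI := hp
  haveI : LocallyOfFiniteType f := inferInstance
  haveI := SmoothModel.isIntegral p f g hg
  haveI : AlgebraicGeometry.IsIntegral (Over.mk p).left := this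
  exact ⟨this, hp, hflat, hreg, Horizontal.ringKrullDim_stalk_le_two p f g hg hCd.le⟩

variable {X : Over (Spec (CommRingCat.of R))} (hX : IsSurf X) (Γ : ArSurf.VertComp R X)

include hX

theorem genericPoint_not_mem :
    haveI := hX.isIntegral
    genericPoint X.left ∉ Models.specialFibreSet R X := by
  haveI := hX.isIntegral
  haveI := hX.flat
  obtain ⟨π, hπ⟩ := IsDiscreteValuationRing.exists_irreducible R
  intro h
  set η := genericPoint X.left
  have h0 : Stalk.baseHom X.hom η π ≠ 0 := fun h0 => by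
    have hreg := Chart.isSMulRegular_baseHom X.hom η (IsRegular.of_ne_zero hπ.ne_zero)
    exact one_ne_zero (hreg (a₁ := (1 : X.left.presheaf.stalk η)) (a₂ := 0) (by
      show Stalk.baseHom X.hom η π • _ = Stalk.baseHom X.hom η π • _
      rw [h0]; simp))
  have hu : IsUnit (Stalk.baseHom X.hom η π) :=
    (show IsField X.left.functionField from Field.toIsField _).mul_inv_cancel h0 |>.elim
      fun b hb => IsUnit.of_mul_eq_one b hb
  rw [RegularExt.isUnit_baseHom_iff, RegularExt.basicOpen_toGlobal] at hu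
  apply hu
  show π ∈ (X.hom η).asIdeal
  rw [show X.hom η = closedPoint R from h]
  exact hπ.maximalIdeal_eq.ge (_root_.Ideal.mem_span_singleton_self π)

theorem range_mem : Set.range (Γ.ι.base : Γ.curve.left → X.left) ∈ Models.fibreComponents R X := by
  haveI := hX.isIntegral
  exact Horizontal.range_mem_fibreComponents X hX.dim_le (genericPoint_not_mem hX) Γ

theorem isProper_curve : IsProper (Γ.curve.left ↘ Spec (CommRingCat.of (ResidueField R))) := by
  show IsProper Γ.curve.hom
  haveI := hX.isProper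
  haveI : IsProper (Γ.curve.hom ≫ Spec.map (CommRingCat.ofHom (residue R))) := by
    rw [← Γ.w]; infer_instance
  exact IsProper.of_comp Γ.curve.hom (Spec.map (CommRingCat.ofHom (residue R)))

theorem inter_eq (L : X.left.Modules) :
    ArSurf.inter R X L Γ =
      Curv2.deg (ResidueField R) Γ.curve.left ((Scheme.Modules.pullback Γ.ι).obj L) 1 := by
  haveI := isProper_curve hX Γ
  haveI := Curves.GlobalSections.noetherianSpace_of_proper (ResidueField R) Γ.curve.left
  have hd : topologicalKrullDim Γ.curve.left ≤ ((1 : ℕ) : WithBot ℕ∞) := by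
    rw [Γ.dim_eq]; exact le_rfl
  unfold ArSurf.inter ArSurf.curveDeg Curv2.deg
  rw [Snapper.Chi.euler_eq_eulerCharLE hd, Snapper.Chi.euler_eq_eulerCharLE hd, Nat.cast_one, one_mul]

theorem inter_congr {L M : X.left.Modules} (e : L ≅ M) :
    ArSurf.inter R X L Γ = ArSurf.inter R X M Γ := by
  rw [inter_eq hX, inter_eq hX]
  exact Curves.Euler.deg_eq_of_iso ((Scheme.Modules.pullback Γ.ι).mapIso e) 1

theorem inter_tensor {L M : X.left.Modules} (hL : PicF.IsInvertible L) (hM : PicF.IsInvertible M) :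
    ArSurf.inter R X (CohB1.tensorMod L M) Γ = ArSurf.inter R X L Γ + ArSurf.inter R X M Γ := by
  haveI := isProper_curve hX Γ
  rw [inter_eq hX, inter_eq hX, inter_eq hX,
    Curves.Euler.deg_eq_of_iso (TensorMod.Pullback.pullbackTensorIso Γ.ι L M) 1]
  exact Curves.Degree.deg_tensor Γ.dim_eq.le (PicLoc.isInvertible_pullback _ hL)
    (PicLoc.isInvertible_pullback _ hM)

theorem inter_structureModule : ArSurf.inter R X (Coh.structureModule X.left) Γ = 0 := by
  rw [inter_eq hX, Curves.Euler.deg_eq_of_iso (PicLoc.pullbackStructureIso Γ.ι) 1]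
  simp [Curv2.deg]

theorem inter_of_isInverseOf {L M : X.left.Modules} (hM : PicF.IsInvertible M)
    (h : ClSub.IsInverseOf L M) : ArSurf.inter R X L Γ = - ArSurf.inter R X M Γ := by
  obtain ⟨e⟩ := h
  have h1 := inter_tensor hX Γ (TensorMod.TensorInv.isInvertible_of_tensor_iso e) hM
  rw [inter_congr hX Γ e, inter_structureModule hX] at h1
  linarith

/-- A vertical prime divisor is an effective Cartier divisor. -/
theorem isEffCartier : BlowUp.IsEffCartierIdeal Γ.ι.ker := by
  haveI := hX.isIntegral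
  haveI := hX.isProper
  haveI := hX.flat
  haveI : IsLocallyNoetherian X.left := LocallyOfFiniteType.isLocallyNoetherian X.hom
  obtain ⟨π, hπ⟩ := IsDiscreteValuationRing.exists_irreducible R
  refine H4.CartierUFD.isEffCartier_of_stalks _ fun x => ?_
  haveI := hX.reg x
  haveI := Regular.Quotient.isDomain (X.left.presheaf.stalk x)
  by_cases hx : x ∈ Set.range (Γ.ι.base : Γ.curve.left → X.left)
  · obtain ⟨a, ha, haI⟩ := (Components.stalk_structure X.hom hX.reg hπ (fun _ : Fin 1 => Γ)
      fun _ => range_mem hX Γ).1 0 x hx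
    exact ⟨a, mem_nonZeroDivisors_of_ne_zero ha.ne_zero, haI⟩
  · refine ⟨1, one_mem _, ?_⟩
    rw [_root_.Ideal.span_singleton_one, StalkIdeal.stalkIdeal_eq_top_iff]
    have h : ((Γ.ι.ker.support : Closeds X.left) : Set X.left) = Set.range Γ.ι := by
      rw [Scheme.Hom.support_ker]; exact Γ.ι.isClosedEmbedding.isClosed_range.closure_eq
    exact fun h' => hx (h ▸ h')

theorem inter_idealMod_top : ArSurf.inter R X (_root_.ClSub.idealMod (⊤ : X.left.IdealSheafData)) Γ = 0 := by
  obtain ⟨e⟩ := SmoothModel.pullback_idealMod_trivial Γ.ι (⊤ : X.left.IdealSheafData) 1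
    (fun z => by simpa only [map_one] using IsSMulRegular.one _) ⊤ (fun _ => trivial) fun z _ => by
      rw [map_one, _root_.Ideal.span_singleton_one, StalkIdeal.stalkIdeal_eq_top_iff]
      exact fun h => h
  rw [inter_eq hX, Curves.Euler.deg_eq_of_iso e 1]
  simp [Curv2.deg]

theorem inter_idealMod_mul {I J : X.left.IdealSheafData} (hI : BlowUp.IsEffCartierIdeal I)
    (hJ : BlowUp.IsEffCartierIdeal J) :
    ArSurf.inter R X (_root_.ClSub.idealMod (I * J)) Γ =
      ArSurf.inter R X (_root_.ClSub.idealMod I) Γ + ArSurf.inter R X (_root_.ClSub.idealMod J) Γ := by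
  obtain ⟨e⟩ := SurfInt.Mul.nonempty_idealMod_mul hI J
  rw [← inter_congr hX Γ e]
  exact inter_tensor hX Γ (ClSub.Cartier.isInvertible_idealMod hI) (ClSub.Cartier.isInvertible_idealMod hJ)

theorem inter_idealMod_pow {I : X.left.IdealSheafData} (hI : BlowUp.IsEffCartierIdeal I) (m : ℕ) :
    ArSurf.inter R X (_root_.ClSub.idealMod (I ^ m)) Γ = m * ArSurf.inter R X (_root_.ClSub.idealMod I) Γ := by
  induction m with
  | zero =>
    rw [pow_zero, show (1 : X.left.IdealSheafData) = ⊤ from rfl, inter_idealMod_top hX]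
    simp
  | succ m ih =>
    rw [pow_succ, inter_idealMod_mul hX Γ (Ideal.EffCartier.isEffCartier_pow hI m) hI, ih]
    push_cast
    ring

/-- The closed fibre is numerically trivial. -/
theorem sum_mult_mul_inter {n : ℕ} (Δ : Fin n → ArSurf.VertComp R X)
    (hΔ : Models.IsComponentList R X Δ) (L : Fin n → X.left.Modules)
    (hL : ∀ j, _root_.ClSub.IsInverseOf (L j) (_root_.ClSub.idealMod (Δ j).ι.ker)) :
    ∑ j, (Models.mult R X (Δ j) : ℤ) * ArSurf.inter R X (L j) Γ = 0 := by
  haveI := hX.flat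
  classical
  obtain ⟨π, hπ⟩ := IsDiscreteValuationRing.exists_irreducible R
  have hcomp : ∀ i, Set.range ((Δ i).ι.base : (Δ i).curve.left → X.left) ∈ Models.fibreComponents R X :=
    fun i => hΔ.2 ▸ ⟨i, rfl⟩
  have hst := (Components.stalk_structure X.hom hX.reg hπ Δ hcomp).2 hΔ.1
    fun S hS => (hΔ.2.symm ▸ hS : S ∈ Set.range fun i => Set.range ((Δ i).ι.base : (Δ i).curve.left → X.left))
  let P : Finset (Fin n) → X.left.IdealSheafData := fun s => ∏ j ∈ s, (Δ j).ι.ker ^ Models.mult R X (Δ j)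
  have hP : ∀ s, BlowUp.IsEffCartierIdeal (P s) ∧
      ArSurf.inter R X (_root_.ClSub.idealMod (P s)) Γ =
        ∑ j ∈ s, (Models.mult R X (Δ j) : ℤ) * ArSurf.inter R X (_root_.ClSub.idealMod (Δ j).ι.ker) Γ := by
    intro s
    induction s using Finset.induction_on with
    | empty =>
      simp only [P, Finset.prod_empty, Finset.sum_empty]
      exact ⟨Ideal.EffCartier.isEffCartier_top, inter_idealMod_top hX Γ⟩
    | @insert j s hj ih =>
      have hj' := Ideal.EffCartier.isEffCartier_pow (isEffCartier hX (Δ j)) (Models.mult R X (Δ j))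
      simp only [P, Finset.prod_insert hj, Finset.sum_insert hj]
      refine ⟨Ideal.EffCartier.isEffCartier_mul hj' ih.1, ?_⟩
      rw [inter_idealMod_mul hX Γ hj' ih.1, inter_idealMod_pow hX Γ (isEffCartier hX (Δ j)), ih.2]
  have hstalk : ∀ x : X.left, Ideal.Prime.stalkIdeal (P Finset.univ) x =
      _root_.Ideal.span {Stalk.baseHom X.hom x π} := by
    intro x
    rw [hst x]
    have hone : Ideal.Prime.stalkIdeal (1 : X.left.IdealSheafData) x = 1 := by
      rw [_root_.Ideal.one_eq_top, StalkIdeal.stalkIdeal_eq_top_iff, show (1 : X.left.IdealSheafData) = ⊤ from rfl]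
      exact fun h => h
    have hpow : ∀ (I : X.left.IdealSheafData) (m : ℕ),
        Ideal.Prime.stalkIdeal (I ^ m) x = Ideal.Prime.stalkIdeal I x ^ m := fun I m => by
      induction m with
      | zero => rw [pow_zero, pow_zero, hone]
      | succ m ih => rw [pow_succ, pow_succ, SurfInt.Mul.stalkIdeal_mul, ih]
    have : ∀ s, Ideal.Prime.stalkIdeal (P s) x =
        ∏ i ∈ s, Ideal.Prime.stalkIdeal (Δ i).ι.ker x ^ Models.mult R X (Δ i) := fun s => by
      induction s using Finset.induction_on with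
      | empty => simp only [P, Finset.prod_empty]; exact hone
      | @insert j s hj ih =>
        simp only [P, Finset.prod_insert hj] at ih ⊢
        rw [SurfInt.Mul.stalkIdeal_mul, hpow, ih]
    exact this _
  obtain ⟨e⟩ := SmoothModel.pullback_idealMod_trivial Γ.ι (P Finset.univ) (RegularExt.glob X.hom π)
    (fun z a b hab => Chart.isSMulRegular_baseHom X.hom z (IsRegular.of_ne_zero hπ.ne_zero) hab)
    ⊤ (fun _ => trivial) fun z _ => hstalk z
  have h0 := (hP Finset.univ).2
  rw [inter_eq hX, Curves.Euler.deg_eq_of_iso e 1] at h0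
  simp only [Curv2.deg, Nat.cast_one, one_mul, sub_self] at h0
  simp only [fun j => inter_of_isInverseOf hX Γ
    (ClSub.Cartier.isInvertible_idealMod (isEffCartier hX (Δ j))) (hL j), mul_neg, Finset.sum_neg_distrib]
  omega

/-- The regular local equations of a divisor not containing `Γ`. -/
theorem germ_mem_nonZeroDivisors {I : X.left.IdealSheafData}
    (hΓ : Γ.ι (genericPoint Γ.curve.left) ∉ (I.support : Set X.left))
    (U : X.left.affineOpens) (s : Γ(X.left, U.1)) (hIU : I.ideal U = _root_.Ideal.span {s})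
    (x : Γ.curve.left) (hx : x ∈ Γ.ι ⁻¹ᵁ U.1) :
    Γ.curve.left.presheaf.germ _ x hx (Γ.ι.app U.1 s) ∈ nonZeroDivisors (Γ.curve.left.presheaf.stalk x) := by
  refine mem_nonZeroDivisors_of_ne_zero fun h => hΓ ?_
  have hξ : genericPoint Γ.curve.left ∈ Γ.ι ⁻¹ᵁ U.1 :=
    (genericPoint_specializes x).mem_open (Γ.ι ⁻¹ᵁ U.1).isOpen hx
  have h2 : Γ.curve.left.presheaf.germ _ (genericPoint Γ.curve.left) hξ (Γ.ι.app U.1 s) = 0 := by
    rw [← TopCat.Presheaf.germ_stalkSpecializes_apply Γ.curve.left.presheaf (hy := hx)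
      (genericPoint_specializes x), h, map_zero]
  have h3 : ¬ IsUnit (X.left.presheaf.germ U.1 (Γ.ι (genericPoint Γ.curve.left)) hξ s) := fun hu => by
    have h4 := hu.map (Γ.ι.stalkMap (genericPoint Γ.curve.left)).hom
    rw [Scheme.Hom.germ_stalkMap_apply Γ.ι U.1 _ hξ s, h2] at h4
    exact not_isUnit_zero h4
  by_contra hns
  apply h3
  rw [← _root_.Ideal.span_singleton_eq_top]
  have := (StalkIdeal.stalkIdeal_eq_top_iff I _).2 hns
  rwa [Ideal.Prime.stalkIdeal_eq I U hξ, hIU, _root_.Ideal.map_span, Set.image_singleton] at this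

theorem isEffCartier_comap {I : X.left.IdealSheafData} (hI : BlowUp.IsEffCartierIdeal I)
    (hΓ : Γ.ι (genericPoint Γ.curve.left) ∉ (I.support : Set X.left)) :
    BlowUp.IsEffCartierIdeal (I.comap Γ.ι) :=
  Ideal.EffCartier.isEffCartier_comap Γ.ι hI fun U s _ hIU x hx => germ_mem_nonZeroDivisors hX Γ hΓ U s hIU x hx

/-- The intersection number with a divisor not containing `Γ` counts the points of their intersection. -/
theorem inter_idealMod_eq {I : X.left.IdealSheafData} (hI : BlowUp.IsEffCartierIdeal I)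
    (hΓ : Γ.ι (genericPoint Γ.curve.left) ∉ (I.support : Set X.left)) :
    ArSurf.inter R X (_root_.ClSub.idealMod I) Γ =
      -(Module.finrank (ResidueField R) (Coh.HH Γ.curve.left (_root_.ClSub.quotMod (I.comap Γ.ι)) 0) : ℤ) := by
  haveI := isProper_curve hX Γ
  obtain ⟨e⟩ := IdealPull.nonempty_pullback_idealMod Γ.ι hI
    fun U s _ hIU x hx => germ_mem_nonZeroDivisors hX Γ hΓ U s hIU x hx
  rw [inter_eq hX, Curves.Euler.deg_eq_of_iso e 1,
    Curves.Degree.deg_idealMod Γ.dim_eq.le (ClSub.Cartier.isInvertible_idealMod (isEffCartier_comap hX Γ hI hΓ))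
      (by rw [Scheme.IdealSheafData.support_comap]; exact hΓ)]

omit hX in
theorem subsingleton_iff_isEmpty {Z : Scheme.{u}} : Subsingleton Γ(Z, ⊤) ↔ IsEmpty Z := by
  refine ⟨fun h => ⟨fun z => ?_⟩, fun h => ?_⟩
  · have h1 := congrArg (Z.presheaf.germ ⊤ z trivial) (Subsingleton.elim (1 : Γ(Z, ⊤)) 0)
    simp at h1
  · exact ⟨fun a b => TopCat.Presheaf.section_ext Z.sheaf ⊤ a b fun z _ => h.elim z⟩

/-- The intersection number is non-negative and vanishes exactly when they do not meet. -/
theorem inter_nonneg {I : X.left.IdealSheafData} (hI : BlowUp.IsEffCartierIdeal I)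
    (hΓ : Γ.ι (genericPoint Γ.curve.left) ∉ (I.support : Set X.left))
    {L : X.left.Modules} (hL : _root_.ClSub.IsInverseOf L (_root_.ClSub.idealMod I)) :
    0 ≤ ArSurf.inter R X L Γ ∧ (ArSurf.inter R X L Γ = 0 ↔
      Disjoint (Set.range (Γ.ι.base : Γ.curve.left → X.left)) (I.support : Set X.left)) := by
  haveI := isProper_curve hX Γ
  rw [inter_of_isInverseOf hX Γ (ClSub.Cartier.isInvertible_idealMod hI) hL, inter_idealMod_eq hX Γ hI hΓ]
  set J := I.comap Γ.ι
  have hJ := isEffCartier_comap hX Γ hI hΓ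
  haveI : FiniteDimensional (ResidueField R) (Coh.HH Γ.curve.left (_root_.ClSub.quotMod J) 0) :=
    (Curves.Finiteness.isGood_of_isCoh (k := ResidueField R) Γ.dim_eq.le
      (Curves.Degree.isCoh_quotMod (ClSub.Cartier.isInvertible_idealMod hJ))).fin₀
  refine ⟨by simp, ?_⟩
  rw [neg_neg, Nat.cast_eq_zero, Module.finrank_zero_iff]
  haveI := TensorMod.QCohInv.isQCoh_structureModule J.subscheme
  rw [(show Coh.HH Γ.curve.left (_root_.ClSub.quotMod J) 0 ≃ Coh.HH J.subscheme (Coh.structureModule J.subscheme) 0 from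
      (ZarCoh.Morph.affineEquiv J.subschemeι (Coh.structureModule J.subscheme) 0).toEquiv).subsingleton_congr,
    (Curves.GlobalSections.h0Equiv (Coh.structureModule J.subscheme)).toEquiv.subsingleton_congr]
  refine subsingleton_iff_isEmpty.trans ?_
  rw [← Set.range_eq_empty_iff (f := J.subschemeι)]
  rw [Scheme.IdealSheafData.range_subschemeι, Scheme.IdealSheafData.support_comap, Set.disjoint_left]
  simp only [Set.eq_empty_iff_forall_notMem, Set.mem_range, forall_exists_index, forall_apply_eq_imp_iff]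
  rfl

omit hX in
theorem finrank_H0_eq_of_iso {k : Type u} [Field k] {Z W : Scheme.{u}} (z : Z ⟶ Spec (CommRingCat.of k))
    (w : W ⟶ Spec (CommRingCat.of k)) (e : Z ≅ W) (he : e.hom ≫ w = z) :
    letI : Z.Over (Spec (CommRingCat.of k)) := ⟨z⟩
    letI : W.Over (Spec (CommRingCat.of k)) := ⟨w⟩
    Module.finrank k (Coh.HH Z (Coh.structureModule Z) 0) =
      Module.finrank k (Coh.HH W (Coh.structureModule W) 0) := by
  letI : Z.Over (Spec (CommRingCat.of k)) := ⟨z⟩
  letI : W.Over (Spec (CommRingCat.of k)) := ⟨w⟩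
  letI := Curves.GlobalSections.secModule k (Coh.structureModule Z)
  letI := Curves.GlobalSections.secModule k (Coh.structureModule W)
  rw [(Curves.GlobalSections.h0Linear k (Coh.structureModule Z)).finrank_eq,
    (Curves.GlobalSections.h0Linear k (Coh.structureModule W)).finrank_eq]
  let f : Γ(W, ⊤) ≃+* Γ(Z, ⊤) := (Scheme.Γ.mapIso e.op).commRingCatIsoToRingEquiv
  let g : ((Coh.structureModule W).val.obj (Opposite.op ⊤) : Type u) ≃ₗ[k]
      ((Coh.structureModule Z).val.obj (Opposite.op ⊤) : Type u) :=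
    { toFun := f
      invFun := f.symm
      left_inv := f.left_inv
      right_inv := f.right_inv
      map_add' := map_add f
      map_smul' := fun a (b : Γ(W, ⊤)) => by
        show f ((show Γ(W, ⊤) from Coh.toGlobal w a) * b) = (show Γ(Z, ⊤) from Coh.toGlobal z a) * f b
        rw [map_mul]
        congr 1
        exact (ZarCoh.Linear.toGlobal_comp (A := k) (f := e.hom) he a).symm }
  exact g.finrank_eq.symm

omit hX in
theorem finrank_quot (I : X.left.IdealSheafData) :
    letI : (I.comap Γ.ι).subscheme.Over (Spec (CommRingCat.of (ResidueField R))) :=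
      ⟨(I.comap Γ.ι).subschemeι ≫ Γ.curve.hom⟩
    Module.finrank (ResidueField R) (Coh.HH Γ.curve.left (_root_.ClSub.quotMod (I.comap Γ.ι)) 0) =
      Module.finrank (ResidueField R)
        (Coh.HH (I.comap Γ.ι).subscheme (Coh.structureModule (I.comap Γ.ι).subscheme) 0) := by
  letI : (I.comap Γ.ι).subscheme.Over (Spec (CommRingCat.of (ResidueField R))) :=
      ⟨(I.comap Γ.ι).subschemeι ≫ Γ.curve.hom⟩
  haveI := TensorMod.QCohInv.isQCoh_structureModule (I.comap Γ.ι).subscheme
  exact SurfInt.Push.finrank_push (I.comap Γ.ι).subschemeι rfl _ 0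

/-- Two different vertical prime divisors do not contain each other. -/
theorem genPt_not_mem (Γ₁ Γ₂ : ArSurf.VertComp R X)
    (hne : Set.range (Γ₁.ι.base : Γ₁.curve.left → X.left) ≠ Set.range Γ₂.ι.base) :
    Γ₁.ι (genericPoint Γ₁.curve.left) ∉ (Γ₂.ι.ker.support : Set X.left) := by
  rw [Scheme.Hom.support_ker]
  show Γ₁.ι (genericPoint Γ₁.curve.left) ∉ closure (Set.range Γ₂.ι)
  rw [Γ₂.ι.isClosedEmbedding.isClosed_range.closure_eq]
  intro h
  have hsub : Set.range (Γ₁.ι.base : Γ₁.curve.left → X.left) ⊆ Set.range Γ₂.ι.base := by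
    rintro _ ⟨y, rfl⟩
    exact ((genericPoint_specializes y).map Γ₁.ι.continuous).mem_closed
      Γ₂.ι.isClosedEmbedding.isClosed_range h
  exact hne (Set.Subset.antisymm hsub ((range_mem hX Γ₁).2 (range_mem hX Γ₂).1 hsub))

/-- Symmetry. -/
theorem inter_symm {Γ₁ Γ₂ : ArSurf.VertComp R X}
    (hne : Set.range (Γ₁.ι.base : Γ₁.curve.left → X.left) ≠ Set.range Γ₂.ι.base)
    {L₁ L₂ : X.left.Modules} (h₁ : _root_.ClSub.IsInverseOf L₁ (_root_.ClSub.idealMod Γ₁.ι.ker))
    (h₂ : _root_.ClSub.IsInverseOf L₂ (_root_.ClSub.idealMod Γ₂.ι.ker)) :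
    ArSurf.inter R X L₂ Γ₁ = ArSurf.inter R X L₁ Γ₂ := by
  rw [inter_of_isInverseOf hX Γ₁ (ClSub.Cartier.isInvertible_idealMod (isEffCartier hX Γ₂)) h₂,
    inter_idealMod_eq hX Γ₁ (isEffCartier hX Γ₂) (genPt_not_mem hX Γ₁ Γ₂ hne),
    inter_of_isInverseOf hX Γ₂ (ClSub.Cartier.isInvertible_idealMod (isEffCartier hX Γ₁)) h₁,
    inter_idealMod_eq hX Γ₂ (isEffCartier hX Γ₁) (genPt_not_mem hX Γ₂ Γ₁ hne.symm),
    finrank_quot, finrank_quot]
  let i₁ := asIso Γ₁.ι.toImage
  let i₂ := asIso Γ₂.ι.toImage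
  -- both are the scheme-theoretic intersection
  let e : (Γ₂.ι.ker.comap Γ₁.ι).subscheme ≅ (Γ₁.ι.ker.comap Γ₂.ι).subscheme :=
    Γ₂.ι.ker.comapIso Γ₁.ι ≪≫
      asIso (pullback.map Γ₁.ι Γ₂.ι.ker.subschemeι Γ₁.ι.ker.subschemeι Γ₂.ι i₁.hom i₂.inv (𝟙 _)
        (by simp [i₁, Scheme.Hom.toImage_imageι]) (by simp [i₂, Scheme.Hom.toImage_imageι])) ≪≫
      pullbackSymmetry _ _ ≪≫ (Γ₁.ι.ker.comapIso Γ₂.ι).symm
  congr 2
  refine congrArg Nat.cast (finrank_H0_eq_of_iso _ _ e ?_)
  haveI : IsClosedImmersion (Spec.map (CommRingCat.ofHom (residue R))) :=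
    IsClosedImmersion.spec_of_surjective _ residue_surjective
  rw [← cancel_mono (Spec.map (CommRingCat.ofHom (residue R)))]
  simp only [Category.assoc, ← Γ₁.w, ← Γ₂.w]
  simp only [e, i₁, i₂, Iso.trans_hom, Iso.symm_hom, asIso_hom, Category.assoc]
  simp only [Scheme.IdealSheafData.comapIso_inv_subschemeι_assoc, pullbackSymmetry_hom_comp_fst_assoc,
    pullback.map, pullback.lift_snd_assoc, Category.assoc]
  have : (asIso Γ₂.ι.toImage).inv ≫ Γ₂.ι = Γ₂.ι.ker.subschemeι := by
    rw [Iso.inv_comp_eq]; exact Γ₂.ι.toImage_imageι.symm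
  rw [reassoc_of% this, ← pullback.condition_assoc, ← Scheme.IdealSheafData.comapIso_hom_fst_assoc]

end

end Groth.Agent.Lib.ModelFibre.Inter
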