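import Groth.Agent.Lib.ModelFibre.LenEuler
import Groth.Agent.Lib.ModelFibre.Inter
import Groth.Agent.Lib.SurfInt.ColonSeq
import Groth.Agent.Lib.SurfInt.PushIso

/-!
# `χ(O_{D + Γ}) = χ(O_D) + deg(I_D|Γ) + χ(O_Γ)`
-/

set_option linter.style.haveILetI false

universe u

open CategoryTheory Limits AlgebraicGeometry IsLocalRing Groth.Agent.Lib.ModelFibre

namespace Groth.Agent.Lib.ModelFibre.EulerStep

open Groth.Agent.Lib Groth.Agent.Lib.TensorMod.Basic
open Groth.Agent.Lib.Ideal.Prime (stalkIdeal stalkIdeal_eq)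

noncomputable section

variable {R : Type u} [CommRing R] [IsDomain R] [IsDiscreteValuationRing R]
  {X : Over (Spec (CommRingCat.of R))} (hX : Inter.IsSurf X)

section Ideals

variable {Y : Scheme.{u}}

theorem colon_mul {C : Y.IdealSheafData} (hC : BlowUp.IsEffCartierIdeal C) (D : Y.IdealSheafData)
    (x : Y) : ∃ c : Y.presheaf.stalk x, stalkIdeal C x = _root_.Ideal.span {c} ∧
      ∀ a, c * a ∈ stalkIdeal (C * D) x ↔ a ∈ stalkIdeal D x := by
  obtain ⟨U, hxU, e, he, hCe⟩ := hC x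
  have hc : stalkIdeal C x = _root_.Ideal.span {Y.presheaf.germ U.1 x hxU e} := by
    rw [stalkIdeal_eq C U hxU, hCe, _root_.Ideal.map_span, Set.image_singleton]
  refine ⟨_, hc, fun a => ?_⟩
  rw [SurfInt.Mul.stalkIdeal_mul, hc, _root_.Ideal.mem_span_singleton_mul]
  refine ⟨fun ⟨z, hz, hza⟩ => ?_, fun ha => ⟨a, ha, rfl⟩⟩
  rwa [← (mul_cancel_left_mem_nonZeroDivisors
    (Ideal.EffCartier.germ_mem_nonZeroDivisors U.2 he x hxU)).mp hza]

theorem id_quotMod_top : 𝟙 (_root_.ClSub.quotMod (⊤ : Y.IdealSheafData)) = 0 := by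
  refine Modules.StalkModule.hom_ext_stalkMapₗ fun x => LinearMap.ext fun z => ?_
  obtain ⟨r, rfl⟩ := SurfInt.Stalk.quotStalk_surjective ⊤ x z
  rw [Modules.StalkModule.stalkMapₗ_id, Modules.StalkModule.stalkMapₗ_zero, LinearMap.id_apply, LinearMap.zero_apply]
  refine LinearMap.mem_ker.mp ?_
  rw [SurfInt.Stalk.ker_quotStalk, (StalkIdeal.stalkIdeal_eq_top_iff (⊤ : Y.IdealSheafData) x).mpr fun h => h]
  trivial

theorem prod_pow_add_single {n : ℕ} (I : Fin n → Y.IdealSheafData) (a : Fin n → ℕ) (i : Fin n) :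
    ∏ j, I j ^ (a j + if j = i then 1 else 0) = (∏ j, I j ^ a j) * I i := by
  simp only [pow_add, Finset.prod_mul_distrib, pow_ite, pow_one, pow_zero, Finset.prod_ite_eq',
    Finset.mem_univ, if_true]

end Ideals

/-- Euler characteristic of the structure sheaf of a vertical curve. -/
def chiΓ (Γ : ArSurf.VertComp R X) : ℤ :=
  (Models.wdeg R X Γ : ℤ) - (Models.h1 R X Γ : ℤ)

include hX

theorem isEffCartier_prod {n : ℕ} (Γ : Fin n → ArSurf.VertComp R X) (a : Fin n → ℕ)
    (s : Finset (Fin n)) : BlowUp.IsEffCartierIdeal (∏ j ∈ s, (Γ j).ι.ker ^ a j) := by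
  classical
  induction s using Finset.induction_on with
  | empty => rw [Finset.prod_empty]; exact Ideal.EffCartier.isEffCartier_top
  | @insert j s hj ih =>
    rw [Finset.prod_insert hj]
    exact Ideal.EffCartier.isEffCartier_mul
      (Ideal.EffCartier.isEffCartier_pow (Inter.isEffCartier hX (Γ j)) _) ih

theorem inter_prod {n : ℕ} (Γ : Fin n → ArSurf.VertComp R X) (a : Fin n → ℕ)
    (Δ : ArSurf.VertComp R X) (s : Finset (Fin n)) :
    ArSurf.inter R X (_root_.ClSub.idealMod (∏ j ∈ s, (Γ j).ι.ker ^ a j)) Δ =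
      ∑ j ∈ s, (a j : ℤ) * ArSurf.inter R X (_root_.ClSub.idealMod (Γ j).ι.ker) Δ := by
  classical
  induction s using Finset.induction_on with
  | empty =>
    rw [Finset.prod_empty, Finset.sum_empty]
    exact Inter.inter_idealMod_top hX Δ
  | @insert j s hj ih =>
    rw [Finset.prod_insert hj, Finset.sum_insert hj,
      Inter.inter_idealMod_mul hX Δ
        (Ideal.EffCartier.isEffCartier_pow (Inter.isEffCartier hX (Γ j)) _)
        (isEffCartier_prod hX Γ a s),
      Inter.inter_idealMod_pow hX Δ (Inter.isEffCartier hX (Γ j)), ih]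

/-- Adding a vertical curve to an effective Cartier divisor. -/
theorem step (Γ : ArSurf.VertComp R X) {C : X.left.IdealSheafData}
    (hC : BlowUp.IsEffCartierIdeal C) (hfin : LenEuler.Fin₂ R X (_root_.ClSub.quotMod C)) :
    LenEuler.Fin₂ R X (_root_.ClSub.quotMod (C * Γ.ι.ker)) ∧
      LenEuler.chi R X (_root_.ClSub.quotMod (C * Γ.ι.ker)) =
        LenEuler.chi R X (_root_.ClSub.quotMod C) +
          (ArSurf.inter R X (_root_.ClSub.idealMod C) Γ + chiΓ Γ) ∧
      (Subsingleton (Coh.HH X.left (_root_.ClSub.quotMod C) 2) →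
        Subsingleton (Coh.HH X.left (_root_.ClSub.quotMod (C * Γ.ι.ker)) 2)) := by
  haveI : IsProper Γ.curve.hom := Inter.isProper_curve hX Γ
  let P := _root_.ClSub.idealMod C
  have hP : PicF.IsInvertible P := ClSub.Cartier.isInvertible_idealMod hC
  obtain ⟨f, g, w, hS⟩ := SurfInt.ColonSeq.exists_colonSeq C Γ.ι.ker (C * Γ.ι.ker) hP
    (colon_mul hC _)
  -- the kernel is the direct image of `I_C|Γ`
  let M := (Scheme.Modules.pullback Γ.ι).obj P
  have hM : PicF.IsInvertible M := PicLoc.isInvertible_pullback Γ.ι hP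
  have hE := Modules.DualBasis.hasDBases_of_isFinLocFree
    (TensorMod.LocFree.of_rank (TensorMod.LocFree.of_isInvertible hP))
  haveI : IsIso Γ.ι.toImage := inferInstance
  haveI := SurfInt.PushIso.isIso_unitToPush Γ.ι.toImage
  let e₀ : _root_.ClSub.quotMod Γ.ι.ker ≅ (Coh.push Γ.ι).obj (Coh.structureModule Γ.curve.left) :=
    (Coh.push Γ.ι.ker.subschemeι).mapIso (asIso (_root_.ClSub.unitToPush Γ.ι.toImage)) ≪≫
      ((Scheme.Modules.pushforwardComp Γ.ι.toImage Γ.ι.ker.subschemeι).app _) ≪≫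
      ((Scheme.Modules.pushforwardCongr Γ.ι.toImage_imageι).app _)
  let e : CohB1.tensorMod P (_root_.ClSub.quotMod Γ.ι.ker) ≅ (Coh.push Γ.ι).obj M :=
    tensorIso (Iso.refl P) e₀ ≪≫
      (Modules.ProjFormula.projIso Γ.ι hE).app (Coh.structureModule Γ.curve.left) ≪≫
      (Coh.push Γ.ι).mapIso (rightUnit M)
  obtain ⟨hMfin, hMchi, hM2⟩ := LenEuler.push_curve Γ M (Ample.GG.isCoh_of_isInvertible hM)
  obtain ⟨hKfin, hKchi⟩ := LenEuler.of_iso e.symm hMfin
  have hsup : C ⊔ C * Γ.ι.ker = C := by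
    refine sup_eq_left.mpr ?_
    exact Scheme.IdealSheafData.le_def.mpr fun U => by
      rw [Scheme.IdealSheafData.ideal_mul, Pi.mul_apply]; exact _root_.Ideal.mul_le_left
  have hfin₃ : LenEuler.Fin₂ R X (_root_.ClSub.quotMod (C ⊔ C * Γ.ι.ker)) := by
    rw [hsup]; exact hfin
  obtain ⟨hfin', hchi⟩ := LenEuler.of_shortExact hS
    (haveI := hM2; (Curves.LES.isoK R e 2).toEquiv.subsingleton) hKfin hfin₃
  replace hchi : LenEuler.chi R X (_root_.ClSub.quotMod (C * Γ.ι.ker)) =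
      LenEuler.chi R X (CohB1.tensorMod P (_root_.ClSub.quotMod Γ.ι.ker)) +
        LenEuler.chi R X (_root_.ClSub.quotMod (C ⊔ C * Γ.ι.ker)) := hchi
  rw [hsup] at hchi
  refine ⟨hfin', hchi.trans ?_, fun h2 => ?_⟩
  swap
  · have hA : Subsingleton (Coh.HH X.left (CohB1.tensorMod P (_root_.ClSub.quotMod Γ.ι.ker)) 2) :=
      haveI := hM2; (Curves.LES.isoK R e 2).toEquiv.subsingleton
    have hB : Subsingleton (Coh.HH X.left (_root_.ClSub.quotMod (C ⊔ C * Γ.ι.ker)) 2) := by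
      rw [hsup]; exact h2
    refine subsingleton_of_forall_eq 0 fun y => ?_
    obtain ⟨z, rfl⟩ := (Curves.LES.exactK₂ R hS 2 y).mp (hB.elim _ _)
    rw [hA.elim z 0, map_zero]
  rw [hKchi, hMchi, add_comm (LenEuler.chi R X (_root_.ClSub.quotMod C))]
  congr 1
  simp [ArSurf.inter, ArSurf.curveDeg, chiΓ, Models.wdeg, Models.h1, FGA.eulerCharLE,
    Finset.sum_range_succ, M, P]
  ring

theorem finite_prod' {n : ℕ} (Γ : Fin n → ArSurf.VertComp R X) (a : Fin n → ℕ)
    (s : Finset (Fin n)) :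
    LenEuler.Fin₂ R X (_root_.ClSub.quotMod (∏ j ∈ s, (Γ j).ι.ker ^ a j)) ∧
      Subsingleton (Coh.HH X.left (_root_.ClSub.quotMod (∏ j ∈ s, (Γ j).ι.ker ^ a j)) 2) := by
  classical
  induction s using Finset.induction_on with
  | empty =>
    rw [Finset.prod_empty]
    refine ⟨(LenEuler.zero_of_id_eq_zero id_quotMod_top).1, ?_⟩
    exact LenEuler.subsingleton_of_id_eq_zero id_quotMod_top 2
  | @insert j s hj ih =>
    rw [Finset.prod_insert hj, mul_comm]
    generalize a j = m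
    induction m with
    | zero => rwa [pow_zero, mul_one]
    | succ m ihm =>
      rw [pow_succ, ← mul_assoc]
      obtain ⟨h1, -, h3⟩ := step hX (Γ j) (Ideal.EffCartier.isEffCartier_mul (isEffCartier_prod hX Γ a s)
        (Ideal.EffCartier.isEffCartier_pow (Inter.isEffCartier hX (Γ j)) _)) ihm.1
      exact ⟨h1, h3 ihm.2⟩

theorem finite_prod {n : ℕ} (Γ : Fin n → ArSurf.VertComp R X) (a : Fin n → ℕ)
    (s : Finset (Fin n)) :
    LenEuler.Fin₂ R X (_root_.ClSub.quotMod (∏ j ∈ s, (Γ j).ι.ker ^ a j)) :=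
  (finite_prod' hX Γ a s).1

end

end Groth.Agent.Lib.ModelFibre.EulerStep
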