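import Groth.Agent.Lib.Exchange.Algz.Bundle
import Groth.Agent.H78.Proper.SupportedExistence

/-!
# Algebraization of invertible modules on a proper scheme
-/

set_option autoImplicit false
set_option linter.style.haveILetI false

noncomputable section

universe u

open CategoryTheory Limits AlgebraicGeometry Opposite TopologicalSpace

namespace Groth.Agent.Lib.ModelFibre.AlgzProper

open Groth.Agent.Lib Groth.Agent.Lib.CohBasics.Affine Groth.Agent.Lib.Exchange.Thick
open Groth.Agent.Lib.Exchange.Algz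
open Groth.Agent.H78.Formal.Sections Groth.Agent.H78.Formal.Elem
open Groth.Agent.Lib.TensorMod.Gen (exists_hom_of_family app_eq_smul one IsGen isInvertible_iff)
open Groth.Agent.Lib.TensorMod.Dual (rs rs_rs rs_smul)
open Groth.Agent.Lib.QCoh.Localizing (res res_smul)

variable {A : Type u} [CommRing A] [IsNoetherianRing A] {J : Ideal A} [IsAdicComplete J A]
  {Y : Scheme.{u}} [Y.Over (Spec (CommRingCat.of A))] [IsProper (Y ↘ Spec (CommRingCat.of A))]
  [IsLocallyNoetherian Y] {T : Tower J} [∀ k, IsLocallyNoetherian (T.X k)]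
  (w : ∀ k, T.X k ⟶ Y) [∀ k, IsClosedImmersion (w k)] (hw : ∀ k, T.i k ≫ w (k + 1) = w k)
  (hwo : ∀ k, w k ≫ (Y ↘ Spec (CommRingCat.of A)) = T.X k ↘ Spec (CommRingCat.of A))
  (hker : ∀ k, (w k).ker = jIdeal J ^ (k + 1))

include hw hwo in
/-- A module with the given system as its completion, with the projections. -/
theorem exists_proj_proper (F : ModSys T) :
    ∃ (M : Y.Modules) (π : ∀ k, M ⟶ (Scheme.Modules.pushforward (w k)).obj (F.M k)), Coh.IsCoh M ∧
      ∀ k (U : Y.Opens), IsAffineOpen U → Function.Surjective ((π k).app U) ∧ ∀ s, (π k).app U s = 0 ↔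
        s ∈ sIdeal J U ^ (k + 1) • (⊤ : Submodule Γ(Y, U) Γ(M, U)) := by
  have hG := isCohFormal_pushSys w hw hwo F
  have hGs : ClSub.IsProperOver (Y ↘ Spec (CommRingCat.of A))
      (CohB1.support ((pushSys w hw F).obj (op 0))) := by
    haveI := (hG.1 0).1
    haveI := (hG.1 0).2
    exact ⟨Modules.Support.isClosed_support _, inferInstance⟩
  obtain ⟨M, hM, -, ⟨α⟩⟩ := Groth.Agent.H78.Proper.SupportedExistence.exists_algebraization _ hG hGs
  haveI := hM.1
  refine ⟨M, fun k => cπ J M k ≫ α.hom.app (op k), hM, fun k U hU => ?_⟩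
  have hb := app_bijective (α.hom.app (op k)) U
  refine ⟨hb.2.comp (modPowπ_surjective J (k + 1) hU), fun s => ?_⟩
  rw [← modPowπ_eq_zero_iff J (k + 1) hU s]
  exact ⟨fun h => hb.1 (h.trans (map_zero _).symm),
    fun h => (congrArg ((α.hom.app (op k)).app U) h).trans (map_zero _)⟩

include hw hwo hker in
/-- **Algebraization of the invertible modules.** -/
theorem exists_bundle_proper (L : ∀ k, (T.X k).Modules)
    (hL : ∀ k, PicF.IsInvertible (L k))
    (φ : ∀ k, (Scheme.Modules.pullback (T.i k)).obj (L (k + 1)) ≅ L k) :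
    ∃ M : Y.Modules, PicF.IsInvertible M ∧ ∀ k, Nonempty ((Scheme.Modules.pullback (w k)).obj M ≅ L k) := by
  let F : ModSys T := ⟨L, fun k => Ample.GG.isCoh_of_isInvertible (hL k), φ⟩
  obtain ⟨M, π, hM, hπ⟩ := exists_proj_proper w hw hwo F
  haveI := hM.1
  haveI := hM.2
  -- cyclic on a cover
  have hcyc : ∀ y : Y, ∃ D : Y.Opens, IsAffineOpen D ∧ y ∈ D ∧
      ∃ g : Γ(M, D), Submodule.span Γ(Y, D) {g} = ⊤ := by
    refine Local.exists_cyclic J hM fun z hz => ?_
    obtain ⟨U₁, hU₁, hzU₁⟩ := exists_affine z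
    obtain ⟨x₀, hx₀⟩ : z ∈ Set.range (w 0) := by
      rw [← (w 0).isClosedEmbedding.isClosed_range.closure_eq, ← Scheme.Hom.support_ker,
        SetLike.mem_coe, Scheme.IdealSheafData.mem_support_iff_of_mem (U := ⟨U₁, hU₁⟩) hzU₁,
        Scheme.mem_zeroLocus_iff]
      intro f hf hb
      rw [SetLike.mem_coe, Scheme.Hom.ker_apply, ker_app w hker 0 hU₁, zero_add, pow_one] at hf
      have h2 : z ∈ Y.basicOpen (1 - f) := Local.mem_basicOpen_of_sub_one J hz hzU₁ (by
        rw [sub_sub_cancel_left]; exact Ideal.neg_mem_iff _ |>.2 hf)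
      let germ := (Y.presheaf.germ U₁ z hzU₁).hom
      have hle : sIdeal J U₁ ≤ (IsLocalRing.maximalIdeal (Y.presheaf.stalk z)).comap germ := by
        rw [sIdeal, Ideal.map_le_iff_le_comap]
        intro a ha
        rw [Ideal.mem_comap, Ideal.mem_comap]
        intro hu
        refine hz a ha ?_
        have hm : z ∈ Y.basicOpen (sMap A U₁ a) := (Y.mem_basicOpen _ z hzU₁).2 hu
        rw [← res_sMap (le_top (a := U₁)) a] at hm
        exact ((Scheme.basicOpen_res Y _ _).le hm).2
      exact hle hf ((Y.mem_basicOpen f z hzU₁).1 hb)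
    obtain ⟨V, e, hxV, he⟩ := isInvertible_iff.1 (hL 0) x₀
    obtain ⟨W, hW, hWV⟩ := (w 0).isClosedEmbedding.isInducing.isOpen_iff.1 V.2
    obtain ⟨U, hU, hzU, hUW⟩ := exists_isAffineOpen_mem_and_subset (X := Y) (x := z) (U := ⟨W, hW⟩)
      (show z ∈ W by rw [← hx₀]; exact hWV.ge hxV)
    have hle : w 0 ⁻¹ᵁ U ≤ V := fun x hx => hWV.le (hUW hx)
    obtain ⟨g, hg⟩ := (hπ 0 U hU).1 (rs (L 0) hle e)
    refine ⟨U, hU, hzU, g, fun v _ => ?_⟩
    obtain ⟨r', hr'⟩ := (he _ hle).2 ((π 0).app U v)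
    obtain ⟨r, hr⟩ := (w 0).app_surjective U hU r'
    have h0 : (π 0).app U (v - r • g) = 0 := by
      rw [map_sub, sub_eq_zero]
      refine Eq.symm (((π 0).app_smul r g).trans ?_)
      rw [hg]
      exact (congrArg (fun c : Γ(T.X 0, w 0 ⁻¹ᵁ U) => c • rs (L 0) hle e) hr).trans hr'
    have h1 := ((hπ 0 U hU).2 _).1 h0
    rw [zero_add, pow_one] at h1
    exact Submodule.mem_sup.2 ⟨r • g, Submodule.smul_mem _ _ (Submodule.mem_span_singleton_self g), _, h1,
      add_sub_cancel _ _⟩
  -- the annihilator vanishes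
  have hfaith : ∀ k (V : (T.X k).Opens), IsAffineOpen V →
      Module.annihilator Γ(T.X k, V) Γ(L k, V) = ⊥ := by
    intro k
    haveI := (F.coh k).1
    haveI := (F.coh k).2
    have h0 : ZarCoh.AnnIdeal.annIdeal (L k) = ⊥ := by
      choose W e hxW he using isInvertible_iff.1 (hL k)
      choose W' hW' hxW' hle using fun x =>
        exists_isAffineOpen_mem_and_subset (X := T.X k) (x := x) (U := W x) (hxW x)
      refine Scheme.IdealSheafData.ext_of_iSup_eq_top (fun x => ⟨W' x, hW' x⟩)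
        (eq_top_iff.2 fun x _ => Opens.mem_iSup.2 ⟨x, hxW' x⟩) fun x => ?_
      rw [ZarCoh.AnnIdeal.annIdeal_ideal, Scheme.IdealSheafData.ideal_bot]
      refine eq_bot_iff.2 fun a ha => (he x _ (hle x)).1 ?_
      exact (Module.mem_annihilator.1 ha _).trans (zero_smul _ _).symm
    intro V hV
    have := congrArg (fun I : (T.X k).IdealSheafData => I.ideal ⟨V, hV⟩) h0
    rwa [ZarCoh.AnnIdeal.annIdeal_ideal, Scheme.IdealSheafData.ideal_bot] at this
  have hann : ZarCoh.AnnIdeal.annIdeal M = ⊥ := by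
    refine Local.eq_bot_of_le_pow J _ fun U n => ?_
    rw [ZarCoh.AnnIdeal.annIdeal_ideal, ← ker_app w hker n U.2]
    intro a ha
    rw [RingHom.mem_ker, ← Submodule.mem_bot Γ(T.X n, w n ⁻¹ᵁ U.1), ← hfaith n _ (U.2.preimage (w n)),
      Module.mem_annihilator]
    intro s
    obtain ⟨v, hv⟩ := (hπ n U.1 U.2).1 s
    have h := (π n).app_smul a v
    rw [Module.mem_annihilator.1 ha v, map_zero, hv] at h
    exact h.symm
  refine ⟨M, isInvertible_of_cyclic fun y => ?_, fun k => ?_⟩
  · obtain ⟨D, hD, hy, g, hg⟩ := hcyc y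
    refine ⟨D, hD, hy, g, fun a b hab => ?_, fun v => Submodule.mem_span_singleton.1
      (show v ∈ Submodule.span Γ(Y, D) {g} by rw [hg]; trivial)⟩
    have hm : a - b ∈ Module.annihilator Γ(Y, D) Γ(M, D) := by
      rw [Module.mem_annihilator]
      intro v
      obtain ⟨c, rfl⟩ := Submodule.mem_span_singleton.1
        (show v ∈ Submodule.span Γ(Y, D) {g} by rw [hg]; trivial)
      rw [smul_comm, sub_smul, show a • g = b • g from hab, sub_self, smul_zero]
    have h0 := congrArg (fun I : Y.IdealSheafData => I.ideal ⟨D, hD⟩) hann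
    rw [ZarCoh.AnnIdeal.annIdeal_ideal, Scheme.IdealSheafData.ideal_bot] at h0
    rw [h0] at hm
    exact sub_eq_zero.1 hm
  · haveI := (F.coh k).1
    haveI hc := Cyc.PP.Push.isCoh_push (w k) (F.coh k)
    haveI := hc.1
    let adj := Scheme.Modules.pullbackPushforwardAdjunction (w k)
    let ψ := (adj.homEquiv M (L k)).symm (π k)
    have hψ : Unit.η (w k) M ≫ (Scheme.Modules.pushforward (w k)).map ψ = π k :=
      (Adjunction.homEquiv_unit _ _ _ _).symm.trans (Equiv.apply_symm_apply _ _)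
    haveI : IsIso ((Scheme.Modules.pushforward (w k)).map ψ) := by
      haveI := (Unit.isCoh_pushPull (w k) hM).1
      refine isIso_of_cover _ fun y => ?_
      obtain ⟨U, hU, hy⟩ := exists_affine y
      have e : ∀ s, ((Scheme.Modules.pushforward (w k)).map ψ).app U ((Unit.η (w k) M).app U s) =
          (π k).app U s := fun s => ConcreteCategory.congr_hom (congrArg (fun t => t.app U) hψ) s
      refine ⟨U, hU, hy, (injective_iff_map_eq_zero _).2 fun z hz => ?_, fun s => ?_⟩
      · obtain ⟨s, rfl⟩ := Unit.surjective_app (w k) hM hU z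
        rw [e] at hz
        rw [Unit.app_eq_zero_iff (w k) hM hU, Scheme.Hom.ker_apply, ker_app w hker k hU]
        exact ((hπ k U hU).2 s).1 hz
      · obtain ⟨v, hv⟩ := (hπ k U hU).1 s
        exact ⟨(Unit.η (w k) M).app U v, (e v).trans hv⟩
    haveI : ∀ N, IsIso (adj.counit.app N) := fun N => Cyc.Dev.SchemeCase.isIso_counit (w k) N
    haveI : IsIso adj.counit := NatIso.isIso_of_isIso_app _
    haveI := adj.fullyFaithfulROfIsIsoCounit.full
    haveI := adj.fullyFaithfulROfIsIsoCounit.faithful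
    haveI : IsIso ψ := isIso_of_fully_faithful (Scheme.Modules.pushforward (w k)) ψ
    exact ⟨asIso ψ⟩

end Groth.Agent.Lib.ModelFibre.AlgzProper
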