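import Groth.Agent.Lib.ModelFibre.LiftH0
import Groth.Agent.Lib.Ample.GenLocus
import Groth.Agent.Lib.TensorMod.HomGlue
import Groth.Agent.Lib.TensorMod.Invertible

/-!
# An invertible module trivial on a deep thickening of the closed fibre is trivial
-/

set_option linter.style.haveILetI false

universe u

open CategoryTheory Limits AlgebraicGeometry IsLocalRing TopologicalSpace Opposite
open Groth.Agent.Lib.TensorMod Groth.Agent.Lib.TensorMod.Dual Groth.Agent.Lib.TensorMod.Gen
open Groth.Agent.Lib.Ample.GenLocus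
open Groth.Agent.Lib.TensorMod.Pullback (unitSec)
open Groth.Agent.Lib.Ideal.Prime (stalkIdeal stalkIdeal_eq)

namespace Groth.Agent.Lib.ModelFibre.TorsBound

open Groth.Agent.Lib Groth.Agent.Lib.ModelFibre

noncomputable section

variable {R : Type u} [CommRing R] [IsDomain R] [IsDiscreteValuationRing R]
  (X : Over (Spec (CommRingCat.of R)))

/-- The germ of a generator is regular. -/
theorem germ_smul_injective {Y : Scheme.{u}} {M : Y.Modules} {U : Y.Opens} {e : Γ(M, U)}
    (he : IsGen M U e) (x : Y) (hx : x ∈ U) :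
    Function.Injective fun r : Y.presheaf.stalk x => r • M.presheaf.germ U x hx e := by
  intro r r' h
  obtain ⟨W₀, hx₀, a, rfl⟩ := Y.presheaf.exists_germ_eq r
  obtain ⟨W₁, hx₁, a', rfl⟩ := Y.presheaf.exists_germ_eq r'
  let W := W₀ ⊓ W₁ ⊓ U
  have hxW : x ∈ W := ⟨⟨hx₀, hx₁⟩, hx⟩
  let b := rf (inf_le_left.trans inf_le_left : W ≤ W₀) a
  let b' := rf (inf_le_left.trans inf_le_right : W ≤ W₁) a'
  have hb : Y.presheaf.germ W x hxW b = Y.presheaf.germ W₀ x hx₀ a :=
    TopCat.Presheaf.germ_res_apply _ _ _ _ _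
  have hb' : Y.presheaf.germ W x hxW b' = Y.presheaf.germ W₁ x hx₁ a' :=
    TopCat.Presheaf.germ_res_apply _ _ _ _ _
  have hge : M.presheaf.germ W x hxW (rs M inf_le_right e) = M.presheaf.germ U x hx e :=
    TopCat.Presheaf.germ_res_apply _ _ _ _ _
  simp only at h
  rw [← hb, ← hb', ← hge, ← Modules.StalkModule.germ_smul, ← Modules.StalkModule.germ_smul] at h
  obtain ⟨V, hxV, i₁, i₂, hV⟩ := M.presheaf.germ_eq x hxW hxW _ _ h
  have hV' : rs M i₁.le (b • rs M inf_le_right e) = rs M i₁.le (b' • rs M inf_le_right e) := hV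
  rw [rs_smul, rs_smul, rs_rs] at hV'
  have := (he V (i₁.le.trans inf_le_right)).1 hV'
  rw [← hb, ← hb', ← TopCat.Presheaf.germ_res_apply _ i₁ x hxV b,
    ← TopCat.Presheaf.germ_res_apply _ i₁ x hxV b']
  exact congrArg (Y.presheaf.germ V x hxV) this

/-- The germ of a generator spans. -/
theorem germ_smul_surjective {Y : Scheme.{u}} {M : Y.Modules} {U : Y.Opens} {e : Γ(M, U)}
    (he : IsGen M U e) (x : Y) (hx : x ∈ U) :
    Function.Surjective fun r : Y.presheaf.stalk x => r • M.presheaf.germ U x hx e := by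
  intro v
  obtain ⟨W₀, hx₀, m, rfl⟩ := TopCat.Presheaf.exists_germ_eq M.presheaf v
  let W := W₀ ⊓ U
  have hxW : x ∈ W := ⟨hx₀, hx⟩
  obtain ⟨a, ha⟩ := exists_coord (he.res (inf_le_right : W ≤ U)) (rs M (inf_le_left : W ≤ W₀) m)
  refine ⟨Y.presheaf.germ W x hxW a, ?_⟩
  have hge : M.presheaf.germ W x hxW (rs M inf_le_right e) = M.presheaf.germ U x hx e :=
    TopCat.Presheaf.germ_res_apply _ _ _ _ _
  show Y.presheaf.germ W x hxW a • _ = _
  rw [← hge, ← Modules.StalkModule.germ_smul, ← ha]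
  exact TopCat.Presheaf.germ_res_apply _ _ _ _ _

variable (M : X.left.Modules) (π : R)

/-- Multiplication by `π ^ n`. -/
abbrev σ (n : ℕ) : M ⟶ M := CurveBundle.EndAlg.scal M (Coh.toGlobal X.hom (π ^ n))

/-- `M / π ^ n M`. -/
abbrev Q (n : ℕ) : X.left.Modules := cokernel (σ X M π n)

/-- The projection to `M / π ^ n M`. -/
abbrev q (n : ℕ) : M ⟶ Q X M π n := cokernel.π (σ X M π n)

variable {M π}

omit [IsDiscreteValuationRing R] in
theorem isSMulRegular_stalk [Flat X.hom] (hπ : Irreducible π) (hM : PicF.IsInvertible M) (x : X.left) (n : ℕ) :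
    IsSMulRegular (M.presheaf.stalk x) (Stalk.baseHom X.hom x π ^ n) := by
  obtain ⟨U, e, hx, he⟩ := isInvertible_iff.1 hM x
  intro v w hvw
  obtain ⟨r, rfl⟩ := germ_smul_surjective he x hx v
  obtain ⟨r', rfl⟩ := germ_smul_surjective he x hx w
  simp only [smul_smul] at hvw
  have h := germ_smul_injective he x hx hvw
  rw [← map_pow] at h
  exact congrArg (· • _) (Chart.isSMulRegular_baseHom X.hom x (IsRegular.of_ne_zero (pow_ne_zero n hπ.ne_zero)) h)

theorem σ_stalk (n : ℕ) (x : X.left) (v : M.presheaf.stalk x) :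
    Modules.StalkModule.stalkMapₗ (σ X M π n) x v = Stalk.baseHom X.hom x π ^ n • v := by
  rw [← map_pow]
  exact LiftH0.stalk_scal_apply X M (π ^ n) x v

theorem seq [Flat X.hom] (hπ : Irreducible π) (hM : PicF.IsInvertible M) (n : ℕ) :
    (ShortComplex.mk (σ X M π n) (q X M π n) (cokernel.condition _)).ShortExact := by
  haveI : Mono (σ X M π n) := by
    rw [Modules.StalkModule.mono_iff_stalkMapₗ_injective]
    intro x v w h
    rw [σ_stalk, σ_stalk] at h
    exact isSMulRegular_stalk X hπ hM x n h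
  exact { exact := ShortComplex.exact_cokernel _ }

theorem q_stalk_eq_zero [Flat X.hom] (hπ : Irreducible π) (hM : PicF.IsInvertible M) (n : ℕ) (x : X.left)
    (v : M.presheaf.stalk x) : Modules.StalkModule.stalkMapₗ (q X M π n) x v = 0 ↔
      ∃ w, Stalk.baseHom X.hom x π ^ n • w = v := by
  have h := (ShortComplex.ab_exact_iff_function_exact _).mp
    ((Modules.Stalk.exact_iff_stalk _).mp (seq X hπ hM n).exact x)
  refine (h v).trans ⟨fun ⟨w, hw⟩ => ⟨w, (σ_stalk X n x w).symm.trans hw⟩,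
    fun ⟨w, hw⟩ => ⟨w, (σ_stalk X n x w).trans hw⟩⟩

omit [IsDomain R] [IsDiscreteValuationRing R] in
theorem q_stalk_surjective (n : ℕ) (x : X.left) :
    Function.Surjective (Modules.StalkModule.stalkMapₗ (q X M π n) x) :=
  (Modules.Stalk.epi_iff_stalk_surjective (q X M π n)).mp inferInstance x

/-- A section over a deep thickening agrees on the closed fibre with a global section. -/
theorem exists_bound [IsProper X.hom] [Flat X.hom] (hπ : Irreducible π) (hM : PicF.IsInvertible M) :
    ∃ N : ℕ, ∀ s : Γ(Q X M π (N + 1), ⊤), ∃ b : Γ(M, ⊤), ∀ (x : X.left) (v : M.presheaf.stalk x),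
      Modules.StalkModule.stalkMapₗ (q X M π (N + 1)) x v =
          (Q X M π (N + 1)).presheaf.germ ⊤ x (Opens.mem_top x) s →
      ∃ m, M.presheaf.germ ⊤ x (Opens.mem_top x) b = v + Stalk.baseHom X.hom x π • m := by
  haveI : IsProper (X.left ↘ Spec (CommRingCat.of R)) := ‹IsProper X.hom›
  haveI : IsLocallyNoetherian X.left := LocallyOfFiniteType.isLocallyNoetherian X.hom
  let H₁ := Coh.HH X.left M 1
  haveI : Module.Finite R H₁ :=
    Groth.Agent.S0002.result R X.left _ (Ample.GG.isCoh_of_isInvertible hM) 1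
  haveI : IsNoetherian R H₁ := inferInstance
  let chain : ℕ →o Submodule R H₁ :=
    { toFun := fun n => LinearMap.ker (LinearMap.lsmul R H₁ (π ^ n))
      monotone' := fun a b hab x hx => by
        rw [LinearMap.mem_ker, LinearMap.lsmul_apply] at hx ⊢
        rw [← Nat.sub_add_cancel hab, pow_add, mul_smul, hx, smul_zero] }
  obtain ⟨N, hN⟩ := monotone_stabilizes_iff_noetherian.mpr (inferInstance : IsNoetherian R H₁) chain
  refine ⟨N, fun s => ?_⟩
  let hSn := seq X hπ hM (N + 1)
  let hSN := seq X hπ hM N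
  let u : Coh.HH X.left (Q X M π (N + 1)) 0 := (Curves.GlobalSections.h0Equiv (Q X M π (N + 1))).symm s
  let δu : H₁ := Curves.LES.δK R hSn 0 1 rfl u
  have hδ : π ^ (N + 1) • δu = 0 := by
    rw [← LiftH0.mapK_scal]
    exact ((Curves.LES.exactK₁ R hSn 0 1 rfl) _).mpr ⟨u, rfl⟩
  have hδN : π ^ N • δu = 0 := by
    have h : δu ∈ chain (N + 1) := LinearMap.mem_ker.mpr hδ
    rw [← hN (N + 1) (Nat.le_succ N)] at h
    exact LinearMap.mem_ker.mp h
  obtain ⟨a, ha⟩ := ((Curves.LES.exactK₃ R hSn 0 1 rfl) (π ^ N • u)).mp (by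
    show Curves.LES.δK R hSn 0 1 rfl (π ^ N • u) = 0
    rw [map_smul]; exact hδN)
  let t : Γ(M, ⊤) := Curves.GlobalSections.h0Equiv M a
  have hgerm : ∀ (x : X.left) (v : M.presheaf.stalk x),
      Modules.StalkModule.stalkMapₗ (q X M π (N + 1)) x v =
          (Q X M π (N + 1)).presheaf.germ ⊤ x (Opens.mem_top x) s →
      ∃ w, M.presheaf.germ ⊤ x (Opens.mem_top x) t =
        Stalk.baseHom X.hom x π ^ N • v + Stalk.baseHom X.hom x π ^ (N + 1) • w := by
    intro x v hv
    have h1 : (q X M π (N + 1)).app ⊤ t =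
        (CurveBundle.EndAlg.scal (Q X M π (N + 1)) (Coh.toGlobal X.hom (π ^ N))).app ⊤ s := by
      have h2 := congrArg (Curves.GlobalSections.h0Equiv (Q X M π (N + 1))) ha
      rw [← LiftH0.mapK_scal, ProjKoszul.Regularity.h0Equiv_mapK (R := R),
        ProjKoszul.Regularity.h0Equiv_mapK (R := R)] at h2
      exact h2.trans (congrArg _ ((Curves.GlobalSections.h0Equiv (Q X M π (N + 1))).apply_symm_apply s))
    have h3 := congrArg (fun z => (Q X M π (N + 1)).presheaf.germ ⊤ x (Opens.mem_top x) z) h1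
    erw [← Modules.StalkModule.stalkMapₗ_germ, ← Modules.StalkModule.stalkMapₗ_germ] at h3
    replace h3 := h3.trans (LiftH0.stalk_scal_apply X _ _ x _)
    rw [← hv, ← map_smul, ← sub_eq_zero, ← map_sub, q_stalk_eq_zero X hπ hM, map_pow] at h3
    obtain ⟨w, hw⟩ := h3
    exact ⟨w, by rw [hw, add_sub_cancel]⟩
  have ha0 : Curves.LES.mapK R (q X M π N) 0 a = 0 := by
    apply (Curves.GlobalSections.h0Equiv _).injective
    rw [ProjKoszul.Regularity.h0Equiv_mapK (R := R), map_zero (Curves.GlobalSections.h0Equiv _)]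
    refine TopCat.Presheaf.section_ext ⟨_, (Q X M π N).isSheaf⟩ ⊤ _ _ fun x _ => ?_
    show (Q X M π N).presheaf.germ ⊤ x (Opens.mem_top x) _ =
      (Q X M π N).presheaf.germ ⊤ x (Opens.mem_top x) 0
    erw [← Modules.StalkModule.stalkMapₗ_germ]
    rw [map_zero]
    obtain ⟨v, hv⟩ := q_stalk_surjective X (n := N + 1) x ((Q X M π (N + 1)).presheaf.germ ⊤ x (Opens.mem_top x) s)
    obtain ⟨w, hw⟩ := hgerm x v hv
    refine (q_stalk_eq_zero X hπ hM N x _).mpr ⟨v + Stalk.baseHom X.hom x π • w, ?_⟩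
    rw [smul_add, smul_smul, ← pow_succ]
    exact hw.symm
  obtain ⟨b₀, hb⟩ := ((Curves.LES.exactK₂ R hSN 0) a).mp ha0
  refine ⟨Curves.GlobalSections.h0Equiv M b₀, fun x v hv => ?_⟩
  obtain ⟨w, hw⟩ := hgerm x v hv
  refine ⟨w, isSMulRegular_stalk X hπ hM x N ?_⟩
  show Stalk.baseHom X.hom x π ^ N • _ = Stalk.baseHom X.hom x π ^ N • _
  rw [smul_add, smul_smul, ← pow_succ, ← hw]
  have h4 := congrArg (Curves.GlobalSections.h0Equiv M) hb
  rw [ProjKoszul.Regularity.h0Equiv_mapK (R := R)] at h4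
  have h5 := congrArg (fun z => M.presheaf.germ ⊤ x (Opens.mem_top x) z) h4
  erw [← Modules.StalkModule.stalkMapₗ_germ] at h5
  exact (σ_stalk X N x _).symm.trans h5

/-- An open containing the closed fibre of a closed map to `Spec R` is everything. -/
theorem eq_top_of_specialFibre [UniversallyClosed X.hom] (G : X.left.Opens)
    (hG : Models.specialFibreSet R X ⊆ (G : Set X.left)) : G = ⊤ := by
  refine top_unique fun y _ => ?_
  by_contra hy
  have h := X.hom.isClosedMap _ G.isOpen.isClosed_compl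
  obtain ⟨z, hz, hzc⟩ := h.closure_subset_iff.2
    (Set.singleton_subset_iff.2 (Set.mem_image_of_mem _ hy))
    (specializes_iff_mem_closure.1 (IsLocalRing.specializes_closedPoint (X.hom y)))
  exact hz (hG hzc)

/-- An invertible module on a proper flat scheme over `R` trivial on a deep enough thickening of the closed
fibre is trivial. -/
theorem exists_thickening [IsProper X.hom] [Flat X.hom] (hπ : Irreducible π) (hM : PicF.IsInvertible M) :
    ∃ N : ℕ, Nonempty ((Scheme.Modules.pullback (LiftH0.powI X (N + 1)).subschemeι).obj M ≅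
        Coh.structureModule (LiftH0.powI X (N + 1)).subscheme) →
      Nonempty (M ≅ Coh.structureModule X.left) := by
  classical
  obtain ⟨N, hN⟩ := exists_bound X hπ hM
  refine ⟨N, fun ⟨ψ⟩ => ?_⟩
  let I := LiftH0.powI X (N + 1)
  let k := I.subschemeι
  have hloc : ∀ x : X.left, ∃ (U : X.left.Opens) (e : Γ(M, U)), x ∈ U ∧ IsAffineOpen U ∧ IsGen M U e := by
    intro x
    obtain ⟨U₀, e, hx, he⟩ := isInvertible_iff.1 hM x
    obtain ⟨U, hU, hxU, hle⟩ := exists_isAffineOpen_mem_and_subset (U := U₀) hx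
    exact ⟨U, rs M hle e, hxU, hU, he.res hle⟩
  choose U e hxU hU he using hloc
  have hcov : iSup U = ⊤ := top_le_iff.1 fun z _ => Opens.mem_iSup.2 ⟨z, hxU z⟩
  let ε : Γ((Scheme.Modules.pullback k).obj M, ⊤) := ψ.inv.app ⊤ (one _ ⊤)
  have hε : IsGen ((Scheme.Modules.pullback k).obj M) ⊤ ε :=
    isGen_of_isIso_over (isIso_over_of_iso ψ.symm ⊤) (isGen_one ⊤)
  have hB : ∀ a, ∃ B : Γ(X.left, U a),
      rs ((Scheme.Modules.pullback k).obj M) le_top ε = k.app (U a) B • unitSec k M (e a) := fun a => by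
    obtain ⟨g, hg⟩ := exists_coord (isGen_unitSec k (he a)) (rs _ (le_top : k ⁻¹ᵁ U a ≤ ⊤) ε)
    obtain ⟨B, rfl⟩ := k.app_surjective (U a) (hU a) g
    exact ⟨B, hg⟩
  choose B hB using hB
  let s : ∀ a, Γ(M, U a) := fun a => B a • e a
  obtain ⟨t, ht, -⟩ := TopCat.Sheaf.existsUnique_gluing' (⟨_, (Q X M π (N + 1)).isSheaf⟩ : TopCat.Sheaf Ab X.left) U ⊤
    (fun a => homOfLE le_top) hcov.ge (fun a => (q X M π (N + 1)).app (U a) (s a)) (fun a b => by
      refine TopCat.Presheaf.section_ext ⟨_, (Q X M π (N + 1)).isSheaf⟩ _ _ _ fun x hx => ?_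
      obtain ⟨W, hW, hxW, hle⟩ := exists_isAffineOpen_mem_and_subset (U := U a ⊓ U b) hx
      have ha : W ≤ U a := fun z hz => (hle hz).1
      have hb : W ≤ U b := fun z hz => (hle hz).2
      erw [TopCat.Presheaf.germ_res_apply, TopCat.Presheaf.germ_res_apply,
        ← Modules.StalkModule.stalkMapₗ_germ, ← Modules.StalkModule.stalkMapₗ_germ]
      rw [← sub_eq_zero, ← map_sub, q_stalk_eq_zero X hπ hM]
      obtain ⟨r, hr⟩ := exists_coord ((he a).res ha) (rs M hb (e b))
      let d : Γ(X.left, W) := rf ha (B a) - rf hb (B b) * r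
      have hd : k.app W d = 0 := by
        have h1 := congrArg (rs _ (k.preimage_mono ha)) (hB a)
        have h2 := congrArg (rs _ (k.preimage_mono hb)) (hB b)
        rw [rs_rs, rs_smul, unitSec_rs (h := ha)] at h1
        rw [rs_rs, rs_smul, unitSec_rs (h := hb), hr, unitSec_smul, smul_smul] at h2
        have h3 := ((isGen_unitSec k ((he a).res ha)) _ le_rfl).1
          (by simp only [rs_self]; exact h1.symm.trans h2)
        have hna : ∀ c (hc : W ≤ U c), k.app W (rf hc (B c)) = rf (k.preimage_mono hc) (k.app (U c) (B c)) :=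
          fun c hc => ConcreteCategory.congr_hom (k.naturality (homOfLE hc).op) (B c)
        rw [map_sub, map_mul, hna, hna, h3, sub_self]
      have hmem : X.left.presheaf.germ W x hxW d ∈ stalkIdeal I x := by
        rw [stalkIdeal_eq I ⟨W, hW⟩ hxW]
        refine _root_.Ideal.mem_map_of_mem _ ?_
        rw [← I.ker_subschemeι_app ⟨W, hW⟩]
        exact hd
      rw [LiftH0.stalk_powI X hπ] at hmem
      obtain ⟨c, hc⟩ := _root_.Ideal.mem_span_singleton'.mp hmem
      refine ⟨c • M.presheaf.germ W x hxW (rs M ha (e a)), ?_⟩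
      rw [smul_smul, mul_comm, hc, ← Modules.StalkModule.germ_smul,
        show d • rs M ha (e a) = rs M ha (s a) - rs M hb (s b) by
          rw [sub_smul, mul_smul, ← hr, rs_smul, rs_smul], map_sub]
      exact congrArg₂ (· - ·) (TopCat.Presheaf.germ_res_apply _ _ _ _ _) (TopCat.Presheaf.germ_res_apply _ _ _ _ _))
  obtain ⟨b, hb⟩ := hN t
  have hc : ∀ a, ∃ β : Γ(X.left, U a), rs M le_top b = β • e a := fun a => exists_coord (he a) _
  choose β hβ using hc
  have hspecial : ∀ a (x : X.left) (hx : x ∈ U a), x ∈ Models.specialFibreSet R X → x ∈ X.left.basicOpen (β a) := by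
    intro a x hx hxs
    obtain ⟨m, hm⟩ := hb x (M.presheaf.germ (U a) x hx (s a)) (by
      rw [Modules.StalkModule.stalkMapₗ_germ]
      refine Eq.trans ?_ (TopCat.Presheaf.germ_res_apply (Q X M π (N + 1)).presheaf
        (homOfLE le_top : U a ⟶ ⊤) x hx t)
      exact congrArg _ (ht a).symm)
    obtain ⟨r, rfl⟩ := germ_smul_surjective (he a) x hx m
    have hm' : X.left.presheaf.germ (U a) x hx (β a) = X.left.presheaf.germ (U a) x hx (B a) +
        Stalk.baseHom X.hom x π * r := by
      refine germ_smul_injective (he a) x hx ?_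
      simp only at hm ⊢
      rw [add_smul, mul_smul, ← Modules.StalkModule.germ_smul, ← Modules.StalkModule.germ_smul, ← hm, ← hβ]
      exact TopCat.Presheaf.germ_res_apply _ _ _ _ _
    have hπx : ¬ IsUnit (Stalk.baseHom X.hom x π) := fun h => by
      have h1 : X.hom x = Spec.map (CommRingCat.ofHom (Stalk.baseHom X.hom x))
          (IsLocalRing.closedPoint (X.left.presheaf.stalk x)) := by
        rw [← Stalk.fromSpecStalk_comp]
        exact (congrArg (fun y => X.hom y) Scheme.fromSpecStalk_closedPoint).symm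
      have h2 : π ∈ (X.hom x).asIdeal := by
        rw [show X.hom x = IsLocalRing.closedPoint R from hxs]
        show π ∈ maximalIdeal R
        rw [hπ.maximalIdeal_eq]
        exact _root_.Ideal.mem_span_singleton_self π
      rw [h1] at h2
      exact (IsLocalRing.mem_maximalIdeal _).mp h2 h
    have hxI : x ∈ (I.support : Set X.left) := by
      by_contra h
      have h1 := (StalkIdeal.stalkIdeal_eq_top_iff I x).mpr h
      rw [LiftH0.stalk_powI X hπ, _root_.Ideal.span_singleton_eq_top, isUnit_pow_succ_iff] at h1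
      exact hπx h1
    rw [← I.range_subschemeι] at hxI
    obtain ⟨z, rfl⟩ := hxI
    have hBu : k z ∈ X.left.basicOpen (B a) := by
      have h1 : IsUnit (k.app (U a) (B a)) :=
        isUnit_of_isGen_smul (isGen_unitSec k (he a)) (hB a ▸ hε.res le_top)
      have h2 : z ∈ k ⁻¹ᵁ X.left.basicOpen (B a) := by
        rw [Scheme.preimage_basicOpen, Scheme.basicOpen_of_isUnit _ h1]; exact hx
      exact h2
    rw [Scheme.mem_basicOpen _ _ _ hx] at hBu ⊢
    rw [hm']
    by_contra h
    exact (IsLocalRing.mem_maximalIdeal _).mp (show X.left.presheaf.germ (U a) _ hx (B a) ∈ maximalIdeal _ from by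
      have h1 := Submodule.sub_mem _ ((IsLocalRing.mem_maximalIdeal _).mpr h)
        (_root_.Ideal.mul_mem_right r _ ((IsLocalRing.mem_maximalIdeal _).mpr hπx))
      rwa [add_sub_cancel_right] at h1) hBu
  let G : X.left.Opens := ⨆ a, X.left.basicOpen (β a)
  have hG : G = ⊤ := eq_top_of_specialFibre X G fun x hx =>
    Opens.mem_iSup.2 ⟨x, hspecial x x (hxU x) hx⟩
  have hunit : ∀ a, IsUnit (β a) := by
    intro a
    refine RingedSpace.isUnit_of_isUnit_germ X.left.toLocallyRingedSpace.toRingedSpace (U a) _ fun x hx => ?_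
    obtain ⟨c, hxc⟩ := Opens.mem_iSup.1 (show x ∈ G by rw [hG]; trivial)
    let W := U a ⊓ U c
    have hxW : x ∈ W := ⟨hx, X.left.basicOpen_le _ hxc⟩
    obtain ⟨r, hr⟩ := exists_coord ((he a).res (inf_le_left : W ≤ U a)) (rs M (inf_le_right : W ≤ U c) (e c))
    have hru : IsUnit r := isUnit_of_isGen_smul ((he a).res (inf_le_left : W ≤ U a)) (hr ▸ (he c).res _)
    have h1 := congrArg (rs M (inf_le_left : W ≤ U a)) (hβ a)
    have h2 := congrArg (rs M (inf_le_right : W ≤ U c)) (hβ c)
    rw [rs_rs, rs_smul] at h1 h2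
    rw [hr, smul_smul] at h2
    have h3 := (((he a).res (inf_le_left : W ≤ U a)) _ le_rfl).1
      (by simp only [rs_self]; exact h1.symm.trans h2)
    have hcu : IsUnit (X.left.presheaf.germ W x hxW (rf inf_le_left (β a))) := by
      rw [h3, map_mul]
      refine IsUnit.mul ?_ (hru.map _)
      rw [rf, TopCat.Presheaf.germ_res_apply]
      exact (Scheme.mem_basicOpen _ _ _ _).mp hxc
    rw [rf, TopCat.Presheaf.germ_res_apply] at hcu
    exact hcu
  obtain ⟨φ, -⟩ := HomGlue.exists_iso_of_gen hcov (fun a => rs M le_top b)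
    (fun a => by rw [hβ a]; exact IsGen_smul_isUnit (he a) (hunit a)) (fun a => one X.left (U a))
    (fun a => isGen_one _) fun a c W ha hc x hx => by
      rw [rs_rs, rs_rs] at hx
      have hgen : IsGen M W (rs M le_top b) := by
        have h := (IsGen_smul_isUnit (he a) (hunit a)).res ha
        rwa [← hβ a, rs_rs] at h
      have hx1 : x = 1 := (hgen W le_rfl).1
        (by simp only [rs_self]; rw [one_smul]; exact hx.symm)
      subst hx1
      rw [one_smul]
      exact (map_one (X.left.presheaf.map (homOfLE ha).op).hom).trans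
        (map_one (X.left.presheaf.map (homOfLE hc).op).hom).symm
  exact ⟨φ⟩

end

end Groth.Agent.Lib.ModelFibre.TorsBound
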