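import Groth.Agent.Lib.ModelFibre.RegularExt
import Groth.Agent.Lib.Regular.Quotient
import Groth.Agent.Lib.JacCrit.OverField
import Groth.Agent.Lib.ModelFibre.Stalk
import Groth.Agent.Lib.ModelFibre.Chart
import Groth.Agent.Lib.SchTopo.Basic
import Groth.Agent.H75.RedSub

/-!
# A curve whose ideal is generated by a function near it cannot be contracted birationally
-/

universe u

open CategoryTheory Limits AlgebraicGeometry IsLocalRing TopologicalSpace Groth.Agent.Lib.ModelFibre

namespace Groth.Agent.Lib.ModelFibre.NoContraction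

variable {X E : Scheme.{u}} [AlgebraicGeometry.IsIntegral X] [AlgebraicGeometry.IsIntegral E]

/-- The map from the local ring of `X` at a point of `E` to the function field of `E`. -/
noncomputable def resE (ι : E ⟶ X) (e : E) : X.presheaf.stalk (ι e) →+* E.functionField :=
  (algebraMap (E.presheaf.stalk e) E.functionField).comp (ι.stalkMap e).hom

omit [AlgebraicGeometry.IsIntegral X] in
/-- Values at the generic point agree. -/
theorem resE_eq (ι : E ⟶ X) (e : E) (t : X.presheaf.stalk (ι e)) :
    resE ι e t = (ι.stalkMap (genericPoint E)).hom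
      (X.presheaf.stalkSpecializes ((genericPoint_specializes e).map ι.continuous) t) :=
  (Scheme.Hom.stalkSpecializes_stalkMap_apply ι _ _ (genericPoint_specializes e) t).symm

/-- Compatibility of the maps to the function field with specialisation. -/
theorem algebraMap_specializes {x y : X} (h : y ⤳ x) (t : X.presheaf.stalk x) :
    algebraMap (X.presheaf.stalk y) X.functionField (X.presheaf.stalkSpecializes h t) =
      algebraMap (X.presheaf.stalk x) X.functionField t := by
  show X.presheaf.stalkSpecializes (genericPoint_specializes y) (X.presheaf.stalkSpecializes h t) =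
    X.presheaf.stalkSpecializes (genericPoint_specializes x) t
  rw [← ConcreteCategory.comp_apply, TopCat.Presheaf.stalkSpecializes_comp]

/-- If the ideal of an integral closed subscheme `E`, proper over a field, is generated near `E` by one
rational function `ϖ`, and every rational function on `X` is a quotient of functions regular along `E`,
then the function field of `E` is integral over the base. -/
theorem isIntegral_residue [IsLocallyNoetherian X] (ι : E ⟶ X) [IsClosedImmersion ι]
    {R : Type u} [CommRing R] (h : E ⟶ Spec (CommRingCat.of R)) [UniversallyClosed h]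
    (hmax : (RingHom.ker (Stalk.baseHom h (genericPoint E))).IsMaximal)
    (ϖ : X.functionField) (hϖ0 : ϖ ≠ 0)
    (hϖ : ∀ e : E, ∃ t, algebraMap (X.presheaf.stalk (ι e)) X.functionField t = ϖ ∧
      RingHom.ker (resE ι e) = Ideal.span {t})
    (hfrac : ∀ z : X.functionField, ∃ a b : X.functionField,
      (∀ e : E, a ∈ (algebraMap (X.presheaf.stalk (ι e)) X.functionField).range) ∧
      (∀ e : E, b ∈ (algebraMap (X.presheaf.stalk (ι e)) X.functionField).range) ∧ b ≠ 0 ∧ z * b = a) :
    (Stalk.baseHom h (genericPoint E)).IsIntegral := by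
  set η := genericPoint E
  let O := X.presheaf.stalk (ι η)
  let A : Subring X.functionField := ⨅ e : E, (algebraMap (X.presheaf.stalk (ι e)) X.functionField).range
  have hA : ∀ a : X.functionField, a ∈ A ↔ ∀ e : E, a ∈ (algebraMap (X.presheaf.stalk (ι e)) X.functionField).range := fun a =>
    Subring.mem_iInf
  have hinj : ∀ x : X, Function.Injective (algebraMap (X.presheaf.stalk x) X.functionField) := fun x =>
    IsFractionRing.injective _ _
  let gη : Γ(E, ⊤) →+* E.functionField := (E.presheaf.germ ⊤ η trivial).hom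
  have hgη : Function.Injective gη := germ_injective_of_isIntegral E _ _
  have : Nonempty (⊤ : E.Opens).toScheme := ⟨⟨η, trivial⟩⟩
  have hdom : IsDomain Γ(E, ⊤) := hgη.isDomain gη
  let ρ : R →+* Γ(E, ⊤) := RegularExt.glob h
  have hρint : ρ.IsIntegral := RegularExt.isIntegral_toGlobal (f := h)
  have hfield : IsField Γ(E, ⊤) := by
    have hbot : (⊥ : Ideal Γ(E, ⊤)).IsMaximal := by
      refine Ideal.isMaximal_of_isIntegral_of_isMaximal_comap' ρ hρint ⊥ ?_
      have : (⊥ : Ideal Γ(E, ⊤)).comap ρ = RingHom.ker (Stalk.baseHom h η) := by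
        ext r
        rw [Ideal.mem_comap, Ideal.mem_bot, RingHom.mem_ker]
        exact (map_eq_zero_iff _ hgη).symm
      rw [this]
      exact hmax
    by_contra hnf
    exact Ring.ne_bot_of_isMaximal_of_not_isField hbot hnf rfl
  have hint : ∀ a ∈ A, ∀ t : O, algebraMap O X.functionField t = a → ∃ s : Γ(E, ⊤), gη s = resE ι η t := by
    intro a ha t ht
    refine RegularExt.exists_global _ fun e => ?_
    obtain ⟨te, hte⟩ := (hA a).1 ha e
    refine ⟨(ι.stalkMap e).hom te, ?_⟩
    show resE ι e te = _
    rw [resE_eq, resE_eq]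
    refine congrArg _ (hinj (ι η) ?_)
    rw [algebraMap_specializes, algebraMap_specializes, hte, ht]
  have hunit : ∀ a ∈ A, ∀ t : O, algebraMap O X.functionField t = a → resE ι η t ≠ 0 → a⁻¹ ∈ A := by
    intro a ha t ht h0
    obtain ⟨s, hs⟩ := hint a ha t ht
    have hs0 : s ≠ 0 := fun h' => h0 (by rw [← hs, h', map_zero])
    obtain ⟨s', hs'⟩ := hfield.mul_inv_cancel hs0
    refine (hA _).2 fun e => ?_
    obtain ⟨te, hte⟩ := (hA a).1 ha e
    have hte' : (ι.stalkMap e).hom te = E.presheaf.germ ⊤ e trivial s := by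
      apply IsFractionRing.injective (E.presheaf.stalk e) E.functionField
      rw [RegularExt.algebraMap_germ e (U := ⊤) trivial s]
      show resE ι e te = gη s
      rw [hs, resE_eq, resE_eq]
      refine congrArg _ (hinj (ι η) ?_)
      rw [algebraMap_specializes, algebraMap_specializes, hte, ht]
    have hu : IsUnit te := by
      refine (isUnit_map_iff (ι.stalkMap e).hom te).1 ?_
      rw [hte']
      exact IsUnit.of_mul_eq_one _ (by rw [← map_mul, hs', map_one])
    obtain ⟨u, rfl⟩ := hu
    refine ⟨↑u⁻¹, ?_⟩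
    rw [← hte]
    exact (map_units_inv _ u)
  obtain ⟨tξ, htξ, hkerξ⟩ := hϖ η
  have hres0 : resE ι η tξ = 0 := RingHom.mem_ker.1 (hkerξ.ge (Ideal.mem_span_singleton_self _))
  have hstep : ∀ a ∈ A, ∀ t : O, algebraMap O X.functionField t = a → resE ι η t = 0 → a / ϖ ∈ A := by
    intro a ha t ht h0
    refine (hA _).2 fun e => ?_
    obtain ⟨te, hte⟩ := (hA a).1 ha e
    obtain ⟨se, hse, hker⟩ := hϖ e
    have : te ∈ Ideal.span {se} := by
      rw [← hker, RingHom.mem_ker, resE_eq]
      rw [resE_eq] at h0
      refine Eq.trans (congrArg _ (hinj (ι η) ?_)) h0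
      rw [algebraMap_specializes, algebraMap_specializes, hte, ht]
    obtain ⟨c, hc⟩ := Ideal.mem_span_singleton'.1 this
    refine ⟨c, ?_⟩
    rw [eq_div_iff hϖ0, ← hse, ← map_mul, hc, hte]
  have htne : ¬ IsUnit tξ := fun hu => (hu.map (resE ι η)).ne_zero hres0
  have key : ∀ a ∈ A, a ≠ 0 → ∃ (n : ℕ) (u : X.functionField), u ∈ A ∧ u⁻¹ ∈ A ∧ a = ϖ ^ n * u := by
    intro a ha ha0
    obtain ⟨t, ht⟩ := (hA a).1 ha η
    have ht0 : t ≠ 0 := fun h' => ha0 (by rw [← ht, h', map_zero])
    obtain ⟨N, hN⟩ := FiniteMultiplicity.of_not_isUnit htne ht0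
    clear ha0 ht0
    induction N generalizing a t with
    | zero =>
      refine ⟨0, a, ha, hunit a ha t ht fun h0 => hN ?_, by rw [pow_zero, one_mul]⟩
      rw [zero_add, pow_one]
      exact Ideal.mem_span_singleton.1 (hkerξ ▸ RingHom.mem_ker.2 h0)
    | succ N ih =>
      by_cases h0 : resE ι η t = 0
      · obtain ⟨c, rfl⟩ := Ideal.mem_span_singleton.1 (hkerξ ▸ RingHom.mem_ker.2 h0)
        have hc : algebraMap O X.functionField c = a / ϖ := by
          rw [eq_div_iff hϖ0, ← htξ, ← map_mul, mul_comm, ht]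
        obtain ⟨n, u, hu, hu', he⟩ := ih (a / ϖ) (hstep a ha _ ht h0) c hc fun hd =>
          hN (by rw [pow_succ']; exact mul_dvd_mul_left _ hd)
        exact ⟨n + 1, u, hu, hu', by rw [pow_succ', mul_assoc, ← he, mul_div_cancel₀ _ hϖ0]⟩
      · exact ⟨0, a, ha, hunit a ha t ht h0, by rw [pow_zero, one_mul]⟩
  intro w
  obtain ⟨z, rfl⟩ := ι.stalkMap_surjective η w
  obtain ⟨a, b, ha, hb, hb0, hab⟩ := hfrac (algebraMap O X.functionField z)
  by_cases hz0 : z = 0
  · rw [hz0, map_zero]
    exact RingHom.isIntegralElem_zero _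
  have ha0 : a ≠ 0 := fun h' => hz0 (hinj _ (by
    rw [h'] at hab
    rw [map_zero]
    exact (mul_eq_zero.1 hab).resolve_right hb0))
  obtain ⟨m, u, hu, hu', rfl⟩ := key a ((hA a).2 ha) ha0
  obtain ⟨n, v, hv, hv', rfl⟩ := key b ((hA b).2 hb) hb0
  have hv0 : v ≠ 0 := fun h' => hb0 (by rw [h', mul_zero])
  by_cases hmn : n ≤ m
  · obtain ⟨d, rfl⟩ := Nat.exists_eq_add_of_le hmn
    have hzA : algebraMap O X.functionField z ∈ A := by
      have : algebraMap O X.functionField z = ϖ ^ d * u * v⁻¹ := by
        apply mul_right_cancel₀ hb0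
        rw [hab, pow_add]
        field_simp
      rw [this]
      refine A.mul_mem (A.mul_mem (A.pow_mem ?_ _) hu) hv'
      exact (hA ϖ).2 fun e => (hϖ e).imp fun _ ht => ht.1
    obtain ⟨s, hs⟩ := hint _ hzA z rfl
    have : resE ι η z = (ι.stalkMap η).hom z := by
      rw [resE_eq, TopCat.Presheaf.stalkSpecializes_refl]
      rfl
    rw [← this, ← hs]
    exact (hρint s).map gη
  · exfalso
    obtain ⟨d, rfl⟩ := Nat.exists_eq_add_of_lt (Nat.lt_of_not_le hmn)
    obtain ⟨tv, htv⟩ := (hA _).1 hv η
    obtain ⟨tu, htu⟩ := (hA _).1 hu η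
    obtain ⟨tu', htu'⟩ := (hA _).1 hu' η
    have hu0 : u ≠ 0 := fun h' => ha0 (by rw [h', mul_zero])
    have h1 : tξ ^ (d + 1) * (z * tv) = tu := by
      apply hinj (ι η)
      rw [map_mul, map_pow, map_mul, htξ, htv, htu]
      apply mul_left_cancel₀ (pow_ne_zero m hϖ0)
      rw [← hab]
      ring
    have h2 : tu * tu' = 1 := hinj (ι η) (by rw [map_mul, htu, htu', mul_inv_cancel₀ hu0, map_one])
    exact htne (isUnit_of_dvd_one ⟨tξ ^ d * (z * tv) * tu', by rw [← h2, ← h1]; ring⟩)

omit [AlgebraicGeometry.IsIntegral X] in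
/-- An integral scheme whose function field is integral over a base ring through a maximal ideal is a
point. -/
theorem subsingleton_of_isIntegral {R : Type u} [CommRing R] (h : E ⟶ Spec (CommRingCat.of R))
    (hmax : (RingHom.ker (Stalk.baseHom h (genericPoint E))).IsMaximal)
    (hint : (Stalk.baseHom h (genericPoint E)).IsIntegral) (e : E) : e = genericPoint E := by
  obtain ⟨U, hU, heU, -⟩ := exists_isAffineOpen_mem_and_subset (show e ∈ (⊤ : E.Opens) from trivial)
  have hη : genericPoint E ∈ U := (genericPoint_specializes e).mem_open U.2 heU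
  have : Nonempty U.toScheme := ⟨⟨e, heU⟩⟩
  have : IsDomain Γ(E, U) := IsIntegral.component_integral U
  let g : Γ(E, U) →+* E.functionField := (E.presheaf.germ U _ hη).hom
  have hg : Function.Injective g := germ_injective_of_isIntegral E _ _
  let ρ : R →+* Γ(E, U) := (E.presheaf.map (homOfLE (le_top : U ≤ ⊤)).op).hom.comp (RegularExt.glob h)
  have hgρ : g.comp ρ = Stalk.baseHom h (genericPoint E) := by
    ext r
    exact TopCat.Presheaf.germ_res_apply E.presheaf (homOfLE (le_top : U ≤ ⊤)) _ hη (RegularExt.glob h r)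
  have hρ : ρ.IsIntegral := fun b => by
    obtain ⟨P, hP, hPb⟩ := hint (g b)
    refine ⟨P, hP, hg ?_⟩
    rw [map_zero, ← hPb, Polynomial.hom_eval₂, hgρ]
  have hbot : (⊥ : Ideal Γ(E, U)).IsMaximal := by
    refine Ideal.isMaximal_of_isIntegral_of_isMaximal_comap' ρ hρ ⊥ ?_
    have : (⊥ : Ideal Γ(E, U)).comap ρ = RingHom.ker (Stalk.baseHom h (genericPoint E)) := by
      ext r
      rw [Ideal.mem_comap, Ideal.mem_bot, RingHom.mem_ker, ← hgρ]
      exact (map_eq_zero_iff _ hg).symm
    rw [this]
    exact hmax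
  have hsub : ∀ q : PrimeSpectrum Γ(E, U), q.asIdeal = ⊥ := fun q =>
    (hbot.eq_of_le q.2.ne_top bot_le).symm
  have h1 : hU.primeIdealOf ⟨e, heU⟩ = hU.primeIdealOf ⟨genericPoint E, hη⟩ :=
    PrimeSpectrum.ext ((hsub _).trans (hsub _).symm)
  have h2 := congrArg hU.fromSpec h1
  rwa [hU.fromSpec_primeIdealOf, hU.fromSpec_primeIdealOf] at h2

omit [AlgebraicGeometry.IsIntegral X] [AlgebraicGeometry.IsIntegral E] in
/-- Specialisation inverts exactly the complement of the prime of the generisation. -/
theorem isUnit_stalkSpecializes_iff {x y : X} (h : y ⤳ x) (q : PrimeSpectrum (X.presheaf.stalk x))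
    (hq : X.fromSpecStalk x q = y) (t : X.presheaf.stalk x) :
    IsUnit (X.presheaf.stalkSpecializes h t) ↔ t ∉ q.asIdeal := by
  have h1 : Spec.map (X.presheaf.stalkSpecializes h) (closedPoint (X.presheaf.stalk y)) = q := by
    refine (X.fromSpecStalk x).isEmbedding.injective ?_
    show (Spec.map (X.presheaf.stalkSpecializes h) ≫ X.fromSpecStalk x) (closedPoint (X.presheaf.stalk y)) = _
    rw [hq, Scheme.SpecMap_stalkSpecializes_fromSpecStalk, Scheme.fromSpecStalk_closedPoint]
  rw [← h1]
  show _ ↔ X.presheaf.stalkSpecializes h t ∉ maximalIdeal _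
  rw [mem_maximalIdeal, mem_nonunits_iff, not_not]

omit [AlgebraicGeometry.IsIntegral E] in
/-- A rational function is a quotient of elements of any local ring. -/
theorem exists_frac {Y : Scheme.{u}} [AlgebraicGeometry.IsIntegral Y] {η y : Y} (hy : η ⤳ y)
    (hη : η = genericPoint Y) (z : Y.presheaf.stalk η) :
    ∃ a b : Y.presheaf.stalk y, Y.presheaf.stalkSpecializes hy b ≠ 0 ∧
      z * Y.presheaf.stalkSpecializes hy b = Y.presheaf.stalkSpecializes hy a := by
  subst hη
  obtain ⟨⟨a, b⟩, hab⟩ := IsLocalization.surj (nonZeroDivisors (Y.presheaf.stalk y)) (z : Y.functionField)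
  exact ⟨a, b, IsFractionRing.to_map_ne_zero_of_mem_nonZeroDivisors (K := Y.functionField) b.2, hab⟩

section Dedekind

variable {R : Type u} [CommRing R] [IsDedekindDomain R]

omit [AlgebraicGeometry.IsIntegral X] in
/-- A uniformizer of the base generates a prime in the local rings of a smooth closed fibre. -/
theorem exists_prime_baseHom (p : X ⟶ Spec (CommRingCat.of R)) [Smooth p] (s : PrimeSpectrum R)
    [s.asIdeal.IsMaximal] (hs : s.asIdeal ≠ ⊥) :
    ∃ π : R, π ∈ s.asIdeal ∧ π ≠ 0 ∧ ∀ y : X, p y = s → (Ideal.span {Stalk.baseHom p y π}).IsPrime := by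
  classical
  obtain ⟨π, hπs, hπ2⟩ : ∃ π ∈ s.asIdeal, π ∉ s.asIdeal ^ 2 :=
    SetLike.exists_of_lt (Ideal.pow_succ_lt_pow hs 1 |>.trans_eq (pow_one _))
  have hπ0 : π ≠ 0 := fun h => hπ2 (h ▸ Ideal.zero_mem _)
  refine ⟨π, hπs, hπ0, fun y hy => ?_⟩
  obtain ⟨J, hJ⟩ : s.asIdeal ∣ Ideal.span {π} :=
    Ideal.dvd_iff_le.2 ((Ideal.span_singleton_le_iff_mem _).2 hπs)
  obtain ⟨c, hcJ, hcs⟩ : ∃ c ∈ J, c ∉ s.asIdeal := Set.not_subset.1 fun hJs => hπ2 <| by
    have h1 : Ideal.span {π} ≤ s.asIdeal ^ 2 := by
      rw [hJ, pow_two]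
      exact Ideal.mul_mono_right hJs
    exact h1 (Ideal.mem_span_singleton_self π)
  set φ := Ideal.Quotient.mk s.asIdeal
  let _ : Field (R ⧸ s.asIdeal) := Ideal.Quotient.field _
  set Sk := Spec.map (CommRingCat.ofHom φ)
  obtain ⟨a, ha⟩ : y ∈ Set.range (pullback.fst p Sk) := by
    rw [Scheme.Pullback.range_fst]
    show p y ∈ Set.range (PrimeSpectrum.comap φ)
    rw [range_comap_of_surjective _ _ Ideal.Quotient.mk_surjective, Ideal.mk_ker, hy]
    exact PrimeSpectrum.mem_zeroLocus _ _ |>.2 le_rfl
  have : Smooth (pullback.snd p Sk) := inferInstance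
  have hreg : IsRegularLocalRing ((pullback p Sk).presheaf.stalk a) := by
    refine Groth.Agent.Lib.JacCrit.OverField.isRegularLocalRing_stalk (pullback.snd p Sk) a ?_
    rw [Scheme.Hom.smoothLocus_eq_top]
    trivial
  have := Groth.Agent.Lib.Regular.Quotient.isDomain ((pullback p Sk).presheaf.stalk a)
  subst ha
  set y := pullback.fst p Sk a
  have e := Stalk.quotientEquiv φ Ideal.Quotient.mk_surjective (IsPullback.of_hasPullback p Sk) a
  have : IsDomain (X.presheaf.stalk y ⧸ (RingHom.ker φ).map (Stalk.baseHom p y)) :=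
    e.injective.isDomain e.toRingHom
  have hprime := (Ideal.Quotient.isDomain_iff_prime _).1 this
  have heq : (RingHom.ker φ).map (Stalk.baseHom p y) = Ideal.span {Stalk.baseHom p y π} := by
    rw [Ideal.mk_ker]
    refine le_antisymm (Ideal.map_le_iff_le_comap.2 fun j hj => ?_) ?_
    · have hu : IsUnit (Stalk.baseHom p y c) := by
        rw [RegularExt.isUnit_baseHom_iff, RegularExt.basicOpen_toGlobal]
        show c ∉ (p y).asIdeal
        rw [hy]
        exact hcs
      obtain ⟨d, hd⟩ := Ideal.mem_span_singleton'.1 (hJ.ge (Ideal.mul_mem_mul hj hcJ))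
      rw [Ideal.mem_comap]
      refine (Ideal.mul_unit_mem_iff_mem _ hu).1 ?_
      rw [← map_mul, ← hd, map_mul]
      exact Ideal.mul_mem_left _ _ (Ideal.mem_span_singleton_self _)
    · exact (Ideal.span_singleton_le_iff_mem _).2 (Ideal.mem_map_of_mem _ hπs)
  rwa [heq] at hprime

/-- On a two-dimensional smooth scheme over a Dedekind domain no curve of a closed fibre is contracted by
a birational morphism. -/
theorem eq_of_specializes (p : X ⟶ Spec (CommRingCat.of R)) [Smooth p] [IsProper p] [IsLocallyNoetherian X]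
    (hdim : topologicalKrullDim X ≤ 2) {Y : Scheme.{u}} [AlgebraicGeometry.IsIntegral Y] (g : X ⟶ Y)
    (hbir : IsIso (g.stalkMap (genericPoint X))) (hgen : g (genericPoint X) = genericPoint Y)
    (hclosed : ∀ x : X, IsClosed ({x} : Set X) → IsClosed ({g x} : Set Y))
    (hgenfib : ∀ a b : X, a ⤳ b → g a = g b → (p a).asIdeal = ⊥ → a = b)
    {ξ e₀ : X} (hsp : ξ ⤳ e₀) (hg : g ξ = g e₀) : ξ = e₀ := by
  by_contra hne
  set s := p ξ with hs
  have hs0 : s.asIdeal ≠ ⊥ := fun h => hne (hgenfib ξ e₀ hsp hg h)
  have : s.asIdeal.IsMaximal := s.2.isMaximal hs0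
  obtain ⟨π, hπs, hπ0, hπ⟩ := exists_prime_baseHom p s hs0
  have hsclosed : IsClosed ({s} : Set (PrimeSpectrum R)) :=
    (PrimeSpectrum.isClosed_singleton_iff_isMaximal s).2 inferInstance
  have hps : ∀ z, ξ ⤳ z → p z = s := fun z hz =>
    (hsclosed.closure_eq ▸ (hz.map p.continuous).mem_closure : p z ∈ ({s} : Set (PrimeSpectrum R)))
  -- no chain of length three
  have hno : ∀ a b c d : X, a ⤳ b → b ⤳ c → c ⤳ d → a ≠ b → b ≠ c → c ≠ d → False := by
    intro a b c d hab hbc hcd nab nbc ncd
    have hlt : ∀ {u v : X}, u ⤳ v → u ≠ v → v < u := fun {u v} huv nuv =>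
      lt_of_le_not_ge huv (fun h => nuv (huv.antisymm h).eq)
    let l : LTSeries X := LTSeries.mk 3 ![d, c, b, a] <| Fin.strictMono_iff_lt_succ.2 fun i => by
      fin_cases i
      · exact hlt hcd ncd
      · exact hlt hbc nbc
      · exact hlt hab nab
    have h3 : ((3 : ℕ) : WithBot ℕ∞) ≤ Order.krullDim X := Order.LTSeries.length_le_krullDim l
    rw [← Groth.Agent.Lib.SchTopo.Basic.topologicalKrullDim_eq_krullDim_scheme] at h3
    exact absurd (h3.trans hdim) (by decide)
  have hgenX : p (genericPoint X) ≠ s := fun h => hs0 <| by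
    by_contra hne'
    have hu : ¬ IsUnit (Stalk.baseHom p (genericPoint X) π) := by
      rw [RegularExt.isUnit_baseHom_iff, RegularExt.basicOpen_toGlobal]
      show ¬ (π ∉ (p (genericPoint X)).asIdeal)
      rw [h, not_not]
      exact hπs
    exact hπ0 <| by
      have h0 : Stalk.baseHom p (genericPoint X) π = 0 := by
        by_contra h1
        exact hu (isUnit_iff_ne_zero.2 h1)
      by_contra hπ'
      exact one_ne_zero (Groth.Agent.Lib.ModelFibre.Chart.isSMulRegular_baseHom p (genericPoint X)
        (IsRegular.of_ne_zero hπ') (a₁ := (1 : X.functionField)) (a₂ := 0) (by simp [h0]))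
  have he₀ : IsClosed ({e₀} : Set X) := by
    refine closure_subset_iff_isClosed.1 fun z hz => ?_
    by_contra hze
    have hz' : e₀ ⤳ z := specializes_iff_mem_closure.2 hz
    exact hno (genericPoint X) ξ e₀ z (genericPoint_specializes ξ) hsp hz'
      (fun h => hgenX (h ▸ rfl)) hne (Ne.symm hze)
  have hyclosed : IsClosed ({g ξ} : Set Y) := hg ▸ hclosed e₀ he₀
  -- the curve
  let I := Scheme.IdealSheafData.vanishingIdeal ⟨closure {ξ}, isClosed_closure⟩
  have hrange : Set.range I.subschemeι = closure {ξ} := by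
    rw [Scheme.IdealSheafData.range_subschemeι]
    exact Scheme.IdealSheafData.coe_support_vanishingIdeal _
  have : AlgebraicGeometry.IsReduced I.subscheme := Groth.Agent.H75.RedSub.isReduced_vanishingIdeal _
  have hirr : IrreducibleSpace I.subscheme := by
    have h0 : IsIrreducible (Set.range I.subschemeι) := hrange ▸ isIrreducible_singleton.closure
    obtain ⟨z₀, hz₀⟩ := hrange.ge (subset_closure (Set.mem_singleton ξ))
    have hclz : closure ({z₀} : Set I.subscheme) = Set.univ := by
      refine Set.eq_univ_of_forall fun z => ?_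
      rw [I.subschemeι.isClosedEmbedding.isInducing.closure_eq_preimage_closure_image,
        Set.image_singleton, hz₀]
      exact hrange.le ⟨z, rfl⟩
    rw [irreducibleSpace_def, Set.top_eq_univ, ← hclz]
    exact isIrreducible_singleton.closure
  have : AlgebraicGeometry.IsIntegral I.subscheme := isIntegral_of_irreducibleSpace_of_isReduced _
  set ι := I.subschemeι
  set η := genericPoint I.subscheme
  have hιη : ι η = ξ := by
    obtain ⟨z, hz⟩ := hrange.ge (subset_closure (Set.mem_singleton ξ))
    refine ((genericPoint_specializes z).map ι.continuous |>.trans (specializes_of_eq hz)).antisymm ?_ |>.eq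
    exact specializes_iff_mem_closure.2 (hrange.le ⟨η, rfl⟩)
  have hξe : ∀ e, ξ ⤳ ι e := fun e => hιη ▸ (genericPoint_specializes e).map ι.continuous
  have hge : ∀ e, g (ι e) = g ξ := fun e =>
    (hyclosed.closure_eq ▸ ((hξe e).map g.continuous).mem_closure : g (ι e) ∈ ({g ξ} : Set Y))
  let h := ι ≫ p
  have hker : RingHom.ker (Stalk.baseHom h η) = s.asIdeal := by
    ext r
    rw [RingHom.mem_ker]
    have hh : h η = s := by
      show p (ι η) = s
      rw [hιη]
    constructor
    · intro h0
      by_contra hr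
      have : IsUnit (Stalk.baseHom h η r) := by
        rw [RegularExt.isUnit_baseHom_iff, RegularExt.basicOpen_toGlobal]
        show r ∉ (h η).asIdeal
        rwa [hh]
      exact this.ne_zero h0
    · intro hr
      by_contra h0
      have h1 : IsUnit (Stalk.baseHom h η r) := isUnit_iff_ne_zero.2 h0
      rw [RegularExt.isUnit_baseHom_iff, RegularExt.basicOpen_toGlobal] at h1
      exact h1 (show r ∈ (h η).asIdeal by rw [hh]; exact hr)
  have hmax : (RingHom.ker (Stalk.baseHom h η)).IsMaximal := hker ▸ inferInstance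
  have hint : (Stalk.baseHom h η).IsIntegral := by
    refine isIntegral_residue ι h hmax (Stalk.baseHom p (genericPoint X) π) ?_ (fun e => ?_) fun z => ?_
    · intro h0
      exact one_ne_zero (Groth.Agent.Lib.ModelFibre.Chart.isSMulRegular_baseHom p (genericPoint X)
        (IsRegular.of_ne_zero hπ0) (a₁ := (1 : X.functionField)) (a₂ := 0) (by simp [h0]))
    · refine ⟨Stalk.baseHom p (ι e) π, RegularExt.algebraMap_baseHom p (ι e) π, ?_⟩
      set x := ι e
      have hxs : p x = s := hps x (hξe e)
      obtain ⟨q, hq⟩ : ι η ∈ Set.range (X.fromSpecStalk x) := by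
        rw [Scheme.range_fromSpecStalk]
        exact (genericPoint_specializes e).map ι.continuous
      have hkerq : RingHom.ker (resE ι e) = q.asIdeal := by
        ext t
        rw [RingHom.mem_ker, resE_eq]
        have h1 := Groth.Agent.Lib.ModelFibre.NoContraction.isUnit_stalkSpecializes_iff
          ((genericPoint_specializes e).map ι.continuous) q hq t
        constructor
        · intro h0
          by_contra ht
          exact ((h1.2 ht).map (ι.stalkMap η).hom).ne_zero h0
        · intro ht
          by_contra h0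
          exact h1.1 (isUnit_of_map_unit (ι.stalkMap η).hom _ (isUnit_iff_ne_zero.2 h0)) ht
      let q0 : PrimeSpectrum (X.presheaf.stalk x) := ⟨_, hπ x hxs⟩
      have hπq : Stalk.baseHom p x π ∈ q.asIdeal := by
        by_contra h0
        have h1 : IsUnit (Stalk.baseHom p (ι η) π) := by
          have hs := (genericPoint_specializes e).map ι.continuous
          have h2 := (Groth.Agent.Lib.ModelFibre.NoContraction.isUnit_stalkSpecializes_iff
            ((genericPoint_specializes e).map ι.continuous) q hq _).2 h0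
          rw [show (X.presheaf.stalkSpecializes hs).hom (Stalk.baseHom p x π) = Stalk.baseHom p (ι η) π from
            congrArg (fun φ : Γ(X, ⊤) ⟶ X.presheaf.stalk (ι η) => φ.hom (RegularExt.glob p π))
              (X.presheaf.germ_stalkSpecializes (U := ⊤) (hy := trivial) hs)] at h2
          exact h2
        rw [RegularExt.isUnit_baseHom_iff, RegularExt.basicOpen_toGlobal] at h1
        apply h1
        show π ∈ (p (ι η)).asIdeal
        rw [hιη]
        exact hπs
      have hle : q0.asIdeal ≤ q.asIdeal := (Ideal.span_singleton_le_iff_mem _).2 hπq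
      set ζ := X.fromSpecStalk x q0
      have hζξ : ζ ⤳ ξ := by
        rw [← hιη, ← hq]
        exact ((PrimeSpectrum.le_iff_specializes q0 q).1 hle).map (X.fromSpecStalk x).continuous
      have hζs : π ∈ (p ζ).asIdeal := by
        show π ∈ ((X.fromSpecStalk x ≫ p) q0).asIdeal
        rw [Stalk.fromSpecStalk_comp]
        exact Ideal.mem_span_singleton_self (Stalk.baseHom p x π)
      have hζeq : ζ = ξ := by
        by_contra hζ
        refine hno (genericPoint X) ζ ξ e₀ (genericPoint_specializes ζ) hζξ hsp (fun h' => ?_) hζ hne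
        have h3 : IsUnit (Stalk.baseHom p (genericPoint X) π) := isUnit_iff_ne_zero.2 fun h0 =>
          one_ne_zero (Groth.Agent.Lib.ModelFibre.Chart.isSMulRegular_baseHom p (genericPoint X)
            (IsRegular.of_ne_zero hπ0) (a₁ := (1 : X.functionField)) (a₂ := 0) (by simp [h0]))
        rw [RegularExt.isUnit_baseHom_iff, RegularExt.basicOpen_toGlobal] at h3
        exact h3 (h' ▸ hζs)
      have : q0 = q := (X.fromSpecStalk x).isEmbedding.injective (hζeq.trans (hιη ▸ hq.symm))
      rw [hkerq, ← this]
    · let y := g ξ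
      obtain ⟨z', rfl⟩ := (ConcreteCategory.bijective_of_isIso (g.stalkMap (genericPoint X))).2 z
      have hy : g (genericPoint X) ⤳ y := (genericPoint_specializes ξ).map g.continuous
      obtain ⟨a, b, hb, hab⟩ : ∃ a b : Y.presheaf.stalk y, Y.presheaf.stalkSpecializes hy b ≠ 0 ∧
          z' * Y.presheaf.stalkSpecializes hy b = Y.presheaf.stalkSpecializes hy a :=
        Groth.Agent.Lib.ModelFibre.NoContraction.exists_frac hy hgen z'
      refine ⟨g.stalkMap _ (Y.presheaf.stalkSpecializes hy a), g.stalkMap _ (Y.presheaf.stalkSpecializes hy b),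
        fun e => ?_, fun e => ?_, fun h0 => hb ((ConcreteCategory.bijective_of_isIso
          (g.stalkMap (genericPoint X))).1 (h0.trans (map_zero _).symm)), by rw [← map_mul, hab]⟩
      all_goals
        have hsp' : g (ι e) ⤳ y := specializes_of_eq (hge e)
        first
        | refine ⟨g.stalkMap (ι e) (Y.presheaf.stalkSpecializes hsp' a), ?_⟩
          show X.presheaf.stalkSpecializes (genericPoint_specializes (ι e)) _ = _
          rw [← Scheme.Hom.stalkSpecializes_stalkMap_apply g _ _ (genericPoint_specializes (ι e))]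
          refine congrArg _ ?_
          rw [← ConcreteCategory.comp_apply, TopCat.Presheaf.stalkSpecializes_comp]
          done
        | refine ⟨g.stalkMap (ι e) (Y.presheaf.stalkSpecializes hsp' b), ?_⟩
          show X.presheaf.stalkSpecializes (genericPoint_specializes (ι e)) _ = _
          rw [← Scheme.Hom.stalkSpecializes_stalkMap_apply g _ _ (genericPoint_specializes (ι e))]
          refine congrArg _ ?_
          rw [← ConcreteCategory.comp_apply, TopCat.Presheaf.stalkSpecializes_comp]
  obtain ⟨z₀, hz₀⟩ := hrange.ge (specializes_iff_mem_closure.1 hsp)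
  exact hne (by rw [← hz₀, subsingleton_of_isIntegral h hmax hint z₀, hιη])

end Dedekind

end Groth.Agent.Lib.ModelFibre.NoContraction
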