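import Groth.Agent.Lib.ModelFibre.Inter
import Groth.Agent.Lib.ModelFibre.NoContraction
import Groth.Agent.Lib.NumType.Form
import Groth.Agent.Lib.RelDiv.Diff
import Groth.Agent.Lib.SurfInt.Stalk
import Groth.Agent.Lib.TensorMod.LocIso
import Groth.Agent.Lib.Ideal.Prime

/-!
# The intersection form on vertical divisors is negative semidefinite
-/

set_option linter.style.haveILetI false

universe u

open CategoryTheory Limits AlgebraicGeometry IsLocalRing TopologicalSpace Groth.Agent.Lib.ModelFibre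
open Groth.Agent.Lib

namespace Groth.Agent.Lib.ModelFibre.InterForm

noncomputable section

variable {R : Type u} [CommRing R] [IsDomain R] [IsDiscreteValuationRing R]
variable {X : Over (Spec (CommRingCat.of R))} (hX : Inter.IsSurf X)

include hX

/-- The exact power of the equation of a component dividing the uniformizer is the multiplicity, which is
positive. -/
theorem multiplicity_spec {π : R} (hπ : Irreducible π) (Γ : ArSurf.VertComp R X) (x : X.left)
    (hx : x ∈ Set.range (Γ.ι.base : Γ.curve.left → X.left)) :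
    ∃ a : X.left.presheaf.stalk x, Prime a ∧
      Ideal.Prime.stalkIdeal Γ.ι.ker x = _root_.Ideal.span {a} ∧
      a ^ Models.mult R X Γ ∣ Stalk.baseHom X.hom x π ∧
      ¬ a ^ (Models.mult R X Γ + 1) ∣ Stalk.baseHom X.hom x π ∧ 0 < Models.mult R X Γ := by
  haveI := hX.flat
  set ξ := Γ.ι (genericPoint Γ.curve.left)
  have hs : ξ ⤳ x := by
    obtain ⟨z, rfl⟩ := hx
    exact (genericPoint_specializes z).map Γ.ι.continuous
  have hprin := (Components.stalk_structure X.hom hX.reg hπ (fun _ : Fin 1 => Γ)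
    fun _ => Inter.range_mem hX Γ).1 0
  obtain ⟨a, ha, haI⟩ := hprin x hx
  obtain ⟨b, hb, hbI⟩ := hprin ξ ⟨_, rfl⟩
  haveI := hX.reg x
  haveI := hX.reg ξ
  haveI := Regular.Quotient.isDomain (X.left.presheaf.stalk x)
  haveI := Regular.Quotient.isDomain (X.left.presheaf.stalk ξ)
  haveI := Regular.UFD.uniqueFactorizationMonoid (X.left.presheaf.stalk x)
  set σ := (X.left.presheaf.stalkSpecializes hs).hom
  have hσg : σ (Stalk.baseHom X.hom x π) = Stalk.baseHom X.hom ξ π :=
    congrArg (fun φ => φ.hom (Coh.toGlobal X.hom π)) (X.left.presheaf.germ_stalkSpecializes (U := ⊤) (hy := trivial) hs)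
  have hσa : Associated (σ a) b := by
    rw [← _root_.Ideal.span_singleton_eq_span_singleton, ← hbI, ← StalkIdeal.map_stalkSpecializes _ hs, haI,
      _root_.Ideal.map_span, Set.image_singleton]
  have hg0 : Stalk.baseHom X.hom x π ≠ 0 := fun h0 => by
    have hreg := Chart.isSMulRegular_baseHom X.hom x (IsRegular.of_ne_zero hπ.ne_zero)
    exact one_ne_zero (hreg (a₁ := (1 : X.left.presheaf.stalk x)) (a₂ := 0) (by
      show Stalk.baseHom X.hom x π • _ = Stalk.baseHom X.hom x π • _
      rw [h0]; simp))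
  obtain ⟨e, c, hac, hc⟩ := WfDvdMonoid.max_power_factor hg0 ha.irreducible
  have hbmax : maximalIdeal (X.left.presheaf.stalk ξ) = _root_.Ideal.span {b} := by
    rw [← hbI]
    exact (StalkIdeal.stalkIdeal_ker Γ.ι ξ specializes_rfl).2 (closedPoint _) Scheme.fromSpecStalk_closedPoint
  -- the cofactor is a unit at the generic point
  have hcu : IsUnit (σ c) := by
    by_contra hcu
    have hmem : σ c ∈ Ideal.Prime.stalkIdeal Γ.ι.ker ξ := by
      rw [hbI, ← hbmax]; exact (mem_maximalIdeal _).2 hcu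
    apply hac
    rw [← _root_.Ideal.mem_span_singleton, ← haI]
    obtain ⟨hP, hPq⟩ := StalkIdeal.stalkIdeal_ker Γ.ι x hs
    obtain ⟨q, hq⟩ : ξ ∈ Set.range (X.left.fromSpecStalk x) := by
      rw [Scheme.range_fromSpecStalk]; exact hs
    rw [← hPq q hq]
    by_contra hcq
    exact hcu ((NoContraction.isUnit_stalkSpecializes_iff hs q hq c).2 hcq)
  have hord1 : Ring.ord (X.left.presheaf.stalk ξ) b = 1 := by
    rw [Ring.ord, Module.length_eq_one_iff, isSimpleModule_iff_isCoatom, ← hbmax]
    exact _root_.Ideal.isMaximal_def.1 inferInstance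
  have hmap : _root_.Ideal.map (Models.stalkHom R X (Models.genPtOf R X Γ)) (maximalIdeal R) =
      _root_.Ideal.span {b ^ e} := by
    rw [hπ.maximalIdeal_eq, _root_.Ideal.map_span, Set.image_singleton]
    show _root_.Ideal.span {Stalk.baseHom X.hom ξ π} = _
    rw [← hσg, hc, map_mul, map_pow, _root_.Ideal.span_singleton_mul_right_unit hcu,
      _root_.Ideal.span_singleton_eq_span_singleton]
    exact hσa.pow_pow
  have hm : Models.mult R X Γ = e := by
    show (Module.length _ _).toNat = e
    rw [hmap]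
    show (Ring.ord (X.left.presheaf.stalk ξ) (b ^ e)).toNat = e
    rw [Ring.ord_pow (mem_nonZeroDivisors_of_ne_zero hb.ne_zero), hord1, nsmul_one, ENat.toNat_natCast]
  refine ⟨a, ha, haI, ?_⟩
  rw [hm]
  refine ⟨⟨c, hc⟩, fun ⟨d, hd⟩ => hac ⟨d, ?_⟩, ?_⟩
  · refine mul_left_cancel₀ (pow_ne_zero e ha.ne_zero) ?_
    rw [← hc, hd]; ring
  · by_contra h0
    obtain rfl : e = 0 := by omega
    have hfib : ξ ∈ Models.specialFibreSet R X := (Inter.range_mem hX Γ).1.2 ⟨_, rfl⟩
    have hu : IsUnit (Stalk.baseHom X.hom ξ π) := by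
      rw [← hσg, hc, pow_zero, one_mul]; exact hcu
    rw [RegularExt.isUnit_baseHom_iff, RegularExt.basicOpen_toGlobal] at hu
    apply hu
    show π ∈ (X.hom ξ).asIdeal
    rw [show X.hom ξ = closedPoint R from hfib]
    exact hπ.maximalIdeal_eq.ge (_root_.Ideal.mem_span_singleton_self π)

theorem mult_pos (Γ : ArSurf.VertComp R X) : 0 < Models.mult R X Γ := by
  obtain ⟨π, hπ⟩ := IsDiscreteValuationRing.exists_irreducible R
  obtain ⟨a, -, -, -, -, h⟩ := multiplicity_spec hX hπ Γ _ ⟨genericPoint Γ.curve.left, rfl⟩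
  exact h

/-- A family of distinct components meets each of its members non-positively. -/
theorem row_nonpos {ι : Type*} [Fintype ι] (Δ : ι → ArSurf.VertComp R X)
    (hinj : Function.Injective fun i => Set.range ((Δ i).ι.base : (Δ i).curve.left → X.left))
    (L : ι → X.left.Modules) (hL : ∀ j, _root_.ClSub.IsInverseOf (L j) (_root_.ClSub.idealMod (Δ j).ι.ker))
    (k : ι) :
    ∑ j, (Models.mult R X (Δ j) : ℤ) * ArSurf.inter R X (L j) (Δ k) ≤ 0 := by
  classical
  haveI := hX.flat
  haveI := hX.isIntegral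
  haveI := hX.isProper
  haveI : IsLocallyNoetherian X.left := LocallyOfFiniteType.isLocallyNoetherian X.hom
  obtain ⟨π, hπ⟩ := IsDiscreteValuationRing.exists_irreducible R
  let P : Finset ι → X.left.IdealSheafData := fun s => ∏ j ∈ s, (Δ j).ι.ker ^ Models.mult R X (Δ j)
  have hP : ∀ s, BlowUp.IsEffCartierIdeal (P s) ∧
      ArSurf.inter R X (_root_.ClSub.idealMod (P s)) (Δ k) =
        ∑ j ∈ s, (Models.mult R X (Δ j) : ℤ) * ArSurf.inter R X (_root_.ClSub.idealMod (Δ j).ι.ker) (Δ k) := by
    intro s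
    induction s using Finset.induction_on with
    | empty =>
      simp only [P, Finset.prod_empty, Finset.sum_empty]
      exact ⟨Ideal.EffCartier.isEffCartier_top, Inter.inter_idealMod_top hX (Δ k)⟩
    | @insert j s hj ih =>
      have hj' := Ideal.EffCartier.isEffCartier_pow (Inter.isEffCartier hX (Δ j)) (Models.mult R X (Δ j))
      simp only [P, Finset.prod_insert hj, Finset.sum_insert hj]
      refine ⟨Ideal.EffCartier.isEffCartier_mul hj' ih.1, ?_⟩
      rw [Inter.inter_idealMod_mul hX (Δ k) hj' ih.1, Inter.inter_idealMod_pow hX (Δ k) (Inter.isEffCartier hX (Δ j)), ih.2]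
  have hPst : ∀ s x, Ideal.Prime.stalkIdeal (P s) x =
      ∏ j ∈ s, Ideal.Prime.stalkIdeal (Δ j).ι.ker x ^ Models.mult R X (Δ j) := fun s x => by
    rw [StalkIdeal.stalkIdeal_prod]
    simp only [StalkIdeal.stalkIdeal_pow]
  set F := Models.specialFibreIdeal R X
  have hFst : ∀ x, Ideal.Prime.stalkIdeal F x = _root_.Ideal.span {Stalk.baseHom X.hom x π} := fun x => by
    refine (StalkIdeal.stalkIdeal_comap_idealSheaf X.hom _ x).trans ?_
    rw [hπ.maximalIdeal_eq, _root_.Ideal.map_span, Set.image_singleton]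
  have hg0 : ∀ x, Stalk.baseHom X.hom x π ∈ nonZeroDivisors (X.left.presheaf.stalk x) := fun x => by
    haveI := hX.reg x
    haveI := Regular.Quotient.isDomain (X.left.presheaf.stalk x)
    refine mem_nonZeroDivisors_of_ne_zero fun h0 => ?_
    have hreg := Chart.isSMulRegular_baseHom X.hom x (IsRegular.of_ne_zero hπ.ne_zero)
    exact one_ne_zero (hreg (a₁ := (1 : X.left.presheaf.stalk x)) (a₂ := 0) (by
      show Stalk.baseHom X.hom x π • _ = Stalk.baseHom X.hom x π • _
      rw [h0]; simp))
  have hF : BlowUp.IsEffCartierIdeal F :=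
    H4.CartierUFD.isEffCartier_of_stalks _ fun x => ⟨_, hg0 x, hFst x⟩
  have hoff : ∀ (i : ι) x, x ∉ Set.range ((Δ i).ι.base : (Δ i).curve.left → X.left) →
      Ideal.Prime.stalkIdeal (Δ i).ι.ker x = ⊤ := fun i x hx => by
    rw [StalkIdeal.stalkIdeal_eq_top_iff]
    have h : (((Δ i).ι.ker.support : Closeds X.left) : Set X.left) = Set.range (Δ i).ι := by
      rw [Scheme.Hom.support_ker]; exact (Δ i).ι.isClosedEmbedding.isClosed_range.closure_eq
    exact fun h' => hx (h ▸ h')
  -- distinct equations are not associated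
  have hne : ∀ i j x, i ≠ j → x ∈ Set.range ((Δ i).ι.base : (Δ i).curve.left → X.left) →
      x ∈ Set.range ((Δ j).ι.base : (Δ j).curve.left → X.left) →
      Ideal.Prime.stalkIdeal (Δ i).ι.ker x ≠ Ideal.Prime.stalkIdeal (Δ j).ι.ker x := by
    intro i j x hij hi hj heq
    apply Inter.genPt_not_mem hX (Δ i) (Δ j) fun h => hij (hinj h)
    obtain ⟨z, rfl⟩ := hi
    have hs : (Δ i).ι (genericPoint (Δ i).curve.left) ⤳ (Δ i).ι z :=
      (genericPoint_specializes z).map (Δ i).ι.continuous
    by_contra h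
    have h1 := congrArg (_root_.Ideal.map (X.left.presheaf.stalkSpecializes hs).hom) heq
    rw [StalkIdeal.map_stalkSpecializes, StalkIdeal.map_stalkSpecializes,
      (StalkIdeal.stalkIdeal_eq_top_iff _ _).2 h] at h1
    exact (StalkIdeal.stalkIdeal_ker (Δ i).ι _ specializes_rfl).1.ne_top h1
  have hdvd : ∀ s x, Stalk.baseHom X.hom x π ∈ Ideal.Prime.stalkIdeal (P s) x := by
    intro s x
    haveI := hX.reg x
    haveI := Regular.Quotient.isDomain (X.left.presheaf.stalk x)
    rw [hPst]
    induction s using Finset.induction_on with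
    | empty => rw [Finset.prod_empty, _root_.Ideal.one_eq_top]; trivial
    | @insert j s hj ih =>
      rw [Finset.prod_insert hj]
      by_cases hxj : x ∈ Set.range ((Δ j).ι.base : (Δ j).curve.left → X.left)
      swap
      · rw [hoff j x hxj, ← _root_.Ideal.one_eq_top, one_pow, one_mul]; exact ih
      obtain ⟨a, ha, haI, hdiv, -, -⟩ := multiplicity_spec hX hπ (Δ j) x hxj
      -- the other factor is principal, with a generator prime to `a`
      obtain ⟨c, hc, hcI⟩ : ∃ c, ¬ a ∣ c ∧
          ∏ i ∈ s, Ideal.Prime.stalkIdeal (Δ i).ι.ker x ^ Models.mult R X (Δ i) = _root_.Ideal.span {c} := by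
        clear ih
        induction s using Finset.induction_on with
        | empty => exact ⟨1, fun h => ha.not_isUnit (isUnit_of_dvd_one h), by
            rw [Finset.prod_empty, _root_.Ideal.span_singleton_one, _root_.Ideal.one_eq_top]⟩
        | @insert i s hi ih =>
          obtain ⟨c, hc, hcI⟩ := ih (fun h => hj (Finset.mem_insert_of_mem h))
          rw [Finset.prod_insert hi, hcI]
          by_cases hxi : x ∈ Set.range ((Δ i).ι.base : (Δ i).curve.left → X.left)
          swap
          · exact ⟨c, hc, by rw [hoff i x hxi, ← _root_.Ideal.one_eq_top, one_pow, one_mul]⟩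
          obtain ⟨b, hb, hbI, -, -, -⟩ := multiplicity_spec hX hπ (Δ i) x hxi
          refine ⟨b ^ Models.mult R X (Δ i) * c, fun h => ?_, by
            rw [hbI, _root_.Ideal.span_singleton_pow, _root_.Ideal.span_singleton_mul_span_singleton]⟩
          rcases ha.dvd_or_dvd h with h | h
          · refine hne j i x (fun e => hj (e ▸ Finset.mem_insert_self i s)) hxj hxi ?_
            rw [haI, hbI, _root_.Ideal.span_singleton_eq_span_singleton]
            exact ha.associated_of_dvd hb (ha.dvd_of_dvd_pow h)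
          · exact hc h
      rw [hcI] at ih ⊢
      rw [haI, _root_.Ideal.span_singleton_pow, _root_.Ideal.span_singleton_mul_span_singleton,
        _root_.Ideal.mem_span_singleton]
      obtain ⟨d, hd⟩ := _root_.Ideal.mem_span_singleton.1 ih
      rw [hd] at hdiv ⊢
      exact (mul_comm c _) ▸ mul_dvd_mul_left c (ha.pow_dvd_of_dvd_mul_left _ hc hdiv)
  have hle : F ≤ P Finset.univ := sup_eq_right.mp (StalkIdeal.ext_of_stalkIdeal fun x => by
    rw [SurfInt.Stalk.stalkIdeal_sup, sup_eq_right, hFst, _root_.Ideal.span_singleton_le_iff_mem]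
    exact hdvd _ x)
  obtain ⟨J, hJ⟩ : ∃ J, P Finset.univ * J = F := ⟨_, RelDiv.Diff.mul_colon (hP _).1 hle⟩
  have hJc := Ideal.EffCartier.isEffCartier_factor_right (hJ ▸ hF)
  set ξ := (Δ k).ι (genericPoint (Δ k).curve.left)
  have hξJ : ξ ∉ (J.support : Set X.left) := by
    rw [SetLike.mem_coe, ← StalkIdeal.stalkIdeal_eq_top_iff]
    haveI := hX.reg ξ
    haveI := Regular.Quotient.isDomain (X.left.presheaf.stalk ξ)
    obtain ⟨a, ha, haI, hdiv, hndiv, -⟩ := multiplicity_spec hX hπ (Δ k) ξ ⟨_, rfl⟩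
    have h1 : Ideal.Prime.stalkIdeal (P Finset.univ) ξ =
        _root_.Ideal.span {a ^ Models.mult R X (Δ k)} := by
      rw [hPst, Finset.prod_eq_single k (fun j _ hj => by
        rw [hoff j ξ (fun h => Inter.genPt_not_mem hX (Δ k) (Δ j) (fun e => hj (hinj e).symm) ?_),
          ← _root_.Ideal.one_eq_top, one_pow]
        rw [Scheme.Hom.support_ker]; exact subset_closure h) (fun h => absurd (Finset.mem_univ k) h),
        haI, _root_.Ideal.span_singleton_pow]
    have h2 : Ideal.Prime.stalkIdeal (P Finset.univ) ξ * Ideal.Prime.stalkIdeal J ξ =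
        _root_.Ideal.span {Stalk.baseHom X.hom ξ π} := by
      rw [← StalkIdeal.stalkIdeal_mul, hJ, hFst]
    by_contra htop
    apply hndiv
    have hamax : maximalIdeal (X.left.presheaf.stalk ξ) = _root_.Ideal.span {a} := by
      rw [← haI]
      exact (StalkIdeal.stalkIdeal_ker (Δ k).ι ξ specializes_rfl).2 (closedPoint _) Scheme.fromSpecStalk_closedPoint
    have h3 := _root_.Ideal.mul_mono (le_of_eq h1) (le_maximalIdeal htop)
    rw [h2, hamax, _root_.Ideal.span_singleton_mul_span_singleton, _root_.Ideal.span_singleton_le_span_singleton,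
      ← pow_succ] at h3
    exact h3
  have h0 : ArSurf.inter R X (_root_.ClSub.idealMod F) (Δ k) = 0 := by
    obtain ⟨e⟩ := SmoothModel.pullback_idealMod_trivial (Δ k).ι F (RegularExt.glob X.hom π)
      (fun z a b hab => Chart.isSMulRegular_baseHom X.hom z (IsRegular.of_ne_zero hπ.ne_zero) hab)
      ⊤ (fun _ => trivial) fun z _ => hFst z
    rw [Inter.inter_eq hX, Curves.Euler.deg_eq_of_iso e 1]
    simp [Curv2.deg]
  rw [← hJ, Inter.inter_idealMod_mul hX (Δ k) (hP _).1 hJc, (hP _).2,
    Inter.inter_idealMod_eq hX (Δ k) hJc hξJ] at h0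
  have h5 : ∀ j, ArSurf.inter R X (L j) (Δ k) = - ArSurf.inter R X (_root_.ClSub.idealMod (Δ j).ι.ker) (Δ k) :=
    fun j => Inter.inter_of_isInverseOf hX (Δ k) (ClSub.Cartier.isInvertible_idealMod (Inter.isEffCartier hX (Δ j))) (hL j)
  simp only [h5, mul_neg, Finset.sum_neg_distrib]
  omega

/-- Two vertical prime divisors with the same support have the same ideal. -/
theorem ker_eq_of_range_eq {Γ Δ : ArSurf.VertComp R X}
    (h : Set.range (Γ.ι.base : Γ.curve.left → X.left) = Set.range Δ.ι.base) : Γ.ι.ker = Δ.ι.ker := by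
  refine StalkIdeal.ext_of_stalkIdeal fun x => ?_
  have hsupp : ∀ Θ : ArSurf.VertComp R X, x ∉ Set.range (Θ.ι.base : Θ.curve.left → X.left) →
      Ideal.Prime.stalkIdeal Θ.ι.ker x = ⊤ := fun Θ hΘ => by
    rw [StalkIdeal.stalkIdeal_eq_top_iff]
    have h : ((Θ.ι.ker.support : Closeds X.left) : Set X.left) = Set.range Θ.ι := by
      rw [Scheme.Hom.support_ker]; exact Θ.ι.isClosedEmbedding.isClosed_range.closure_eq
    exact fun h' => hΘ (h ▸ h')
  by_cases hx : x ∈ Set.range (Γ.ι.base : Γ.curve.left → X.left)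
  swap
  · rw [hsupp Γ hx, hsupp Δ (h ▸ hx)]
  have hξ : Γ.ι (genericPoint Γ.curve.left) = Δ.ι (genericPoint Δ.curve.left) := by
    have h1 : ∀ Θ : ArSurf.VertComp R X,
        IsGenericPoint (Θ.ι (genericPoint Θ.curve.left)) (Set.range Θ.ι.base) := fun Θ => by
      have h0 := (genericPoint_spec Θ.curve.left).image Θ.ι.continuous
      rwa [Set.image_univ, Θ.ι.isClosedEmbedding.isClosed_range.closure_eq] at h0
    exact (h1 Γ).eq (h ▸ h1 Δ)
  obtain ⟨z, rfl⟩ := hx
  have hs : Γ.ι (genericPoint Γ.curve.left) ⤳ Γ.ι z := (genericPoint_specializes z).map Γ.ι.continuous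
  obtain ⟨q, hq⟩ : Γ.ι (genericPoint Γ.curve.left) ∈ Set.range (X.left.fromSpecStalk (Γ.ι z)) := by
    rw [Scheme.range_fromSpecStalk]; exact hs
  exact ((StalkIdeal.stalkIdeal_ker Γ.ι _ hs).2 q hq).symm.trans
    ((StalkIdeal.stalkIdeal_ker Δ.ι _ (hξ ▸ hs)).2 q (hq.trans hξ))

omit hX in
theorem euler_pullback_iso {k : Type u} [Field k] {Z W : Scheme.{u}} [Z.Over (Spec (CommRingCat.of k))]
    [W.Over (Spec (CommRingCat.of k))] (e : Z ⟶ W) [IsIso e]
    (he : e ≫ (W ↘ Spec (CommRingCat.of k)) = Z ↘ Spec (CommRingCat.of k)) {M : W.Modules}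
    (hM : PicF.IsInvertible M) :
    Curv2.euler k Z ((Scheme.Modules.pullback e).obj M) = Curv2.euler k W M := by
  haveI := TensorMod.QCohInv.isQCoh_of_isInvertible (PicLoc.isInvertible_pullback e hM)
  haveI := TensorMod.LocIso.isIso_unit_of_isFinLocFree e (fun U => inferInstance)
    (TensorMod.LocFree.of_rank (TensorMod.LocFree.of_isInvertible hM))
  rw [← SurfInt.Push.euler_push e he]
  exact (Curves.Euler.euler_eq_of_iso
    (asIso ((Scheme.Modules.pullbackPushforwardAdjunction e).unit.app M))).symm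

/-- The intersection number depends on the support only. -/
theorem inter_eq_of_range_eq {Γ Δ : ArSurf.VertComp R X}
    (h : Set.range (Γ.ι.base : Γ.curve.left → X.left) = Set.range Δ.ι.base)
    {L : X.left.Modules} (hL : PicF.IsInvertible L) :
    ArSurf.inter R X L Γ = ArSurf.inter R X L Δ := by
  let e : Γ.curve.left ≅ Δ.curve.left :=
    asIso Γ.ι.toImage ≪≫ eqToIso (congrArg Scheme.IdealSheafData.subscheme (ker_eq_of_range_eq hX h)) ≪≫ (asIso Δ.ι.toImage).symm
  have he : e.hom ≫ Δ.ι = Γ.ι := by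
    have h1 : (asIso Δ.ι.toImage).inv ≫ Δ.ι = Δ.ι.imageι := by
      rw [Iso.inv_comp_eq]; exact Δ.ι.toImage_imageι.symm
    have h2 : ∀ {I J : X.left.IdealSheafData} (hIJ : I = J),
        eqToHom (congrArg Scheme.IdealSheafData.subscheme hIJ) ≫ J.subschemeι = I.subschemeι := by
      rintro I J rfl; simp
    simp only [e, Iso.trans_hom, Iso.symm_hom, eqToIso.hom, Category.assoc, h1, asIso_hom]
    show Γ.ι.toImage ≫ eqToHom _ ≫ Δ.ι.ker.subschemeι = _
    rw [h2 (ker_eq_of_range_eq hX h)]
    exact Γ.ι.toImage_imageι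
  have hk : e.hom ≫ (Δ.curve.left ↘ Spec (CommRingCat.of (ResidueField R))) =
      Γ.curve.left ↘ Spec (CommRingCat.of (ResidueField R)) := by
    haveI : IsClosedImmersion (Spec.map (CommRingCat.ofHom (residue R))) :=
      IsClosedImmersion.spec_of_surjective _ residue_surjective
    show e.hom ≫ Δ.curve.hom = Γ.curve.hom
    rw [← cancel_mono (Spec.map (CommRingCat.ofHom (residue R))), Category.assoc, ← Δ.w, ← Γ.w,
      reassoc_of% he]
  rw [Inter.inter_eq hX, Inter.inter_eq hX]
  simp only [Curv2.deg]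
  have hO := euler_pullback_iso (k := ResidueField R) e.hom hk (PicLoc.isInvertible_structureModule Δ.curve.left)
  rw [Curves.Euler.euler_eq_of_iso (PicLoc.pullbackStructureIso e.hom)] at hO
  rw [← hO, ← euler_pullback_iso (k := ResidueField R) e.hom hk (PicLoc.isInvertible_pullback Δ.ι hL),
    Curves.Euler.euler_eq_of_iso ((Scheme.Modules.pullbackCongr he.symm).app L ≪≫
      ((Scheme.Modules.pullbackComp e.hom Δ.ι).app L).symm)]
  rfl

/-- The intersection form on vertical prime divisors is negative semidefinite. -/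
theorem form_nonpos {r : ℕ} (Γ : Fin r → ArSurf.VertComp R X) (L : Fin r → X.left.Modules)
    (hL : ∀ j, _root_.ClSub.IsInverseOf (L j) (_root_.ClSub.idealMod (Γ j).ι.ker)) (a : Fin r → ℤ) :
    ∑ i, ∑ j, a i * a j * ArSurf.inter R X (L j) (Γ i) ≤ 0 := by
  classical
  let supp : Fin r → Set X.left := fun i => Set.range ((Γ i).ι.base : (Γ i).curve.left → X.left)
  let ι := {S : Set X.left // S ∈ Finset.univ.image supp}
  letI : Fintype ι := inferInstanceAs (Fintype {S : Set X.left // S ∈ Finset.univ.image supp})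
  let cls : Fin r → ι := fun i => ⟨supp i, Finset.mem_image_of_mem supp (Finset.mem_univ i)⟩
  have hcls : Function.Surjective cls := fun ⟨S, hS⟩ => by
    obtain ⟨i, -, rfl⟩ := Finset.mem_image.1 hS
    exact ⟨i, rfl⟩
  obtain ⟨rep, hrep⟩ := hcls.hasRightInverse
  let Δ : ι → ArSurf.VertComp R X := fun c => Γ (rep c)
  have hsupp : ∀ i, supp i = supp (rep (cls i)) := fun i =>
    (congrArg Subtype.val (hrep (cls i))).symm
  have hinj : Function.Injective fun c => Set.range ((Δ c).ι.base : (Δ c).curve.left → X.left) := by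
    intro c d h
    rw [← hrep c, ← hrep d]
    exact Subtype.ext h
  let A : Matrix ι ι ℚ := fun c d => (ArSurf.inter R X (L (rep d)) (Δ c) : ℚ)
  have key : ∀ i j, ArSurf.inter R X (L j) (Γ i) = ArSurf.inter R X (L (rep (cls j))) (Δ (cls i)) := by
    intro i j
    obtain ⟨e⟩ := hL j
    rw [inter_eq_of_range_eq hX (hsupp i) (TensorMod.TensorInv.isInvertible_of_tensor_iso e),
      Inter.inter_of_isInverseOf hX _ (ClSub.Cartier.isInvertible_idealMod (Inter.isEffCartier hX _)) (hL j),
      Inter.inter_of_isInverseOf hX _ (ClSub.Cartier.isInvertible_idealMod (Inter.isEffCartier hX _)) (hL (rep (cls j))),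
      ker_eq_of_range_eq hX (hsupp j)]
  let m : ι → ℚ := fun c => (Models.mult R X (Δ c) : ℚ)
  have hm : ∀ c, 0 < m c := fun c => by
    have := mult_pos hX (Δ c)
    show (0 : ℚ) < ((Models.mult R X (Δ c) : ℕ) : ℚ)
    exact_mod_cast this
  let t : ι → ℚ := fun c => (∑ i ∈ Finset.univ.filter (fun i => cls i = c), (a i : ℚ))
  let y : ι → ℚ := fun c => t c / m c
  have hym : (fun c => y c * m c) = t := funext fun c => div_mul_cancel₀ _ (hm c).ne'
  have hsym : A.IsSymm := by
    refine Matrix.IsSymm.ext fun c d => ?_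
    by_cases h : c = d
    · rw [h]
    · exact congrArg Int.cast (Inter.inter_symm hX (fun e => h (hinj e).symm.symm) (hL (rep c)) (hL (rep d))).symm
  have hoff : ∀ c d, c ≠ d → 0 ≤ A c d := fun c d h => by
    have := (Inter.inter_nonneg hX (Δ c) (Inter.isEffCartier hX (Δ d))
      (Inter.genPt_not_mem hX (Δ c) (Δ d) fun e => h (hinj e)) (hL (rep d))).1
    show (0 : ℚ) ≤ ((ArSurf.inter R X (L (rep d)) (Δ c) : ℤ) : ℚ)
    exact_mod_cast this
  have hle : ∀ c, A.mulVec m c ≤ 0 := fun c => by
    have h1 := row_nonpos hX Δ hinj (fun d => L (rep d)) (fun d => hL (rep d)) c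
    have h2 : A.mulVec m c = ((∑ d, (Models.mult R X (Δ d) : ℤ) * ArSurf.inter R X (L (rep d)) (Δ c) : ℤ) : ℚ) := by
      simp only [Matrix.mulVec, dotProduct, A, m]
      push_cast
      exact Finset.sum_congr rfl fun d _ => mul_comm _ _
    rw [h2]
    exact_mod_cast h1
  have h := (NumType.Form.quadForm_nonpos A hsym hoff m hm hle y).1
  rw [hym] at h
  have hexp : dotProduct t (A.mulVec t) =
      ((∑ i, ∑ j, a i * a j * ArSurf.inter R X (L j) (Γ i) : ℤ) : ℚ) := by
    simp only [Matrix.mulVec, dotProduct, key]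
    push_cast
    simp only [t, Finset.sum_mul, Finset.mul_sum]
    refine Eq.trans ?_ (Finset.sum_fiberwise (M := ℚ) Finset.univ cls _)
    refine Finset.sum_congr rfl fun c _ => ?_
    refine (Finset.sum_congr rfl fun x _ => Finset.sum_comm).trans (Finset.sum_comm.trans ?_)
    refine Finset.sum_congr rfl fun i hi => ?_
    refine Eq.trans ?_ (Finset.sum_fiberwise (M := ℚ) Finset.univ cls _)
    refine Finset.sum_congr rfl fun d _ => Finset.sum_congr rfl fun j hj => ?_
    rw [(Finset.mem_filter.1 hi).2, (Finset.mem_filter.1 hj).2]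
    ring
  rw [hexp] at h
  exact_mod_cast h

end

end Groth.Agent.Lib.ModelFibre.InterForm
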