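import Groth.Agent.Lib.ModelFibre.Inter
import Groth.Agent.Lib.ModelFibre.InterForm
import Groth.Agent.Lib.SurfInt.Mul
import Groth.Agent.Lib.TensorMod.Pullback
import Groth.Agent.Lib.TensorMod.Invertible
import Groth.Prelude.Def_FGA
import Groth.Prelude.Def_PicGrp

/-!
# The subgroup of the Picard group generated by the vertical prime divisors
-/

set_option linter.style.haveILetI false

universe u

open CategoryTheory Limits AlgebraicGeometry IsLocalRing TopologicalSpace Groth.Agent.Lib.ModelFibre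
open Groth.Agent.Lib

namespace Groth.Agent.Lib.ModelFibre.VertPic

noncomputable section

/-- The group law. -/
local instance picLawInst (Y : Scheme.{u}) : PicGrp.Law Y := TensorMod.Invertible.law Y

theorem cls_pow {Y : Scheme.{u}} {L : Y.Modules} (hL : PicF.IsInvertible L) (m : ℕ) :
    PicGrp.cls (CohB1.tensorPow L m) (TensorMod.Invertible.isInvertible_tensorPow hL m) =
      PicGrp.cls L hL ^ m := by
  induction m with
  | zero => rw [pow_zero]; exact PicGrp.cls_structureModule_eq_one
  | succ m ih =>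
    rw [pow_succ, ← ih]
    exact Subtype.ext (PicGrp.cls_mul_cls_val (TensorMod.Invertible.isInvertible_tensorPow hL m) hL).symm

theorem cls_eq_of_iso {Y : Scheme.{u}} {L M : Y.Modules} (hL : PicF.IsInvertible L)
    (hM : PicF.IsInvertible M) (e : L ≅ M) : PicGrp.cls L hL = PicGrp.cls M hM :=
  (PicGrp.cls_eq_cls_iff hL hM).2 ⟨e⟩

theorem cls_tensor {Y : Scheme.{u}} {L M : Y.Modules} (hL : PicF.IsInvertible L)
    (hM : PicF.IsInvertible M) :
    PicGrp.cls (CohB1.tensorMod L M) (TensorMod.Invertible.isInvertible_tensorMod hL hM) =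
      PicGrp.cls L hL * PicGrp.cls M hM :=
  Subtype.ext (PicGrp.cls_mul_cls_val hL hM).symm

theorem cls_pullback {Y Z : Scheme.{u}} (g : Y ⟶ Z) {M : Z.Modules} (hM : PicF.IsInvertible M) :
    PicGrp.pullHom g (TensorMod.Pullback.pullMul g) (PicGrp.cls M hM) =
      PicGrp.cls ((Scheme.Modules.pullback g).obj M) (PicLoc.isInvertible_pullback g hM) :=
  PicGrp.pullHom_cls g _ M hM

theorem nonempty_tensorPow_iso {Y : Scheme.{u}} {L : Y.Modules} (hL : PicF.IsInvertible L) (m : ℕ) :
    Nonempty (CohB1.tensorPow L m ≅ Coh.structureModule Y) ↔ PicGrp.cls L hL ^ m = 1 := by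
  rw [← cls_pow hL m, ← PicGrp.cls_structureModule_eq_one (Y := Y), PicGrp.cls_eq_cls_iff]

variable {R : Type u} [CommRing R] [IsDomain R] [IsDiscreteValuationRing R]
variable {X : Over (Spec (CommRingCat.of R))} (hX : Inter.IsSurf X) {n : ℕ}
  (Γ : Fin n → ArSurf.VertComp R X)

include hX

theorem isInvertible_ker (i : Fin n) : PicF.IsInvertible (_root_.ClSub.idealMod (Γ i).ι.ker) :=
  ClSub.Cartier.isInvertible_idealMod (Inter.isEffCartier hX (Γ i))

/-- The class of the divisor `Σ v i • Γ i`. -/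
def φ (v : Fin n → ℤ) : PicLoc.PicSet X.left :=
  ∏ i, PicGrp.cls (_root_.ClSub.idealMod (Γ i).ι.ker) (isInvertible_ker hX Γ i) ^ (-v i)

theorem φ_add (v w : Fin n → ℤ) : φ hX Γ (v + w) = φ hX Γ v * φ hX Γ w := by
  rw [φ, φ, φ, ← Finset.prod_mul_distrib]
  exact Finset.prod_congr rfl fun i _ => by rw [Pi.add_apply, neg_add, zpow_add]

theorem φ_zero : φ hX Γ 0 = 1 := by simp [φ]

theorem φ_neg (v : Fin n → ℤ) : φ hX Γ (-v) = (φ hX Γ v)⁻¹ := by
  rw [eq_inv_iff_mul_eq_one, ← φ_add, neg_add_cancel, φ_zero]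

theorem φ_zsmul (c : ℤ) (v : Fin n → ℤ) : φ hX Γ (c • v) = φ hX Γ v ^ c := by
  rw [φ, φ, ← Finset.prod_zpow]
  exact Finset.prod_congr rfl fun i _ => by
    rw [Pi.smul_apply, smul_eq_mul, mul_comm, ← neg_mul, zpow_mul]

theorem φ_nsmul (c : ℕ) (v : Fin n → ℤ) : φ hX Γ ((c : ℤ) • v) = φ hX Γ v ^ c := by
  rw [φ_zsmul, zpow_natCast]

/-- The effective divisor `Σ a i • Γ i`. -/
def idl (a : Fin n → ℕ) : X.left.IdealSheafData := ∏ i, (Γ i).ι.ker ^ a i

theorem isEffCartier_prod (a : Fin n → ℕ) (s : Finset (Fin n)) :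
    BlowUp.IsEffCartierIdeal (∏ i ∈ s, (Γ i).ι.ker ^ a i) := by
  classical
  induction s using Finset.induction_on with
  | empty => exact Ideal.EffCartier.isEffCartier_top
  | @insert j s hj ih =>
    rw [Finset.prod_insert hj]
    exact Ideal.EffCartier.isEffCartier_mul
      (Ideal.EffCartier.isEffCartier_pow (Inter.isEffCartier hX (Γ j)) (a j)) ih

theorem isEffCartier_idl (a : Fin n → ℕ) : BlowUp.IsEffCartierIdeal (idl Γ a) :=
  isEffCartier_prod hX Γ a Finset.univ

omit hX in
theorem cls_mul_ideal {Y : Scheme.{u}} {I J : Y.IdealSheafData} (hI : BlowUp.IsEffCartierIdeal I)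
    (hJ : BlowUp.IsEffCartierIdeal J) (hIJ : PicF.IsInvertible (_root_.ClSub.idealMod (I * J))) :
    PicGrp.cls _ hIJ = PicGrp.cls _ (ClSub.Cartier.isInvertible_idealMod hI) *
      PicGrp.cls _ (ClSub.Cartier.isInvertible_idealMod hJ) := by
  rw [← cls_tensor]
  exact ((PicGrp.cls_eq_cls_iff _ _).2 (SurfInt.Mul.nonempty_idealMod_mul hI J)).symm

omit hX in
theorem cls_top {Y : Scheme.{u}} :
    PicGrp.cls _ (ClSub.Cartier.isInvertible_idealMod (Ideal.EffCartier.isEffCartier_top (X := Y))) = 1 := by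
  have h := cls_mul_ideal (Ideal.EffCartier.isEffCartier_top (X := Y)) Ideal.EffCartier.isEffCartier_top
    (ClSub.Cartier.isInvertible_idealMod (Ideal.EffCartier.isEffCartier_mul Ideal.EffCartier.isEffCartier_top
      Ideal.EffCartier.isEffCartier_top))
  have h2 : ((⊤ : Y.IdealSheafData) * ⊤) = ⊤ := one_mul (1 : Y.IdealSheafData)
  simp only [h2] at h
  exact mul_eq_left.1 h.symm

omit hX in
theorem cls_congr {Y : Scheme.{u}} {I J : Y.IdealSheafData} (h : I = J)
    (hI : PicF.IsInvertible (_root_.ClSub.idealMod I)) (hJ : PicF.IsInvertible (_root_.ClSub.idealMod J)) :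
    PicGrp.cls _ hI = PicGrp.cls _ hJ := by
  subst h; rfl

omit hX in
theorem cls_pow_ideal {Y : Scheme.{u}} {I : Y.IdealSheafData} (hI : BlowUp.IsEffCartierIdeal I) (m : ℕ) :
    PicGrp.cls _ (ClSub.Cartier.isInvertible_idealMod (Ideal.EffCartier.isEffCartier_pow hI m)) =
      PicGrp.cls _ (ClSub.Cartier.isInvertible_idealMod hI) ^ m := by
  induction m with
  | zero => exact ((cls_congr (pow_zero I) _ _).trans cls_top).trans (pow_zero _).symm
  | succ m ih =>
    refine Eq.trans ?_ (pow_succ _ _).symm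
    rw [← ih, ← cls_mul_ideal (Ideal.EffCartier.isEffCartier_pow hI m) hI
      (ClSub.Cartier.isInvertible_idealMod (Ideal.EffCartier.isEffCartier_mul
        (Ideal.EffCartier.isEffCartier_pow hI m) hI))]
    exact cls_congr (pow_succ I m) _ _

theorem cls_idl (a : Fin n → ℕ) :
    PicGrp.cls _ (ClSub.Cartier.isInvertible_idealMod (isEffCartier_idl hX Γ a)) =
      (φ hX Γ fun i => (a i : ℤ))⁻¹ := by
  classical
  suffices h : ∀ s : Finset (Fin n),
      PicGrp.cls _ (ClSub.Cartier.isInvertible_idealMod (isEffCartier_prod hX Γ a s)) =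
        ∏ i ∈ s, PicGrp.cls (_root_.ClSub.idealMod (Γ i).ι.ker) (isInvertible_ker hX Γ i) ^ a i by
    refine (h Finset.univ).trans ?_
    rw [φ, ← Finset.prod_inv_distrib]
    exact Finset.prod_congr rfl fun i _ => by rw [zpow_neg, inv_inv, zpow_natCast]
  intro s
  induction s using Finset.induction_on with
  | empty => exact ((cls_congr Finset.prod_empty _ _).trans cls_top).trans Finset.prod_empty.symm
  | @insert j s hj ih =>
    refine Eq.trans ?_ (Finset.prod_insert hj).symm
    rw [← ih, ← cls_pow_ideal (Inter.isEffCartier hX (Γ j)) (a j),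
      ← cls_mul_ideal (Ideal.EffCartier.isEffCartier_pow (Inter.isEffCartier hX (Γ j)) (a j))
        (isEffCartier_prod hX Γ a s) (ClSub.Cartier.isInvertible_idealMod (Ideal.EffCartier.isEffCartier_mul
        (Ideal.EffCartier.isEffCartier_pow (Inter.isEffCartier hX (Γ j)) (a j))
        (isEffCartier_prod hX Γ a s)))]
    exact cls_congr (Finset.prod_insert hj) _ _

variable (L : Fin n → X.left.Modules)
  (hL : ∀ i, _root_.ClSub.IsInverseOf (L i) (_root_.ClSub.idealMod (Γ i).ι.ker))

include hL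

theorem isInvertible_L (i : Fin n) : PicF.IsInvertible (L i) :=
  TensorMod.TensorInv.isInvertible_of_tensor_iso (hL i).some

theorem cls_L (i : Fin n) : PicGrp.cls (L i) (isInvertible_L hX Γ L hL i) =
    (PicGrp.cls (_root_.ClSub.idealMod (Γ i).ι.ker) (isInvertible_ker hX Γ i))⁻¹ :=
  eq_inv_of_mul_eq_one_left ((PicGrp.cls_mul_cls_eq_one_iff _ _).2 (hL i))

theorem isInvertible_multiTwist (a : Fin n → ℕ) : PicF.IsInvertible (FGA.multiTwist L a) := by
  suffices h : ∀ l : List (Fin n),
      PicF.IsInvertible (FGA.tensorList (l.map fun i => CohB1.tensorPow (L i) (a i))) from h _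
  intro l
  induction l with
  | nil => exact PicLoc.isInvertible_structureModule _
  | cons i l ih =>
    exact TensorMod.Invertible.isInvertible_tensorMod
      (TensorMod.Invertible.isInvertible_tensorPow (isInvertible_L hX Γ L hL i) _) ih

theorem cls_multiTwist (a : Fin n → ℕ) :
    PicGrp.cls (FGA.multiTwist L a) (isInvertible_multiTwist hX Γ L hL a) = φ hX Γ fun i => (a i : ℤ) := by
  suffices h : ∀ (l : List (Fin n))
      (hl : PicF.IsInvertible (FGA.tensorList (l.map fun i => CohB1.tensorPow (L i) (a i)))),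
      PicGrp.cls _ hl = (l.map fun i =>
        (PicGrp.cls (_root_.ClSub.idealMod (Γ i).ι.ker) (isInvertible_ker hX Γ i)) ^ (-(a i : ℤ))).prod by
    refine (h (List.finRange n) (isInvertible_multiTwist hX Γ L hL a)).trans ?_
    rw [φ, ← List.ofFn_eq_map, List.prod_ofFn]
  intro l
  induction l with
  | nil => intro hl; exact PicGrp.cls_structureModule_eq_one.trans List.prod_nil.symm
  | cons i l ih =>
    intro hl
    have hl' : PicF.IsInvertible (FGA.tensorList (l.map fun i => CohB1.tensorPow (L i) (a i))) := by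
      clear ih hl
      induction l with
      | nil => exact PicLoc.isInvertible_structureModule _
      | cons i l ih =>
        exact TensorMod.Invertible.isInvertible_tensorMod
          (TensorMod.Invertible.isInvertible_tensorPow (isInvertible_L hX Γ L hL i) _) ih
    refine Eq.trans ?_ List.prod_cons.symm
    beta_reduce
    rw [← ih hl', zpow_neg, ← inv_zpow, zpow_natCast, ← cls_L hX Γ L hL, ← cls_pow, ← cls_tensor]
    rfl

theorem multiTwist_iso_iff (a b : Fin n → ℕ) :
    Nonempty (FGA.multiTwist L a ≅ FGA.multiTwist L b) ↔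
      φ hX Γ (fun i => (a i : ℤ) - (b i : ℤ)) = 1 := by
  rw [← PicGrp.cls_eq_cls_iff (isInvertible_multiTwist hX Γ L hL a) (isInvertible_multiTwist hX Γ L hL b),
    cls_multiTwist hX Γ L hL, cls_multiTwist hX Γ L hL,
    show (fun i => (a i : ℤ) - (b i : ℤ)) = (fun i => (a i : ℤ)) + -(fun i => (b i : ℤ)) from
      funext fun i => (sub_eq_add_neg _ _), φ_add, φ_neg, mul_inv_eq_one]

end

end Groth.Agent.Lib.ModelFibre.VertPic
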