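import Groth.Agent.Lib.ModelFibre.ThickRoot
import Groth.Agent.Lib.ModelFibre.AlgzProper
import Groth.Agent.Lib.ModelFibre.TorsBound
import Groth.Agent.Lib.ModelFibre.VertPic
import Mathlib.RingTheory.Spectrum.Prime.RingHom

/-!
# Roots of invertible modules on proper schemes over complete discrete valuation rings
-/

set_option linter.style.haveILetI false

universe u

open CategoryTheory Limits AlgebraicGeometry IsLocalRing TopologicalSpace

namespace Groth.Agent.Lib.ModelFibre.PicTower

open Groth.Agent.Lib Groth.Agent.Lib.Exchange.Thick Groth.Agent.Lib.Exchange.Algz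
open Groth.Agent.H30.IdealLemmas

noncomputable section

/-- The group law. -/
local instance picLawInst (Y : Scheme.{u}) : PicGrp.Law Y := TensorMod.Invertible.law Y

variable {R : Type u} [CommRing R] [IsDomain R] [IsDiscreteValuationRing R]
  (X : Over (Spec (CommRingCat.of R)))

/-- The tower of infinitesimal neighbourhoods of the closed fibre. -/
def T : Tower (maximalIdeal R) where
  X k := pullback X.hom (CohB1.specQuot (maximalIdeal R) k)
  p _ := pullback.snd _ _
  i k := pullback.map X.hom (CohB1.specQuot (maximalIdeal R) k) X.hom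
    (CohB1.specQuot (maximalIdeal R) (k + 1)) (𝟙 _) (CohB1.specQuotTrans (maximalIdeal R) k) (𝟙 _)
    (by simp) (by rw [Category.comp_id, CohB1.specQuotTrans_specQuot])
  cart k := by
    refine IsPullback.of_right ?_ ?_ (IsPullback.of_hasPullback X.hom
      (CohB1.specQuot (maximalIdeal R) (k + 1)))
    · simp only [pullback.map, pullback.lift_fst, Category.comp_id, CohB1.specQuotTrans_specQuot]
      exact IsPullback.of_hasPullback X.hom (CohB1.specQuot (maximalIdeal R) k)
    · exact pullback.lift_snd _ _ _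

/-- The inclusions of the levels. -/
def w (k : ℕ) : (T X).X k ⟶ X.left := pullback.fst X.hom (CohB1.specQuot (maximalIdeal R) k)

instance isClosedImmersion_w (k : ℕ) : IsClosedImmersion (w X k) :=
  MorphismProperty.of_isPullback
    (IsPullback.of_hasPullback X.hom (CohB1.specQuot (maximalIdeal R) k)).flip
    (inferInstance : IsClosedImmersion (CohB1.specQuot (maximalIdeal R) k))

theorem i_w (k : ℕ) : (T X).i k ≫ w X (k + 1) = w X k :=
  (pullback.lift_fst _ _ _).trans (Category.comp_id _)

theorem toT_w : ∀ k, (T X).toT k ≫ w X k = w X 0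
  | 0 => Category.id_comp _
  | k + 1 => by
    show ((T X).toT k ≫ (T X).i k) ≫ w X (k + 1) = _
    rw [Category.assoc, i_w, toT_w k]

theorem range_w (k : ℕ) : Set.range (w X k).base = Models.specialFibreSet R X := by
  refine (Scheme.Pullback.range_fst X.hom (CohB1.specQuot (maximalIdeal R) k)).trans ?_
  refine congrArg (fun S => X.hom.base ⁻¹' S) ?_
  rw [CohB1.specQuot]
  refine (range_comap_of_surjective _ (Ideal.Quotient.mk ((maximalIdeal R) ^ (k + 1)))
    Ideal.Quotient.mk_surjective).trans ?_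
  rw [Ideal.mk_ker]
  refine Set.ext fun q => ⟨fun h => ?_, fun h => ?_⟩
  · exact PrimeSpectrum.ext ((((maximalIdeal.isMaximal R).eq_of_le q.2.ne_top
      (q.2.le_of_pow_le h)).symm))
  · rw [show q = IsLocalRing.closedPoint R from h]
    exact Ideal.pow_le_self k.succ_ne_zero

instance surjective_toT (k : ℕ) : Surjective ((T X).toT k) := ⟨fun z => by
  have h : w X k z ∈ Set.range (w X 0).base := by rw [range_w, ← range_w X k]; exact ⟨z, rfl⟩
  obtain ⟨y, hy⟩ := h
  exact ⟨y, (w X k).isClosedEmbedding.injective (by rw [← Scheme.Hom.comp_apply, toT_w, hy])⟩⟩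

theorem idealSheaf_eq : Curv2.idealSheaf R (maximalIdeal R) = FSch.idealSpec R (maximalIdeal R) := by
  refine Scheme.IdealSheafData.ext_of_isAffine ?_
  rw [idealSpec_ideal_top, Curv2.idealSheaf]
  simp

theorem ker_w (k : ℕ) : (w X k).ker = Models.specialFibreIdeal R X ^ (k + 1) := by
  refine (Scheme.IdealSheafData.ker_fst_of_isClosedImmersion (CohB1.specQuot (maximalIdeal R) k) X.hom).trans ?_
  rw [ker_specQuot, Groth.Agent.Lib.Ideal.Comap.comap_pow, Models.specialFibreIdeal, idealSheaf_eq]

variable [IsProper X.hom]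

/-- An invertible module on a proper flat scheme which is trivial on all the levels is trivial. -/
theorem trivial_of_levels [Flat X.hom] {M : X.left.Modules} (hM : PicF.IsInvertible M)
    (h : ∀ k, Nonempty ((Scheme.Modules.pullback (w X k)).obj M ≅ Coh.structureModule ((T X).X k))) :
    Nonempty (M ≅ Coh.structureModule X.left) := by
  obtain ⟨π, hπ⟩ := IsDiscreteValuationRing.exists_irreducible R
  obtain ⟨N, hN⟩ := TorsBound.exists_thickening X hπ hM
  refine hN ?_
  obtain ⟨e⟩ := h N
  let j := IsClosedImmersion.lift (w X N) (LiftH0.powI X (N + 1)).subschemeι (by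
    rw [Scheme.IdealSheafData.ker_subschemeι, ker_w]; exact le_rfl)
  have hj : j ≫ w X N = (LiftH0.powI X (N + 1)).subschemeι := IsClosedImmersion.lift_fac _ _ _
  exact ⟨(Scheme.Modules.pullbackCongr hj).symm.app M ≪≫
    ((Scheme.Modules.pullbackComp j (w X N)).app M).symm ≪≫
    (Scheme.Modules.pullback j).mapIso e ≪≫ PicLoc.pullbackStructureIso j⟩

/-- An invertible module trivial on the closed fibre of a proper flat scheme over a complete DVR has an
`n`-th root trivial on the closed fibre, for `n` invertible in the residue field. -/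
theorem exists_root [Flat X.hom] [IsAdicComplete (maximalIdeal R) R] {n : ℕ} (hn : 0 < n)
    (hu : IsUnit (n : Γ((T X).X 0, ⊤)))
    (hdiv : ∀ c : Γ((T X).X 0, ⊤), IsUnit c → ∃ v, IsUnit v ∧ v ^ n * c = 1)
    (c : PicLoc.PicSet X.left)
    (hc : PicGrp.pullHom (w X 0) (TensorMod.Pullback.pullMul (w X 0)) c = 1) :
    ∃ d : PicLoc.PicSet X.left,
      PicGrp.pullHom (w X 0) (TensorMod.Pullback.pullMul (w X 0)) d = 1 ∧ d ^ n = c := by
  letI : X.left.Over (Spec (CommRingCat.of R)) := ⟨X.hom⟩
  haveI : IsProper (X.left ↘ Spec (CommRingCat.of R)) := ‹IsProper X.hom›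
  haveI : IsLocallyNoetherian X.left := LocallyOfFiniteType.isLocallyNoetherian X.hom
  haveI : ∀ k, IsLocallyNoetherian ((T X).X k) := fun k =>
    LocallyOfFiniteType.isLocallyNoetherian (w X k)
  let ρ := fun k => PicGrp.pullHom (w X k) (TensorMod.Pullback.pullMul (w X k))
  let τ := fun k => PicGrp.pullHom ((T X).toT k) (TensorMod.Pullback.pullMul ((T X).toT k))
  let ι := fun k => PicGrp.pullHom ((T X).i k) (TensorMod.Pullback.pullMul ((T X).i k))
  have hτρ : ∀ k d, τ k (ρ k d) = ρ 0 d := fun k d => Subtype.ext (by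
    show PicF.pullCl _ (PicF.pullCl _ d.1) = PicF.pullCl _ d.1
    rw [← PicLoc.pullCl_comp, toT_w])
  have hιρ : ∀ k d, ι k (ρ (k + 1) d) = ρ k d := fun k d => Subtype.ext (by
    show PicF.pullCl _ (PicF.pullCl _ d.1) = PicF.pullCl _ d.1
    rw [← PicLoc.pullCl_comp, i_w])
  have hτι : ∀ k d, τ k (ι k d) = τ (k + 1) d := fun k d => Subtype.ext (by
    show PicF.pullCl _ (PicF.pullCl _ d.1) = PicF.pullCl _ d.1
    rw [← PicLoc.pullCl_comp]
    rfl)
  have huniq : ∀ k (a : PicLoc.PicSet ((T X).X k)), a ^ n = 1 → τ k a = 1 → a = 1 := by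
    intro k a ha ha0
    obtain ⟨A, hA, rfl⟩ := PicGrp.exists_eq_cls a
    obtain ⟨φ⟩ := (VertPic.nonempty_tensorPow_iso hA n).2 ha
    rw [VertPic.cls_pullback, PicGrp.cls_eq_one_iff] at ha0
    exact (PicGrp.cls_eq_one_iff hA).2 (ThickRoot.eq_trivial ((T X).toT k) hn hu hdiv hA φ ha0.some)
  have hex : ∀ k, ∃ (A : ((T X).X k).Modules) (hA : PicF.IsInvertible A),
      PicGrp.cls A hA ^ n = ρ k c ∧ τ k (PicGrp.cls A hA) = 1 := by
    intro k
    obtain ⟨N, hN, hNc⟩ := PicGrp.exists_eq_cls (ρ k c)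
    have hN0 : τ k (PicGrp.cls N hN) = 1 := by rw [← hNc, hτρ]; exact hc
    rw [VertPic.cls_pullback, PicGrp.cls_eq_one_iff] at hN0
    obtain ⟨A, hA, ⟨e⟩, he0⟩ := ThickRoot.exists_root_module ((T X).toT k) hn hu hN hN0.some
    refine ⟨A, hA, ?_, ?_⟩
    · rw [hNc, ← VertPic.cls_pow hA n]
      exact VertPic.cls_eq_of_iso _ hN e
    · rw [VertPic.cls_pullback, PicGrp.cls_eq_one_iff]
      exact he0
  choose A hA hApow hA0 using hex
  have hcompat : ∀ k, Nonempty ((Scheme.Modules.pullback ((T X).i k)).obj (A (k + 1)) ≅ A k) := by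
    intro k
    rw [← PicGrp.cls_eq_cls_iff (PicLoc.isInvertible_pullback _ (hA (k + 1))) (hA k),
      ← VertPic.cls_pullback ((T X).i k) (hA (k + 1)), ← div_eq_one]
    refine huniq k _ ?_ ?_
    · rw [div_pow, ← map_pow, hApow, hApow, hιρ, div_self']
    · rw [map_div, hτι, hA0, hA0, div_one]
  obtain ⟨M, hM, hMk⟩ := AlgzProper.exists_bundle_proper (T := T X) (w X) (i_w X)
    (fun k => by
      show w X k ≫ X.hom = _
      exact pullback.condition)
    (fun k => by
      rw [ker_w, jIdeal, Models.specialFibreIdeal, idealSheaf_eq]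
      rfl) A hA (fun k => (hcompat k).some)
  have hρM : ∀ k, ρ k (PicGrp.cls M hM) = PicGrp.cls (A k) (hA k) := fun k => by
    rw [VertPic.cls_pullback, PicGrp.cls_eq_cls_iff]
    exact hMk k
  refine ⟨PicGrp.cls M hM, ?_, ?_⟩
  · show ρ 0 _ = 1
    rw [← hτρ 0, hρM, hA0]
  · rw [← div_eq_one]
    obtain ⟨B, hB, hBc⟩ := PicGrp.exists_eq_cls (PicGrp.cls M hM ^ n / c)
    rw [hBc, PicGrp.cls_eq_one_iff]
    refine trivial_of_levels X hB fun k => ?_
    rw [← PicGrp.cls_eq_one_iff (PicLoc.isInvertible_pullback _ hB), ← VertPic.cls_pullback (w X k) hB, ← hBc]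
    show ρ k _ = 1
    rw [map_div, map_pow, hρM, hApow, div_self']

end

end Groth.Agent.Lib.ModelFibre.PicTower
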