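import Mathlib
import Groth.Agent.Lib.ModelFibre.Chart

/-!
# The base is algebraically closed in the function field of a proper scheme with reduced connected fibre

`X` is an integral scheme, proper over `Spec R` for a discrete valuation ring `R` with algebraically closed
residue field, with normal local rings over the generic point and reduced connected special fibre. Then every
separable algebraic element of the function field over `Frac R` lies in `Frac R`.
-/

universe u

open CategoryTheory AlgebraicGeometry IsLocalRing TopologicalSpace Polynomial Opposite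

namespace Groth.Agent.Lib.ModelFibre.RegularExt

open Groth.Agent.Lib.ModelFibre.Stalk

section Algebra

variable {A F : Type u} [CommRing A] [Field F] [Algebra A F]

/-- An element which lies in all the localizations away from `V(π)` lies in `A` after multiplying by a
power of `π`. -/
theorem exists_pow_mul_mem (π : A) (b : F)
    (hloc : ∀ q : Ideal A, q.IsPrime → π ∉ q → ∃ s ∉ q, algebraMap A F s * b ∈ (algebraMap A F).range) :
    ∃ n : ℕ, algebraMap A F (π ^ n) * b ∈ (algebraMap A F).range := by
  let I : Ideal A :=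
    { carrier := {s | algebraMap A F s * b ∈ (algebraMap A F).range}
      add_mem' := fun {x y} hx hy => by
        simp only [Set.mem_setOf_eq, map_add, add_mul] at *
        exact add_mem hx hy
      zero_mem' := ⟨0, by simp⟩
      smul_mem' := fun c x hx => by
        simp only [Set.mem_setOf_eq, smul_eq_mul, map_mul, mul_assoc] at *
        exact mul_mem ⟨c, rfl⟩ hx }
  have h : π ∈ I.radical := by
    rw [Ideal.radical_eq_sInf, Submodule.mem_sInf]
    rintro q ⟨hle, hq⟩
    by_contra h
    obtain ⟨s, hs, hsb⟩ := hloc q hq h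
    exact hs (hle hsb)
  exact h

/-- If `A/πA` is reduced, an integral element which is in `A` after multiplying by a power of `π` is in
`A`. -/
theorem mem_range_of_pow_mul (hinj : Function.Injective (algebraMap A F)) {π : A} (hπ : π ≠ 0)
    (hred : _root_.IsReduced (A ⧸ Ideal.span {π})) {b : F} (hb : IsIntegral A b) {n : ℕ}
    (h : algebraMap A F (π ^ n) * b ∈ (algebraMap A F).range) : b ∈ (algebraMap A F).range := by
  induction n with
  | zero => simpa using h
  | succ n ih =>
    refine ih ?_
    set c := algebraMap A F (π ^ n) * b with hcdef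
    have hc : IsIntegral A c := isIntegral_algebraMap.mul hb
    obtain ⟨a, ha⟩ := h
    have hac : algebraMap A F a = algebraMap A F π * c := by
      rw [ha, hcdef, pow_succ', map_mul, mul_assoc]
    obtain ⟨g, hg, hgc⟩ := hc
    have h0 : aeval a (g.scaleRoots π) = 0 := hinj (by
      rw [map_zero, ← aeval_algebraMap_apply, hac]
      exact scaleRoots_aeval_eq_zero hgc)
    have h1 : (Ideal.Quotient.mk (Ideal.span {π}) a) ^ g.natDegree = 0 := by
      have h2 := congrArg (Ideal.Quotient.mk (Ideal.span {π})) h0
      rw [map_zero, coe_aeval_eq_eval, eval_eq_sum_range, map_sum, natDegree_scaleRoots,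
        Finset.sum_range_succ, Finset.sum_eq_zero, zero_add] at h2
      · rwa [coeff_scaleRoots, hg.coeff_natDegree, Nat.sub_self, pow_zero, mul_one, one_mul,
          map_pow] at h2
      · intro i hi
        refine Ideal.Quotient.eq_zero_iff_mem.2 (Ideal.mul_mem_right _ _ ?_)
        rw [coeff_scaleRoots]
        refine Ideal.mul_mem_left _ _ (Ideal.pow_mem_of_mem _ (Ideal.mem_span_singleton_self π) _ ?_)
        have := Finset.mem_range.1 hi
        omega
    obtain ⟨t, ht⟩ := Ideal.mem_span_singleton.1
      (Ideal.Quotient.eq_zero_iff_mem.1 (hred.eq_zero _ ⟨_, h1⟩))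
    refine ⟨t, mul_left_cancel₀ (fun e => hπ (hinj (e.trans (map_zero _).symm))) ?_⟩
    rw [← map_mul, ← ht, hac]

end Algebra

variable {R : Type u} [CommRing R] {X : Scheme.{u}} (f : X ⟶ Spec (CommRingCat.of R))

/-- The map `R → Γ(X, ⊤)`. -/
noncomputable abbrev glob : R →+* Γ(X, ⊤) := Coh.toGlobal f

lemma baseHom_eq_germ (y : X) (r : R) :
    baseHom f y r = (X.presheaf.germ ⊤ y trivial).hom (glob f r) := rfl

lemma isUnit_baseHom_iff (r : R) (y : X) :
    IsUnit (baseHom f y r) ↔ y ∈ X.basicOpen (glob f r) :=
  (Scheme.mem_basicOpen X (glob f r) y trivial).symm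

lemma basicOpen_toGlobal (r : R) :
    X.basicOpen (glob f r) = f ⁻¹ᵁ PrimeSpectrum.basicOpen r := by
  have h := Scheme.preimage_basicOpen f (U := ⊤) ((Scheme.ΓSpecIso (CommRingCat.of R)).inv.hom r)
  exact h.symm.trans (congrArg _ (basicOpen_eq_of_affine (R := CommRingCat.of R) r))

variable [IsIntegral X]

lemma algebraMap_germ (y : X) {U : X.Opens} (hy : y ∈ U) (s : Γ(X, U)) :
    algebraMap (X.presheaf.stalk y) X.functionField (X.presheaf.germ U y hy s) =
      X.presheaf.germ U (genericPoint X) ((genericPoint_specializes y).mem_open U.2 hy) s :=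
  congrArg (fun φ => φ.hom s) (X.presheaf.germ_stalkSpecializes hy (genericPoint_specializes y))

lemma algebraMap_baseHom (y : X) (r : R) :
    algebraMap (X.presheaf.stalk y) X.functionField (baseHom f y r) = baseHom f (genericPoint X) r :=
  algebraMap_germ y (U := ⊤) trivial (glob f r)

/-- A rational function regular everywhere is a global section. -/
theorem exists_global (b : X.functionField)
    (h : ∀ y, b ∈ (algebraMap (X.presheaf.stalk y) X.functionField).range) :
    ∃ s : Γ(X, ⊤), X.presheaf.germ ⊤ (genericPoint X) trivial s = b := by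
  choose t ht using h
  choose U hyU sU hsU using fun y => X.presheaf.exists_germ_eq (t y)
  have hη : ∀ y, genericPoint X ∈ U y := fun y => (genericPoint_specializes y).mem_open (U y).2 (hyU y)
  have hb : ∀ y, X.presheaf.germ (U y) (genericPoint X) (hη y) (sU y) = b := fun y => by
    rw [← algebraMap_germ y (hyU y), hsU, ht]
  have hcov : ⊤ ≤ iSup U := fun y _ => Opens.mem_iSup.2 ⟨y, hyU y⟩
  have hcompat : X.presheaf.IsCompatible U sU := fun i j => by
    have hij : genericPoint X ∈ U i ⊓ U j := ⟨hη i, hη j⟩
    apply germ_injective_of_isIntegral X (U := U i ⊓ U j) (genericPoint X) hij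
    exact (X.presheaf.germ_res_apply _ _ hij _).trans ((hb i).trans
      ((hb j).symm.trans (X.presheaf.germ_res_apply _ _ hij _).symm))
  obtain ⟨s, hs, -⟩ := X.sheaf.existsUnique_gluing' U ⊤ (fun y => homOfLE le_top) hcov sU hcompat
  obtain ⟨y⟩ : Nonempty X := inferInstance
  refine ⟨s, ?_⟩
  rw [← hb y, ← hs y]
  exact (X.presheaf.germ_res_apply (homOfLE le_top) (genericPoint X) (hη y) s).symm

/-- The hypotheses on the fibres. -/
structure Fibres (π : R) : Prop where
  normal : ∀ y ∈ X.basicOpen (glob f π), IsIntegrallyClosed (X.presheaf.stalk y)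
  reduced : ∀ y ∉ X.basicOpen (glob f π),
    _root_.IsReduced (X.presheaf.stalk y ⧸ Ideal.span {baseHom f y π})
  preconnected : IsPreconnected ((X.basicOpen (glob f π) : Set X)ᶜ)
  nonempty : ((X.basicOpen (glob f π) : Set X)ᶜ).Nonempty
  ne_zero : baseHom f (genericPoint X) π ≠ 0

variable {f} {π : R}

lemma Fibres.stalk_ne_zero (H : Fibres f π) (y : X) : baseHom f y π ≠ 0 := fun h =>
  H.ne_zero (by rw [← algebraMap_baseHom f y, h, map_zero])

/-- An element of the function field integral over the base is a global section. -/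
theorem exists_global_of_isIntegral (H : Fibres f π) (b : X.functionField)
    (hb : (baseHom f (genericPoint X)).IsIntegralElem b) :
    ∃ s : Γ(X, ⊤), X.presheaf.germ ⊤ (genericPoint X) trivial s = b := by
  have hint : ∀ y, IsIntegral (X.presheaf.stalk y) b := fun y => by
    letI := (baseHom f (genericPoint X)).toAlgebra
    letI := (baseHom f y).toAlgebra
    have : IsScalarTower R (X.presheaf.stalk y) X.functionField :=
      .of_algebraMap_eq fun r => (algebraMap_baseHom f y r).symm
    exact IsIntegral.tower_top (show IsIntegral R b from hb)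
  have hnormal : ∀ y ∈ X.basicOpen (glob f π),
      b ∈ (algebraMap (X.presheaf.stalk y) X.functionField).range := fun y hy => by
    have := H.normal y hy
    exact IsIntegrallyClosed.isIntegral_iff.1 (hint y)
  refine exists_global b fun y => ?_
  by_cases hy : y ∈ X.basicOpen (glob f π)
  · exact hnormal y hy
  obtain ⟨_, ⟨U, hU, rfl⟩, hyU, -⟩ :=
    X.isBasis_affineOpens.exists_subset_of_mem_open (Set.mem_univ y) isOpen_univ
  replace hU : IsAffineOpen U := hU
  have : Nonempty U := ⟨⟨y, hyU⟩⟩
  have : IsOpenImmersion hU.fromSpec := hU.isOpenImmersion_fromSpec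
  set p := (X.presheaf.map (homOfLE le_top : U ⟶ ⊤).op).hom (glob f π) with hp
  have hgermp : ∀ z (hz : z ∈ U), X.presheaf.germ U z hz p = baseHom f z π := fun z hz =>
    X.presheaf.germ_res_apply _ z hz _
  obtain ⟨n, a, ha⟩ := exists_pow_mul_mem (A := Γ(X, U)) p b fun q hq hpq => by
    let P : Spec Γ(X, U) := ⟨q, hq⟩
    have hzU : hU.fromSpec P ∈ U := hU.range_fromSpec.le ⟨P, rfl⟩
    generalize hz : hU.fromSpec P = z at hzU
    letI := TopCat.Presheaf.algebra_section_stalk X.presheaf (⟨z, hzU⟩ : U)
    have hloc : IsLocalization q.primeCompl (X.presheaf.stalk z) := by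
      have hPz : hU.primeIdealOf ⟨z, hzU⟩ = P := by
        apply hU.fromSpec.isOpenEmbedding.injective
        rw [hU.fromSpec_primeIdealOf, hz]
      have := hU.isLocalization_stalk ⟨z, hzU⟩
      rwa [hPz] at this
    have hzπ : z ∈ X.basicOpen (glob f π) := by
      rw [← isUnit_baseHom_iff, ← hgermp z hzU]
      exact IsLocalization.map_units (X.presheaf.stalk z) (⟨p, hpq⟩ : q.primeCompl)
    obtain ⟨t, ht⟩ := hnormal z hzπ
    obtain ⟨⟨u, s⟩, hu⟩ := IsLocalization.surj q.primeCompl t
    refine ⟨s.1, s.2, u, ?_⟩
    have hu' : t * X.presheaf.germ U z hzU s.1 = X.presheaf.germ U z hzU u := hu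
    have h1 := congrArg (algebraMap (X.presheaf.stalk z) X.functionField) hu'
    rw [map_mul, algebraMap_germ z hzU, algebraMap_germ z hzU, ht] at h1
    exact h1.symm.trans (mul_comm _ _)
  refine mem_range_of_pow_mul (IsFractionRing.injective _ _) (H.stalk_ne_zero y) (H.reduced y hy)
    (hint y) (n := n) ⟨X.presheaf.germ U y hyU a, ?_⟩
  rw [← hgermp y hyU, ← map_pow, algebraMap_germ y hyU, algebraMap_germ y hyU]
  exact ha

/-- A global section is congruent to a constant modulo `π`, given the roots of its equation. -/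
theorem exists_sub_eq_mul [IsDomain R] [IsDiscreteValuationRing R] [IsAlgClosed (ResidueField R)]
    (hπ : Irreducible π) (H : Fibres f π) (s : Γ(X, ⊤)) (hs : (glob f).IsIntegralElem s) :
    ∃ (c : R) (s₁ : Γ(X, ⊤)), s - glob f c = glob f π * s₁ := by
  classical
  set T : Set X := (X.basicOpen (glob f π) : Set X)ᶜ with hT
  have hmT : ∀ y ∈ T, ∀ r ∈ maximalIdeal R, ¬ IsUnit (baseHom f y r) := fun y hy r hr h => by
    rw [hπ.maximalIdeal_eq, Ideal.mem_span_singleton] at hr
    obtain ⟨w, rfl⟩ := hr
    rw [map_mul] at h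
    exact hy ((isUnit_baseHom_iff f π y).1 (isUnit_of_mul_isUnit_left h))
  obtain ⟨g, hg, hgs⟩ := hs
  set gbar := g.map (residue R) with hgbar
  set roots := gbar.roots.toFinset
  choose c hc using (residue_surjective (R := R))
  -- every point of the special fibre is a zero of some `s - c`
  let Z : ResidueField R → Set X := fun w => T ∩ (X.basicOpen (s - glob f (c w)) : Set X)ᶜ
  have hZclosed : ∀ w, IsClosed (Z w) := fun w =>
    (X.basicOpen _).2.isClosed_compl.inter (X.basicOpen _).2.isClosed_compl
  have hcover : ∀ y ∈ T, ∃ w ∈ roots, y ∈ Z w := fun y hy => by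
    set ev := (X.presheaf.germ ⊤ y trivial).hom with hev
    let φ : R →+* ResidueField (X.presheaf.stalk y) :=
      (residue _).comp (baseHom f y)
    have hφ : ∀ r ∈ maximalIdeal R, φ r = 0 := fun r hr =>
      residue_eq_zero_iff _ |>.2 ((mem_maximalIdeal _).2 (hmT y hy r hr))
    let ψ : ResidueField R →+* ResidueField (X.presheaf.stalk y) :=
      Ideal.Quotient.lift (maximalIdeal R) φ hφ
    have hψ : ψ.comp (residue R) = φ := Ideal.Quotient.lift_comp_mk _ _ _
    have h0 : gbar.eval₂ ψ (residue _ (ev s)) = 0 := by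
      rw [hgbar, eval₂_map, hψ]
      have h1 := congrArg ((residue _).comp ev) hgs
      rw [map_zero, hom_eval₂] at h1
      exact h1
    rw [(IsAlgClosed.splits gbar).eq_prod_roots_of_monic (hg.map _), eval₂_multiset_prod,
      Multiset.map_map, Multiset.prod_eq_zero_iff] at h0
    obtain ⟨w, hw, hw0⟩ := Multiset.mem_map.1 h0
    refine ⟨w, Multiset.mem_toFinset.2 hw, hy, fun h => ?_⟩
    have h2 : residue _ (ev (s - glob f (c w))) = 0 := by
      rw [← hw0, map_sub, map_sub]
      simp only [Function.comp_apply, eval₂_sub, eval₂_X, eval₂_C]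
      congr 1
      rw [← hc w, ← RingHom.comp_apply ψ, hψ, hc w]
      rfl
    exact (residue_ne_zero_iff_isUnit _).2 ((Scheme.mem_basicOpen X (s - glob f (c w)) y trivial).1 h) h2
  have hdisj : ∀ w w', w ≠ w' → ∀ y, y ∈ Z w → y ∈ Z w' → False := fun w w' hne y hw hw' => by
    have hu : IsUnit (c w' - c w) := by
      rw [← residue_ne_zero_iff_isUnit, map_sub, hc, hc, sub_ne_zero]
      exact hne.symm
    refine (mem_maximalIdeal _).1 ?_ (hu.map (baseHom f y))
    rw [baseHom_eq_germ, show glob f (c w' - c w) =
      (s - glob f (c w)) - (s - glob f (c w')) by rw [map_sub]; ring, map_sub]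
    exact sub_mem ((mem_maximalIdeal _).2 fun h => hw.2
        ((Scheme.mem_basicOpen X (s - glob f (c w)) y trivial).2 h))
      ((mem_maximalIdeal _).2 fun h => hw'.2
        ((Scheme.mem_basicOpen X (s - glob f (c w')) y trivial).2 h))
  obtain ⟨y₀, hy₀⟩ := H.nonempty
  obtain ⟨w₀, hw₀, hy₀'⟩ := hcover y₀ hy₀
  have hall : ∀ y ∈ T, y ∈ Z w₀ := fun y hy => by
    have hcl : IsClosed (⋃ w ∈ roots.erase w₀, Z w) :=
      (roots.erase w₀).finite_toSet.isClosed_biUnion fun w _ => hZclosed w
    by_contra hyn
    have h1 : y ∈ ⋃ w ∈ roots.erase w₀, Z w := by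
      obtain ⟨w, hw, hyw⟩ := hcover y hy
      exact Set.mem_biUnion (Finset.mem_erase.2 ⟨fun e => hyn (e ▸ hyw), hw⟩) hyw
    obtain ⟨z, -, hz1, hz2⟩ := isPreconnected_closed_iff.1 H.preconnected (Z w₀)
      (⋃ w ∈ roots.erase w₀, Z w) (hZclosed w₀) hcl
      (fun z hz => by
        obtain ⟨w, hw, hzw⟩ := hcover z hz
        by_cases e : w = w₀
        · exact Or.inl (e ▸ hzw)
        · exact Or.inr (Set.mem_biUnion (Finset.mem_erase.2 ⟨e, hw⟩) hzw))
      ⟨y₀, hy₀, hy₀'⟩ ⟨y, hy, h1⟩
    obtain ⟨w, hw, hzw⟩ := Set.mem_iUnion₂.1 hz2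
    exact hdisj w w₀ (Finset.mem_erase.1 hw).1 z hzw hz1
  refine ⟨c w₀, ?_⟩
  set σ := s - glob f (c w₀) with hσ
  set β := X.presheaf.germ ⊤ (genericPoint X) trivial σ with hβ
  set πF := baseHom f (genericPoint X) π with hπF
  have hmem : ∀ y, β / πF ∈ (algebraMap (X.presheaf.stalk y) X.functionField).range := fun y => by
    suffices h : baseHom f y π ∣ X.presheaf.germ ⊤ y trivial σ by
      obtain ⟨t, ht⟩ := h
      refine ⟨t, ?_⟩
      rw [eq_div_iff H.ne_zero, hβ, ← algebraMap_germ y (U := ⊤) trivial σ, ht, map_mul,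
        algebraMap_baseHom, mul_comm]
    by_cases hy : y ∈ X.basicOpen (glob f π)
    · exact ((isUnit_baseHom_iff f π y).2 hy).dvd
    obtain ⟨_, ⟨U, hU, rfl⟩, hyU, -⟩ :=
      X.isBasis_affineOpens.exists_subset_of_mem_open (Set.mem_univ y) isOpen_univ
    replace hU : IsAffineOpen U := hU
    set res := (X.presheaf.map (homOfLE le_top : U ⟶ ⊤).op).hom
    have hle : X.basicOpen (res σ) ≤ X.basicOpen (res (glob f π)) := by
      rw [Scheme.basicOpen_res, Scheme.basicOpen_res]
      rintro z ⟨hzU, hz⟩
      refine ⟨hzU, ?_⟩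
      by_contra hzT
      exact (hall z hzT).2 hz
    have hrad : res σ ∈ (Ideal.span {res (glob f π)}).radical := by
      have : IsOpenImmersion hU.fromSpec := hU.isOpenImmersion_fromSpec
      rw [← PrimeSpectrum.basicOpen_le_basicOpen_iff, ← hU.fromSpec_preimage_basicOpen,
        ← hU.fromSpec_preimage_basicOpen]
      exact (TopologicalSpace.Opens.map _).monotone hle
    obtain ⟨n, hn⟩ := hrad
    obtain ⟨t, ht⟩ := Ideal.mem_span_singleton.1 hn
    have h2 := congrArg (X.presheaf.germ U y hyU).hom ht
    rw [map_pow, map_mul] at h2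
    have hgσ : X.presheaf.germ U y hyU (res σ) = X.presheaf.germ ⊤ y trivial σ :=
      X.presheaf.germ_res_apply _ _ _ _
    have hgπ : X.presheaf.germ U y hyU (res (glob f π)) = baseHom f y π :=
      X.presheaf.germ_res_apply _ _ _ _
    rw [← Ideal.mem_span_singleton, ← Ideal.Quotient.eq_zero_iff_mem]
    refine (H.reduced y hy).eq_zero _ ⟨n, ?_⟩
    rw [← map_pow, Ideal.Quotient.eq_zero_iff_mem, Ideal.mem_span_singleton, ← hgσ, ← hgπ]
    exact ⟨_, h2⟩
  obtain ⟨s₁, hs₁⟩ := exists_global _ hmem
  refine ⟨s₁, germ_injective_of_isIntegral X (U := ⊤) (genericPoint X) trivial ?_⟩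
  rw [map_mul, hs₁, ← baseHom_eq_germ, ← hπF, mul_div_cancel₀ _ H.ne_zero]

omit [AlgebraicGeometry.IsIntegral X] in
/-- Global sections of a proper scheme over an affine base are integral over it. -/
theorem isIntegral_toGlobal [UniversallyClosed f] : (glob f).IsIntegral :=
  RingHom.IsIntegral.trans _ _
    (RingHom.isIntegral_of_surjective _
      (Scheme.ΓSpecIso (CommRingCat.of R)).symm.commRingCatIsoToRingEquiv.surjective)
    (isIntegral_appTop_of_universallyClosed f)

/-- The separable closure of `Frac R` in the function field is trivial. -/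
theorem separableClosure_eq_bot [IsDomain R] [IsDiscreteValuationRing R] [IsAlgClosed (ResidueField R)]
    [UniversallyClosed f] (hπ : Irreducible π) (H : Fibres f π)
    (K : Type u) [Field K] [Algebra R K] [IsFractionRing R K] [Algebra R X.functionField]
    [Algebra K X.functionField] [IsScalarTower R K X.functionField]
    (halg : algebraMap R X.functionField = baseHom f (genericPoint X)) :
    separableClosure K X.functionField = ⊥ := by
  refine bot_unique fun a ha => ?_
  rw [mem_separableClosure_iff] at ha
  set L := IntermediateField.adjoin K ({a} : Set X.functionField)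
  have : FiniteDimensional K L := IntermediateField.adjoin.finiteDimensional ha.isIntegral
  have : Algebra.IsSeparable K L :=
    (IntermediateField.isSeparable_adjoin_simple_iff_isSeparable K X.functionField).2 ha
  have : IsScalarTower R L X.functionField := .of_algebraMap_eq fun r => by
    rw [IsScalarTower.algebraMap_apply R K X.functionField, IsScalarTower.algebraMap_apply R K L]
    rfl
  let N := integralClosure R L
  have : Module.Finite R N := IsIntegralClosure.finite R K L N
  have key : ∀ x : N, ∃ (c : R) (x₁ : N), x = c • (1 : N) + π • x₁ := fun x => by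
    obtain ⟨s, hs⟩ := exists_global_of_isIntegral H ((x.1 : L) : X.functionField) (by
      rw [← halg]; exact x.2.map (IsScalarTower.toAlgHom R L X.functionField))
    obtain ⟨c, s₁, hcs⟩ := exists_sub_eq_mul hπ H s (isIntegral_toGlobal s)
    set b₁ := X.presheaf.germ ⊤ (genericPoint X) trivial s₁ with hb₁
    have h1 := congrArg (X.presheaf.germ ⊤ (genericPoint X) trivial).hom hcs
    rw [map_sub, map_mul, hs] at h1
    have h1' : ((x.1 : L) : X.functionField) - algebraMap R X.functionField c =
        algebraMap R X.functionField π * b₁ := by rw [halg]; exact h1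
    have hπL : algebraMap R X.functionField π ≠ 0 := by rw [halg]; exact H.ne_zero
    have hb₁L : b₁ ∈ L := by
      have h2 : b₁ = ((x.1 : L) - algebraMap R X.functionField c) / algebraMap R X.functionField π := by
        rw [eq_div_iff hπL, h1', mul_comm]
      rw [h2, IsScalarTower.algebraMap_apply R K X.functionField c,
        IsScalarTower.algebraMap_apply R K X.functionField π]
      exact div_mem (sub_mem x.1.2 (L.algebraMap_mem _)) (L.algebraMap_mem _)
    have hint : IsIntegral R b₁ := by
      show (algebraMap R X.functionField).IsIntegralElem b₁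
      obtain ⟨g, hg, hg0⟩ := isIntegral_toGlobal (f := f) s₁
      refine ⟨g, hg, ?_⟩
      have h3 := congrArg (X.presheaf.germ ⊤ (genericPoint X) trivial).hom hg0
      rw [map_zero, hom_eval₂] at h3
      rw [halg]
      exact h3
    refine ⟨c, ⟨⟨b₁, hb₁L⟩, (isIntegral_algHom_iff (IsScalarTower.toAlgHom R L X.functionField)
      Subtype.val_injective).1 hint⟩, Subtype.ext (Subtype.ext ?_)⟩
    show ((x.1 : L) : X.functionField) = ((c • (1 : L) + π • (⟨b₁, hb₁L⟩ : L) : L) : X.functionField)
    simp only [IntermediateField.coe_add, Algebra.smul_def, IntermediateField.coe_mul, mul_one]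
    rw [← IntermediateField.algebraMap_apply (S := L) (algebraMap R L c),
      ← IntermediateField.algebraMap_apply (S := L) (algebraMap R L π),
      ← IsScalarTower.algebraMap_apply, ← IsScalarTower.algebraMap_apply, ← h1']
    ring
  have htop : (⊤ : Submodule R N) ≤ Submodule.span R {(1 : N)} := by
    refine Submodule.le_of_le_smul_of_le_jacobson_bot (I := maximalIdeal R) Module.Finite.fg_top
      (maximalIdeal_le_jacobson _) fun x _ => ?_
    obtain ⟨c, x₁, rfl⟩ := key x
    exact Submodule.add_mem_sup (Submodule.smul_mem _ _ (Submodule.mem_span_singleton_self _))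
      (Submodule.smul_mem_smul (hπ.maximalIdeal_eq ▸ Ideal.mem_span_singleton_self π) trivial)
  set a' : L := ⟨a, IntermediateField.mem_adjoin_simple_self K a⟩
  obtain ⟨⟨r, hr⟩, hint⟩ := IsIntegral.exists_multiple_integral_of_isLocalization (nonZeroDivisors R) a'
    (IsIntegral.of_finite K a')
  obtain ⟨c, hc⟩ := Submodule.mem_span_singleton.1 (htop (Submodule.mem_top (x := (⟨r • a', hint⟩ : N))))
  refine IntermediateField.mem_bot.2 ⟨algebraMap R K c / algebraMap R K r, ?_⟩
  have hc' := congrArg (fun n : N => ((n.1 : L) : X.functionField)) hc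
  simp only [Algebra.smul_def, mul_one, IntermediateField.coe_mul, MulMemClass.coe_mul,
    Subalgebra.coe_algebraMap] at hc'
  rw [map_div₀, div_eq_iff (by
    simpa using (IsFractionRing.to_map_ne_zero_of_mem_nonZeroDivisors (K := K) hr))]
  rw [← IsScalarTower.algebraMap_apply, ← IsScalarTower.algebraMap_apply, mul_comm]
  rw [← IntermediateField.algebraMap_apply, ← IntermediateField.algebraMap_apply,
    ← IsScalarTower.algebraMap_apply, ← IsScalarTower.algebraMap_apply] at hc'
  exact hc'

end Groth.Agent.Lib.ModelFibre.RegularExt
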