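import Groth.Agent.H54.PicTorsion

/-!
# Trivialising torsion invertible modules on a thickening
-/

set_option linter.style.haveILetI false

universe u

open CategoryTheory AlgebraicGeometry Opposite TopologicalSpace
open Groth.Agent.Lib.TensorMod Groth.Agent.Lib.TensorMod.Dual Groth.Agent.Lib.TensorMod.Gen
open Groth.Agent.Lib.Ample.GenLocus
open Groth.Agent.Lib.TensorMod.Pullback (unitSec)
open Groth.Agent.H54 (PicTorsion.tpow)

namespace Groth.Agent.Lib.ModelFibre.TorsGen

open Groth.Agent.H54.PicTorsion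

noncomputable section

/-- The pullback of a trivialisation of a tensor power. -/
theorem nonempty_pullback_tensorPow {X Y : Scheme.{u}} (f : X ⟶ Y) (M : Y.Modules) :
    ∀ n, Nonempty ((Scheme.Modules.pullback f).obj (CohB1.tensorPow M n) ≅
      CohB1.tensorPow ((Scheme.Modules.pullback f).obj M) n)
  | 0 => ⟨PicLoc.pullbackStructureIso f⟩
  | n + 1 => by
    obtain ⟨e⟩ := nonempty_pullback_tensorPow f M n
    exact ⟨Pullback.pullbackTensorIso f _ _ ≪≫ Basic.tensorIso e (Iso.refl _)⟩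

variable {Z₁ Z : Scheme.{u}} (j : Z₁ ⟶ Z) [IsClosedImmersion j] [Surjective j]

/-- An invertible module with trivial `h`-th power which is trivial on a thickened subscheme has a class
there, and is trivial if that class is an `h`-th power times a liftable unit. -/
theorem exists_mult {M : Z.Modules} (hM : PicF.IsInvertible M) {h : ℕ} (hh : 0 < h)
    (hu : IsUnit (h : Γ(Z₁, ⊤))) (φ : CohB1.tensorPow M h ≅ Coh.structureModule Z)
    (ψ : (Scheme.Modules.pullback j).obj M ≅ Coh.structureModule Z₁) :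
    ∃ c : Γ(Z₁, ⊤), IsUnit c ∧ ∀ (v : Γ(Z₁, ⊤)) (t : Γ(Z, ⊤)), IsUnit v →
      v ^ h * c = j.appTop t → Nonempty (M ≅ Coh.structureModule Z) := by
  classical
  have hloc : ∀ z : Z, ∃ (U : Z.Opens) (e : Γ(M, U)), z ∈ U ∧ IsGen M U e := isInvertible_iff.1 hM
  choose U e hzU he using hloc
  have hcov : iSup U = ⊤ := top_le_iff.1 fun z _ => Opens.mem_iSup.2 ⟨z, hzU z⟩
  have hpre : (⨆ a, j ⁻¹ᵁ U a) = ⊤ := by rw [← Scheme.Hom.preimage_iSup, hcov]; rfl
  -- the generator on the subscheme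
  let ε : Γ((Scheme.Modules.pullback j).obj M, ⊤) := ψ.inv.app ⊤ (one Z₁ ⊤)
  have hε : IsGen ((Scheme.Modules.pullback j).obj M) ⊤ ε :=
    isGen_of_isIso_over (isIso_over_of_iso ψ.symm ⊤) (isGen_one ⊤)
  have hg : ∀ a, ∃ g : Γ(Z₁, j ⁻¹ᵁ U a),
      rs ((Scheme.Modules.pullback j).obj M) le_top ε = g • unitSec j M (e a) := fun a =>
    exists_coord (isGen_unitSec j (he a)) _
  choose g hg using hg
  have hgu : ∀ a, IsUnit (g a) := fun a =>
    isUnit_of_isGen_smul (isGen_unitSec j (he a)) (hg a ▸ hε.res le_top)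
  let w : ∀ a, Γ(Z, U a) := fun a => φ.hom.app (U a) (tpow (e a) h)
  have hw : ∀ a, φ.hom.app (U a) (tpow (e a) h) = w a • one Z (U a) := fun a => smul_one_eq (w a)
  have hwu : ∀ a, IsUnit (w a) := fun a => by
    refine isUnit_of_isGen_smul (isGen_one (U a)) ?_
    rw [← hw]
    exact isGen_of_isIso_over (isIso_over_of_iso φ (U a)) (isGen_tpow (he a) h)
  -- transition functions
  have htrans : ∀ a b (W : Z.Opens) (ha : W ≤ U a) (hb : W ≤ U b), ∃ r : Γ(Z, W),
      rs M hb (e b) = r • rs M ha (e a) ∧ r ^ h * rf ha (w a) = rf hb (w b) ∧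
      rf (j.preimage_mono ha) (g a) = rf (j.preimage_mono hb) (g b) * j.app W r := by
    intro a b W ha hb
    obtain ⟨r, hr⟩ := exists_coord ((he a).res ha) (rs M hb (e b))
    refine ⟨r, hr, ?_, ?_⟩
    · have key : ∀ c (hc : W ≤ U c), φ.hom.app W (tpow (rs M hc (e c)) h) = rf hc (w c) • one Z W := by
        intro c hc
        rw [← rs_tpow, ← HomGlue.rs_app, ← smul_one_eq]
        rfl
      have h1 := key b hb
      rw [hr, tpow_smul, Scheme.Modules.Hom.app_smul, key a ha, smul_smul] at h1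
      refine (isGen_one W _ le_rfl).1 ?_
      simp only [rs_self]
      exact h1
    · have h1 := congrArg (rs _ (j.preimage_mono ha)) (hg a)
      have h2 := congrArg (rs _ (j.preimage_mono hb)) (hg b)
      rw [rs_rs, rs_smul, unitSec_rs (h := ha)] at h1
      rw [rs_rs, rs_smul, unitSec_rs (h := hb)] at h2
      rw [hr, unitSec_smul, smul_smul] at h2
      refine ((isGen_unitSec j ((he a).res ha)) _ le_rfl).1 ?_
      simp only [rs_self]
      exact h1.symm.trans h2
  -- the class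
  let cc : ∀ a, Γ(Z₁, j ⁻¹ᵁ U a) := fun a => g a ^ h * j.app (U a) (w a)
  obtain ⟨c, hc⟩ : ∃ c : Γ(Z₁, ⊤), ∀ a, rf (le_top : j ⁻¹ᵁ U a ≤ ⊤) c = cc a := by
    obtain ⟨c, hc, -⟩ := Z₁.sheaf.existsUnique_gluing' (fun a => j ⁻¹ᵁ U a) ⊤ (fun a => homOfLE le_top)
      hpre.ge cc (fun a b => by
      change rf (j.preimage_mono (inf_le_left : U a ⊓ U b ≤ U a)) (cc a) =
        rf (j.preimage_mono (inf_le_right : U a ⊓ U b ≤ U b)) (cc b)
      obtain ⟨r, -, hr, hgr⟩ := htrans a b (U a ⊓ U b) inf_le_left inf_le_right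
      have hr' := congrArg (j.app (U a ⊓ U b)) hr
      rw [map_mul, map_pow, app_rf, app_rf] at hr'
      simp only [cc, rf, map_mul, map_pow] at hgr hr' ⊢
      rw [hgr, mul_pow, mul_assoc, hr'])
    exact ⟨c, hc⟩
  have hcunit : IsUnit c := by
    refine RingedSpace.isUnit_of_isUnit_germ Z₁.toLocallyRingedSpace.toRingedSpace ⊤ _ fun x _ => ?_
    obtain ⟨a, hxa⟩ := Opens.mem_iSup.1 (show x ∈ ⨆ a, j ⁻¹ᵁ U a by rw [hpre]; trivial)
    rw [← TopCat.Presheaf.germ_res_apply Z₁.presheaf (homOfLE le_top) x hxa]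
    exact IsUnit.map _ (show IsUnit (Z₁.presheaf.map (homOfLE (le_top : j ⁻¹ᵁ U a ≤ ⊤)).op c) by
      rw [show Z₁.presheaf.map (homOfLE (le_top : j ⁻¹ᵁ U a ≤ ⊤)).op c = cc a from hc a]
      exact ((hgu a).pow h).mul ((hwu a).map _))
  refine ⟨c, hcunit, fun v t hv hvt => ?_⟩
  have htu : IsUnit t := Groth.Agent.H54.PicTorsion.isUnit_of_isUnit_app j t (by
    show IsUnit (j.appTop t)
    rw [← hvt]
    exact (hv.pow h).mul hcunit)
  have hr : ∀ a, ∃ r : Γ(Z, U a), r ^ h * w a = rf le_top t ∧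
      j.app (U a) r = rf (le_top : j ⁻¹ᵁ U a ≤ ⊤) v * g a := by
    intro a
    obtain ⟨d, hd⟩ := hwu a
    obtain ⟨r, hr, hrj⟩ := exists_root j hh hu (rf (le_top : U a ≤ ⊤) t * (↑d⁻¹ : Γ(Z, U a)))
      (rf (le_top : j ⁻¹ᵁ U a ≤ ⊤) v * g a) ((hv.map _).mul (hgu a)) (by
        have h1 : rf (le_top : j ⁻¹ᵁ U a ≤ ⊤) (v ^ h * c) =
            j.app (U a) (rf (le_top : U a ≤ ⊤) t) := by
          rw [app_rf, hvt]
          rfl
        have h2 : rf (le_top : j ⁻¹ᵁ U a ≤ ⊤) c = cc a := hc a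
        rw [map_mul, ← h1, mul_pow]
        simp only [rf, map_mul, map_pow] at h2 ⊢
        rw [h2]
        simp only [cc]
        rw [mul_assoc, mul_assoc (g a ^ h), ← map_mul, ← hd, Units.mul_inv, map_one, mul_one])
    exact ⟨r, by rw [hr, mul_assoc, ← hd, Units.inv_mul, mul_one], hrj⟩
  choose r hr hrj using hr
  have hru : ∀ a, IsUnit (r a) := fun a =>
    Groth.Agent.H54.PicTorsion.isUnit_of_isUnit_app j _ (by rw [hrj]; exact (hv.map _).mul (hgu a))
  obtain ⟨ψ', -⟩ := HomGlue.exists_iso_of_gen hcov (fun a => r a • e a)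
    (fun a => IsGen_smul_isUnit (he a) (hru a)) (fun a => one Z (U a)) (fun a => isGen_one _)
    fun a b W ha hb x hx => by
      obtain ⟨q, hq, hqw, hqg⟩ := htrans a b W ha hb
      rw [rs_smul, rs_smul, hq, smul_smul, smul_smul] at hx
      have hx' : rf ha (r a) = x * rf hb (r b) * q := by
        refine ((he a).res ha W le_rfl).1 ?_
        simpa only [rs_self, mul_assoc] using hx
      have heq : rf ha (r a) = rf hb (r b) * q := by
        refine root_unique j hu ?_ ?_ ?_
        · refine ((hru b).map _).mul (isUnit_of_isGen_smul ((he a).res ha) ?_)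
          rw [← hq]; exact (he b).res hb
        · refine ((hwu a).map (Z.presheaf.map (homOfLE ha).op).hom).mul_left_inj.1 ?_
          have h1 := congrArg (rf ha) (hr a)
          have h2 := congrArg (rf hb) (hr b)
          simp only [rf, map_mul, map_pow] at h1 h2 hqw ⊢
          rw [h1, mul_pow, mul_assoc, hqw, h2]
          simp only [← ConcreteCategory.comp_apply, ← Functor.map_comp]
          rfl
        · rw [map_mul, app_rf, app_rf, hrj, hrj]
          simp only [rf, map_mul] at hqg ⊢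
          rw [hqg]
          simp only [← ConcreteCategory.comp_apply, ← Functor.map_comp, ← op_comp, homOfLE_comp]
          ring
      have hx1 : x = 1 := by
        have hu' : IsUnit (rf hb (r b) * q) := heq ▸ (hru a).map _
        rw [mul_assoc, heq] at hx'
        exact hu'.mul_left_inj.1 (hx'.symm.trans (one_mul _).symm)
      subst hx1
      rw [one_smul]
      exact (map_one (Z.presheaf.map (homOfLE ha).op).hom).trans
        (map_one (Z.presheaf.map (homOfLE hb).op).hom).symm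
  exact ⟨ψ'⟩

end

end Groth.Agent.Lib.ModelFibre.TorsGen
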