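import Mathlib
import Groth.Agent.Lib.ModelFibre.Chart
import Groth.Agent.H26.BirationalZMT

/-!
# A flat birational proper morphism over a normal point of codimension one is an isomorphism
-/

universe u

open CategoryTheory Limits AlgebraicGeometry IsLocalRing TopologicalSpace

namespace Groth.Agent.Lib.ModelFibre.CodimOne

/-- An integrally closed noetherian local domain of dimension one is a valuation ring. -/
theorem valuationRing {O : Type u} [CommRing O] [IsDomain O] [IsLocalRing O] [IsNoetherianRing O]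
    [IsIntegrallyClosed O] (h : ringKrullDim O = 1) : ValuationRing O := by
  have hf : ¬ IsField O := fun hf => by
    rw [ringKrullDim_eq_zero_of_isField hf] at h
    exact absurd h (by simp)
  have hTFAE := ((IsDiscreteValuationRing.TFAE O hf).out 3 1 :
    (IsIntegrallyClosed O ∧ ∃! P : Ideal O, P ≠ ⊥ ∧ P.IsPrime) ↔ ValuationRing O)
  refine hTFAE.mp ⟨inferInstance, maximalIdeal O,
    ⟨fun hb => hf (isField_iff_maximalIdeal_eq.mpr hb), inferInstance⟩, fun P ⟨hP, hPp⟩ => ?_⟩
  by_contra hne
  have hlt : P < maximalIdeal O := lt_of_le_of_ne (le_maximalIdeal hPp.ne_top) hne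
  have h1 := Ideal.height_strict_mono_of_isPrime (bot_lt_iff_ne_bot.2 hP)
  have h2 := Ideal.height_strict_mono_of_isPrime hlt
  have h3 : (maximalIdeal O).height = 1 := by
    have h4 := IsLocalRing.maximalIdeal_height_eq_ringKrullDim (R := O)
    rw [h] at h4
    exact_mod_cast h4
  rw [h3, ENat.lt_one_iff_eq_zero] at h2
  simp [h2] at h1

/-- A local homomorphism from a valuation ring into a subring of its fraction field is surjective. -/
theorem surjective_of_valuationRing {O O' K : Type*} [CommRing O] [CommRing O'] [Field K] [IsDomain O]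
    [ValuationRing O] (φ : O →+* O') [IsLocalHom φ] (ψ : O' →+* K) (hψ : Function.Injective ψ)
    [Algebra O K] [IsFractionRing O K] (h : ψ.comp φ = algebraMap O K) : Function.Surjective φ := by
  intro b
  rcases ValuationRing.isInteger_or_isInteger O (ψ b) with ⟨a, ha⟩ | ⟨a, ha⟩
  · exact ⟨a, hψ ((RingHom.congr_fun h a).trans ha)⟩
  · by_cases hb : ψ b = 0
    · exact ⟨0, hψ (by rw [map_zero, map_zero, hb])⟩
    · have h1 : φ a * b = 1 := hψ (by
        rw [map_mul, map_one, show ψ (φ a) = (ψ b)⁻¹ from (RingHom.congr_fun h a).trans ha,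
          inv_mul_cancel₀ hb])
      have hu : IsUnit a := isUnit_of_map_unit φ a (IsUnit.of_mul_eq_one b h1)
      obtain ⟨v, hv⟩ := hu.exists_right_inv
      refine ⟨v, ?_⟩
      calc φ v = φ v * (φ a * b) := by rw [h1, mul_one]
        _ = φ (a * v) * b := by rw [map_mul]; ring
        _ = b := by rw [hv, map_one, one_mul]

variable {R : Type u} [CommRing R] [IsDomain R] {X : Scheme.{u}} (p : X ⟶ Spec (CommRingCat.of R))

/-- On an affine open, functions of a flat scheme over `Spec R` inject into their localization at a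
nonzero element of `R`. -/
theorem injective_map_basicOpen [Flat p] {U : X.Opens} (hU : IsAffineOpen U) {r : R} (hr : r ≠ 0) :
    Function.Injective (X.presheaf.map
      (homOfLE (X.basicOpen_le ((Chart.chartHom p hU).hom r))).op).hom := by
  have : IsOpenImmersion hU.fromSpec := hU.isOpenImmersion_fromSpec
  set α := Chart.chartHom p hU
  letI : Algebra R Γ(X, U) := α.hom.toAlgebra
  have : Module.Flat R Γ(X, U) := by
    show α.hom.Flat
    rw [← HasRingHomProperty.Spec_iff (P := @Flat),
      show Spec.map α = hU.fromSpec ≫ p from Spec.map_preimage _]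
    infer_instance
  have hreg : IsSMulRegular Γ(X, U) r := Module.Flat.isSMulRegular_of_isRegular (IsRegular.of_ne_zero hr)
  set a := α.hom r with ha
  have hloc := hU.isLocalization_basicOpen a
  have hpow : ∀ (n : ℕ) (s : Γ(X, U)), a ^ n * s = 0 → s = 0 := by
    intro n
    induction n with
    | zero => intro s hs; simpa using hs
    | succ n ih =>
      intro s hs
      refine ih s (hreg (show r • (a ^ n * s) = r • (0 : Γ(X, U)) from ?_))
      rw [Algebra.smul_def, smul_zero, ← mul_assoc, show algebraMap R Γ(X, U) r = a from rfl, ← pow_succ']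
      exact hs
  refine (injective_iff_map_eq_zero _).2 fun s hs => ?_
  obtain ⟨⟨_, n, rfl⟩, hc⟩ := (IsLocalization.map_eq_zero_iff (Submonoid.powers a)
    Γ(X, X.basicOpen a) s).1 hs
  exact hpow n s hc

lemma basicOpen_chartHom_le {U : X.Opens} (hU : IsAffineOpen U) (r : R) :
    X.basicOpen ((Chart.chartHom p hU).hom r) ≤ p ⁻¹ᵁ PrimeSpectrum.basicOpen r := by
  intro z hz
  have hzU : z ∈ U := X.basicOpen_le _ hz
  have h : (hU.primeIdealOf ⟨z, hzU⟩) ∈ hU.fromSpec ⁻¹ᵁ X.basicOpen ((Chart.chartHom p hU).hom r) := by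
    show hU.fromSpec (hU.primeIdealOf ⟨z, hzU⟩) ∈ X.basicOpen ((Chart.chartHom p hU).hom r)
    rw [hU.fromSpec_primeIdealOf]
    exact hz
  rw [hU.fromSpec_preimage_basicOpen] at h
  have h2 : (hU.fromSpec ≫ p) (hU.primeIdealOf ⟨z, hzU⟩) ∈ PrimeSpectrum.basicOpen r := by
    rw [show hU.fromSpec ≫ p = Spec.map (Chart.chartHom p hU) from (Spec.map_preimage _).symm]
    exact h
  rw [Scheme.Hom.comp_apply, hU.fromSpec_primeIdealOf] at h2
  exact h2

/-- A flat scheme over `Spec R` is schematically dense over a nonzero element: topologically. -/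
theorem exists_mem_preimage_basicOpen [Flat p] {r : R} (hr : r ≠ 0) (O : X.Opens) (x : X) (hx : x ∈ O) :
    ∃ y, y ∈ O ∧ y ∈ p ⁻¹ᵁ PrimeSpectrum.basicOpen r := by
  obtain ⟨_, ⟨U, hU, rfl⟩, hxU, hUO⟩ :=
    X.isBasis_affineOpens.exists_subset_of_mem_open hx O.2
  replace hU : IsAffineOpen U := hU
  by_contra h
  push Not at h
  have hbot : X.basicOpen ((Chart.chartHom p hU).hom r) = ⊥ := by
    rw [← le_bot_iff]
    intro y hy
    exact (h y (hUO (X.basicOpen_le _ hy)) (basicOpen_chartHom_le p hU r hy)).elim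
  have : Subsingleton Γ(X, X.basicOpen ((Chart.chartHom p hU).hom r)) := by
    rw [hbot]; infer_instance
  have : Subsingleton Γ(X, U) := (injective_map_basicOpen p hU hr).subsingleton
  have : Nontrivial Γ(X, U) :=
    @Scheme.component_nontrivial X U ⟨⟨x, hxU⟩⟩
  exact false_of_nontrivial_of_subsingleton Γ(X, U)

/-- A flat scheme over `Spec R` is reduced when it is so over a nonzero element. -/
theorem isReduced_of_flat [Flat p] {r : R} (hr : r ≠ 0)
    [AlgebraicGeometry.IsReduced (p ⁻¹ᵁ PrimeSpectrum.basicOpen r : X.Opens).toScheme] :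
    AlgebraicGeometry.IsReduced X := by
  set T := p ⁻¹ᵁ PrimeSpectrum.basicOpen r
  have hT : ∀ y ∈ T, _root_.IsReduced (X.presheaf.stalk y) := fun y hy =>
    isReduced_of_injective (T.stalkIso ⟨y, hy⟩).inv.hom (T.stalkIso ⟨y, hy⟩).symm.commRingCatIsoToRingEquiv.injective
  have haff : ∀ U : X.Opens, IsAffineOpen U → _root_.IsReduced Γ(X, U) := by
    intro U hU
    refine ⟨fun s hs => injective_map_basicOpen p hU hr ?_⟩
    rw [map_zero]
    set B := X.basicOpen ((Chart.chartHom p hU).hom r)
    set s' := (X.presheaf.map (homOfLE (X.basicOpen_le ((Chart.chartHom p hU).hom r))).op).hom s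
    refine TopCat.Presheaf.section_ext X.sheaf B s' 0 fun y hy => ?_
    show (X.presheaf.germ B y hy).hom s' = (X.presheaf.germ B y hy).hom 0
    rw [map_zero]
    have := hT y (basicOpen_chartHom_le p hU r hy)
    exact ((hs.map _).map (X.presheaf.germ B y hy).hom).eq_zero
  have : ∀ x : X, _root_.IsReduced (X.presheaf.stalk x) := fun x => by
    obtain ⟨_, ⟨U, hU, rfl⟩, hx, -⟩ :=
      X.isBasis_affineOpens.exists_subset_of_mem_open (Set.mem_univ x) isOpen_univ
    replace hU : IsAffineOpen U := hU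
    have : IsOpenImmersion hU.fromSpec := hU.isOpenImmersion_fromSpec
    have := haff U hU
    obtain ⟨P, rfl⟩ : ∃ P, hU.fromSpec P = x :=
      ⟨hU.primeIdealOf ⟨x, hx⟩, hU.fromSpec_primeIdealOf ⟨x, hx⟩⟩
    exact isReduced_of_injective (hU.fromSpec.stalkMap P).hom
      (asIso (hU.fromSpec.stalkMap P)).commRingCatIsoToRingEquiv.injective
  exact AlgebraicGeometry.isReduced_of_isReduced_stalk X

variable {C Z : Scheme.{u}}

/-- Over a valuative point, a separated morphism has at most one point in the fibre through which a given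
generization lifts birationally. -/
theorem subsingleton_fibre (h : Z ⟶ C) [IsSeparated h] [IsIntegral Z] [IsIntegral C]
    (hgen : h (genericPoint Z) = genericPoint C) (hbir : IsIso (h.stalkMap (genericPoint Z))) (c : C)
    [ValuationRing (C.presheaf.stalk c)] : (h ⁻¹' {c}).Subsingleton := by
  intro z₁ hz₁ z₂ hz₂
  let ι : C.presheaf.stalk c ⟶ C.presheaf.stalk (genericPoint C) :=
    C.presheaf.stalkSpecializes (genericPoint_specializes c)
  let κ : C.presheaf.stalk (genericPoint C) ⟶ Z.presheaf.stalk (genericPoint Z) :=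
    C.presheaf.stalkSpecializes (specializes_of_eq hgen) ≫ h.stalkMap (genericPoint Z)
  have hκ : IsIso κ := by
    have : IsIso (C.presheaf.stalkSpecializes (specializes_of_eq hgen)) :=
      (C.presheaf.stalkCongr (.of_eq hgen.symm)).isIso_hom
    infer_instance
  letI : Algebra (C.presheaf.stalk c) (Z.presheaf.stalk (genericPoint Z)) := (ι ≫ κ).hom.toAlgebra
  have : IsFractionRing (C.presheaf.stalk c) (Z.presheaf.stalk (genericPoint Z)) := by
    have h0 : IsFractionRing (C.presheaf.stalk c) (C.functionField) := inferInstance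
    exact IsLocalization.isLocalization_of_algEquiv (nonZeroDivisors _)
      (AlgEquiv.ofRingEquiv (f := (asIso κ).commRingCatIsoToRingEquiv) fun a => rfl :
        C.functionField ≃ₐ[C.presheaf.stalk c] Z.presheaf.stalk (genericPoint Z))
  letI : Field (Z.presheaf.stalk (genericPoint Z)) :=
    inferInstanceAs (Field Z.functionField)
  -- the section through a point of the fibre
  have key : ∀ z : Z, h z = c → ∃ σ : Spec (C.presheaf.stalk c) ⟶ Z, σ ≫ h = C.fromSpecStalk c ∧
      σ (closedPoint _) = z ∧ Spec.map (ι ≫ κ) ≫ σ = Z.fromSpecStalk (genericPoint Z) := by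
    intro z hz
    let φ : C.presheaf.stalk c ⟶ Z.presheaf.stalk z :=
      C.presheaf.stalkSpecializes (specializes_of_eq hz) ≫ h.stalkMap z
    let ψ : Z.presheaf.stalk z ⟶ Z.presheaf.stalk (genericPoint Z) :=
      Z.presheaf.stalkSpecializes (genericPoint_specializes z)
    have hψφ : φ ≫ ψ = ι ≫ κ := by
      simp only [φ, ψ, ι, κ, Category.assoc, ← Scheme.Hom.stalkSpecializes_stalkMap,
        TopCat.Presheaf.stalkSpecializes_comp_assoc]
    have hψ : Function.Injective ψ.hom := by
      letI := Z.presheaf.stalk z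
      exact IsFractionRing.injective (Z.presheaf.stalk z) Z.functionField
    have hloc : IsLocalHom φ.hom := by
      have h1 : IsLocalHom (C.presheaf.stalkSpecializes (specializes_of_eq hz)).hom :=
        ⟨fun a ha => by
          have := ha.map (C.presheaf.stalkSpecializes (specializes_of_eq hz.symm)).hom
          rwa [← CommRingCat.comp_apply, TopCat.Presheaf.stalkSpecializes_comp,
            TopCat.Presheaf.stalkSpecializes_refl] at this⟩
      exact RingHom.isLocalHom_comp (h.stalkMap z).hom (C.presheaf.stalkSpecializes (specializes_of_eq hz)).hom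
    have hcomp : ψ.hom.comp φ.hom = algebraMap (C.presheaf.stalk c) (Z.presheaf.stalk (genericPoint Z)) :=
      congrArg CommRingCat.Hom.hom hψφ
    have hsurj := surjective_of_valuationRing φ.hom ψ.hom hψ hcomp
    have hinj : Function.Injective φ.hom := fun a b e =>
      IsFractionRing.injective (C.presheaf.stalk c) (Z.presheaf.stalk (genericPoint Z)) (by
        rw [← hcomp, RingHom.comp_apply, RingHom.comp_apply, e])
    have : IsIso φ :=
      (RingEquiv.ofBijective φ.hom ⟨hinj, hsurj⟩).toCommRingCatIso.isIso_hom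
    refine ⟨Spec.map (inv φ) ≫ Z.fromSpecStalk z, ?_, ?_, ?_⟩
    · rw [Category.assoc, ← Scheme.SpecMap_stalkMap_fromSpecStalk,
        ← Scheme.SpecMap_stalkSpecializes_fromSpecStalk (X := C) (specializes_of_eq hz), ← Spec.map_comp_assoc,
        ← Spec.map_comp_assoc]
      show Spec.map (φ ≫ inv φ) ≫ _ = _
      rw [IsIso.hom_inv_id, Spec.map_id, Category.id_comp]
    · rw [Scheme.Hom.comp_apply]
      have : Spec.map (inv φ) (closedPoint _) = closedPoint (Z.presheaf.stalk z) :=
        IsLocalRing.comap_closedPoint (inv φ).hom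
      rw [this, Scheme.fromSpecStalk_closedPoint]
    · rw [← Spec.map_comp_assoc, ← hψφ]
      rw [IsIso.inv_hom_id_assoc]
      exact Scheme.SpecMap_stalkSpecializes_fromSpecStalk _
  obtain ⟨σ₁, h1, h1', h1''⟩ := key z₁ hz₁
  obtain ⟨σ₂, h2, h2', h2''⟩ := key z₂ hz₂
  have : IsDominant (Spec.map (ι ≫ κ)) := by
    refine ⟨?_⟩
    show DenseRange (PrimeSpectrum.comap (ι ≫ κ).hom)
    rw [PrimeSpectrum.denseRange_comap_iff_ker_le_nilRadical]
    intro a ha
    have h0 : a = 0 := IsFractionRing.injective (C.presheaf.stalk c)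
      (Z.presheaf.stalk (genericPoint Z)) ((RingHom.mem_ker.1 ha).trans (map_zero _).symm)
    rw [h0]
    exact Submodule.zero_mem _
  have heq : σ₁ = σ₂ := ext_of_isDominant_of_isSeparated h (h1.trans h2.symm) (Spec.map (ι ≫ κ))
    (h1''.trans h2''.symm)
  rw [← h1', ← h2', heq]

/-- The integral case of `exists_nhds_isIso`. -/
theorem exists_nhds_isIso_integral [IsIntegral C] [IsLocallyNoetherian C]
    (πC : C ⟶ Spec (CommRingCat.of R)) [Flat πC] (h : Z ⟶ C) [IsProper h] [Flat (h ≫ πC)]
    {r : R} (hr : r ≠ 0) (hgen : IsIso (h ∣_ (πC ⁻¹ᵁ PrimeSpectrum.basicOpen r)))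
    (c : C) (hnorm : IsIntegrallyClosed (C.presheaf.stalk c))
    (hdim : ringKrullDim (C.presheaf.stalk c) = 1) :
    ∃ V : C.Opens, c ∈ V ∧ IsIso (h ∣_ V) := by
  set W := πC ⁻¹ᵁ PrimeSpectrum.basicOpen r with hW
  obtain ⟨w, -, hw⟩ := exists_mem_preimage_basicOpen πC hr ⊤ c trivial
  have hξW : genericPoint C ∈ W := Groth.Agent.H26.BirationalZMT.genericPoint_mem hw
  have : Nonempty (W : Scheme.{u}) := ⟨⟨w, hw⟩⟩
  have : IsIntegral (W : Scheme.{u}) := isIntegral_of_isOpenImmersion W.ι
  have hTne : Nonempty (h ⁻¹ᵁ W : Z.Opens).toScheme :=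
    (h ∣_ W).homeomorph.toEquiv.nonempty
  have hTint : IsIntegral (h ⁻¹ᵁ W : Z.Opens).toScheme := isIntegral_of_isOpenImmersion (h ∣_ W)
  have : AlgebraicGeometry.IsReduced ((h ≫ πC) ⁻¹ᵁ PrimeSpectrum.basicOpen r : Z.Opens).toScheme :=
    inferInstanceAs (AlgebraicGeometry.IsReduced (h ⁻¹ᵁ W : Z.Opens).toScheme)
  have : AlgebraicGeometry.IsReduced Z := isReduced_of_flat (h ≫ πC) hr
  have hdense : Dense ((h ⁻¹ᵁ W : Z.Opens) : Set Z) := by
    rw [dense_iff_inter_open]
    rintro O hO ⟨z, hz⟩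
    obtain ⟨y, hy, hy'⟩ := exists_mem_preimage_basicOpen (h ≫ πC) hr ⟨O, hO⟩ z hz
    exact ⟨y, hy, hy'⟩
  have hTirr : IsIrreducible ((h ⁻¹ᵁ W : Z.Opens) : Set Z) := by
    have h0 := (IrreducibleSpace.isIrreducible_univ (h ⁻¹ᵁ W : Z.Opens).toScheme).image
      (h ⁻¹ᵁ W).ι ((h ⁻¹ᵁ W).ι.continuous.continuousOn)
    rwa [Set.image_univ, Scheme.Opens.range_ι] at h0
  have : IrreducibleSpace Z := by
    rw [irreducibleSpace_def]
    have h0 := hTirr.closure
    rwa [hdense.closure_eq] at h0
  have : IsIntegral Z := isIntegral_of_irreducibleSpace_of_isReduced Z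
  have hηT : genericPoint Z ∈ h ⁻¹ᵁ W := by
    obtain ⟨t⟩ := hTne
    exact Groth.Agent.H26.BirationalZMT.genericPoint_mem t.2
  obtain ⟨t₀, ht₀⟩ := (h ∣_ W).surjective ⟨genericPoint C, hξW⟩
  have ht₀' : h t₀.1 = genericPoint C := by
    have e := congrArg Subtype.val ht₀
    rwa [morphismRestrict_base_coe] at e
  have hgen' : h (genericPoint Z) = genericPoint C :=
    (Specializes.antisymm (genericPoint_specializes _)
      (ht₀' ▸ (genericPoint_specializes t₀.1).map h.continuous)).eq.symm
  have hbir : IsIso (h.stalkMap (genericPoint Z)) := by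
    have h0 : IsIso ((h ∣_ W).stalkMap ⟨genericPoint Z, hηT⟩) := inferInstance
    exact ((MorphismProperty.isomorphisms CommRingCat).arrow_mk_iso_iff
      (morphismRestrictStalkMap h W ⟨genericPoint Z, hηT⟩)).mp h0
  obtain ⟨z, hz⟩ : c ∈ Set.range h := by
    have hclosed : IsClosed (Set.range h) := h.isClosedMap.isClosed_range
    exact (genericPoint_specializes c).mem_closed hclosed ⟨_, hgen'⟩
  have : ValuationRing (C.presheaf.stalk c) := valuationRing hdim
  have hsub := subsingleton_fibre h hgen' hbir c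
  subst hz
  refine Groth.Agent.H26.BirationalZMT.exists_isIso_morphismRestrict h hgen' hbir z hnorm ?_
  rw [Scheme.Hom.quasiFiniteAt_iff_isOpen_singleton_asFiber]
  have : Subsingleton (h.fiber (h z)) := by
    refine ⟨fun a b => (h.fiberHomeo (h z)).injective (Subtype.ext ?_)⟩
    exact hsub ((h.fiberHomeo (h z)) a).2 ((h.fiberHomeo (h z)) b).2
  exact isOpen_discrete _

/-- A proper morphism from a scheme flat over `Spec R` which is an isomorphism over a nonzero element of
`R` is an isomorphism near every normal point of codimension one of the target. -/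
theorem exists_nhds_isIso [IsLocallyNoetherian C] (πC : C ⟶ Spec (CommRingCat.of R)) [Flat πC]
    (h : Z ⟶ C) [IsProper h] [Flat (h ≫ πC)] {r : R} (hr : r ≠ 0)
    (hgen : IsIso (h ∣_ (πC ⁻¹ᵁ PrimeSpectrum.basicOpen r))) (c : C)
    (hdom : IsDomain (C.presheaf.stalk c)) (hnorm : IsIntegrallyClosed (C.presheaf.stalk c))
    (hdim : ringKrullDim (C.presheaf.stalk c) = 1) :
    ∃ V : C.Opens, c ∈ V ∧ IsIso (h ∣_ V) := by
  obtain ⟨U, hcU, hU, hinj⟩ := C.exists_germ_injective c
  have : IsDomain Γ(C, U) := hinj.isDomain (C.presheaf.germ U c hcU).hom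
  have : IsIntegral (U : Scheme.{u}) := by
    have : IsAffine (U : Scheme.{u}) := hU
    have : Nonempty (U : Scheme.{u}) := ⟨⟨c, hcU⟩⟩
    have : IsDomain Γ((U : Scheme.{u}), ⊤) :=
      U.topIso.commRingCatIsoToRingEquiv.toMulEquiv.isDomain
    exact isIntegral_of_isAffine_of_isDomain _
  have : IsLocallyNoetherian (U : Scheme.{u}) := isLocallyNoetherian_of_isOpenImmersion U.ι
  have : IsProper (h ∣_ U) := IsZariskiLocalAtTarget.restrict (P := @IsProper) (f := h) inferInstance U
  have : Flat ((h ∣_ U) ≫ U.ι ≫ πC) := by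
    rw [morphismRestrict_ι_assoc]; infer_instance
  set W := πC ⁻¹ᵁ PrimeSpectrum.basicOpen r with hW
  have hgenU : IsIso ((h ∣_ U) ∣_ ((U.ι ≫ πC) ⁻¹ᵁ PrimeSpectrum.basicOpen r)) := by
    show MorphismProperty.isomorphisms Scheme ((h ∣_ U) ∣_ (U.ι ⁻¹ᵁ W))
    rw [(MorphismProperty.isomorphisms Scheme).arrow_mk_iso_iff (morphismRestrictRestrict h U _)]
    have h2 : IsIso ((h ∣_ W) ∣_ (W.ι ⁻¹ᵁ U)) := IsZariskiLocalAtTarget.restrict (P := MorphismProperty.isomorphisms Scheme) hgen _
    have h3 := ((MorphismProperty.isomorphisms Scheme).arrow_mk_iso_iff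
      (morphismRestrictRestrict h W (W.ι ⁻¹ᵁ U))).1 h2
    have e : W.ι ''ᵁ W.ι ⁻¹ᵁ U = U.ι ''ᵁ U.ι ⁻¹ᵁ W := by
      rw [Scheme.Hom.image_preimage_eq_opensRange_inf, Scheme.Hom.image_preimage_eq_opensRange_inf,
        Scheme.Opens.opensRange_ι, Scheme.Opens.opensRange_ι, inf_comm]
    exact ((MorphismProperty.isomorphisms Scheme).arrow_mk_iso_iff (morphismRestrictEq h e)).1 h3
  have hst : C.presheaf.stalk c ≅ (U : Scheme.{u}).presheaf.stalk ⟨c, hcU⟩ := (U.stalkIso ⟨c, hcU⟩).symm
  obtain ⟨V, hcV, hV⟩ := exists_nhds_isIso_integral (U.ι ≫ πC) (h ∣_ U) hr hgenU ⟨c, hcU⟩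
    (IsIntegrallyClosed.of_equiv hst.commRingCatIsoToRingEquiv)
    (by rw [← ringKrullDim_eq_of_ringEquiv hst.commRingCatIsoToRingEquiv]; exact hdim)
  refine ⟨U.ι ''ᵁ V, ⟨⟨c, hcU⟩, hcV, rfl⟩, ?_⟩
  exact ((MorphismProperty.isomorphisms Scheme).arrow_mk_iso_iff (morphismRestrictRestrict h U V)).1 hV

end Groth.Agent.Lib.ModelFibre.CodimOne
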