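import Mathlib
import Groth.Agent.Lib.ModelFibre.RegularExt
import Groth.Agent.Lib.ModelFibre.CodimOne
import Groth.Agent.Lib.JacCrit.OverField
import Groth.Agent.Lib.JacCrit.Minimal
import Groth.Agent.Lib.FinCond.Components
import Groth.Agent.Lib.Regular.UFD
import Groth.Agent.Lib.Regular.Quotient

/-!
# Proper schemes over a discrete valuation ring with smooth connected generic fibre and reduced connected
special fibre: integrality, and regularity of the extension `Frac R ⊆ K(X)`
-/

universe u

open CategoryTheory Limits AlgebraicGeometry IsLocalRing TopologicalSpace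
open scoped TensorProduct

namespace Groth.Agent.Lib.ModelFibre.SmoothGeneric

open Groth.Agent.Lib.ModelFibre.Stalk

/-- The fraction field of a geometrically reduced domain is geometrically reduced. -/
theorem isGeometricallyReduced_of_isFractionRing (K A F : Type u) [Field K] [CommRing A] [IsDomain A]
    [Field F] [Algebra K A] [Algebra A F] [Algebra K F] [IsScalarTower K A F] [IsFractionRing A F]
    [Algebra.IsGeometricallyReduced K A] : Algebra.IsGeometricallyReduced K F := by
  rw [Algebra.isGeometricallyReduced_field_iff]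
  let E := AlgebraicClosure K
  let ι : E ⊗[K] A →ₐ[K] E ⊗[K] F :=
    Algebra.TensorProduct.map (AlgHom.id K E) (IsScalarTower.toAlgHom K A F)
  have hinj : Function.Injective ι :=
    Module.Flat.lTensor_preserves_injective_linearMap _ (IsFractionRing.injective A F)
  have hfrac : ∀ z : E ⊗[K] F, ∃ s : A, s ≠ 0 ∧ ((1 : E) ⊗ₜ[K] algebraMap A F s) * z ∈ ι.range := by
    intro z
    induction z using TensorProduct.induction_on with
    | zero => exact ⟨1, one_ne_zero, by rw [mul_zero]; exact ι.range.zero_mem⟩
    | tmul e x =>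
      obtain ⟨a, s, hs, rfl⟩ := IsFractionRing.div_surjective (A := A) x
      refine ⟨s, nonZeroDivisors.ne_zero hs, e ⊗ₜ a, ?_⟩
      show Algebra.TensorProduct.map (AlgHom.id K E) (IsScalarTower.toAlgHom K A F) (e ⊗ₜ a) = _
      rw [Algebra.TensorProduct.map_tmul, Algebra.TensorProduct.tmul_mul_tmul, one_mul,
        mul_div_cancel₀ _ (IsFractionRing.to_map_ne_zero_of_mem_nonZeroDivisors hs)]
      rfl
    | add x y hx hy =>
      obtain ⟨s, hs, hsx⟩ := hx
      obtain ⟨t, ht, hty⟩ := hy
      have h1 : ∀ r : A, ((1 : E) ⊗ₜ[K] algebraMap A F r) ∈ ι.range := fun r => ⟨1 ⊗ₜ r, rfl⟩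
      refine ⟨s * t, mul_ne_zero hs ht, ?_⟩
      rw [map_mul, mul_add]
      have hm : ((1 : E) ⊗ₜ[K] (algebraMap A F s * algebraMap A F t)) =
          ((1 : E) ⊗ₜ[K] algebraMap A F s) * ((1 : E) ⊗ₜ[K] algebraMap A F t) := by
        rw [Algebra.TensorProduct.tmul_mul_tmul, one_mul]
      rw [hm]
      refine ι.range.add_mem ?_ ?_
      · rw [mul_comm (_ ⊗ₜ[K] algebraMap A F s), mul_assoc]
        exact ι.range.mul_mem (h1 t) hsx
      · rw [mul_assoc]
        exact ι.range.mul_mem (h1 s) hty
  refine ⟨fun z hz => ?_⟩
  obtain ⟨s, hs, w, hw⟩ := hfrac z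
  have : _root_.IsReduced (E ⊗[K] A) := inferInstance
  obtain ⟨n, hn⟩ := hz
  have hw0 : w = 0 := IsReduced.eq_zero w ⟨n, hinj (by
    rw [map_pow, map_zero]
    exact (congrArg (· ^ n) hw).trans (by rw [mul_pow, hn, mul_zero]))⟩
  have hu : IsUnit ((1 : E) ⊗ₜ[K] algebraMap A F s) :=
    (isUnit_iff_ne_zero.2 ((map_ne_zero_iff _ (IsFractionRing.injective A F)).2 hs)).map
      (Algebra.TensorProduct.includeRight : F →ₐ[K] E ⊗[K] F)
  refine hu.mul_right_eq_zero.1 (hw.symm.trans ?_)
  rw [hw0]
  exact map_zero ι

/-- A smooth algebra over a field is geometrically reduced. -/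
theorem isGeometricallyReduced_of_smooth (K A : Type u) [Field K] [CommRing A] [Algebra K A]
    [Algebra.Smooth K A] : Algebra.IsGeometricallyReduced K A := by
  rw [Algebra.isGeometricallyReduced_field_iff]
  exact Groth.Agent.Lib.JacCrit.Minimal.isReduced_of_smooth (K := AlgebraicClosure K)

variable {R : Type u} [CommRing R] {K : Type u} [CommRing K] [Algebra R K] {X XK : Scheme.{u}}
  {f : X ⟶ Spec (CommRingCat.of R)} {gK : XK ⟶ X} {fK : XK ⟶ Spec (CommRingCat.of K)}

lemma stalkMap_baseHom (hw : gK ≫ f = fK ≫ Spec.map (CommRingCat.ofHom (algebraMap R K))) (x : XK) :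
    (gK.stalkMap x).hom.comp (baseHom f (gK x)) = (baseHom fK x).comp (algebraMap R K) := by
  have h : CommRingCat.ofHom (baseHom f (gK x)) ≫ gK.stalkMap x =
      CommRingCat.ofHom (algebraMap R K) ≫ CommRingCat.ofHom (baseHom fK x) := by
    apply Spec.map_injective
    rw [Spec.map_comp, Spec.map_comp, ← fromSpecStalk_comp, ← fromSpecStalk_comp,
      Scheme.SpecMap_stalkMap_fromSpecStalk_assoc, hw, Category.assoc]
  exact congrArg CommRingCat.Hom.hom h

section DVR

variable {R : Type u} [CommRing R] [IsDomain R] [IsDiscreteValuationRing R]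
  {X : Scheme.{u}} {f : X ⟶ Spec (CommRingCat.of R)}
  {XK : Scheme.{u}} {gK : XK ⟶ X} {fK : XK ⟶ Spec (CommRingCat.of (FractionRing R))}
  (hK : IsPullback gK fK f (Spec.map (CommRingCat.ofHom (algebraMap R (FractionRing R)))))

theorem isLocalization_away {π : R} (hπ : Irreducible π) :
    IsLocalization.Away π (FractionRing R) := by
  refine (IsLocalization.iff_of_le_of_exists_dvd (Submonoid.powers π) (nonZeroDivisors R)
    (Submonoid.powers_le.2 (mem_nonZeroDivisors_of_ne_zero hπ.ne_zero)) fun r hr => ?_).2 inferInstance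
  obtain ⟨n, u, rfl⟩ := IsDiscreteValuationRing.eq_unit_mul_pow_irreducible (nonZeroDivisors.ne_zero hr) hπ
  exact ⟨π ^ n, ⟨n, rfl⟩, ⟨(↑u⁻¹ : R), by rw [mul_comm (u : R), mul_assoc, Units.mul_inv, mul_one]⟩⟩

omit [IsDiscreteValuationRing R] in
theorem isRegularLocalRing_stalk_XK [SmoothOfRelativeDimension 1 fK] (x : XK) :
    IsRegularLocalRing (XK.presheaf.stalk x) := by
  have : Smooth fK := SmoothOfRelativeDimension.smooth 1 fK
  refine Groth.Agent.Lib.JacCrit.OverField.isRegularLocalRing_stalk fK x ?_
  rw [Scheme.Hom.smoothLocus_eq_top]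
  trivial

theorem isIntegral_XK (fK : XK ⟶ Spec (CommRingCat.of (FractionRing R)))
    [SmoothOfRelativeDimension 1 fK] [ConnectedSpace XK] : IsIntegral XK := by
  have : Smooth fK := SmoothOfRelativeDimension.smooth 1 fK
  have : IsLocallyNoetherian XK := LocallyOfFiniteType.isLocallyNoetherian fK
  exact (Groth.Agent.Lib.FinCond.isIntegral_iff XK).2 ⟨inferInstance, fun x =>
    have := isRegularLocalRing_stalk_XK (fK := fK) x
    Groth.Agent.Lib.Regular.Quotient.isDomain _⟩

include hK

theorem isOpenImmersion_gK : IsOpenImmersion gK := by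
  obtain ⟨π, hπ⟩ := IsDiscreteValuationRing.exists_irreducible R
  have := isLocalization_away hπ
  have : IsOpenImmersion (Spec.map (CommRingCat.ofHom (algebraMap R (FractionRing R)))) :=
    IsOpenImmersion.of_isLocalization π
  exact MorphismProperty.of_isPullback hK.flip inferInstance

theorem range_gK {π : R} (hπ : Irreducible π) :
    Set.range gK = (X.basicOpen (RegularExt.glob f π) : Set X) := by
  have := isLocalization_away hπ
  rw [RegularExt.basicOpen_toGlobal, ← hK.isoPullback_hom_fst, Scheme.Hom.comp_base, TopCat.coe_comp,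
    Set.range_comp, Set.range_eq_univ.2 hK.isoPullback.hom.surjective, Set.image_univ,
    Scheme.Pullback.range_fst]
  exact congrArg (fun S => f ⁻¹' S) (PrimeSpectrum.localization_away_comap_range (FractionRing R) π)

variable [IsProper f] [Flat f] [SmoothOfRelativeDimension 1 fK] [ConnectedSpace XK]

omit [IsProper f] in
theorem isIntegral : IsIntegral X := by
  obtain ⟨π, hπ⟩ := IsDiscreteValuationRing.exists_irreducible R
  have := isIntegral_XK fK
  have := isOpenImmersion_gK hK
  have hrange : gK.opensRange = f ⁻¹ᵁ PrimeSpectrum.basicOpen π := by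
    ext1
    rw [Scheme.Hom.coe_opensRange, range_gK hK hπ, RegularExt.basicOpen_toGlobal]
  have hint : IsIntegral (f ⁻¹ᵁ PrimeSpectrum.basicOpen π : X.Opens).toScheme := by
    have : Nonempty gK.opensRange.toScheme := gK.isoOpensRange.hom.homeomorph.toEquiv.nonempty_congr.1 inferInstance
    rw [← hrange]
    exact isIntegral_of_isOpenImmersion gK.isoOpensRange.inv
  have : AlgebraicGeometry.IsReduced X := CodimOne.isReduced_of_flat f hπ.ne_zero
  set T : X.Opens := f ⁻¹ᵁ PrimeSpectrum.basicOpen π
  have hdense : Dense (T : Set X) := by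
    rw [dense_iff_inter_open]
    rintro O hO ⟨z, hz⟩
    obtain ⟨y, hy, hy'⟩ := CodimOne.exists_mem_preimage_basicOpen f hπ.ne_zero ⟨O, hO⟩ z hz
    exact ⟨y, hy, hy'⟩
  have hirr : IsIrreducible (T : Set X) := by
    have h0 := (IrreducibleSpace.isIrreducible_univ T.toScheme).image T.ι T.ι.continuous.continuousOn
    rwa [Set.image_univ, Scheme.Opens.range_ι] at h0
  have : IrreducibleSpace X := by
    rw [irreducibleSpace_def]
    have h0 := hirr.closure
    rwa [hdense.closure_eq] at h0
  exact isIntegral_of_irreducibleSpace_of_isReduced X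

variable {Xs : Scheme.{u}} {gs : Xs ⟶ X} {fs : Xs ⟶ Spec (CommRingCat.of (ResidueField R))}
  (hs : IsPullback gs fs f (Spec.map (CommRingCat.ofHom (residue R))))
  [ConnectedSpace Xs] [IsReduced Xs]

include hs

omit [IsProper f] [Flat f] in
theorem fibres [IsIntegral X] {π : R} (hπ : Irreducible π) : RegularExt.Fibres f π := by
  have := isOpenImmersion_gK hK
  have hrs : Set.range gs = ((X.basicOpen (RegularExt.glob f π) : Set X))ᶜ := by
    rw [RegularExt.basicOpen_toGlobal, ← hs.isoPullback_hom_fst, Scheme.Hom.comp_base, TopCat.coe_comp,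
      Set.range_comp, Set.range_eq_univ.2 hs.isoPullback.hom.surjective, Set.image_univ,
      Scheme.Pullback.range_fst]
    have h0 : Set.range (PrimeSpectrum.comap (residue R)) =
        ((PrimeSpectrum.basicOpen π : Opens (PrimeSpectrum R)) : Set (PrimeSpectrum R))ᶜ := by
      rw [range_comap_of_surjective _ _ residue_surjective, ker_residue, hπ.maximalIdeal_eq,
        PrimeSpectrum.zeroLocus_span, PrimeSpectrum.basicOpen_eq_zeroLocus_compl, compl_compl]
    exact (congrArg (fun S => f ⁻¹' S) h0).trans Set.preimage_compl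
  refine ⟨fun y hy => ?_, fun y hy => ?_, ?_, ?_, ?_⟩
  · obtain ⟨x, rfl⟩ : y ∈ Set.range gK := by rw [range_gK hK hπ]; exact hy
    have := isRegularLocalRing_stalk_XK (fK := fK) x
    have := Groth.Agent.Lib.Regular.UFD.isIntegrallyClosed (XK.presheaf.stalk x)
    exact IsIntegrallyClosed.of_equiv (asIso (gK.stalkMap x)).commRingCatIsoToRingEquiv.symm
  · obtain ⟨a, rfl⟩ : y ∈ Set.range gs := by rw [hrs]; exact hy
    have h : (RingHom.ker (residue R)).map (baseHom f (gs a)) = Ideal.span {baseHom f (gs a) π} := by
      rw [ker_residue, hπ.maximalIdeal_eq, Ideal.map_span, Set.image_singleton]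
    exact isReduced_of_injective
      ((Ideal.quotEquivOfEq h.symm).trans (quotientEquiv _ residue_surjective hs a))
      (RingEquiv.injective _)
  · rw [← hrs, ← Set.image_univ]
    exact isPreconnected_univ.image gs gs.continuous.continuousOn
  · rw [← hrs]
    exact Set.range_nonempty gs
  · have := isIntegral_XK fK
    have hη : genericPoint X ∈ X.basicOpen (RegularExt.glob f π) :=
      (genericPoint_specializes (gK (genericPoint XK))).mem_open (X.basicOpen _).2
        ((range_gK hK hπ).le ⟨genericPoint XK, rfl⟩)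
    exact ((RegularExt.isUnit_baseHom_iff f π _).2 hη).ne_zero

omit hs [ConnectedSpace Xs] [IsReduced Xs]

omit [IsProper f] [Flat f] in
/-- The function field of a scheme with smooth generic fibre is geometrically reduced over `Frac R`. -/
theorem isGeometricallyReduced [IsIntegral X] [Algebra R X.functionField]
    [Algebra (FractionRing R) X.functionField] [IsScalarTower R (FractionRing R) X.functionField]
    (halg : algebraMap R X.functionField = baseHom f (genericPoint X)) :
    Algebra.IsGeometricallyReduced (FractionRing R) X.functionField := by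
  have := isIntegral_XK fK
  have := isOpenImmersion_gK hK
  have hη : gK (genericPoint XK) = genericPoint X := genericPoint_eq_of_isOpenImmersion gK
  letI : Algebra (FractionRing R) XK.functionField := (baseHom fK (genericPoint XK)).toAlgebra
  obtain ⟨_, ⟨V, hV, rfl⟩, hxV, -⟩ :=
    XK.isBasis_affineOpens.exists_subset_of_mem_open (Set.mem_univ (genericPoint XK)) isOpen_univ
  replace hV : IsAffineOpen V := hV
  have : Nonempty V := ⟨⟨_, hxV⟩⟩
  have : IsDomain Γ(XK, V) := inferInstance
  letI : Algebra (FractionRing R) Γ(XK, V) := (Chart.chartHom fK hV).hom.toAlgebra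
  have : IsScalarTower (FractionRing R) Γ(XK, V) XK.functionField :=
    .of_algebraMap_eq fun r => RingHom.congr_fun (Chart.baseHom_eq fK hV hxV) r
  have : IsFractionRing Γ(XK, V) XK.functionField := functionField_isFractionRing_of_isAffineOpen XK V hV
  have : Algebra.Smooth (FractionRing R) Γ(XK, V) := by
    have : IsOpenImmersion hV.fromSpec := hV.isOpenImmersion_fromSpec
    have : Smooth fK := SmoothOfRelativeDimension.smooth 1 fK
    have h : (Chart.chartHom fK hV).hom.Smooth := by
      rw [← HasRingHomProperty.Spec_iff (P := @Smooth), Chart.chartHom, Spec.map_preimage]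
      infer_instance
    exact RingHom.smooth_algebraMap.1 h
  have := isGeometricallyReduced_of_smooth (FractionRing R) Γ(XK, V)
  have := isGeometricallyReduced_of_isFractionRing (FractionRing R) Γ(XK, V) XK.functionField
  let θ : X.presheaf.stalk (genericPoint X) ⟶ XK.presheaf.stalk (genericPoint XK) :=
    X.presheaf.stalkSpecializes (specializes_of_eq hη) ≫ gK.stalkMap (genericPoint XK)
  have hθ : θ.hom.comp (algebraMap R X.functionField) =
      (algebraMap (FractionRing R) XK.functionField).comp (algebraMap R (FractionRing R)) := by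
    rw [halg]
    refine Eq.trans ?_ (stalkMap_baseHom hK.w (genericPoint XK))
    ext r
    exact congrArg (gK.stalkMap (genericPoint XK)).hom
      (RingHom.congr_fun (congrArg CommRingCat.Hom.hom
        (X.presheaf.germ_stalkSpecializes (U := ⊤) (hy := trivial) (specializes_of_eq hη))) (RegularExt.glob f r))
  have hθK : θ.hom.comp (algebraMap (FractionRing R) X.functionField) =
      algebraMap (FractionRing R) XK.functionField :=
    IsLocalization.ringHom_ext (nonZeroDivisors R) (by
      rw [← hθ, RingHom.comp_assoc, ← IsScalarTower.algebraMap_eq])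
  exact Algebra.IsGeometricallyReduced.of_injective
    ({ θ.hom with commutes' := fun r => RingHom.congr_fun hθK r } :
      X.functionField →ₐ[FractionRing R] XK.functionField) θ.hom.injective

end DVR

end Groth.Agent.Lib.ModelFibre.SmoothGeneric
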