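import Groth.Agent.Lib.ModelFibre.Horizontal
import Groth.Agent.Lib.ModelFibre.SmoothGeneric
import Groth.Agent.Lib.ZMTStein.Birational
import Groth.Agent.Lib.ZMTStein.Basic
import Groth.Agent.Lib.ZMTStein.Normal
import Groth.Agent.Lib.Chow.Core
import Groth.Agent.Lib.Cyc.TorPD

/-!
# Proper birational morphisms to normal models; fibres over points of codimension one
-/

universe u

open CategoryTheory Limits AlgebraicGeometry TopologicalSpace

namespace Groth.Agent.Lib.ModelFibre.Centered

/-- Two consecutive proper generalizations of a point of a two-dimensional local scheme start at its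
generic point. -/
theorem eq_genericPoint_of_chain {X : Scheme.{u}} [IsIntegral X] {z ζ w w' : X}
    (hd : ringKrullDim (X.presheaf.stalk w') ≤ 2) (h0 : ζ ⤳ w) (hne0 : ζ ≠ w) (h1 : w ⤳ w') (hne : w ≠ w')
    (hz : z = genericPoint X) : ζ = z := by
  subst hz
  by_contra hζ
  have hη : genericPoint X ⤳ ζ := genericPoint_specializes ζ
  have hmem : ∀ y, y ⤳ w' → ∃ q : PrimeSpectrum (X.presheaf.stalk w'), X.fromSpecStalk w' q = y :=
    fun y hy => by
      have hy' : y ∈ Set.range (X.fromSpecStalk w') := by rw [Scheme.range_fromSpecStalk]; exact hy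
      exact hy'
  obtain ⟨q0, hq0⟩ := hmem _ (hη.trans (h0.trans h1))
  obtain ⟨q1, hq1⟩ := hmem _ (h0.trans h1)
  obtain ⟨q2, hq2⟩ := hmem _ h1
  obtain ⟨q3, hq3⟩ := hmem _ specializes_rfl
  have hlt : ∀ {a b : PrimeSpectrum (X.presheaf.stalk w')} {y y' : X}, X.fromSpecStalk w' a = y →
      X.fromSpecStalk w' b = y' → y ⤳ y' → y ≠ y' → a < b := by
    intro a b y y' ha hb hs hn
    refine lt_of_le_of_ne ((PrimeSpectrum.le_iff_specializes a b).2 ?_) fun h => hn (by rw [← ha, ← hb, h])
    exact (X.fromSpecStalk w').isEmbedding.isInducing.specializes_iff.1 (by rw [ha, hb]; exact hs)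
  let l : LTSeries (PrimeSpectrum (X.presheaf.stalk w')) :=
    LTSeries.mk 3 ![q0, q1, q2, q3] (Fin.strictMono_iff_lt_succ.2 fun i => by
      fin_cases i
      · exact hlt hq0 hq1 hη (Ne.symm hζ)
      · exact hlt hq1 hq2 h0 hne0
      · exact hlt hq2 hq3 h1 hne)
  have h3 : ((3 : ℕ) : WithBot ℕ∞) ≤ ringKrullDim (X.presheaf.stalk w') :=
    le_trans (le_of_eq rfl) (Order.LTSeries.length_le_krullDim l)
  exact absurd (h3.trans hd) (by decide)

/-- The local rings at proper generalizations in a two-dimensional local scheme have dimension at most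
one. -/
theorem ringKrullDim_stalk_le_one {X : Scheme.{u}} {w w' : X}
    (hd : ringKrullDim (X.presheaf.stalk w') ≤ 2) (h : w ⤳ w') (hne : w ≠ w') :
    ringKrullDim (X.presheaf.stalk w) ≤ 1 := by
  obtain ⟨q, hq⟩ : w ∈ Set.range (X.fromSpecStalk w') := by rw [Scheme.range_fromSpecStalk]; exact h
  obtain ⟨m, hm⟩ : ∃ m : PrimeSpectrum (X.presheaf.stalk w'), X.fromSpecStalk w' m = w' :=
    ⟨IsLocalRing.closedPoint _, Scheme.fromSpecStalk_closedPoint⟩
  by_contra hcon
  obtain ⟨l, hl⟩ : ∃ l : LTSeries (PrimeSpectrum (X.presheaf.stalk w)), 2 ≤ l.length := by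
    by_contra hno
    push Not at hno
    exact hcon (iSup_le fun l => by
      have h2 := hno l
      show ((l.length : ℕ∞) : WithBot ℕ∞) ≤ 1
      exact_mod_cast (by omega : l.length ≤ 1))
  let σ := X.presheaf.stalkSpecializes h
  have hσ : Spec.map σ ≫ X.fromSpecStalk w' = X.fromSpecStalk w :=
    Scheme.SpecMap_stalkSpecializes_fromSpecStalk h
  let g : PrimeSpectrum (X.presheaf.stalk w) → PrimeSpectrum (X.presheaf.stalk w') :=
    PrimeSpectrum.comap σ.hom
  have hle : ∀ a b : PrimeSpectrum (X.presheaf.stalk w), a < b → g a < g b := by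
    intro a b hab
    refine lt_of_le_of_ne (fun t ht => hab.le ht) fun he => hab.ne ?_
    refine (X.fromSpecStalk w).isEmbedding.injective ?_
    rw [← hσ]
    exact congrArg (X.fromSpecStalk w') he
  let l' := l.map g (fun a b hab => hle a b hab)
  have hlast : l'.last < m := by
    refine lt_of_le_of_ne ((PrimeSpectrum.le_iff_specializes _ _).2
      ((X.fromSpecStalk w').isEmbedding.isInducing.specializes_iff.1 ?_)) fun he => ?_
    · rw [hm]
      have : X.fromSpecStalk w' l'.last ∈ Set.range (X.fromSpecStalk w') := ⟨_, rfl⟩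
      rwa [Scheme.range_fromSpecStalk] at this
    · have h1 : X.fromSpecStalk w' l'.last ⤳ w := by
        have : X.fromSpecStalk w l.last ∈ Set.range (X.fromSpecStalk w) := ⟨_, rfl⟩
        rw [Scheme.range_fromSpecStalk] at this
        rw [← hσ] at this
        exact this
      rw [he, hm] at h1
      exact hne (h.antisymm h1).eq
  have h3 : (((l'.length + 1 : ℕ) : ℕ∞) : WithBot ℕ∞) ≤ ringKrullDim (X.presheaf.stalk w') := by
    refine le_trans (le_of_eq ?_) (Order.LTSeries.length_le_krullDim (l'.snoc m hlast))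
    simp
  have h4 : ((l'.length + 1 : ℕ) : ℕ∞) ≤ (2 : ℕ) := WithBot.coe_le_coe.1 (h3.trans hd)
  have h5 : l'.length + 1 ≤ 2 := by exact_mod_cast h4
  have : l'.length = l.length := rfl
  omega

/-- A proper birational morphism to a normal scheme has one-point fibres over points of codimension at
most one. -/
theorem subsingleton_fibre {Z X : Scheme.{u}} [IsIntegral Z] [IsIntegral X] [IsLocallyNoetherian X]
    (f : Z ⟶ X) [IsProper f] (hX : Pi1.IsNormalScheme X) (hgen : f (genericPoint Z) = genericPoint X)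
    (hbir : Function.Bijective (f.stalkMap (genericPoint Z))) {x : X}
    (hx : ringKrullDim (X.presheaf.stalk x) ≤ 1) : (f ⁻¹' {x}).Subsingleton := by
  obtain ⟨V, hV, -, hout⟩ := ZMTStein.exists_open f (ZMTStein.bijective_app_of_normal f hX hgen hbir)
  have hxV := ZMTStein.not_isOpen_singleton_imp hout (ZMTStein.surjective_of_generic f hgen)
    (ZMTStein.finite_fibre f hgen hbir x hx)
  intro a ha b hb
  have h := (ConcreteCategory.bijective_of_isIso (f ∣_ V).base).1
    (a₁ := (⟨a, show f a ∈ V by rw [show f a = x from ha]; exact hxV⟩ : f ⁻¹ᵁ V))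
    (a₂ := ⟨b, show f b ∈ V by rw [show f b = x from hb]; exact hxV⟩)
    (Subtype.ext (((morphismRestrict_base_coe f V _).trans (ha.trans hb.symm)).trans
      (morphismRestrict_base_coe f V _).symm))
  exact congrArg Subtype.val h

/-- If all its fibres are finite it is an isomorphism. -/
theorem isIso_of_finite {Z X : Scheme.{u}} [IsIntegral Z] [IsIntegral X]
    (f : Z ⟶ X) [IsProper f] (hX : Pi1.IsNormalScheme X) (hgen : f (genericPoint Z) = genericPoint X)
    (hbir : Function.Bijective (f.stalkMap (genericPoint Z))) (hfin : ∀ x, (f ⁻¹' {x}).Finite) :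
    IsIso f := by
  obtain ⟨V, hV, -, hout⟩ := ZMTStein.exists_open f (ZMTStein.bijective_app_of_normal f hX hgen hbir)
  have htop : V = ⊤ := top_le_iff.1 fun x _ =>
    ZMTStein.not_isOpen_singleton_imp hout (ZMTStein.surjective_of_generic f hgen) (hfin x)
  subst htop
  haveI : IsIso (⊤ : X.Opens).ι := (inferInstance : IsIso X.topIso.hom)
  haveI : IsIso (f ∣_ ⊤) := hV
  have hc : IsIso ((f ∣_ ⊤) ≫ (⊤ : X.Opens).ι) := inferInstance
  rw [morphismRestrict_ι] at hc
  haveI : IsIso (f ⁻¹ᵁ ⊤).ι := (inferInstance : IsIso Z.topIso.hom)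
  exact IsIso.of_isIso_comp_left (f ⁻¹ᵁ ⊤).ι f

/-- An infinite fibre contains a proper specialisation. -/
theorem exists_specializes_of_infinite {Z X : Scheme.{u}} (f : Z ⟶ X) [QuasiCompact f]
    [LocallyOfFiniteType f] (x : X) (h : ¬ (f ⁻¹' {x}).Finite) :
    ∃ e e' : f.fiber x, e ⤳ e' ∧ e ≠ e' := by
  haveI : LocallyOfFiniteType (f.fiberToSpecResidueField x) :=
    inferInstanceAs (LocallyOfFiniteType (pullback.snd f (X.fromSpecResidueField x)))
  haveI : JacobsonSpace ↥(f.fiber x) := LocallyOfFiniteType.jacobsonSpace (f.fiberToSpecResidueField x)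
  haveI : IsLocallyNoetherian (f.fiber x) := LocallyOfFiniteType.isLocallyNoetherian (f.fiberToSpecResidueField x)
  haveI : CompactSpace ↥(f.fiber x) := by
    haveI : QuasiCompact (f.fiberToSpecResidueField x) :=
      inferInstanceAs (QuasiCompact (pullback.snd f (X.fromSpecResidueField x)))
    exact QuasiCompact.compactSpace_of_compactSpace (f.fiberToSpecResidueField x)
  haveI : IsNoetherian (f.fiber x) := ⟨⟩
  by_contra hno
  push Not at hno
  have hclosed : ∀ a : f.fiber x, closure {a} = {a} := fun a => Set.Subset.antisymm (fun b hb => by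
    exact (hno a b (specializes_iff_mem_closure.2 hb)).symm) subset_closure
  have hfinite : Finite ↥(f.fiber x) := by
    have hcomp : (irreducibleComponents ↥(f.fiber x)).Finite := NoetherianSpace.finite_irreducibleComponents
    have hcov : (Set.univ : Set ↥(f.fiber x)) ⊆ ⋃ S ∈ irreducibleComponents ↥(f.fiber x), S := fun a _ =>
      Set.mem_biUnion (irreducibleComponent_mem_irreducibleComponents a) mem_irreducibleComponent
    refine Set.finite_univ_iff.1 ((hcomp.biUnion fun S hS => ?_).subset hcov)
    obtain ⟨g, hg⟩ := QuasiSober.sober hS.1 (isClosed_of_mem_irreducibleComponents S hS)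
    rw [← hg, hclosed g]
    exact Set.finite_singleton g
  exact h ((f.range_fiberι x) ▸ Set.finite_range _)

end Groth.Agent.Lib.ModelFibre.Centered
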