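import Groth.Agent.Lib.ModelFibre.ConstDiv
import Groth.Agent.Lib.ModelFibre.EulerStep
import Groth.Agent.Lib.Curves.DegreeOne
import Groth.Agent.Lib.SurfInt.PushIso
import Groth.Agent.S4466
import Groth.Agent.S6540
import Groth.Agent.Lib.ProjCoh.Horrocks

/-!
# Vertical curves that are projective lines
-/

set_option linter.style.haveILetI false

universe u

open CategoryTheory Limits AlgebraicGeometry IsLocalRing Groth.Agent.Lib.ModelFibre

namespace Groth.Agent.Lib.ModelFibre.P1Curve

open Groth.Agent.Lib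

noncomputable section

/-- The dimension of cohomology over the ring of global functions. -/
def gdim {Y : Scheme.{u}} (M : Y.Modules) (n : ℕ) : ℕ :=
  Module.finrank (Coh.Γtop Y) (Coh.HH Y M n)

theorem finrank_eq_mul {K : Type u} [Field K] {Y : Scheme.{u}} [Y.Over (Spec (CommRingCat.of K))]
    (hF : IsField Γ(Y, ⊤)) (M : Y.Modules) (n : ℕ) :
    Module.finrank K (Coh.HH Y M n) =
      Module.finrank K (Coh.HH Y (Coh.structureModule Y) 0) * gdim M n := by
  letI : Field (Coh.Γtop Y) := IsField.toField hF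
  letI : Algebra K (Coh.Γtop Y) := (Coh.toGlobal (Y ↘ Spec (CommRingCat.of K))).toAlgebra
  haveI : IsScalarTower K (Coh.Γtop Y) (Coh.HH Y M n) := IsScalarTower.of_algebraMap_smul fun _ _ => rfl
  letI := Curves.GlobalSections.secModule K (Coh.structureModule Y)
  have h0 : Module.finrank K (Coh.HH Y (Coh.structureModule Y) 0) = Module.finrank K (Coh.Γtop Y) := by
    let γ : ((Coh.structureModule Y).val.obj (Opposite.op ⊤) : Type u) ≃ₗ[K] Coh.Γtop Y :=
      { toFun := fun x => x
        invFun := fun x => x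
        map_add' := fun _ _ => rfl
        map_smul' := fun _ _ => rfl
        left_inv := fun _ => rfl
        right_inv := fun _ => rfl }
    exact ((Curves.GlobalSections.h0Linear K (Coh.structureModule Y)).trans γ).finrank_eq
  rw [h0]
  exact (Module.finrank_mul_finrank K (Coh.Γtop Y) (Coh.HH Y M n)).symm

theorem h0_of_bijective {K : Type u} [Field K] {Y : Scheme.{u}} [Y.Over (Spec (CommRingCat.of K))]
    (h : Function.Bijective (Coh.toGlobal (Y ↘ Spec (CommRingCat.of K)))) :
    Module.finrank K (Coh.HH Y (Coh.structureModule Y) 0) = 1 := by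
  letI := Curves.GlobalSections.secModule K (Coh.structureModule Y)
  let L : K →ₗ[K] ((Coh.structureModule Y).val.obj (Opposite.op ⊤) : Type u) :=
    { toFun := fun c => (show Γ(Y, ⊤) from Coh.toGlobal (Y ↘ Spec (CommRingCat.of K)) c)
      map_add' := fun a b => map_add _ a b
      map_smul' := fun a b => map_mul (Coh.toGlobal (Y ↘ Spec (CommRingCat.of K))) a b }
  exact ((Curves.GlobalSections.h0Linear K (Coh.structureModule Y)).trans
    (LinearEquiv.ofBijective L h).symm).finrank_eq.trans (Module.finrank_self K)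

/-- Degrees over a field acting through an isomorphism onto the global functions. -/
theorem deg_eq_gdim {K : Type u} [Field K] {Y : Scheme.{u}} [Y.Over (Spec (CommRingCat.of K))]
    [IsProper (Y ↘ Spec (CommRingCat.of K))] (hF : IsField Γ(Y, ⊤))
    (hdim : topologicalKrullDim Y ≤ 1)
    (h0 : Module.finrank K (Coh.HH Y (Coh.structureModule Y) 0) = 1)
    {M : Y.Modules} (hM : PicF.IsInvertible M) :
    Curv2.deg K Y M 1 = ((gdim M 0 : ℤ) - gdim M 1) -
      ((gdim (Coh.structureModule Y) 0 : ℤ) - gdim (Coh.structureModule Y) 1) := by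
  rw [Curves.Degree.deg_eq, Curves.Euler.euler_eq (Curves.Degree.isGood (k := K) hdim hM).vanish,
    Curves.Euler.euler_eq (Curves.Degree.isGood_structureModule (k := K) hdim).vanish]
  have e : ∀ (N : Y.Modules) (i : ℕ), Module.finrank K (Coh.HH Y N i) = gdim N i := fun N i =>
    (finrank_eq_mul (K := K) hF N i).trans (by rw [h0, one_mul])
  simp only [Curves.Euler.hdim, e]

theorem isInvertible_twist (K : Type u) [Field K] :
    PicF.IsInvertible (Twist.twistProjSpace 1 K 1) :=
  ProjCoh.Horrocks.isInvertible_TS (d := 1) (k := K) 1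

theorem deg_twist (K : Type u) [Field K] :
    letI : (CohB1.ProjSpace 1 K).Over (Spec (CommRingCat.of K)) := ⟨CohB1.ProjSpace.toSpec 1 K⟩
    Curv2.deg K (CohB1.ProjSpace 1 K) (Twist.twistProjSpace 1 K 1) 1 = 1 := by
  letI : (CohB1.ProjSpace 1 K).Over (Spec (CommRingCat.of K)) := ⟨CohB1.ProjSpace.toSpec 1 K⟩
  haveI : IsProper (CohB1.ProjSpace 1 K ↘ Spec (CommRingCat.of K)) := ProjSpace.Basic.isProper_toSpec 1 K
  have hd : topologicalKrullDim (CohB1.ProjSpace 1 K) ≤ 1 := by
    rw [ProjSpace.Dim.topologicalKrullDim_projSpace]; simp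
  have hH1 : Subsingleton (Coh.HH (CohB1.ProjSpace 1 K) (Coh.structureModule (CohB1.ProjSpace 1 K)) 1) :=
    ProjCoh.Twist.subsingleton_HH_structureModule 1 K one_ne_zero
  haveI : IsIso (CohB1.ProjSpace.toSpec 1 K).appTop := ProjCoh.GlobalFun.isIso_appTop 1 K
  have h0 := h0_of_bijective (K := K) (Y := CohB1.ProjSpace 1 K)
    ((ConcreteCategory.bijective_of_isIso (CohB1.ProjSpace.toSpec 1 K).appTop).comp
      (ConcreteCategory.bijective_of_isIso (Scheme.ΓSpecIso (CommRingCat.of K)).inv))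
  have h := Groth.Agent.S4466.result K 1 one_pos 1
  simp only [Finset.sum_range_succ, Finset.sum_range_zero, zero_add, pow_zero, one_mul, pow_one,
    Nat.cast_one, Ring.choose_one_right] at h
  rw [Curves.Degree.deg_eq, Curves.Euler.euler_eq (Curves.Degree.isGood (k := K) hd (isInvertible_twist K)).vanish,
    Curves.Euler.euler_eq (Curves.Degree.isGood_structureModule (k := K) hd).vanish]
  haveI : Subsingleton (Coh.HH (CohB1.ProjSpace 1 K) (Twist.twistProjSpace 1 K 1) 1) :=
    ProjCoh.Twist.subsingleton_HH_of_neg_le 1 K (d := 1) (by norm_num) one_ne_zero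
  have e1 : Module.finrank K (Coh.HH (CohB1.ProjSpace 1 K) (Twist.twistProjSpace 1 K 1) 1) = 0 :=
    Module.finrank_zero_of_subsingleton
  have e2 : Module.finrank K (Coh.HH (CohB1.ProjSpace 1 K) (Coh.structureModule (CohB1.ProjSpace 1 K)) 1) = 0 :=
    Module.finrank_zero_of_subsingleton
  simp only [Curves.Euler.hdim, h0, e1, e2] at h ⊢
  omega

variable {R : Type u} [CommRing R] [IsDomain R] [IsDiscreteValuationRing R]
  {X : Over (Spec (CommRingCat.of R))} (hX : Inter.IsSurf X) (Γ : ArSurf.VertComp R X)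

include hX

theorem isField_curve : IsField Γ(Γ.curve.left, ⊤) := by
  haveI : IsProper (Γ.curve.left ↘ Spec (CommRingCat.of (ResidueField R))) := Inter.isProper_curve hX Γ
  exact isField_of_universallyClosed (ResidueField R) (Γ.curve.left ↘ Spec (CommRingCat.of (ResidueField R)))

theorem h1_eq : Models.h1 R X Γ =
    Models.wdeg R X Γ * gdim (Coh.structureModule Γ.curve.left) 1 :=
  finrank_eq_mul (K := ResidueField R) (isField_curve hX Γ) _ 1

/-- The intersection number is the degree over the constants times their degree. -/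
theorem inter_eq_mul (P : X.left.Modules) :
    ArSurf.inter R X P Γ = (Models.wdeg R X Γ : ℤ) *
      (((gdim ((Scheme.Modules.pullback Γ.ι).obj P) 0 : ℤ) - gdim ((Scheme.Modules.pullback Γ.ι).obj P) 1) -
        ((gdim (Coh.structureModule Γ.curve.left) 0 : ℤ) - gdim (Coh.structureModule Γ.curve.left) 1)) := by
  unfold ArSurf.inter ArSurf.curveDeg FGA.eulerCharLE Models.wdeg
  simp only [Finset.sum_range_succ, Finset.sum_range_zero, zero_add, pow_zero, one_mul, pow_one,
    finrank_eq_mul (K := ResidueField R) (isField_curve hX Γ) ((Scheme.Modules.pullback Γ.ι).obj P),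
    finrank_eq_mul (K := ResidueField R) (isField_curve hX Γ) (Coh.structureModule Γ.curve.left) 1]
  have h1 : gdim (Coh.structureModule Γ.curve.left) 0 = 1 := by
    have h := finrank_eq_mul (K := ResidueField R) (isField_curve hX Γ) (Coh.structureModule Γ.curve.left) 0
    have hpos := ConstDiv.wdeg_pos hX Γ
    rw [Models.wdeg] at hpos
    exact (Nat.eq_of_mul_eq_mul_left hpos (h.symm.trans (mul_one _).symm))
  rw [h1]
  push_cast
  ring

theorem h1_zero_and_selfInter_of_exc {L : X.left.Modules}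
    (hL : _root_.ClSub.IsInverseOf L (_root_.ClSub.idealMod Γ.ι.ker)) (h : Models.IsExcCurve Γ.ι) :
    Models.h1 R X Γ = 0 ∧ ArSurf.inter R X L Γ = -(Models.wdeg R X Γ : ℤ) := by
  obtain ⟨-, K, _, e, ⟨eT⟩⟩ := h
  have hP := ClSub.Cartier.isInvertible_idealMod (Inter.isEffCartier hX Γ)
  letI : Γ.curve.left.Over (Spec (CommRingCat.of K)) := ⟨e.inv ≫ CohB1.ProjSpace.toSpec 1 K⟩
  letI : (CohB1.ProjSpace 1 K).Over (Spec (CommRingCat.of K)) := ⟨CohB1.ProjSpace.toSpec 1 K⟩
  haveI : IsProper (CohB1.ProjSpace.toSpec 1 K) := ProjSpace.Basic.isProper_toSpec 1 K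
  haveI : IsProper (Γ.curve.left ↘ Spec (CommRingCat.of K)) :=
    inferInstanceAs (IsProper (e.inv ≫ CohB1.ProjSpace.toSpec 1 K))
  obtain ⟨h0, hg⟩ := Curves.DegreeOne.h0_genus_of_iso_line (X := Γ.curve.left) (e := e.symm) (k := K) rfl
  have hF := isField_curve hX Γ
  have hO1 : gdim (Coh.structureModule Γ.curve.left) 1 = 0 := by
    have h := finrank_eq_mul (K := K) hF (Coh.structureModule Γ.curve.left) 1
    rw [h0, one_mul] at h
    exact h.symm.trans hg
  refine ⟨by rw [h1_eq hX Γ, hO1, mul_zero], ?_⟩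
  have hM : PicF.IsInvertible ((Scheme.Modules.pullback Γ.ι).obj (_root_.ClSub.idealMod Γ.ι.ker)) :=
    PicLoc.isInvertible_pullback Γ.ι hP
  have hdeg : Curv2.deg K Γ.curve.left ((Scheme.Modules.pullback Γ.ι).obj (_root_.ClSub.idealMod Γ.ι.ker)) 1 = 1 := by
    rw [← SurfInt.PushIso.deg_pullback e.hom (by
      show e.hom ≫ e.inv ≫ CohB1.ProjSpace.toSpec 1 K = CohB1.ProjSpace.toSpec 1 K
      rw [Iso.hom_inv_id_assoc]) hM]
    exact (Curves.Euler.deg_eq_of_iso ((Scheme.Modules.pullbackComp e.hom Γ.ι).app _ ≪≫ eT) 1).trans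
      (deg_twist K)
  rw [deg_eq_gdim hF Γ.dim_eq.le h0 hM] at hdeg
  rw [Inter.inter_of_isInverseOf hX Γ hP hL, inter_eq_mul hX Γ, hdeg, mul_one]

theorem exc_of_h1_zero_and_selfInter {L : X.left.Modules}
    (hL : _root_.ClSub.IsInverseOf L (_root_.ClSub.idealMod Γ.ι.ker))
    (hh1 : Models.h1 R X Γ = 0) (hI : ArSurf.inter R X L Γ = -(Models.wdeg R X Γ : ℤ)) :
    Models.IsExcCurve Γ.ι := by
  have hF := isField_curve hX Γ
  have hw := ConstDiv.wdeg_pos hX Γ
  have hP := ClSub.Cartier.isInvertible_idealMod (Inter.isEffCartier hX Γ)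
  letI : Field Γ(Γ.curve.left, ⊤) := hF.toField
  let K : Type u := Γ(Γ.curve.left, ⊤)
  letI : Γ.curve.left.Over (Spec (CommRingCat.of K)) := ⟨Γ.curve.left.toSpecΓ⟩
  haveI : IsProper (Γ.curve.left ↘ Spec (CommRingCat.of K)) := by
    haveI : IsProper Γ.curve.hom := Inter.isProper_curve hX Γ
    show IsProper Γ.curve.left.toSpecΓ
    haveI : IsProper (Γ.curve.left.toSpecΓ ≫ Spec.map Γ.curve.hom.appTop) := by
      rw [← Scheme.toSpecΓ_naturality]; infer_instance
    exact IsProper.of_comp _ (Spec.map Γ.curve.hom.appTop)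
  have hb : Function.Bijective (Coh.toGlobal (Γ.curve.left ↘ Spec (CommRingCat.of K))) := by
    show Function.Bijective (Coh.toGlobal (A := K) Γ.curve.left.toSpecΓ)
    unfold Coh.toGlobal
    rw [Scheme.toSpecΓ_appTop]
    exact (ConcreteCategory.bijective_of_isIso (Scheme.ΓSpecIso Γ(Γ.curve.left, ⊤)).hom).comp
      (ConcreteCategory.bijective_of_isIso (Scheme.ΓSpecIso Γ(Γ.curve.left, ⊤)).inv)
  have h0 := h0_of_bijective (K := K) (Y := Γ.curve.left) hb
  set M := (Scheme.Modules.pullback Γ.ι).obj (_root_.ClSub.idealMod Γ.ι.ker)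
  have hM : PicF.IsInvertible M := PicLoc.isInvertible_pullback Γ.ι hP
  have hO1 : gdim (Coh.structureModule Γ.curve.left) 1 = 0 := by
    rw [h1_eq hX Γ] at hh1
    exact (Nat.mul_eq_zero.mp hh1).resolve_left hw.ne'
  have hd : Curv2.deg K Γ.curve.left M 1 = 1 := by
    rw [deg_eq_gdim hF Γ.dim_eq.le h0 hM]
    rw [Inter.inter_of_isInverseOf hX Γ hP hL, inter_eq_mul hX Γ] at hI
    have hw' : (Models.wdeg R X Γ : ℤ) ≠ 0 := by exact_mod_cast hw.ne'
    refine mul_left_cancel₀ hw' ?_
    linarith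
  have h2 : 2 ≤ Curves.Euler.hdim K Γ.curve.left M 0 := by
    have e := hd
    rw [Curves.Degree.deg_eq, Curves.Euler.euler_eq (Curves.Degree.isGood (k := K) Γ.dim_eq.le hM).vanish,
      Curves.Euler.euler_eq (Curves.Degree.isGood_structureModule (k := K) Γ.dim_eq.le).vanish] at e
    simp only [Curves.Euler.hdim, h0, finrank_eq_mul (K := K) hF (Coh.structureModule Γ.curve.left) 1,
      hO1, mul_zero] at e ⊢
    omega
  obtain ⟨e, he⟩ := Curves.DegreeOne.exists_iso_line Γ.dim_eq hM hd h2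
  refine ⟨Inter.isEffCartier hX Γ, K, inferInstance, e.symm, ?_⟩
  letI : (CohB1.ProjSpace 1 K).Over (Spec (CommRingCat.of K)) := ⟨CohB1.ProjSpace.toSpec 1 K⟩
  haveI : IsProper (CohB1.ProjSpace 1 K ↘ Spec (CommRingCat.of K)) := ProjSpace.Basic.isProper_toSpec 1 K
  let φ := e.inv
  have hφ : φ ≫ (Γ.curve.left ↘ Spec (CommRingCat.of K)) =
      CohB1.ProjSpace 1 K ↘ Spec (CommRingCat.of K) := by
    show e.inv ≫ (Γ.curve.left ↘ Spec (CommRingCat.of K)) = CohB1.ProjSpace.toSpec 1 K
    rw [← he, Iso.inv_hom_id_assoc]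
  have hdN : Curv2.deg K (CohB1.ProjSpace 1 K) ((Scheme.Modules.pullback φ).obj M) 1 = 1 :=
    (SurfInt.PushIso.deg_pullback φ hφ hM).trans hd
  have hN : PicF.IsInvertible ((Scheme.Modules.pullback φ).obj M) := PicLoc.isInvertible_pullback φ hM
  obtain ⟨T', hT', ⟨eT'⟩⟩ := TensorMod.Invertible.exists_inverse (isInvertible_twist K)
  have hdP : topologicalKrullDim (CohB1.ProjSpace 1 K) = 1 := by
    rw [ProjSpace.Dim.topologicalKrullDim_projSpace]; simp
  haveI : IsIntegral (CohB1.ProjSpace 1 K) := isIntegral_of_isOpenImmersion φ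
  obtain ⟨hP0, hPg⟩ := Curves.DegreeOne.h0_genus_of_iso_line (X := CohB1.ProjSpace 1 K) (k := K)
    (e := Iso.refl _) (Category.id_comp _)
  have hdT' : Curv2.deg K (CohB1.ProjSpace 1 K) T' 1 = -1 := by
    have h := Curves.Degree.deg_tensor (k := K) hdP.le (isInvertible_twist K) hT'
    rw [Curves.Euler.deg_eq_of_iso eT' 1, deg_twist K] at h
    have h' : Curv2.deg K (CohB1.ProjSpace 1 K) (Coh.structureModule (CohB1.ProjSpace 1 K)) 1 = 0 := by
      simp [Curv2.deg]
    linarith
  obtain ⟨u⟩ := Groth.Agent.S6540.result K (CohB1.ProjSpace 1 K) hdP hP0 hPg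
    (CohB1.tensorMod ((Scheme.Modules.pullback φ).obj M) T')
    (TensorMod.Invertible.isInvertible_tensorMod hN hT')
    (by rw [Curves.Degree.deg_tensor (k := K) hdP.le hN hT', hdN, hdT']; norm_num)
  exact ⟨((Scheme.Modules.pullbackComp φ Γ.ι).app _).symm ≪≫
    TensorMod.Invertible.cancelRight hT' (u ≪≫ eT'.symm)⟩

end

end Groth.Agent.Lib.ModelFibre.P1Curve
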