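import Mathlib
import Groth.Agent.Lib.Regular.Descent

/-!
# Regular closed points of a variety over a perfect field
-/

universe u

open IsLocalRing

namespace Groth.Agent.Lib.ModelFibre.RegPoint

variable {k : Type u} [Field k] {C : Type u} [CommRing C] [Algebra k C]

/-- A localization at a smooth point of an algebra of finite type over a field is regular. -/
theorem isRegularLocalRing_of_isSmoothAt [Algebra.FiniteType k C] (m : Ideal C) [m.IsPrime]
    [Algebra.IsSmoothAt k m] : IsRegularLocalRing (Localization.AtPrime m) := by
  have : IsNoetherianRing C := Algebra.FiniteType.isNoetherianRing k C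
  have : Algebra.FinitePresentation k C := Algebra.FinitePresentation.of_finiteType.mp inferInstance
  obtain ⟨h, hh, hstd⟩ := Algebra.IsSmoothAt.exists_notMem_isStandardSmooth k m
  obtain ⟨n, g, hgC, hg⟩ :=
    RingHom.IsStandardSmooth.exists_etale_mvPolynomial
      (f := algebraMap k (Localization.Away h)) (by
        rw [RingHom.isStandardSmooth_algebraMap]; exact hstd)
  set S := Localization.Away h
  letI : Algebra (MvPolynomial (Fin n) k) S := g.toAlgebra
  have : Algebra.Etale (MvPolynomial (Fin n) k) S := hg
  set m' := m.map (algebraMap C S) with hm'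
  have hdisj : Disjoint (Submonoid.powers h : Set C) m := by
    rwa [Ideal.disjoint_powers_iff_notMem_of_isPrime]
  have : m'.IsPrime := IsLocalization.isPrime_of_isPrime_disjoint (.powers h) _ _ ‹_› hdisj
  have hcomap : m'.comap (algebraMap C S) = m :=
    IsLocalization.under_map_of_isPrime_disjoint (.powers h) S ‹_› hdisj
  set q := m'.under (MvPolynomial (Fin n) k) with hq
  let P := Localization.AtPrime q
  let L := Localization.AtPrime m'
  letI : Algebra P L := Localization.AtPrime.algebraOfLiesOver q m'
  have : Algebra.FormallyUnramified (MvPolynomial (Fin n) k) L :=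
    .comp _ S _
  have : Algebra.FormallyUnramified P L := .of_restrictScalars (MvPolynomial (Fin n) k) _ _
  have : Algebra.EssFiniteType (MvPolynomial (Fin n) k) L := .comp _ S _
  have : Algebra.EssFiniteType P L := .of_comp (MvPolynomial (Fin n) k) _ _
  have : Module.Flat (MvPolynomial (Fin n) k) L := .trans _ S _
  have : Module.Flat P L := (Module.flat_iff_of_isLocalization P q.primeCompl L).mpr inferInstance
  have : IsLocalHom (algebraMap P L) := inferInstance
  have : IsRegularLocalRing P := IsRegularRing.isRegularLocalRing_localization q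
  have : IsNoetherianRing S := IsLocalization.isNoetherianRing (.powers h) S inferInstance
  have : IsRegularLocalRing L := (Groth.Agent.Lib.Regular.Descent.isRegularLocalRing_iff (R := P) L
    Algebra.FormallyUnramified.map_maximalIdeal).mp inferInstance
  have : IsLocalization.AtPrime L (m'.comap (algebraMap C S)) :=
    IsLocalization.isLocalization_isLocalization_atPrime_isLocalization (.powers h) L m'
  have e : L ≃+* Localization.AtPrime m := by
    have : IsLocalization.AtPrime L m := by
      convert! this using 2
      exact hcomap.symm
    exact (IsLocalization.algEquiv m.primeCompl L _).toRingEquiv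
  exact IsRegularLocalRing.of_ringEquiv e

/-- A domain of finite type over a perfect field has a regular closed point outside a given
hypersurface. -/
theorem exists_isRegularLocalRing [PerfectField k] [IsDomain C] [Algebra.FiniteType k C] {g : C}
    (hg : g ≠ 0) :
    ∃ m : Ideal C, ∃ _ : m.IsMaximal, g ∉ m ∧ IsRegularLocalRing (Localization.AtPrime m) := by
  have : IsNoetherianRing C := Algebra.FiniteType.isNoetherianRing k C
  have : IsJacobsonRing C := isJacobsonRing_of_finiteType (A := k)
  have : Algebra.FinitePresentation k C := Algebra.FinitePresentation.of_finiteType.mp inferInstance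
  have hbot : (⟨⊥, Ideal.isPrime_bot⟩ : PrimeSpectrum C) ∈ Algebra.smoothLocus k C := by
    show Algebra.FormallySmooth k (Localization.AtPrime (⊥ : Ideal C))
    haveI : IsFractionRing C (Localization.AtPrime (⊥ : Ideal C)) := by
      have e : (⊥ : Ideal C).primeCompl = nonZeroDivisors C := by
        ext x; simp [Ideal.primeCompl]
      change IsLocalization _ _
      rw [← e]
      infer_instance
    letI := IsFractionRing.toField C (K := Localization.AtPrime (⊥ : Ideal C))
    have : Algebra.EssFiniteType k (Localization.AtPrime (⊥ : Ideal C)) :=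
      haveI : Algebra.EssFiniteType C (Localization.AtPrime (⊥ : Ideal C)) :=
        .of_isLocalization _ (⊥ : Ideal C).primeCompl
      .comp _ C _
    exact Algebra.FormallySmooth.of_perfectField
  obtain ⟨_, ⟨_, ⟨s, rfl⟩, rfl⟩, hs, hsU⟩ :=
    PrimeSpectrum.isBasis_basic_opens.exists_subset_of_mem_open hbot Algebra.isOpen_smoothLocus
  have hs0 : s ≠ 0 := fun h0 => hs (h0 ▸ Submodule.zero_mem _)
  have hgs : g * s ∉ Ideal.jacobson (⊥ : Ideal C) := by
    rw [← Ideal.radical_eq_jacobson, Ideal.radical_bot_of_noZeroDivisors, Ideal.mem_bot]
    exact mul_ne_zero hg hs0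
  rw [Ideal.jacobson, Submodule.mem_sInf] at hgs
  push Not at hgs
  obtain ⟨m, ⟨-, hm⟩, hgsm⟩ := hgs
  refine ⟨m, hm, fun h => hgsm (Ideal.mul_mem_right _ m h), ?_⟩
  have : Algebra.IsSmoothAt k m :=
    hsU (show (⟨m, hm.isPrime⟩ : PrimeSpectrum C) ∈ PrimeSpectrum.basicOpen s from
      fun h => hgsm (Ideal.mul_mem_left m _ h))
  exact isRegularLocalRing_of_isSmoothAt (k := k) m

end Groth.Agent.Lib.ModelFibre.RegPoint
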