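import Groth.Agent.Lib.ModelFibre.SmoothGeneric
import Mathlib.AlgebraicGeometry.Fiber
import Groth.Prelude.Def_Models
import Groth.Prelude.Def_Curve

/-!
# Global functions of models and connectedness of the closed fibre
-/

universe u

open CategoryTheory Limits AlgebraicGeometry IsLocalRing TopologicalSpace

namespace Groth.Agent.Lib.ModelFibre.GlobalFun

variable {R : Type u} [CommRing R] [IsDomain R] [IsDiscreteValuationRing R] {C X : Scheme.{u}}
  (p : X ⟶ Spec (CommRingCat.of R)) (f : C ⟶ Spec (CommRingCat.of (FractionRing R))) (g : C ⟶ X)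
  (hg : IsPullback g f p (Spec.map (CommRingCat.ofHom (algebraMap R (FractionRing R)))))

omit [IsDomain R] [IsDiscreteValuationRing R] in
lemma toGlobal_comp {S : Type u} [CommRing S] (q : C ⟶ Spec (CommRingCat.of S)) (φ : R →+* S)
    (hw : g ≫ p = q ≫ Spec.map (CommRingCat.ofHom φ)) (r : R) :
    g.appTop (Coh.toGlobal p r) = Coh.toGlobal q (φ r) := by
  have h1 : p.appTop ≫ g.appTop = (Spec.map (CommRingCat.ofHom φ)).appTop ≫ q.appTop := by
    rw [← Scheme.Hom.comp_appTop, hw, Scheme.Hom.comp_appTop]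
  have h2 := Scheme.ΓSpecIso_inv_naturality (CommRingCat.ofHom φ)
  have h3 : ((Scheme.ΓSpecIso (CommRingCat.of R)).inv ≫ p.appTop ≫ g.appTop) =
      CommRingCat.ofHom φ ≫ (Scheme.ΓSpecIso (CommRingCat.of S)).inv ≫ q.appTop := by
    rw [h1, reassoc_of% h2]
  exact congrArg (fun t => t.hom r) h3

include hg

lemma appTop_injective [IsIntegral X] [Nonempty C] : Function.Injective g.appTop := by
  haveI := SmoothGeneric.isOpenImmersion_gK hg
  intro a b h
  obtain ⟨c⟩ := ‹Nonempty C›
  refine germ_injective_of_isIntegral X (g c) (U := ⊤) trivial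
    ((ConcreteCategory.bijective_of_isIso (g.stalkMap c)).1 ?_)
  exact (Scheme.Hom.germ_stalkMap_apply g ⊤ c trivial a).trans
    ((congrArg (C.presheaf.germ (g ⁻¹ᵁ ⊤) c trivial) h).trans
      (Scheme.Hom.germ_stalkMap_apply g ⊤ c trivial b).symm)

/-- A model is surjective onto the base as soon as it is proper with nonempty generic fibre. -/
theorem exists_special [IsProper p] [Nonempty C] : ∃ y : X, p y = closedPoint R := by
  obtain ⟨c⟩ := ‹Nonempty C›
  have h := (p.isClosedMap.isClosed_range).closure_subset_iff.2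
    (Set.singleton_subset_iff.2 ⟨g c, rfl⟩)
  obtain ⟨y, hy⟩ := h (specializes_iff_mem_closure.1 (IsLocalRing.specializes_closedPoint (p (g c))))
  exact ⟨y, hy⟩

/-- The global functions of a proper model are the base ring. -/
theorem bijective_toGlobal [IsIntegral X] [IsProper p] [Nonempty C]
    (hf : Function.Bijective f.appTop) : Function.Bijective (Coh.toGlobal p) := by
  have hK : Function.Bijective (Coh.toGlobal f) :=
    hf.comp (ConcreteCategory.bijective_of_isIso (Scheme.ΓSpecIso (CommRingCat.of (FractionRing R))).inv)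
  have hw := toGlobal_comp p g f (algebraMap R (FractionRing R)) hg.w
  refine ⟨fun a b h => IsFractionRing.injective R (FractionRing R) (hK.1 ?_), ?_⟩
  · rw [← hw, ← hw, h]
  show ∀ s : Γ(X, ⊤), ∃ r, Coh.toGlobal p r = s
  intro s
  obtain ⟨a, ha⟩ := hK.2 (g.appTop s)
  rcases ValuationRing.isInteger_or_isInteger R a with ⟨r, hr⟩ | ⟨m, hm⟩
  · exact ⟨r, appTop_injective p f g hg (by rw [hw, hr, ha])⟩
  by_cases hu : IsUnit m
  · obtain ⟨u, rfl⟩ := hu
    refine ⟨(↑u⁻¹ : R), appTop_injective p f g hg ?_⟩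
    rw [hw, ← ha]
    congr 1
    rw [← inv_inv a, ← hm]
    exact map_units_inv _ u
  by_cases ha0 : a = 0
  · exact ⟨0, appTop_injective p f g hg (by rw [hw, ← ha, ha0, map_zero])⟩
  exfalso
  obtain ⟨t, ht⟩ : ∃ t : Γ(X, ⊤), t = RegularExt.glob p m := ⟨_, rfl⟩
  have hgt : g.appTop t = Coh.toGlobal f a⁻¹ := by rw [ht, ← hm]; exact hw m
  have h1 : s * t = 1 := appTop_injective p f g hg (by
    refine (map_mul g.appTop.hom _ _).trans (.trans ?_ (map_one g.appTop.hom).symm)
    refine (congrArg₂ (fun x y : Γ(C, ⊤) => x * y) ha.symm hgt).trans ?_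
    refine (map_mul (Coh.toGlobal f) a a⁻¹).symm.trans ?_
    rw [mul_inv_cancel₀ ha0]
    exact map_one (Coh.toGlobal f))
  obtain ⟨y, hy⟩ := exists_special p f g hg
  have h2 : y ∈ X.basicOpen t :=
    (Scheme.mem_basicOpen X t y (show y ∈ (⊤ : X.Opens) from trivial)).2
      ((isUnit_iff_exists_inv.2 ⟨s, (mul_comm t s).trans h1⟩).map _)
  rw [ht] at h2
  rw [RegularExt.basicOpen_toGlobal] at h2
  change m ∉ (p y).asIdeal at h2
  rw [hy] at h2
  exact h2 hu

/-- The structure morphism of a proper model has direct image the structure sheaf of the base. -/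
theorem isIso_app [IsIntegral X] [IsProper p] [Nonempty C] (hf : Function.Bijective f.appTop)
    (U : (Spec (CommRingCat.of R)).Opens) : IsIso (p.app U) := by
  by_cases hU : closedPoint R ∈ U
  · have : U = ⊤ := top_le_iff.1 fun z _ => (IsLocalRing.specializes_closedPoint z).mem_open U.2 hU
    subst this
    have h := bijective_toGlobal p f g hg hf
    refine (ConcreteCategory.isIso_iff_bijective _).2 ?_
    exact (Function.Bijective.of_comp_iff _
      (ConcreteCategory.bijective_of_isIso (Scheme.ΓSpecIso (CommRingCat.of R)).inv)).1 h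
  haveI := SmoothGeneric.isOpenImmersion_gK hg
  obtain ⟨π, hπ⟩ := IsDiscreteValuationRing.exists_irreducible R
  haveI := SmoothGeneric.isLocalization_away (R := R) hπ
  haveI : IsOpenImmersion (Spec.map (CommRingCat.ofHom (algebraMap R (FractionRing R)))) :=
    IsOpenImmersion.of_isLocalization π
  set sK := Spec.map (CommRingCat.ofHom (algebraMap R (FractionRing R))) with hsK
  have hle : U ≤ sK.opensRange := by
    intro z hz
    show z ∈ Set.range sK
    rw [show Set.range sK = _ from PrimeSpectrum.localization_away_comap_range (FractionRing R) π]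
    intro hπz
    have h1 : maximalIdeal R ≤ z.asIdeal := by
      rw [hπ.maximalIdeal_eq]
      exact (Ideal.span_singleton_le_iff_mem _).2 hπz
    have h2 : z = closedPoint R :=
      PrimeSpectrum.ext ((IsLocalRing.maximalIdeal.isMaximal R).eq_of_le z.isPrime.ne_top h1).symm
    exact hU (h2 ▸ hz)
  have hle' : p ⁻¹ᵁ U ≤ g.opensRange := by
    intro x hx
    obtain ⟨k, hk⟩ := hle hx
    obtain ⟨t, ht, -⟩ := Scheme.Pullback.exists_preimage_pullback (f := p) (g := sK) x k hk.symm
    exact ⟨hg.isoPullback.inv t, by rw [← Scheme.Hom.comp_apply, hg.isoPullback_inv_fst, ht]⟩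
  haveI : IsIso (g.app (p ⁻¹ᵁ U)) := g.isIso_app _ hle'
  haveI : IsIso (sK.app U) := sK.isIso_app _ hle
  haveI : IsIso (f.app (sK ⁻¹ᵁ U)) := by
    rcases (sK ⁻¹ᵁ U).1.eq_empty_or_nonempty with h | ⟨z, hz⟩
    · have : sK ⁻¹ᵁ U = ⊥ := Opens.ext h
      rw [this]
      haveI : Subsingleton Γ(C, f ⁻¹ᵁ ⊥) := by rw [show f ⁻¹ᵁ ⊥ = ⊥ from rfl]; infer_instance
      refine (ConcreteCategory.isIso_iff_bijective _).2 ⟨fun a b _ => Subsingleton.elim _ _,
        fun b => ⟨0, Subsingleton.elim _ _⟩⟩
    · have : sK ⁻¹ᵁ U = ⊤ := top_le_iff.1 fun z' _ => by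
        have : z' = z := Subsingleton.elim _ _
        rw [this]; exact hz
      rw [this]
      exact (ConcreteCategory.isIso_iff_bijective _).2 hf
  have hc : IsIso ((g ≫ p).app U) := by
    rw [Scheme.Hom.congr_app hg.w U, Scheme.Hom.comp_app]
    exact IsIso.comp_isIso' (IsIso.comp_isIso' ‹IsIso (sK.app U)› ‹IsIso (f.app (sK ⁻¹ᵁ U))›) inferInstance
  rw [Scheme.Hom.comp_app] at hc
  exact @IsIso.of_isIso_comp_right _ _ _ _ _ (p.app U) (g.app (p ⁻¹ᵁ U)) _ hc

omit hg in
/-- The closed fibre is connected when the fibre over the closed point is. -/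
theorem connected_specialFibreSet
    [h : ConnectedSpace ↥(p.fiber (closedPoint R))] : _root_.IsConnected (p ⁻¹' {closedPoint R}) := by
  have h1 := isConnected_range (p.fiberι (closedPoint R)).continuous
  exact (p.range_fiberι (closedPoint R)) ▸ h1

omit hg in
theorem connectedSpace_specialFibre
    [h : ConnectedSpace ↥(p.fiber (closedPoint R))] : ConnectedSpace ↥(Models.specialFibre R X p) := by
  set r := Spec.map (CommRingCat.ofHom (algebraMap R (ResidueField R))) with hr
  haveI : IsClosedImmersion r := IsClosedImmersion.spec_of_surjective _ residue_surjective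
  have he : Set.range (pullback.fst p r) = p ⁻¹' {closedPoint R} := by
    rw [Scheme.Pullback.range_fst]
    refine congrArg (fun S => p ⁻¹' S) (Set.Subset.antisymm ?_ ?_)
    · rintro _ ⟨z, rfl⟩
      exact IsLocalRing.PrimeSpectrum.comap_residue R z
    · rintro _ rfl
      exact ⟨closedPoint _, IsLocalRing.PrimeSpectrum.comap_residue R _⟩
  haveI : IsClosedImmersion (pullback.fst p r) := inferInstance
  haveI : ConnectedSpace ↥(Set.range (pullback.fst p r)) :=
    isConnected_iff_connectedSpace.1 (he ▸ connected_specialFibreSet p)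
  let e := (pullback.fst p r).isClosedEmbedding.toIsEmbedding.toHomeomorph
  exact e.symm.surjective.connectedSpace e.symm.continuous

end Groth.Agent.Lib.ModelFibre.GlobalFun
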