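import Groth.Agent.Lib.SurfInt.ColonSeq

/-!
# The kernel of restriction from `C + D` to `C`
-/

set_option autoImplicit false
set_option linter.style.haveILetI false
universe u

open CategoryTheory CategoryTheory.Limits AlgebraicGeometry TopologicalSpace
open scoped TensorProduct

namespace Groth.Agent.Lib.ModelFibre.ColonDescend

open Groth.Agent.Lib Groth.Agent.Lib.Modules Groth.Agent.Lib.SurfInt.Stalk
open Groth.Agent.Lib.SurfInt.Seq Groth.Agent.Lib.SurfInt.ColonSeq
open Groth.Agent.Lib.Ideal.Prime (stalkIdeal)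
open Groth.Agent.Lib.TensorMod.Basic (tmap)

noncomputable section

section Colon

variable {Y : Scheme.{u}}

/-- The sequence of `C ≤ C + D`, with its second map the restriction. -/
theorem exists_kernel_descend (C D : Y.IdealSheafData) (hPC : PicF.IsInvertible (_root_.ClSub.idealMod C))
    (hreg : ∀ x : Y, ∃ c : Y.presheaf.stalk x, stalkIdeal C x = _root_.Ideal.span {c} ∧
      ∀ a, c * a ∈ stalkIdeal (C * D) x ↔ a ∈ stalkIdeal D x)
    {π : _root_.ClSub.quotMod (C * D) ⟶ _root_.ClSub.quotMod C}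
    (hπ : _root_.ClSub.toSubscheme (C * D) ≫ π = _root_.ClSub.toSubscheme C) :
    ∃ (f : CohB1.tensorMod (_root_.ClSub.idealMod C) (_root_.ClSub.quotMod D) ⟶
        _root_.ClSub.quotMod (C * D)) (w : f ≫ π = 0), (ShortComplex.mk f π w).ShortExact := by
  obtain ⟨f, hf⟩ := exists_desc C D (C * D) hPC hreg
  have hfval : ∀ (x : Y) (a : (_root_.ClSub.idealMod C).presheaf.stalk x) (r : Y.presheaf.stalk x),
      StalkModule.stalkMapₗ f x ((DerivedOX.TensorSheaf.tensorStalk x (_root_.ClSub.idealMod C) (_root_.ClSub.quotMod D)).symm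
        (a ⊗ₜ quotStalk D x r)) = quotStalk (C * D) x (idealStalk C x a * r) := by
    intro x a r
    have h := act_quot_stalk C (C * D) x a ((oStalk x).symm r)
    rw [LinearEquiv.apply_symm_apply, ← hf, StalkModule.stalkMapₗ_comp, LinearMap.comp_apply] at h
    refine Eq.trans (congrArg (StalkModule.stalkMapₗ f x) ?_) h
    exact (stalk_tmap (_root_.ClSub.toSubscheme D) x a ((oStalk x).symm r)).symm
  have w : f ≫ π = 0 := by
    refine StalkModule.hom_ext_stalkMapₗ fun x => LinearMap.ext fun z => ?_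
    obtain ⟨c, he, hc⟩ := hreg x
    obtain ⟨a₀, ha₀, hgen⟩ := exists_pure C x c he
    obtain ⟨v, hz⟩ := hgen _ z
    subst hz
    obtain ⟨r, rfl⟩ := quotStalk_surjective D x v
    rw [StalkModule.stalkMapₗ_comp, StalkModule.stalkMapₗ_zero, LinearMap.zero_apply,
      LinearMap.comp_apply, hfval, stalkMapₗ_descend hπ, ha₀]
    refine LinearMap.mem_ker.mp ?_
    rw [ker_quotStalk, he]
    exact _root_.Ideal.mul_mem_right _ _ (_root_.Ideal.mem_span_singleton_self c)
  refine ⟨f, w, ?_⟩
  haveI : Mono f := by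
    rw [StalkModule.mono_iff_stalkMapₗ_injective]
    intro x
    obtain ⟨c, he, hc⟩ := hreg x
    obtain ⟨a₀, ha₀, hgen⟩ := exists_pure C x c he
    rw [injective_iff_map_eq_zero]
    intro z hz
    obtain ⟨v, hz'⟩ := hgen _ z
    subst hz'
    obtain ⟨r, rfl⟩ := quotStalk_surjective D x v
    rw [hfval, ha₀, ← LinearMap.mem_ker, ker_quotStalk, hc, ← ker_quotStalk,
      LinearMap.mem_ker] at hz
    rw [hz, TensorProduct.tmul_zero]
    exact map_zero _
  haveI : Epi π := by
    haveI := ClSub.Quot.epi_toSubscheme C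
    exact epi_of_epi_fac hπ
  refine { exact := (Modules.Stalk.exact_iff_stalk _).mpr fun x => ?_ }
  rw [ShortComplex.ab_exact_iff_function_exact]
  intro y
  change StalkModule.stalkMapₗ π x y = 0 ↔ ∃ z, StalkModule.stalkMapₗ f x z = y
  constructor
  · intro hy
    obtain ⟨r, rfl⟩ := quotStalk_surjective (C * D) x y
    obtain ⟨c, he, -⟩ := hreg x
    obtain ⟨a₀, ha₀, -⟩ := exists_pure C x c he
    rw [stalkMapₗ_descend hπ, ← LinearMap.mem_ker, ker_quotStalk, he] at hy
    obtain ⟨s, rfl⟩ := _root_.Ideal.mem_span_singleton'.mp hy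
    exact ⟨_, (hfval x a₀ s).trans (congrArg _ (by rw [ha₀]; exact mul_comm c s))⟩
  · rintro ⟨z, rfl⟩
    have := LinearMap.congr_fun (congrArg (fun φ => StalkModule.stalkMapₗ φ x) w) z
    simpa [StalkModule.stalkMapₗ_comp, StalkModule.stalkMapₗ_zero] using this

end Colon

end

end Groth.Agent.Lib.ModelFibre.ColonDescend
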