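import Groth.Agent.Lib.ModelFibre.InterForm

/-!
# Connected closed fibres: the kernel of the intersection form
-/

universe u

open CategoryTheory Limits AlgebraicGeometry IsLocalRing TopologicalSpace Groth.Agent.Lib.ModelFibre
open Groth.Agent.Lib Matrix

namespace Groth.Agent.Lib.ModelFibre.InterConn

noncomputable section

variable {R : Type u} [CommRing R] [IsDomain R] [IsDiscreteValuationRing R]
variable {X : Over (Spec (CommRingCat.of R))} (hX : Inter.IsSurf X)

include hX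

/-- Distinct vertical prime divisors covering the closed fibre form a complete list of components. -/
theorem isComponentList {n : ℕ} (Γ : Fin n → ArSurf.VertComp R X)
    (hdist : Function.Injective fun i => Set.range ((Γ i).ι.base : (Γ i).curve.left → X.left))
    (hcov : ∀ x ∈ Models.specialFibreSet R X, ∃ i, x ∈ Set.range ((Γ i).ι.base : (Γ i).curve.left → X.left)) :
    Models.IsComponentList R X Γ := by
  refine ⟨hdist, Set.Subset.antisymm ?_ fun S hS => ?_⟩
  · rintro _ ⟨i, rfl⟩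
    exact Inter.range_mem hX (Γ i)
  obtain ⟨z, hz⟩ : ∃ i, S ⊆ Set.range ((Γ i).ι.base : (Γ i).curve.left → X.left) := by
    classical
    have h := isIrreducible_iff_sUnion_isClosed.1 hS.1.1
      (Finset.univ.image fun i => Set.range ((Γ i).ι.base : (Γ i).curve.left → X.left)) (fun Z hZ => by
        obtain ⟨i, -, rfl⟩ := Finset.mem_image.1 hZ
        exact (Γ i).ι.isClosedEmbedding.isClosed_range) (fun x hx => by
        obtain ⟨i, hi⟩ := hcov x (hS.1.2 hx)
        exact Set.mem_sUnion.2 ⟨_, Finset.mem_coe.2 (Finset.mem_image_of_mem _ (Finset.mem_univ i)), hi⟩)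
    obtain ⟨Z, hZ, hSZ⟩ := h
    obtain ⟨i, -, rfl⟩ := Finset.mem_image.1 hZ
    exact ⟨i, hSZ⟩
  exact ⟨z, Set.Subset.antisymm (hS.2 (Inter.range_mem hX (Γ z)).1 hz) hz⟩

/-- On a connected closed fibre no set of components is orthogonal to the others. -/
theorem exists_edge {n : ℕ} (Γ : Fin n → ArSurf.VertComp R X)
    (hdist : Function.Injective fun i => Set.range ((Γ i).ι.base : (Γ i).curve.left → X.left))
    (hcov : ∀ x ∈ Models.specialFibreSet R X, ∃ i, x ∈ Set.range ((Γ i).ι.base : (Γ i).curve.left → X.left))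
    (hconn : _root_.IsPreconnected (Models.specialFibreSet R X))
    (L : Fin n → X.left.Modules) (hL : ∀ i, _root_.ClSub.IsInverseOf (L i) (_root_.ClSub.idealMod (Γ i).ι.ker))
    (I : Finset (Fin n)) (hI : I.Nonempty) (hI' : I ≠ Finset.univ) :
    ∃ i ∈ I, ∃ j ∉ I, 0 < ArSurf.inter R X (L j) (Γ i) := by
  classical
  let Z : Fin n → Set X.left := fun i => Set.range ((Γ i).ι.base : (Γ i).curve.left → X.left)
  have hcl : ∀ J : Finset (Fin n), IsClosed (⋃ i ∈ J, Z i) := fun J =>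
    Set.Finite.isClosed_biUnion J.finite_toSet fun i _ => (Γ i).ι.isClosedEmbedding.isClosed_range
  obtain ⟨j₀, hj₀⟩ : ∃ j, j ∉ I := by
    by_contra h
    exact hI' (Finset.eq_univ_iff_forall.2 fun j => by_contra fun hj => h ⟨j, hj⟩)
  obtain ⟨i₀, hi₀⟩ := hI
  have hmem : ∀ i, (Γ i).ι (genericPoint (Γ i).curve.left) ∈ Models.specialFibreSet R X := fun i =>
    (Inter.range_mem hX (Γ i)).1.2 ⟨_, rfl⟩
  obtain ⟨x, -, hx1, hx2⟩ := isPreconnected_closed_iff.1 hconn (⋃ i ∈ I, Z i) (⋃ i ∈ Iᶜ, Z i)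
    (hcl I) (hcl Iᶜ) (fun x hx => by
      obtain ⟨i, hi⟩ := hcov x hx
      by_cases h : i ∈ I
      · exact Or.inl (Set.mem_biUnion h hi)
      · exact Or.inr (Set.mem_biUnion (Finset.mem_compl.2 h) hi))
    ⟨_, hmem i₀, Set.mem_biUnion hi₀ ⟨_, rfl⟩⟩
    ⟨_, hmem j₀, Set.mem_biUnion (Finset.mem_compl.2 hj₀) ⟨_, rfl⟩⟩
  obtain ⟨i, hi, hxi⟩ := Set.mem_iUnion₂.1 hx1
  obtain ⟨j, hj, hxj⟩ := Set.mem_iUnion₂.1 hx2
  have hjI := Finset.mem_compl.1 hj
  have hij : i ≠ j := fun h => hjI (h ▸ hi)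
  obtain ⟨h1, h2⟩ := Inter.inter_nonneg hX (Γ i) (Inter.isEffCartier hX (Γ j))
    (Inter.genPt_not_mem hX (Γ i) (Γ j) fun e => hij (hdist e)) (hL j)
  refine ⟨i, hi, j, hjI, lt_of_le_of_ne h1 fun h0 => ?_⟩
  have hd := h2.1 h0.symm
  rw [Scheme.Hom.support_ker] at hd
  exact Set.disjoint_left.1 hd hxi (subset_closure hxj)

variable {n : ℕ} (Γ : Fin n → ArSurf.VertComp R X) (hΓ : Models.IsComponentList R X Γ)
  (hcov : ∀ x ∈ Models.specialFibreSet R X, ∃ i, x ∈ Set.range ((Γ i).ι.base : (Γ i).curve.left → X.left))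
  (hconn : _root_.IsPreconnected (Models.specialFibreSet R X))
  (L : Fin n → X.left.Modules) (hL : ∀ i, _root_.ClSub.IsInverseOf (L i) (_root_.ClSub.idealMod (Γ i).ι.ker))

include hΓ hcov hconn hL

/-- The null vectors of the intersection form are the multiples of the closed fibre. -/
theorem null_iff (a : Fin n → ℤ) :
    (∑ i, ∑ j, a i * a j * ArSurf.inter R X (L j) (Γ i) = 0 ↔
      ∃ c : ℚ, ∀ i, (a i : ℚ) = c * (Models.mult R X (Γ i) : ℚ)) ∧
    ((∀ i, ∑ j, a j * ArSurf.inter R X (L j) (Γ i) = 0) ↔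
      ∃ c : ℚ, ∀ i, (a i : ℚ) = c * (Models.mult R X (Γ i) : ℚ)) := by
  classical
  let A : Matrix (Fin n) (Fin n) ℚ := fun i j => (ArSurf.inter R X (L j) (Γ i) : ℚ)
  let m : Fin n → ℚ := fun i => (Models.mult R X (Γ i) : ℚ)
  let t : Fin n → ℚ := fun i => (a i : ℚ)
  have hm : ∀ i, 0 < m i := fun i => by
    have := InterForm.mult_pos hX (Γ i)
    show (0 : ℚ) < ((Models.mult R X (Γ i) : ℕ) : ℚ)
    exact_mod_cast this
  have hrow : ∀ i, A.mulVec m i = 0 := fun i => by
    have h1 := Inter.sum_mult_mul_inter hX (Γ i) Γ hΓ L hL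
    have h2 : A.mulVec m i = ((∑ j, (Models.mult R X (Γ j) : ℤ) * ArSurf.inter R X (L j) (Γ i) : ℤ) : ℚ) := by
      simp only [Matrix.mulVec, dotProduct, A, m]
      push_cast
      exact Finset.sum_congr rfl fun d _ => mul_comm _ _
    rw [h2, h1]; simp
  have hsym : A.IsSymm := by
    refine Matrix.IsSymm.ext fun i j => ?_
    by_cases h : i = j
    · rw [h]
    · exact congrArg Int.cast (Inter.inter_symm hX (fun e => h (hΓ.1 e)) (hL i) (hL j)).symm
  have hoff : ∀ i j, i ≠ j → 0 ≤ A i j := fun i j h => by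
    have := (Inter.inter_nonneg hX (Γ i) (Inter.isEffCartier hX (Γ j))
      (Inter.genPt_not_mem hX (Γ i) (Γ j) fun e => h (hΓ.1 e)) (hL j)).1
    show (0 : ℚ) ≤ ((ArSurf.inter R X (L j) (Γ i) : ℤ) : ℚ)
    exact_mod_cast this
  let y : Fin n → ℚ := fun i => t i / m i
  have hym : (fun i => y i * m i) = t := funext fun i => div_mul_cancel₀ _ (hm i).ne'
  have hconst : dotProduct t (A.mulVec t) = 0 → ∃ c : ℚ, ∀ i, t i = c * m i := by
    intro h0
    have h := ((NumType.Form.quadForm_nonpos A hsym hoff m hm (fun i => (hrow i).le) y).2 (by rw [hym]; exact h0)).2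
    have heq := NumType.Form.eq_of_connected A (fun I hI hI' => by
      obtain ⟨i, hi, j, hj, hpos⟩ := exists_edge hX Γ hΓ.1 hcov hconn L hL I hI hI'
      exact ⟨i, hi, j, hj, Int.cast_ne_zero.2 hpos.ne'⟩) y h
    rcases isEmpty_or_nonempty (Fin n) with _ | ⟨⟨i₀⟩⟩
    · exact ⟨0, fun i => isEmptyElim i⟩
    · exact ⟨y i₀, fun i => by rw [heq i₀ i]; exact (div_mul_cancel₀ _ (hm i).ne').symm⟩
  have hker : (∃ c : ℚ, ∀ i, t i = c * m i) → A.mulVec t = 0 := by
    rintro ⟨c, hc⟩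
    rw [show t = c • m from funext hc, Matrix.mulVec_smul, show A.mulVec m = 0 from funext hrow, smul_zero]
  have hform : dotProduct t (A.mulVec t) =
      ((∑ i, ∑ j, a i * a j * ArSurf.inter R X (L j) (Γ i) : ℤ) : ℚ) := by
    simp only [Matrix.mulVec, dotProduct, A, t, Finset.mul_sum]
    push_cast
    exact Finset.sum_congr rfl fun i _ => Finset.sum_congr rfl fun j _ => by ring
  have hlin : ∀ i, A.mulVec t i = ((∑ j, a j * ArSurf.inter R X (L j) (Γ i) : ℤ) : ℚ) := fun i => by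
    simp only [Matrix.mulVec, dotProduct, A, t]
    push_cast
    exact Finset.sum_congr rfl fun d _ => mul_comm _ _
  refine ⟨⟨fun h => hconst (by rw [hform, h]; simp), fun h => ?_⟩, ⟨fun h => hconst ?_, fun h i => ?_⟩⟩
  · have h1 : dotProduct t (A.mulVec t) = 0 := by rw [hker h, dotProduct_zero]
    rw [hform] at h1
    exact_mod_cast h1
  · rw [show A.mulVec t = 0 from funext fun i => by rw [hlin, h i]; simp, dotProduct_zero]
  · have h1 := congrFun (hker h) i
    rw [hlin] at h1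
    exact Int.cast_eq_zero.1 h1

end

end Groth.Agent.Lib.ModelFibre.InterConn
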