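import Groth.Agent.Lib.ModelFibre.EulerFormula
import Groth.Agent.Lib.ModelFibre.InterConn
import Groth.Agent.Lib.Curves.Degree
import Groth.Agent.Lib.ProjKoszul.Regularity
import Groth.Agent.Lib.SurfInt.JPow
import Groth.Agent.Lib.ModelFibre.ColonDescend

/-!
# Global functions of the divisor `Σ (m_i/d) Γ_i`
-/

set_option linter.style.haveILetI false

universe u

open CategoryTheory Limits AlgebraicGeometry IsLocalRing Groth.Agent.Lib.ModelFibre TopologicalSpace

namespace Groth.Agent.Lib.ModelFibre.DivisorField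

open Groth.Agent.Lib Groth.Agent.Lib.TensorMod.Basic Groth.Agent.Lib.Modules
open Groth.Agent.Lib.SurfInt.Stalk Groth.Agent.Lib.SurfInt.ColonSeq Groth.Agent.Lib.SurfInt.Seq
open Groth.Agent.Lib.Ideal.Prime (stalkIdeal)
open scoped TensorProduct

noncomputable section

section Subscheme

variable {Y : Scheme.{u}}

theorem appTop_restrict {Z W : Scheme.{u}} (j : Z ⟶ W) (ι : W ⟶ Y) (φ : Z ⟶ Y) (hφ : j ≫ ι = φ)
    (U : Y.Opens) (s : Γ(W, ⊤)) (r : Γ(Y, U))
    (hr : ι.app U r = W.presheaf.map (homOfLE (le_top : ι ⁻¹ᵁ U ≤ ⊤)).op s) :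
    Z.presheaf.map (homOfLE (le_top : φ ⁻¹ᵁ U ≤ ⊤)).op (j.appTop s) = φ.app U r := by
  subst hφ
  show _ = j.app _ (ι.app U r)
  rw [hr]
  exact (congr($(j.naturality (homOfLE (le_top : ι ⁻¹ᵁ U ≤ ⊤)).op) s)).symm

theorem mapMod_restrict {I J : Y.IdealSheafData}
    (π : _root_.ClSub.quotMod I ⟶ _root_.ClSub.quotMod J) (U : Y.Opens) (s : Γ(I.subscheme, ⊤)) :
    J.subscheme.presheaf.map (homOfLE (le_top : J.subschemeι ⁻¹ᵁ U ≤ ⊤)).op (π.app ⊤ s) =
      π.app U (I.subscheme.presheaf.map (homOfLE (le_top : I.subschemeι ⁻¹ᵁ U ≤ ⊤)).op s) :=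
  (congr($(π.mapPresheaf.naturality (homOfLE (le_top : U ≤ ⊤)).op) s)).symm

/-- The surjection `O/I → O/J` is restriction along the inclusion of subschemes. -/
theorem descend_app_top {I J : Y.IdealSheafData}
    {π : _root_.ClSub.quotMod I ⟶ _root_.ClSub.quotMod J}
    (hπ : _root_.ClSub.toSubscheme I ≫ π = _root_.ClSub.toSubscheme J)
    (j : J.subscheme ⟶ I.subscheme) (hj : j ≫ I.subschemeι = J.subschemeι)
    (s : Γ(I.subscheme, ⊤)) : π.app ⊤ s = j.appTop s := by
  refine J.subscheme.sheaf.eq_of_locally_eq' (fun U : Y.affineOpens => J.subschemeι ⁻¹ᵁ U.1) ⊤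
    (fun U => homOfLE le_top) ?_ _ _ fun U => ?_
  · intro y _
    obtain ⟨V, hV, hy, -⟩ := exists_isAffineOpen_mem_and_subset
      (show J.subschemeι y ∈ (⊤ : Y.Opens) from trivial)
    exact Opens.mem_iSup.mpr ⟨⟨V, hV⟩, hy⟩
  obtain ⟨r, hr⟩ := ClSub.Sections.toSubscheme_app_surjective I U
    (I.subscheme.presheaf.map (homOfLE (le_top : I.subschemeι ⁻¹ᵁ U.1 ≤ ⊤)).op s)
  refine (mapMod_restrict π U.1 s).trans (Eq.trans ?_ (appTop_restrict j I.subschemeι _ hj U.1 s r hr).symm)
  rw [← hr, ← ClSub.Sections.toSubscheme_app J U.1 r, ← hπ]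
  rfl

theorem isUnit_of_basicOpen_eq_top (s : Γ(Y, ⊤)) (h : Y.basicOpen s = ⊤) : IsUnit s :=
  RingedSpace.isUnit_of_isUnit_germ _ ⊤ s fun x _ =>
    (Y.mem_basicOpen s x trivial).mp (by rw [h]; trivial)

end Subscheme


variable {R : Type u} [CommRing R] [IsDomain R] [IsDiscreteValuationRing R]
  {X : Over (Spec (CommRingCat.of R))} (hX : Inter.IsSurf X) {n : ℕ}
  (Γ : Fin n → ArSurf.VertComp R X) (hΓ : Models.IsComponentList R X Γ)

/-- The divisor `Σ a_j Γ_j`. -/
abbrev div (a : Fin n → ℕ) : X.left.IdealSheafData := ∏ j, (Γ j).ι.ker ^ a j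

omit [IsDiscreteValuationRing R] in
theorem le_mul_left {Y : Scheme.{u}} (I J : Y.IdealSheafData) : I * J ≤ I :=
  Scheme.IdealSheafData.le_def.mpr fun U => by
    rw [Scheme.IdealSheafData.ideal_mul, Pi.mul_apply]; exact _root_.Ideal.mul_le_left

theorem div_mono {a b : Fin n → ℕ} (h : ∀ j, a j ≤ b j) : div Γ b ≤ div Γ a := by
  have : div Γ b = div Γ a * div Γ (fun j => b j - a j) := by
    simp only [div, ← Finset.prod_mul_distrib, ← pow_add]
    exact Finset.prod_congr rfl fun j _ => by rw [Nat.add_sub_cancel' (h j)]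
  rw [this]
  exact le_mul_left _ _

theorem div_single (i : Fin n) : div Γ (fun j => if j = i then 1 else 0) = (Γ i).ι.ker := by
  refine (Finset.prod_eq_single i (fun j _ h => ?_) (fun h => absurd (Finset.mem_univ i) h)).trans ?_
  · simp only [if_neg h, pow_zero]
  · simp

/-- A section of `O_D` dies on `D'`. -/
def Dies {I : X.left.IdealSheafData} (s : Γ(I.subscheme, ⊤)) (J : X.left.IdealSheafData) : Prop :=
  ∀ π : _root_.ClSub.quotMod I ⟶ _root_.ClSub.quotMod J,
    _root_.ClSub.toSubscheme I ≫ π = _root_.ClSub.toSubscheme J → π.app ⊤ s = 0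

include hX

theorem deg_nonneg_of_section (i : Fin n) {a : Fin n → ℕ}
    {π : _root_.ClSub.quotMod (div Γ a * (Γ i).ι.ker) ⟶ _root_.ClSub.quotMod (div Γ a)}
    (hπ : _root_.ClSub.toSubscheme _ ≫ π = _root_.ClSub.toSubscheme _)
    (t : Γ(_root_.ClSub.quotMod (div Γ a * (Γ i).ι.ker), ⊤)) (ht : t ≠ 0) (ht0 : π.app ⊤ t = 0) :
    0 ≤ ∑ j, (a j : ℤ) * EulerFormula.J Γ j i := by
  have hC := EulerStep.isEffCartier_prod hX Γ a Finset.univ
  obtain ⟨f, w, hS⟩ := ColonDescend.exists_kernel_descend (div Γ a) (Γ i).ι.ker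
    (ClSub.Cartier.isInvertible_idealMod hC) (EulerStep.colon_mul hC _) hπ
  let P := _root_.ClSub.idealMod (div Γ a)
  have hP : PicF.IsInvertible P := ClSub.Cartier.isInvertible_idealMod hC
  let M := (Scheme.Modules.pullback (Γ i).ι).obj P
  have hM : PicF.IsInvertible M := PicLoc.isInvertible_pullback (Γ i).ι hP
  haveI : IsProper (Γ i).curve.hom := Inter.isProper_curve hX (Γ i)
  haveI : IsProper ((Γ i).curve.left ↘ Spec (CommRingCat.of (ResidueField R))) := Inter.isProper_curve hX (Γ i)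
  haveI := TensorMod.QCohInv.isQCoh_of_isInvertible hM
  have hE := Modules.DualBasis.hasDBases_of_isFinLocFree
    (TensorMod.LocFree.of_rank (TensorMod.LocFree.of_isInvertible hP))
  haveI := SurfInt.PushIso.isIso_unitToPush (Γ i).ι.toImage
  let e₀ : _root_.ClSub.quotMod (Γ i).ι.ker ≅ (Coh.push (Γ i).ι).obj (Coh.structureModule (Γ i).curve.left) :=
    (Coh.push (Γ i).ι.ker.subschemeι).mapIso (asIso (_root_.ClSub.unitToPush (Γ i).ι.toImage)) ≪≫
      ((Scheme.Modules.pushforwardComp (Γ i).ι.toImage (Γ i).ι.ker.subschemeι).app _) ≪≫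
      ((Scheme.Modules.pushforwardCongr (Γ i).ι.toImage_imageι).app _)
  let e : CohB1.tensorMod P (_root_.ClSub.quotMod (Γ i).ι.ker) ≅ (Coh.push (Γ i).ι).obj M :=
    tensorIso (Iso.refl P) e₀ ≪≫
      (Modules.ProjFormula.projIso (Γ i).ι hE).app (Coh.structureModule (Γ i).curve.left) ≪≫
      (Coh.push (Γ i).ι).mapIso (rightUnit M)
  -- the section comes from the kernel
  let z : Coh.HH X.left (_root_.ClSub.quotMod (div Γ a * (Γ i).ι.ker)) 0 :=
    (Curves.GlobalSections.h0Equiv _).symm t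
  have hz : Curves.LES.mapK R π 0 z = 0 := by
    apply (Curves.GlobalSections.h0Equiv _).injective
    rw [ProjKoszul.Regularity.h0Equiv_mapK, map_zero (Curves.GlobalSections.h0Equiv _)]
    refine (congrArg (fun v => π.app ⊤ v)
      ((Curves.GlobalSections.h0Equiv _).apply_symm_apply t)).trans ?_
    exact ht0
  obtain ⟨y, hy⟩ := (Curves.LES.exactK₂ R hS 0 z).mp hz
  have hy0 : y ≠ 0 := fun h => ht (by
    rw [h, map_zero] at hy
    exact (Curves.GlobalSections.h0Equiv _).symm.injective (hy.symm.trans (map_zero _).symm))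
  haveI : Nontrivial (Coh.HH (Γ i).curve.left M 0) := by
    letI : (Γ i).curve.left.Over (Spec (CommRingCat.of R)) := ⟨(Γ i).ι ≫ X.hom⟩
    let φ := (Curves.LES.isoK R e 0).trans (ZarCoh.Linear.affineLinearEquiv (A := R) (Γ i).ι rfl M 0)
    exact ⟨⟨φ y, 0, fun h => hy0 ((LinearEquiv.map_eq_zero_iff φ).mp h)⟩⟩
  have hdeg := Curves.Degree.deg_nonneg (k := ResidueField R) (Γ i).dim_eq.le hM inferInstance
  rw [← Inter.inter_eq hX (Γ i), EulerStep.inter_prod hX] at hdeg
  exact hdeg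

/-- The criterion: below `a₀` one can always climb along a curve of positive intersection. -/
def Climb (L : Fin n → X.left.Modules) (a₀ : Fin n → ℕ) : Prop :=
  ∀ a : Fin n → ℕ, (∀ i, a i ≤ a₀ i) → (∃ i, 0 < a i) → a ≠ a₀ →
    ∃ i, a i < a₀ i ∧ 0 < ∑ k, (a k : ℤ) * ArSurf.inter R X (L k) (Γ i)

/-- Any two parts of the family meet. -/
def Edge (L : Fin n → X.left.Modules) : Prop :=
  ∀ I : Finset (Fin n), I.Nonempty → I ≠ Finset.univ →
    ∃ i ∈ I, ∃ j ∉ I, 0 < ArSurf.inter R X (L j) (Γ i)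

/-- Global functions on a divisor satisfying the criterion form a field. -/
theorem isField_of (hdist : Function.Injective fun i => Set.range ((Γ i).ι.base : (Γ i).curve.left → X.left))
    (L : Fin n → X.left.Modules) (hL : ∀ i, _root_.ClSub.IsInverseOf (L i) (_root_.ClSub.idealMod (Γ i).ι.ker))
    (hedge : Edge Γ L) (hn : 0 < n) {a₀ : Fin n → ℕ} (hpos : ∀ j, 0 < a₀ j) (hterm : Climb Γ L a₀) :
    IsField Γ((div Γ a₀).subscheme, ⊤) := by
  classical
  set D := div Γ a₀
  have hle : ∀ i, D ≤ (Γ i).ι.ker := fun i => by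
    have : D ≤ div Γ (fun j => if j = i then 1 else 0) := div_mono Γ fun j => by
      split
      · exact hpos j
      · exact Nat.zero_le _
    rwa [div_single] at this
  let j : ∀ i, (Γ i).curve.left ⟶ D.subscheme := fun i =>
    IsClosedImmersion.lift D.subschemeι (Γ i).ι (by rw [Scheme.IdealSheafData.ker_subschemeι]; exact hle i)
  have hj : ∀ i, j i ≫ D.subschemeι = (Γ i).ι := fun i => IsClosedImmersion.lift_fac _ _ _
  have hrange : ∀ i, ((Γ i).ι.ker.support : Set X.left) = Set.range ((Γ i).ι.base : (Γ i).curve.left → X.left) := fun i => by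
    rw [Scheme.Hom.support_ker]; exact (Γ i).ι.isClosedEmbedding.isClosed_range.closure_eq
  have hpts : ∀ y : D.subscheme, ∃ i z, j i z = y := by
    intro y
    have hy : D.subschemeι y ∈ (D.support : Set X.left) := by
      rw [← D.range_subschemeι]; exact ⟨y, rfl⟩
    suffices h : ∃ i, D.subschemeι y ∈ ((Γ i).ι.ker.support : Set X.left) by
      obtain ⟨i, hi⟩ := h
      rw [hrange i] at hi
      obtain ⟨z, hz⟩ := hi
      exact ⟨i, z, D.subschemeι.isClosedEmbedding.injective (by rw [← Scheme.Hom.comp_apply, hj i]; exact hz)⟩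
    by_contra h
    push Not at h
    refine (StalkIdeal.stalkIdeal_eq_top_iff D (D.subschemeι y)).mp ?_ hy
    set x := D.subschemeι y
    have hone : stalkIdeal (1 : X.left.IdealSheafData) x = 1 := by
      rw [_root_.Ideal.one_eq_top, StalkIdeal.stalkIdeal_eq_top_iff, show (1 : X.left.IdealSheafData) = ⊤ from rfl]
      exact fun h => h
    have htop : ∀ s : Finset (Fin n), stalkIdeal (∏ j ∈ s, (Γ j).ι.ker ^ a₀ j) x = ⊤ := fun s => by
      induction s using Finset.induction_on with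
      | empty => rw [Finset.prod_empty, hone, _root_.Ideal.one_eq_top]
      | @insert k s hk ih =>
        rw [Finset.prod_insert hk, SurfInt.Mul.stalkIdeal_mul, ih, _root_.Ideal.mul_top]
        obtain ⟨e, he⟩ := Nat.exists_eq_succ_of_ne_zero (hpos k).ne'
        rw [he, SurfInt.JPow.stalkIdeal_pow, (StalkIdeal.stalkIdeal_eq_top_iff _ _).mpr (h k),
          _root_.Ideal.top_pow]
    exact htop Finset.univ
  haveI : ∀ i, IsProper ((Γ i).curve.left ↘ Spec (CommRingCat.of (ResidueField R))) := fun i =>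
    Inter.isProper_curve hX (Γ i)
  have hfield : ∀ i, IsField Γ((Γ i).curve.left, ⊤) := fun i =>
    isField_of_universallyClosed (ResidueField R) ((Γ i).curve.left ↘ Spec (CommRingCat.of (ResidueField R)))
  haveI : Nonempty D.subscheme := ⟨j ⟨0, hn⟩ (genericPoint _)⟩
  haveI : Nonempty (⊤ : D.subscheme.Opens) := ⟨⟨Classical.arbitrary _, trivial⟩⟩
  haveI : Nontrivial Γ(D.subscheme, ⊤) := D.subscheme.component_nontrivial ⊤
  refine ⟨⟨0, 1, zero_ne_one⟩, mul_comm, fun {s} hs => ?_⟩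
  suffices hu : IsUnit s from ⟨_, hu.mul_val_inv⟩
  -- on every component the section is zero or nowhere zero
  have hdich : ∀ i, (j i).appTop s = 0 ∨ ∀ z, j i z ∈ D.subscheme.basicOpen s := fun i => by
    refine (eq_or_ne ((j i).appTop s) 0).imp id fun h z => ?_
    have hu : IsUnit ((j i).appTop s) := by
      obtain ⟨b, hb⟩ := (hfield i).mul_inv_cancel h
      exact IsUnit.of_mul_eq_one _ hb
    have := Scheme.preimage_basicOpen_top (j i) s
    rw [Scheme.basicOpen_of_isUnit _ hu] at this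
    exact (this ▸ trivial : z ∈ j i ⁻¹ᵁ D.subscheme.basicOpen s)
  have hnot : ∀ i z, (j i).appTop s = 0 → j i z ∉ D.subscheme.basicOpen s := fun i z h hz => by
    have : z ∈ j i ⁻¹ᵁ D.subscheme.basicOpen s := hz
    rw [Scheme.preimage_basicOpen_top, h, Scheme.basicOpen_zero] at this
    exact this
  by_cases hall : ∀ i, (j i).appTop s ≠ 0
  · refine isUnit_of_basicOpen_eq_top s (top_le_iff.mp fun y _ => ?_)
    obtain ⟨i, z, rfl⟩ := hpts y
    exact (hdich i).resolve_left (hall i) z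
  -- it is zero on all components
  push Not at hall
  have hzero : ∀ i, (j i).appTop s = 0 := by
    obtain ⟨i₁, hi₁⟩ := hall
    let I : Finset (Fin n) := Finset.univ.filter fun i => (j i).appTop s = 0
    by_contra hne
    obtain ⟨i, hi, k, hk, hpos'⟩ := hedge I
      ⟨i₁, Finset.mem_filter.mpr ⟨Finset.mem_univ _, hi₁⟩⟩
      (fun h => hne fun i => (Finset.mem_filter.mp (h.symm ▸ Finset.mem_univ i : i ∈ I)).2)
    replace hi := (Finset.mem_filter.mp hi).2
    replace hk : (j k).appTop s ≠ 0 := fun h => hk (Finset.mem_filter.mpr ⟨Finset.mem_univ _, h⟩)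
    have hik : k ≠ i := fun h => hk (h ▸ hi)
    have hgp := Inter.genPt_not_mem hX (Γ i) (Γ k) fun e => hik (hdist e).symm
    have hdisj : ¬ Disjoint (Set.range ((Γ i).ι.base : (Γ i).curve.left → X.left))
        ((Γ k).ι.ker.support : Set X.left) := fun h =>
      hpos'.ne' ((Inter.inter_nonneg hX (Γ i) (Inter.isEffCartier hX (Γ k)) hgp (hL k)).2.mpr h)
    obtain ⟨x, ⟨z, rfl⟩, hx⟩ := Set.not_disjoint_iff.mp hdisj
    rw [hrange k] at hx
    obtain ⟨z', hz'⟩ := hx
    have heq : j k z' = j i z := D.subschemeι.isClosedEmbedding.injective (by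
      rw [← Scheme.Hom.comp_apply, ← Scheme.Hom.comp_apply, hj, hj]; exact hz')
    exact hnot i z hi (heq ▸ (hdich k).resolve_left hk z')
  exfalso
  apply hs
  -- climb up
  suffices H : ∀ (N : ℕ) (a : Fin n → ℕ), (∀ i, a i ≤ a₀ i) → (∑ i, (a₀ i - a i) = N) →
      (∃ i, 0 < a i) → Dies s (div Γ a) → s = 0 by
    let i₀ : Fin n := ⟨0, hn⟩
    refine H _ (fun j => if j = i₀ then 1 else 0) (fun i => ?_) rfl ⟨i₀, by simp⟩ ?_
    · split
      · exact hpos i
      · exact Nat.zero_le _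
    · intro π hπ
      have hI : div Γ (fun j => if j = i₀ then 1 else 0) = (Γ i₀).ι.ker := div_single Γ i₀
      revert π
      rw [hI]
      intro π hπ
      rw [descend_app_top hπ (inv (Γ i₀).ι.toImage ≫ j i₀)
        (by rw [Category.assoc, hj, IsIso.inv_comp_eq]; exact ((Γ i₀).ι.toImage_imageι).symm) s,
        Scheme.Hom.comp_appTop, CommRingCat.comp_apply, hzero]
      exact map_zero _
  intro N
  induction N using Nat.strong_induction_on with
  | _ N ih =>
    intro a ha hN hane hdies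
    by_cases heq : a = a₀
    · subst heq
      have := hdies (𝟙 _) (Category.comp_id _)
      exact this
    by_contra hs0
    -- every step up is a nonzero section on the curve
    have hstep : ∀ i, a i < a₀ i → 0 ≤ ∑ k, (a k : ℤ) * EulerFormula.J Γ k i := by
      intro i hi
      let b : Fin n → ℕ := fun k => a k + if k = i then 1 else 0
      have hb : ∀ k, b k ≤ a₀ k := fun k => by
        dsimp only [b]
        split
        · subst k; omega
        · simpa using ha k
      have hbI : div Γ b = div Γ a * (Γ i).ι.ker := EulerStep.prod_pow_add_single _ a i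
      have hndies : ¬ Dies s (div Γ b) := fun h => hs0 (ih (∑ k, (a₀ k - b k)) (by
        rw [← hN]
        exact Finset.sum_lt_sum (fun k _ => Nat.sub_le_sub_left (Nat.le_add_right _ _) _)
          ⟨i, Finset.mem_univ i, by simp only [b, if_true]; omega⟩) b hb rfl
        ⟨i, by simp [b]⟩ h)
      obtain ⟨ψ, hψ⟩ := exists_descend (le_mul_left (div Γ a) (Γ i).ι.ker)
      rw [hbI] at hndies
      simp only [Dies, not_forall] at hndies
      obtain ⟨φ, hφ, hne⟩ := hndies
      refine deg_nonneg_of_section hX Γ i hψ (φ.app ⊤ s) hne ?_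
      exact hdies (φ ≫ ψ) (by rw [reassoc_of% hφ, hψ])
    obtain ⟨i, hi, hpos'⟩ := hterm a ha hane heq
    have h1 := hstep i hi
    rw [show ∑ k, (a k : ℤ) * EulerFormula.J Γ k i = -∑ k, (a k : ℤ) * ArSurf.inter R X (L k) (Γ i) by
      rw [← Finset.sum_neg_distrib]
      exact Finset.sum_congr rfl fun k _ => by rw [EulerFormula.J_eq hX Γ hL]; ring] at h1
    omega


include hΓ in
/-- A proper part `B` of the reduced fibre divisor `D = Σ (m_k/d) Γ_k` cannot have
`B · Γ_i ≥ 0` on its support. -/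
theorem climb_fibre (hcov : ∀ x ∈ Models.specialFibreSet R X, ∃ i, x ∈ Set.range ((Γ i).ι.base : (Γ i).curve.left → X.left))
    (hconn : _root_.IsPreconnected (Models.specialFibreSet R X))
    (L : Fin n → X.left.Modules) (hL : ∀ i, _root_.ClSub.IsInverseOf (L i) (_root_.ClSub.idealMod (Γ i).ι.ker))
    {a₀ : Fin n → ℕ} {d : ℕ} (hd : ∀ j, Models.mult R X (Γ j) = d * a₀ j)
    (hgcd : Finset.univ.gcd a₀ = 1) : Climb Γ L a₀ := by
  intro a ha hane heq
  by_contra hnone
  push Not at hnone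
  have hstep : ∀ i, a i < a₀ i → 0 ≤ ∑ k, (a k : ℤ) * EulerFormula.J Γ k i := fun i hi => by
    rw [show ∑ k, (a k : ℤ) * EulerFormula.J Γ k i = -∑ k, (a k : ℤ) * ArSurf.inter R X (L k) (Γ i) by
      rw [← Finset.sum_neg_distrib]
      exact Finset.sum_congr rfl fun k _ => by rw [EulerFormula.J_eq hX Γ hL]; ring]
    exact neg_nonneg.mpr (hnone i hi)
  let B : Fin n → ℤ := fun k => (a₀ k : ℤ) - a k
  have hm : ∀ i, ∑ k, (a₀ k : ℤ) * EulerFormula.J Γ k i = 0 := fun i => by
    have h := Inter.sum_mult_mul_inter hX (Γ i) Γ hΓ L hL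
    have hd0 : (d : ℤ) ≠ 0 := fun h0 => by
      have h1 := InterForm.mult_pos hX (Γ i)
      rw [hd i, Int.natCast_eq_zero.mp h0] at h1
      simp at h1
    refine mul_left_cancel₀ hd0 ?_
    rw [mul_zero, Finset.mul_sum]
    refine Eq.trans ?_ (show -(∑ k, (Models.mult R X (Γ k) : ℤ) * ArSurf.inter R X (L k) (Γ i)) = 0 by rw [h, neg_zero])
    rw [← Finset.sum_neg_distrib]
    refine Finset.sum_congr rfl fun k _ => ?_
    rw [hd k, EulerFormula.J_eq hX Γ hL]
    push_cast
    ring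
  have hB : ∀ i, B i ≠ 0 → 0 ≤ ∑ k, B k * ArSurf.inter R X (L k) (Γ i) := fun i hi => by
    have h1 := hstep i (by have := ha i; simp only [B] at hi; omega)
    calc (0 : ℤ) ≤ ∑ k, (a k : ℤ) * EulerFormula.J Γ k i := h1
      _ = ∑ k, ((a k : ℤ) * EulerFormula.J Γ k i - (a₀ k : ℤ) * EulerFormula.J Γ k i) := by
        rw [Finset.sum_sub_distrib, hm i, sub_zero]
      _ = ∑ k, B k * ArSurf.inter R X (L k) (Γ i) :=
        Finset.sum_congr rfl fun k _ => by rw [EulerFormula.J_eq hX Γ hL]; simp only [B]; ring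
  have hq : ∑ i, ∑ k, B i * B k * ArSurf.inter R X (L k) (Γ i) = 0 := by
    refine le_antisymm (InterForm.form_nonpos hX Γ L hL B) (Finset.sum_nonneg fun i _ => ?_)
    simp only [mul_assoc, ← Finset.mul_sum]
    rcases eq_or_ne (B i) 0 with h | h
    · rw [h, zero_mul]
    · exact mul_nonneg (by have := ha i; simp only [B]; omega) (hB i h)
  obtain ⟨c, hc⟩ := (InterConn.null_iff hX Γ hΓ hcov hconn L hL B).1.mp hq
  -- `B` is an integral multiple of `a₀`
  let q : ℚ := c * d
  have hq' : ∀ i, (B i : ℚ) = q * a₀ i := fun i => by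
    rw [hc i, hd i]; push_cast; simp only [q]; ring
  have hden : q.den = 1 := by
    refine Nat.dvd_one.mp ?_
    rw [← hgcd]
    refine Finset.dvd_gcd fun i _ => ?_
    have h1 : (B i : ℤ) * q.den = q.num * a₀ i := by
      have := hq' i
      rw [← Rat.num_div_den q] at this
      field_simp at this
      exact_mod_cast this
    have h2 : (q.den : ℤ) ∣ q.num * a₀ i := ⟨B i, by rw [← h1, mul_comm]⟩
    exact Int.natCast_dvd_natCast.mp (Int.dvd_of_dvd_mul_right_of_gcd_one h2
      (by simpa [Int.gcd, Nat.Coprime] using q.reduced.symm))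
  have hqi : ∀ i, B i = q.num * a₀ i := fun i => by
    have := hq' i
    rw [← Rat.num_div_den q, hden] at this
    rw [Nat.cast_one, div_one] at this
    exact_mod_cast this
  obtain ⟨i₁, hi₁⟩ := hane
  obtain ⟨i₂, hi₂⟩ : ∃ i, a i ≠ a₀ i := by
    by_contra h
    push Not at h
    exact heq (funext h)
  have hp₂ : 0 < q.num := by
    have h2 := hqi i₂
    have := ha i₂
    simp only [B] at h2
    refine pos_of_mul_pos_left ?_ (Int.natCast_nonneg (a₀ i₂))
    rw [← h2]; omega
  have h3 := hqi i₁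
  have : (a₀ i₁ : ℤ) ≤ q.num * a₀ i₁ := le_mul_of_one_le_left (Int.natCast_nonneg _) hp₂
  simp only [B] at h3
  omega

include hΓ in
theorem edge_fibre (hcov : ∀ x ∈ Models.specialFibreSet R X, ∃ i, x ∈ Set.range ((Γ i).ι.base : (Γ i).curve.left → X.left))
    (hconn : _root_.IsPreconnected (Models.specialFibreSet R X))
    (L : Fin n → X.left.Modules) (hL : ∀ i, _root_.ClSub.IsInverseOf (L i) (_root_.ClSub.idealMod (Γ i).ι.ker)) :
    Edge Γ L :=
  fun I hI hI' => InterConn.exists_edge hX Γ hΓ.1 hcov hconn L hL I hI hI'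

include hΓ in
theorem isField (hcov : ∀ x ∈ Models.specialFibreSet R X, ∃ i, x ∈ Set.range ((Γ i).ι.base : (Γ i).curve.left → X.left))
    (hconn : _root_.IsPreconnected (Models.specialFibreSet R X)) (hn : 0 < n)
    {a₀ : Fin n → ℕ} (hpos : ∀ j, 0 < a₀ j)
    (hmult : ∃ d : ℕ, ∀ j, Models.mult R X (Γ j) = d * a₀ j) (hgcd : Finset.univ.gcd a₀ = 1) :
    IsField Γ((div Γ a₀).subscheme, ⊤) := by
  obtain ⟨L, hL⟩ := EulerFormula.exists_inverses hX Γ
  obtain ⟨d, hd⟩ := hmult
  exact isField_of hX Γ hΓ.1 L hL (edge_fibre hX Γ hΓ hcov hconn L hL) hn hpos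
    (climb_fibre hX Γ hΓ hcov hconn L hL hd hgcd)

/-- The reduced divisor satisfies the criterion. -/
theorem climb_one (hdist : Function.Injective fun i => Set.range ((Γ i).ι.base : (Γ i).curve.left → X.left))
    (L : Fin n → X.left.Modules) (hL : ∀ i, _root_.ClSub.IsInverseOf (L i) (_root_.ClSub.idealMod (Γ i).ι.ker))
    (hedge : Edge Γ L) : Climb Γ L fun _ => 1 := by
  classical
  intro a ha ⟨i₀, hi₀⟩ hne
  let I : Finset (Fin n) := Finset.univ.filter fun i => a i = 0
  have hI : I.Nonempty := by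
    by_contra h
    refine hne (funext fun i => ?_)
    have : a i ≠ 0 := fun h0 => h ⟨i, Finset.mem_filter.mpr ⟨Finset.mem_univ _, h0⟩⟩
    have : a i ≤ 1 := ha i
    omega
  obtain ⟨i, hi, j, hj, hpos⟩ := hedge I hI fun h => by
    have := (Finset.mem_filter.mp (h.symm ▸ Finset.mem_univ i₀ : i₀ ∈ I)).2
    omega
  have hai : a i = 0 := (Finset.mem_filter.mp hi).2
  have haj : a j ≠ 0 := fun h => hj (Finset.mem_filter.mpr ⟨Finset.mem_univ _, h⟩)
  refine ⟨i, by rw [hai]; exact one_pos, Finset.sum_pos' (fun k _ => ?_) ⟨j, Finset.mem_univ _, mul_pos (Int.natCast_pos.mpr (Nat.pos_of_ne_zero haj)) hpos⟩⟩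
  by_cases hk : k = i
  · rw [hk, hai]; simp
  · exact mul_nonneg (Int.natCast_nonneg _) (Inter.inter_nonneg hX (Γ i) (Inter.isEffCartier hX (Γ k))
      (Inter.genPt_not_mem hX (Γ i) (Γ k) fun e => hk (hdist e).symm) (hL k)).1

/-- The criterion survives adding a curve of positive intersection. -/
theorem climb_add (hdist : Function.Injective fun i => Set.range ((Γ i).ι.base : (Γ i).curve.left → X.left))
    (L : Fin n → X.left.Modules) (hL : ∀ i, _root_.ClSub.IsInverseOf (L i) (_root_.ClSub.idealMod (Γ i).ι.ker))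
    {Z : Fin n → ℕ} (hZpos : ∀ j, 0 < Z j) (hZ : Climb Γ L Z) {i : Fin n}
    (hi : 0 < ∑ k, (Z k : ℤ) * ArSurf.inter R X (L k) (Γ i)) :
    Climb Γ L (Z + Pi.single i 1) := by
  classical
  intro a ha hane hne
  have ha' : ∀ k, k ≠ i → a k ≤ Z k := fun k hk => by simpa [hk] using ha k
  by_cases hai : a i ≤ Z i
  · by_cases heq : a = Z
    · subst heq
      exact ⟨i, by simp, hi⟩
    obtain ⟨l, hl, hl'⟩ := hZ a (fun k => by
      by_cases hk : k = i
      · exact hk ▸ hai
      · exact ha' k hk) hane heq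
    exact ⟨l, lt_of_lt_of_le hl (by simp), hl'⟩
  have hai' : a i = Z i + 1 := by
    have h := ha i
    simp at h
    omega
  let b : Fin n → ℕ := fun k => if k = i then Z i else a k
  have hbne : b ≠ Z := fun h => hne (funext fun k => by
    by_cases hk : k = i
    · subst hk; simp [hai']
    · have := congrFun h k
      simp [b, hk] at this
      simp [hk, this])
  obtain ⟨l, hl, hl'⟩ := hZ b (fun k => by
    by_cases hk : k = i
    · simp [b, hk]
    · simp [b, hk, ha' k hk]) ⟨i, by simp [b, hZpos i]⟩ hbne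
  have hli : l ≠ i := fun h => by subst h; simp [b] at hl
  refine ⟨l, by simpa [b, hli] using hl, ?_⟩
  have hnn : 0 ≤ ArSurf.inter R X (L i) (Γ l) := (Inter.inter_nonneg hX (Γ l) (Inter.isEffCartier hX (Γ i))
    (Inter.genPt_not_mem hX (Γ l) (Γ i) fun e => hli (hdist e)) (hL i)).1
  have hsum : ∑ k, (a k : ℤ) * ArSurf.inter R X (L k) (Γ l) =
      (∑ k, (b k : ℤ) * ArSurf.inter R X (L k) (Γ l)) + ArSurf.inter R X (L i) (Γ l) := by
    have hab : ∀ k, (a k : ℤ) * ArSurf.inter R X (L k) (Γ l) =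
        (b k : ℤ) * ArSurf.inter R X (L k) (Γ l) + if k = i then ArSurf.inter R X (L i) (Γ l) else 0 := fun k => by
      by_cases hk : k = i
      · subst hk
        simp only [b, if_true, hai']
        push_cast
        ring
      · simp [b, hk]
    rw [Finset.sum_congr rfl fun k _ => hab k, Finset.sum_add_distrib, Finset.sum_ite_eq' Finset.univ i,
      if_pos (Finset.mem_univ i)]
  omega

/-- A minimal cycle with `Z · Γ_i ≤ 0` satisfies the criterion. -/
theorem climb_minimal (hdist : Function.Injective fun i => Set.range ((Γ i).ι.base : (Γ i).curve.left → X.left))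
    (L : Fin n → X.left.Modules) (hL : ∀ i, _root_.ClSub.IsInverseOf (L i) (_root_.ClSub.idealMod (Γ i).ι.ker))
    (hedge : Edge Γ L) {z : Fin n → ℕ} (hz : ∀ i, ∑ j, (z j : ℤ) * ArSurf.inter R X (L j) (Γ i) ≤ 0)
    (hmin : ∀ z' : Fin n → ℕ, (∀ i, 1 ≤ z' i) →
      (∀ i, ∑ j, (z' j : ℤ) * ArSurf.inter R X (L j) (Γ i) ≤ 0) → ∀ i, z i ≤ z' i) :
    Climb Γ L z := by
  classical
  intro a ha ⟨i₀, hi₀⟩ hne
  by_contra hnone
  push Not at hnone
  have hnn : ∀ k i, k ≠ i → 0 ≤ ArSurf.inter R X (L k) (Γ i) := fun k i h =>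
    (Inter.inter_nonneg hX (Γ i) (Inter.isEffCartier hX (Γ k))
      (Inter.genPt_not_mem hX (Γ i) (Γ k) fun e => h (hdist e).symm) (hL k)).1
  have hall : ∀ i, ∑ j, (a j : ℤ) * ArSurf.inter R X (L j) (Γ i) ≤ 0 := fun i => by
    by_cases h : a i < z i
    · exact hnone i h
    refine le_trans (Finset.sum_le_sum fun j _ => ?_) (hz i)
    by_cases hj : j = i
    · subst hj
      rw [show a j = z j from le_antisymm (ha j) (not_lt.mp h)]
    · exact mul_le_mul_of_nonneg_right (by exact_mod_cast ha j) (hnn j i hj)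
  have hfull : ∀ i, 1 ≤ a i := by
    by_contra h
    push Not at h
    obtain ⟨i₁, hi₁⟩ := h
    let I : Finset (Fin n) := Finset.univ.filter fun i => a i = 0
    obtain ⟨i, hi, j, hj, hpos⟩ := hedge I ⟨i₁, Finset.mem_filter.mpr ⟨Finset.mem_univ _, by omega⟩⟩ fun h => by
      have := (Finset.mem_filter.mp (h.symm ▸ Finset.mem_univ i₀ : i₀ ∈ I)).2
      omega
    have hai : a i = 0 := (Finset.mem_filter.mp hi).2
    have haj : a j ≠ 0 := fun h => hj (Finset.mem_filter.mpr ⟨Finset.mem_univ _, h⟩)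
    refine absurd (hall i) (not_le.mpr (Finset.sum_pos' (fun k _ => ?_)
      ⟨j, Finset.mem_univ _, mul_pos (Int.natCast_pos.mpr (Nat.pos_of_ne_zero haj)) hpos⟩))
    by_cases hk : k = i
    · rw [hk, hai]; simp
    · exact mul_nonneg (Int.natCast_nonneg _) (hnn k i hk)
  exact hne (funext fun i => le_antisymm (ha i) (hmin a hfull hall i))

/-- Parts of a connected union of curves meet. -/
theorem edge_of_connected (hdist : Function.Injective fun i => Set.range ((Γ i).ι.base : (Γ i).curve.left → X.left))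
    (L : Fin n → X.left.Modules) (hL : ∀ i, _root_.ClSub.IsInverseOf (L i) (_root_.ClSub.idealMod (Γ i).ι.ker))
    (hconn : _root_.IsPreconnected (⋃ i, Set.range ((Γ i).ι.base : (Γ i).curve.left → X.left))) :
    Edge Γ L := by
  classical
  intro I ⟨i₀, hi₀⟩ hI'
  obtain ⟨j₀, hj₀⟩ : ∃ j, j ∉ I := by
    by_contra h
    exact hI' (Finset.eq_univ_iff_forall.2 fun j => by_contra fun hj => h ⟨j, hj⟩)
  let Z : Fin n → Set X.left := fun i => Set.range ((Γ i).ι.base : (Γ i).curve.left → X.left)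
  have hcl : ∀ J : Finset (Fin n), IsClosed (⋃ i ∈ J, Z i) := fun J =>
    Set.Finite.isClosed_biUnion J.finite_toSet fun i _ => (Γ i).ι.isClosedEmbedding.isClosed_range
  have hmem : ∀ i, (Γ i).ι (genericPoint (Γ i).curve.left) ∈ Z i := fun i => ⟨_, rfl⟩
  obtain ⟨x, -, hx1, hx2⟩ := isPreconnected_closed_iff.1 hconn (⋃ i ∈ I, Z i) (⋃ i ∈ Iᶜ, Z i)
    (hcl I) (hcl Iᶜ) (fun x hx => by
      obtain ⟨i, hi⟩ := Set.mem_iUnion.mp hx
      by_cases h : i ∈ I
      · exact Or.inl (Set.mem_biUnion h hi)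
      · exact Or.inr (Set.mem_biUnion (Finset.mem_compl.2 h) hi))
    ⟨_, Set.mem_iUnion.mpr ⟨i₀, hmem i₀⟩, Set.mem_biUnion hi₀ (hmem i₀)⟩
    ⟨_, Set.mem_iUnion.mpr ⟨j₀, hmem j₀⟩, Set.mem_biUnion (Finset.mem_compl.2 hj₀) (hmem j₀)⟩
  obtain ⟨i, hi, hxi⟩ := Set.mem_iUnion₂.1 hx1
  obtain ⟨j, hj, hxj⟩ := Set.mem_iUnion₂.1 hx2
  have hjI := Finset.mem_compl.1 hj
  have hij : i ≠ j := fun h => hjI (h ▸ hi)
  obtain ⟨h1, h2⟩ := Inter.inter_nonneg hX (Γ i) (Inter.isEffCartier hX (Γ j))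
    (Inter.genPt_not_mem hX (Γ i) (Γ j) fun e => hij (hdist e)) (hL j)
  refine ⟨i, hi, j, hjI, lt_of_le_of_ne h1 fun h0 => ?_⟩
  have hd := h2.1 h0.symm
  rw [Scheme.Hom.support_ker] at hd
  exact Set.disjoint_left.1 hd hxi (subset_closure hxj)

end

end Groth.Agent.Lib.ModelFibre.DivisorField
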