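import Mathlib.Dynamics.Newton
import Mathlib.AlgebraicGeometry.Morphisms.ClosedImmersion
import Mathlib.AlgebraicGeometry.Morphisms.QuasiCompact

/-!
# Lifting simple roots along a nilpotent thickening
-/

set_option linter.style.haveILetI false

universe u

open CategoryTheory AlgebraicGeometry TopologicalSpace Polynomial

namespace Groth.Agent.Lib.ModelFibre.Thick

noncomputable section

variable {Z₁ Z : Scheme.{u}} (j : Z₁ ⟶ Z)

/-- On an affine open a function vanishing on a subscheme with the same points is nilpotent. -/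
theorem isNilpotent_of_app_eq_zero [Surjective j] {W : Z.Opens} (hW : IsAffineOpen W) (a : Γ(Z, W))
    (h : j.app W a = 0) : IsNilpotent a := by
  rw [Scheme.isNilpotent_iff_basicOpen_eq_bot_of_isCompact hW.isCompact]
  refine Opens.ext (Set.eq_empty_iff_forall_notMem.mpr fun z hz => ?_)
  obtain ⟨y, rfl⟩ := j.surjective z
  have : y ∈ j ⁻¹ᵁ Z.basicOpen a := hz
  rw [Scheme.preimage_basicOpen, h, Scheme.basicOpen_zero] at this
  exact this

theorem isUnit_of_isUnit_app [Surjective j] {W : Z.Opens} (a : Γ(Z, W))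
    (h : IsUnit (j.app W a)) : IsUnit a := by
  refine RingedSpace.isUnit_of_isUnit_germ Z.toLocallyRingedSpace.toRingedSpace W a fun z hz => ?_
  obtain ⟨y, rfl⟩ := j.surjective z
  have : y ∈ j ⁻¹ᵁ Z.basicOpen a := by
    rw [Scheme.preimage_basicOpen, Scheme.basicOpen_of_isUnit _ h]
    exact hz
  exact (Scheme.mem_basicOpen Z a (j y) hz).mp this

/-- The polynomial `F` evaluated on `Γ(Z, W)` via `φ`. -/
abbrev ev {R : Type u} [CommRing R] (φ : R →+* Γ(Z, ⊤)) (F : R[X]) (W : Z.Opens) (a : Γ(Z, W)) : Γ(Z, W) :=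
  F.eval₂ ((Z.presheaf.map (homOfLE (le_top : W ≤ ⊤)).op).hom.comp φ) a

variable {R : Type u} [CommRing R] (φ : R →+* Γ(Z, ⊤)) (F : R[X])

theorem ev_res {V W : Z.Opens} (e : V ≤ W) (a : Γ(Z, W)) :
    Z.presheaf.map (homOfLE e).op (ev φ F W a) = ev φ F V (Z.presheaf.map (homOfLE e).op a) := by
  rw [ev, ev, Polynomial.hom_eval₂]
  congr 1
  refine RingHom.ext fun r => ?_
  show (Z.presheaf.map _ ≫ Z.presheaf.map _) _ = Z.presheaf.map _ _
  rw [← Functor.map_comp]
  rfl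

theorem app_ev (W : Z.Opens) (a : Γ(Z, W)) :
    j.app W (ev φ F W a) = ev (j.appTop.hom.comp φ) F (j ⁻¹ᵁ W) (j.app W a) := by
  rw [ev, ev, Polynomial.hom_eval₂]
  congr 1
  refine RingHom.ext fun r => ?_
  exact congr($(j.naturality (homOfLE (le_top : W ≤ ⊤)).op) (φ r))

/-- Two roots over an affine open which agree on the subscheme with unit derivative are equal. -/
theorem unique_root_affine [Surjective j] {W : Z.Opens} (hW : IsAffineOpen W) {a b : Γ(Z, W)}
    (ha : ev φ F W a = 0) (hb : ev φ F W b = 0) (hab : j.app W a = j.app W b)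
    (hd : IsUnit (j.app W (ev φ (derivative F) W a))) : a = b := by
  letI : Algebra R Γ(Z, W) := ((Z.presheaf.map (homOfLE (le_top : W ≤ ⊤)).op).hom.comp φ).toAlgebra
  have ha' : aeval a F = 0 := ha
  have hb' : aeval b F = 0 := hb
  have hd' : IsUnit (aeval a (derivative F)) := isUnit_of_isUnit_app j _ hd
  refine (Polynomial.existsUnique_nilpotent_sub_and_aeval_eq_zero (x := a) (P := F)
    (by rw [ha']; exact IsNilpotent.zero) hd').unique ⟨by simp, ha'⟩ ⟨?_, hb'⟩
  exact isNilpotent_of_app_eq_zero j hW _ (by rw [map_sub, hab, sub_self])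

/-- Simple roots lift uniquely along a closed immersion with the same points. -/
theorem exists_root [IsClosedImmersion j] [Surjective j] (θ : Γ(Z₁, ⊤))
    (hθ : F.eval₂ (j.appTop.hom.comp φ) θ = 0)
    (hd : IsUnit ((derivative F).eval₂ (j.appTop.hom.comp φ) θ)) :
    ∃ r : Γ(Z, ⊤), F.eval₂ φ r = 0 ∧ j.appTop r = θ := by
  classical
  let res : ∀ W : Z.Opens, Γ(Z₁, j ⁻¹ᵁ W) := fun W =>
    Z₁.presheaf.map (homOfLE (le_top : j ⁻¹ᵁ W ≤ ⊤)).op θ
  have hres : ∀ (W : Z.Opens) (G : R[X]), ev (j.appTop.hom.comp φ) G (j ⁻¹ᵁ W) (res W) =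
      Z₁.presheaf.map (homOfLE (le_top : j ⁻¹ᵁ W ≤ ⊤)).op (G.eval₂ (j.appTop.hom.comp φ) θ) := fun W G => by
    rw [ev, Polynomial.hom_eval₂]
  have hex : ∀ W : Z.affineOpens, ∃ r : Γ(Z, W.1), ev φ F W.1 r = 0 ∧ j.app W.1 r = res W.1 := fun W => by
    obtain ⟨a, ha⟩ := j.app_surjective W.1 W.2 (res W.1)
    letI : Algebra R Γ(Z, W.1) := ((Z.presheaf.map (homOfLE (le_top : W.1 ≤ ⊤)).op).hom.comp φ).toAlgebra
    have h1 : IsNilpotent (aeval a F) := isNilpotent_of_app_eq_zero j W.2 _ (by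
      show j.app W.1 (ev φ F W.1 a) = 0
      rw [app_ev, ha, hres, hθ, map_zero])
    have h2 : IsUnit (aeval a (derivative F)) := isUnit_of_isUnit_app j _ (by
      show IsUnit (j.app W.1 (ev φ (derivative F) W.1 a))
      rw [app_ev, ha, hres]
      exact hd.map _)
    obtain ⟨r, ⟨hnil, hr⟩, -⟩ := Polynomial.existsUnique_nilpotent_sub_and_aeval_eq_zero h1 h2
    refine ⟨r, hr, ?_⟩
    letI : Algebra R Γ(Z₁, j ⁻¹ᵁ W.1) :=
      ((Z₁.presheaf.map (homOfLE (le_top : j ⁻¹ᵁ W.1 ≤ ⊤)).op).hom.comp (j.appTop.hom.comp φ)).toAlgebra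
    have h3 : aeval (j.app W.1 a) F = 0 := by
      show ev (j.appTop.hom.comp φ) F (j ⁻¹ᵁ W.1) (j.app W.1 a) = 0
      rw [ha, hres, hθ, map_zero]
    have h4 : IsUnit (aeval (j.app W.1 a) (derivative F)) := by
      show IsUnit (ev (j.appTop.hom.comp φ) (derivative F) (j ⁻¹ᵁ W.1) (j.app W.1 a))
      rw [ha, hres]
      exact hd.map _
    rw [← ha]
    refine (Polynomial.existsUnique_nilpotent_sub_and_aeval_eq_zero (x := j.app W.1 a) (P := F)
      (by rw [h3]; exact IsNilpotent.zero) h4).unique ⟨?_, ?_⟩ ⟨by simp, h3⟩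
    · rw [← map_sub]; exact hnil.map _
    · show ev (j.appTop.hom.comp φ) F (j ⁻¹ᵁ W.1) (j.app W.1 r) = 0
      rw [← app_ev, show ev φ F W.1 r = 0 from hr, map_zero]
  choose r hr hrj using hex
  have hnat : ∀ {V : Z.Opens} (W : Z.affineOpens) (e : V ≤ W.1),
      j.app V (Z.presheaf.map (homOfLE e).op (r W)) = res V := fun {V} W e => by
    refine (congr($(j.naturality (homOfLE e).op) (r W))).trans ?_
    show Z₁.presheaf.map _ (j.app W.1 (r W)) = _
    rw [hrj]
    show (Z₁.presheaf.map _ ≫ Z₁.presheaf.map _) θ = Z₁.presheaf.map _ θ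
    rw [← Functor.map_comp]
    rfl
  have hcompat : ∀ (V : Z.Opens) (W W' : Z.affineOpens) (e : V ≤ W.1) (e' : V ≤ W'.1),
      Z.presheaf.map (homOfLE e).op (r W) = Z.presheaf.map (homOfLE e').op (r W') := by
    intro V W W' e e'
    refine Z.sheaf.eq_of_locally_eq' (fun U : {U : Z.affineOpens // U.1 ≤ V} => U.1.1) V
      (fun U => homOfLE U.2) (fun z hz => ?_) _ _ fun U => ?_
    · obtain ⟨U, hU, hzU, hUV⟩ := exists_isAffineOpen_mem_and_subset hz
      exact Opens.mem_iSup.mpr ⟨⟨⟨U, hU⟩, hUV⟩, hzU⟩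
    · show (Z.presheaf.map _ ≫ Z.presheaf.map _) (r W) = (Z.presheaf.map _ ≫ Z.presheaf.map _) (r W')
      rw [← Functor.map_comp, ← Functor.map_comp]
      refine unique_root_affine j φ F U.1.2 (a := Z.presheaf.map (homOfLE (U.2.trans e)).op (r W))
        (b := Z.presheaf.map (homOfLE (U.2.trans e')).op (r W')) ?_ ?_ ?_ ?_
      · rw [← ev_res, hr, map_zero]
      · rw [← ev_res, hr, map_zero]
      · rw [hnat, hnat]
      · rw [app_ev, hnat, hres]
        exact hd.map _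
  obtain ⟨g, hg, -⟩ := Z.sheaf.existsUnique_gluing' (fun W : Z.affineOpens => W.1) ⊤
    (fun W => homOfLE le_top) (fun z _ => by
      obtain ⟨U, hU, hzU, -⟩ := exists_isAffineOpen_mem_and_subset (show z ∈ (⊤ : Z.Opens) from trivial)
      exact Opens.mem_iSup.mpr ⟨⟨U, hU⟩, hzU⟩)
    r (fun W W' => hcompat (W.1 ⊓ W'.1) W W' inf_le_left inf_le_right)
  refine ⟨g, ?_, ?_⟩
  · refine Z.sheaf.eq_of_locally_eq' (fun W : Z.affineOpens => W.1) ⊤ (fun W => homOfLE le_top)
      (fun z _ => by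
        obtain ⟨U, hU, hzU, -⟩ := exists_isAffineOpen_mem_and_subset (show z ∈ (⊤ : Z.Opens) from trivial)
        exact Opens.mem_iSup.mpr ⟨⟨U, hU⟩, hzU⟩) _ _ fun W => ?_
    show Z.presheaf.map (homOfLE (le_top : W.1 ≤ ⊤)).op (F.eval₂ φ (show Γ(Z, ⊤) from g)) =
      Z.presheaf.map (homOfLE (le_top : W.1 ≤ ⊤)).op 0
    refine ((Polynomial.hom_eval₂ F φ (Z.presheaf.map (homOfLE (le_top : W.1 ≤ ⊤)).op).hom _).trans
      ((congrArg (ev φ F W.1) (hg W)).trans (hr W))).trans (map_zero _).symm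
  · refine Z₁.sheaf.eq_of_locally_eq' (fun W : Z.affineOpens => j ⁻¹ᵁ W.1) ⊤ (fun W => homOfLE le_top)
      (fun z _ => by
        obtain ⟨U, hU, hzU, -⟩ := exists_isAffineOpen_mem_and_subset (show j z ∈ (⊤ : Z.Opens) from trivial)
        exact Opens.mem_iSup.mpr ⟨⟨U, hU⟩, hzU⟩) _ _ fun W => ?_
    refine (congr($(j.naturality (homOfLE (le_top : W.1 ≤ ⊤)).op) g)).symm.trans ?_
    show j.app W.1 (Z.presheaf.map (homOfLE (le_top : W.1 ≤ ⊤)).op g) = res W.1
    exact (congrArg (j.app W.1) (hg W)).trans (hrj W)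

end

end Groth.Agent.Lib.ModelFibre.Thick
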