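import Groth.Agent.Lib.ModelFibre.LiftH0
import Groth.Agent.Lib.ModelFibre.Thick
import Groth.Agent.Lib.ModelFibre.DivisorField
import Mathlib.FieldTheory.Perfect

/-!
# Cohomological flatness in degree zero when the functions on the closed fibre form a separable field
-/

set_option linter.style.haveILetI false

universe u

open CategoryTheory Limits AlgebraicGeometry IsLocalRing Groth.Agent.Lib.ModelFibre TopologicalSpace Polynomial

namespace Groth.Agent.Lib.ModelFibre.H0Surj

open Groth.Agent.Lib

noncomputable section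

variable {R : Type u} [CommRing R] [IsDomain R] [IsDiscreteValuationRing R]
  (X : Over (Spec (CommRingCat.of R))) [Flat X.hom] [IsProper X.hom]

/-- A simple root on the closed fibre of a polynomial over `R` comes from a global function. -/
theorem exists_global_of_root (θ : Γ((LiftH0.powI X 1).subscheme, ⊤)) (F : R[X])
    (hθ : F.eval₂ (Coh.toGlobal ((LiftH0.powI X 1).subschemeι ≫ X.hom)) θ = 0)
    (hd : IsUnit ((derivative F).eval₂ (Coh.toGlobal ((LiftH0.powI X 1).subschemeι ≫ X.hom)) θ)) :
    ∃ b : Coh.HH X.left (Coh.structureModule X.left) 0,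
      Curves.GlobalSections.h0Equiv (_root_.ClSub.quotMod (LiftH0.powI X 1))
        (Curves.LES.mapK R (_root_.ClSub.toSubscheme (LiftH0.powI X 1)) 0 b) = θ := by
  obtain ⟨π, hπ⟩ := IsDiscreteValuationRing.exists_irreducible R
  obtain ⟨N, hN⟩ := LiftH0.exists_bound X hπ
  obtain ⟨ρ, hρ⟩ := SurfInt.Seq.exists_descend (LiftH0.powI_le X (Nat.le_add_left 1 N))
  let j : (LiftH0.powI X 1).subscheme ⟶ (LiftH0.powI X (N + 1)).subscheme := IsClosedImmersion.lift (LiftH0.powI X (N + 1)).subschemeι (LiftH0.powI X 1).subschemeι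
    (by rw [Scheme.IdealSheafData.ker_subschemeι, Scheme.IdealSheafData.ker_subschemeι]
        exact LiftH0.powI_le X (Nat.le_add_left 1 N))
  have hj : j ≫ (LiftH0.powI X (N + 1)).subschemeι = (LiftH0.powI X 1).subschemeι := IsClosedImmersion.lift_fac _ _ _
  haveI : IsClosedImmersion (j ≫ (LiftH0.powI X (N + 1)).subschemeι) := by rw [hj]; infer_instance
  haveI : IsClosedImmersion j := IsClosedImmersion.of_comp j (LiftH0.powI X (N + 1)).subschemeι
  haveI : Surjective j := ⟨fun z => by
    have hz : (LiftH0.powI X (N + 1)).subschemeι z ∈ ((LiftH0.powI X (N + 1)).support : Set X.left) := by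
      rw [← (LiftH0.powI X (N + 1)).range_subschemeι]; exact ⟨z, rfl⟩
    have hz1 : (LiftH0.powI X (N + 1)).subschemeι z ∈ ((LiftH0.powI X 1).support : Set X.left) := by
      by_contra h
      refine (StalkIdeal.stalkIdeal_eq_top_iff (LiftH0.powI X (N + 1)) _).mp ?_ hz
      have h1 := (StalkIdeal.stalkIdeal_eq_top_iff (LiftH0.powI X 1) _).mpr h
      rw [LiftH0.stalk_powI X hπ, pow_one] at h1
      rw [LiftH0.stalk_powI X hπ, _root_.Ideal.span_singleton_eq_top]
      exact (_root_.Ideal.span_singleton_eq_top.mp h1).pow _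
    rw [← (LiftH0.powI X 1).range_subschemeι] at hz1
    obtain ⟨y, hy⟩ := hz1
    exact ⟨y, (LiftH0.powI X (N + 1)).subschemeι.isClosedEmbedding.injective (by rw [← Scheme.Hom.comp_apply, hj, hy])⟩⟩
  let φ : R →+* Γ((LiftH0.powI X (N + 1)).subscheme, ⊤) := Coh.toGlobal ((LiftH0.powI X (N + 1)).subschemeι ≫ X.hom)
  have hφ : j.appTop.hom.comp φ = Coh.toGlobal ((LiftH0.powI X 1).subschemeι ≫ X.hom) := RingHom.ext fun r => by
    show j.appTop (Coh.toGlobal ((LiftH0.powI X (N + 1)).subschemeι ≫ X.hom) r) = _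
    rw [← hj, Category.assoc]
    rfl
  obtain ⟨r, -, hr⟩ := Thick.exists_root j φ F θ (by rw [hφ]; exact hθ) (by rw [hφ]; exact hd)
  obtain ⟨b, hb⟩ := hN ρ hρ ((Curves.GlobalSections.h0Equiv (_root_.ClSub.quotMod (LiftH0.powI X (N + 1)))).symm r)
  refine ⟨b, ?_⟩
  rw [hb, ProjKoszul.Regularity.h0Equiv_mapK]
  refine (DivisorField.descend_app_top hρ j hj _).trans (Eq.trans ?_ hr)
  exact congrArg j.appTop ((Curves.GlobalSections.h0Equiv (_root_.ClSub.quotMod (LiftH0.powI X (N + 1)))).apply_symm_apply r)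

/-- If the functions on the closed fibre are a finite field extension of a perfect residue field, all of
them are global. -/
theorem surjective_of_isField [PerfectField (ResidueField R)]
    (hF : IsField Γ((LiftH0.powI X 1).subscheme, ⊤))
    (hfin : (((LiftH0.powI X 1).subschemeι ≫ X.hom).appTop.hom.comp
      (Scheme.ΓSpecIso (CommRingCat.of R)).inv.hom).Finite) :
    Function.Surjective (Curves.LES.mapK R (_root_.ClSub.toSubscheme (LiftH0.powI X 1)) 0) := by
  intro z
  let φ : R →+* Γ((LiftH0.powI X 1).subscheme, ⊤) :=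
    ((LiftH0.powI X 1).subschemeι ≫ X.hom).appTop.hom.comp (Scheme.ΓSpecIso (CommRingCat.of R)).inv.hom
  let θ : Γ((LiftH0.powI X 1).subscheme, ⊤) := Curves.GlobalSections.h0Equiv (_root_.ClSub.quotMod (LiftH0.powI X 1)) z
  letI : Field Γ((LiftH0.powI X 1).subscheme, ⊤) := hF.toField
  have hker : ∀ r ∈ maximalIdeal R, φ r = 0 := by
    intro r hr
    by_contra h
    have hinj : Function.Injective φ := by
      rw [RingHom.injective_iff_ker_eq_bot]
      by_contra hb
      have hp : (RingHom.ker φ).IsPrime := RingHom.ker_isPrime φ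
      exact h (RingHom.mem_ker.mp (((hp.isMaximal hb).eq_of_le (IsLocalRing.maximalIdeal.isMaximal R).ne_top
        (IsLocalRing.le_maximalIdeal hp.ne_top)).ge hr))
    letI : Algebra R Γ((LiftH0.powI X 1).subscheme, ⊤) := φ.toAlgebra
    haveI : Module.Finite R Γ((LiftH0.powI X 1).subscheme, ⊤) := hfin
    exact IsDiscreteValuationRing.not_isField R (isField_of_isIntegral_of_isField hinj hF)
  let ψ : ResidueField R →+* Γ((LiftH0.powI X 1).subscheme, ⊤) := _root_.Ideal.Quotient.lift _ φ hker
  have hψφ : ψ.comp (residue R) = φ := RingHom.ext fun r => rfl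
  letI : Algebra (ResidueField R) Γ((LiftH0.powI X 1).subscheme, ⊤) := ψ.toAlgebra
  haveI : Module.Finite (ResidueField R) Γ((LiftH0.powI X 1).subscheme, ⊤) :=
    RingHom.Finite.of_comp_finite (f := residue R) (g := ψ) (by rw [hψφ]; exact hfin)
  have hint : IsIntegral (ResidueField R) θ := IsIntegral.of_finite _ _
  have hirr := minpoly.irreducible hint
  have hsep : (minpoly (ResidueField R) θ).Separable := PerfectField.separable_of_irreducible hirr
  obtain ⟨F, hF'⟩ := Polynomial.map_surjective (residue R) residue_surjective (minpoly (ResidueField R) θ)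
  have hev : ∀ G : R[X], G.eval₂ φ θ = Polynomial.aeval θ (G.map (residue R)) := fun G => by
    rw [Polynomial.aeval_def, Polynomial.eval₂_map]
    show _ = G.eval₂ (ψ.comp (residue R)) θ
    rw [hψφ]
  obtain ⟨b, hb⟩ := exists_global_of_root X θ F ((hev F).trans (by rw [hF']; exact minpoly.aeval _ _)) (by
    refine (hev (derivative F)).symm ▸ ?_
    rw [← Polynomial.derivative_map, hF']
    exact Ne.isUnit (hsep.aeval_derivative_ne_zero (minpoly.aeval (ResidueField R) θ)))
  exact ⟨b, (Curves.GlobalSections.h0Equiv (_root_.ClSub.quotMod (LiftH0.powI X 1))).injective hb⟩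

end

end Groth.Agent.Lib.ModelFibre.H0Surj
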