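import Mathlib
import Groth.Prelude.Def_CAlg
import Groth.Agent.H22.GlobalDim
import Groth.Agent.Lib.Regular.Quotient

/-!
# The quotient of a Gorenstein local ring by a nonzerodivisor is Gorenstein
-/

universe u

open CategoryTheory IsLocalRing

namespace Groth.Agent.Lib.ModelFibre.GorensteinQuot

variable {A S : Type u} [CommRing A] [CommRing S]

/-- Regular local rings are Gorenstein. -/
theorem isGorenstein_of_isRegular (A : Type u) [CommRing A] [IsRegularLocalRing A] :
    LocCoh.IsGorensteinLocalRing A := by
  obtain ⟨d, hd, -⟩ := Groth.Agent.Lib.Regular.Quotient.exists_dim_eq (R := A)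
  refine { exists_hasInjectiveDimensionLT := ⟨d + 1, ?_⟩ }
  refine Groth.Agent.H22.GlobalDim.hasInjectiveDimensionLT_of_cyclic d _ fun J => ?_
  have := Groth.Agent.H22.GlobalDim.hasProjectiveDimensionLT_regular (R := A) d hd (A ⧸ J)
  exact HasProjectiveDimensionLT.subsingleton _ (d + 1) (d + 1) le_rfl _

/-- Injective modules are divisible by nonzerodivisors. -/
theorem exists_smul_eq (I : ModuleCat.{u} A) [Injective I] {x : A} (hx : IsSMulRegular A x) (i : I) :
    ∃ j : I, x • j = i := by
  let m : ModuleCat.of A A ⟶ ModuleCat.of A A := ModuleCat.ofHom (LinearMap.lsmul A A x)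
  have : Mono m := (ModuleCat.mono_iff_injective m).2 hx
  let g : ModuleCat.of A A ⟶ I := ModuleCat.ofHom (LinearMap.toSpanSingleton A I i)
  refine ⟨(Injective.factorThru g m).hom (1 : A), ?_⟩
  have h := LinearMap.congr_fun (congrArg ModuleCat.Hom.hom (Injective.comp_factorThru g m)) (1 : A)
  rw [← map_smul]
  exact h.trans (one_smul A i)

variable (f : A →+* S)

/-- The value at one of an element of the coextension. -/
noncomputable def ev {C : ModuleCat.{u} A} (h : (ModuleCat.coextendScalars.{u, u, u} f).obj C) : C :=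
  h (1 : S)

lemma ev_map {C D : ModuleCat.{u} A} (g : C ⟶ D) (h : (ModuleCat.coextendScalars.{u, u, u} f).obj C) :
    ev f ((ModuleCat.coextendScalars f).map g h) = g (ev f h) := rfl

lemma ev_smul {C : ModuleCat.{u} A} (a : A) (h : (ModuleCat.coextendScalars.{u, u, u} f).obj C) :
    ev f (f a • h) = a • ev f h := by
  show h ((1 : S) * f a) = a • h (1 : S)
  rw [← map_smul]
  congr 1
  show (1 : S) * f a = f a * (1 : S)
  rw [mul_comm]

variable {f} (hs : Function.Surjective f) {x : A} (hker : RingHom.ker f = Ideal.span {x})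

include hker in
lemma map_eq_zero : f x = 0 :=
  RingHom.mem_ker.1 (hker ▸ Ideal.mem_span_singleton_self x)

include hker in
lemma smul_ev {C : ModuleCat.{u} A} (h : (ModuleCat.coextendScalars.{u, u, u} f).obj C) :
    x • ev f h = 0 := by
  rw [← ev_smul, map_eq_zero hker, zero_smul]
  rfl

include hs in
lemma ev_injective {C : ModuleCat.{u} A} {h h' : (ModuleCat.coextendScalars.{u, u, u} f).obj C}
    (e : ev f h = ev f h') : h = h' := by
  apply LinearMap.ext
  intro s
  obtain ⟨a, ha⟩ := hs s
  have e1 : ev f (f a • h) = ev f (f a • h') := by rw [ev_smul, ev_smul, e]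
  subst ha
  have e2 : (h : _) ((1 : S) * f a) = h' ((1 : S) * f a) := e1
  rwa [one_mul] at e2

include hs hker in
lemma exists_ev_eq {C : ModuleCat.{u} A} (c : C) (hc : x • c = 0) :
    ∃ h : (ModuleCat.coextendScalars.{u, u, u} f).obj C, ev f h = c := by
  have hwd : ∀ a b : A, f a = f b → a • c = b • c := fun a b e => by
    have : a - b ∈ Ideal.span {x} := by rw [← hker, RingHom.mem_ker, map_sub, e, sub_self]
    obtain ⟨t, ht⟩ := Ideal.mem_span_singleton'.1 this
    rw [← sub_eq_zero, ← sub_smul, ← ht, mul_smul, hc, smul_zero]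
  let φ : S → C := fun s => Function.surjInv hs s • c
  have hadd : ∀ s t : S, φ (s + t) = φ s + φ t := fun s t => by
    show _ = Function.surjInv hs s • c + Function.surjInv hs t • c
    rw [← add_smul]
    exact hwd _ _ (by rw [map_add, Function.surjInv_eq hs, Function.surjInv_eq hs, Function.surjInv_eq hs])
  have hsmul : ∀ (a : A) (s : S), φ (f a * s) = a • φ s := fun a s => by
    show _ = a • (Function.surjInv hs s • c)
    rw [smul_smul]
    exact hwd _ _ (by rw [map_mul, Function.surjInv_eq hs, Function.surjInv_eq hs])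
  refine ⟨({ toFun := φ
             map_add' := hadd
             map_smul' := hsmul } :
           (ModuleCat.restrictScalars f).obj (ModuleCat.of S S) →ₗ[A] C), ?_⟩
  show Function.surjInv hs (1 : S) • c = c
  conv_rhs => rw [← one_smul A c]
  exact hwd _ _ (by rw [Function.surjInv_eq hs, map_one])

include hs hker in
lemma map_surjective {C D : ModuleCat.{u} A} {K : ModuleCat.{u} A} (i : K ⟶ C) (p : C ⟶ D)
    (hex : Function.Exact i p) (hp : Function.Surjective p) (hK : ∀ k : K, ∃ k', x • k' = k) :
    Function.Surjective ((ModuleCat.coextendScalars.{u, u, u} f).map p) := by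
  intro d
  obtain ⟨c, hc⟩ := hp (ev f d)
  have h0 : p (x • c) = 0 := by rw [map_smul, hc, smul_ev hker]
  obtain ⟨k, hk⟩ := (hex _).1 h0
  obtain ⟨k', rfl⟩ := hK k
  obtain ⟨h, hh⟩ := exists_ev_eq hs hker (c - i k') (by rw [smul_sub, ← map_smul, hk, sub_self])
  refine ⟨h, ev_injective hs ?_⟩
  rw [ev_map, hh, map_sub, hc, hex.apply_apply_eq_zero, sub_zero]

include hs hker in
lemma hasInjectiveDimensionLT_coextend (hx : IsSMulRegular A x) : ∀ (n : ℕ) (C : ModuleCat.{u} A),
    (∀ c : C, ∃ c', x • c' = c) → HasInjectiveDimensionLT C (n + 1) →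
      HasInjectiveDimensionLT ((ModuleCat.coextendScalars.{u, u, u} f).obj C) (n + 1) := by
  intro n
  induction n with
  | zero =>
    intro C _ h
    have : Injective C := injective_iff_hasInjectiveDimensionLT_one.mpr h
    have := (ModuleCat.restrictCoextendScalarsAdj.{u, u, u} f).map_injective C inferInstance
    infer_instance
  | succ n ih =>
    intro C hC h
    obtain ⟨p⟩ := EnoughInjectives.presentation C
    let T := ShortComplex.mk p.f (Limits.cokernel.π p.f) (Limits.cokernel.condition p.f)
    have hT : T.ShortExact := { exact := ShortComplex.exact_cokernel p.f }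
    have hD : ∀ d : T.X₃, ∃ d', x • d' = d := fun d => by
      obtain ⟨i, rfl⟩ := hT.moduleCat_surjective_g d
      obtain ⟨j, rfl⟩ := exists_smul_eq p.J hx i
      exact ⟨T.g j, (map_smul _ _ _).symm⟩
    have hD' : HasInjectiveDimensionLT T.X₃ (n + 1) :=
      hT.hasInjectiveDimensionLT_X₃ (n + 1) inferInstance h
    let F := ModuleCat.coextendScalars.{u, u, u} f
    have hFT : (T.map F).ShortExact := by
      refine ModuleCat.shortComplex_shortExact _ (fun y => ?_) ?_ ?_
      · constructor
        · intro hy
          have h0 : T.g (ev f y) = 0 := by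
            rw [← ev_map]
            exact congrArg (ev f) hy
          obtain ⟨c, hc⟩ := ((ShortComplex.ShortExact.moduleCat_exact_iff_function_exact _).1 hT.exact _).1 h0
          obtain ⟨z, hz⟩ := exists_ev_eq hs hker c (hT.moduleCat_injective_f (by
            rw [map_smul, hc, smul_ev hker, map_zero]))
          exact ⟨z, ev_injective hs (by rw [← hc]; exact congrArg T.f hz)⟩
        · rintro ⟨z, rfl⟩
          exact ev_injective hs (ShortComplex.moduleCat_zero_apply T (ev f z))
      · exact fun y z e => ev_injective hs (hT.moduleCat_injective_f (congrArg (ev f) e))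
      · exact map_surjective hs hker T.f T.g
          ((ShortComplex.ShortExact.moduleCat_exact_iff_function_exact _).1 hT.exact)
          hT.moduleCat_surjective_g hC
    have := (ModuleCat.restrictCoextendScalarsAdj.{u, u, u} f).map_injective p.J inferInstance
    have : Injective (T.map F).X₂ := this
    exact hFT.hasInjectiveDimensionLT_X₁ (n + 1) (ih _ hD hD')
      (hasInjectiveDimensionLT_of_ge _ 1 _ (by omega))

/-- The quotient of a Gorenstein local ring by a nonzerodivisor of its maximal ideal is Gorenstein. -/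
theorem isGorenstein_quotient [LocCoh.IsGorensteinLocalRing A] [Nontrivial S] [Algebra A S]
    (hsurj : Function.Surjective (algebraMap A S)) {x : A}
    (hker : RingHom.ker (algebraMap A S) = Ideal.span {x}) (hx : IsSMulRegular A x) :
    LocCoh.IsGorensteinLocalRing S := by
  have : IsLocalRing S := IsLocalRing.of_surjective' (algebraMap A S) hsurj
  have : IsNoetherianRing S := isNoetherianRing_of_surjective A S _ hsurj
  refine { exists_hasInjectiveDimensionLT := ?_ }
  obtain ⟨n, hn⟩ := LocCoh.IsGorensteinLocalRing.exists_hasInjectiveDimensionLT (A := A)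
  obtain ⟨p⟩ := EnoughInjectives.presentation (ModuleCat.of A A)
  let T := ShortComplex.mk p.f (Limits.cokernel.π p.f) (Limits.cokernel.condition p.f)
  have hT : T.ShortExact := { exact := ShortComplex.exact_cokernel p.f }
  have hex : Function.Exact T.f T.g :=
    (ShortComplex.ShortExact.moduleCat_exact_iff_function_exact _).1 hT.exact
  have hD : ∀ d : T.X₃, ∃ d', x • d' = d := fun d => by
    obtain ⟨i, rfl⟩ := hT.moduleCat_surjective_g d
    obtain ⟨j, rfl⟩ := exists_smul_eq p.J hx i
    exact ⟨T.g j, (map_smul _ _ _).symm⟩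
  have h2 : HasInjectiveDimensionLT (ModuleCat.of A A) (n + 1 + 1) :=
    hasInjectiveDimensionLT_of_ge _ n _ (by omega)
  have hC : HasInjectiveDimensionLT T.X₃ (n + 1) :=
    hT.hasInjectiveDimensionLT_X₃ (n + 1) inferInstance h2
  set f := algebraMap A S with hf
  let F := ModuleCat.coextendScalars.{u, u, u} f
  let Rel : F.obj T.X₃ → S → Prop := fun h s =>
    ∃ (i : T.X₂) (a : T.X₁), T.g i = ev f h ∧ x • i = T.f a ∧ s = f (a : A)
  have hfun : ∀ h s s', Rel h s → Rel h s' → s = s' := by
    rintro h s s' ⟨i, a, h1, h2, rfl⟩ ⟨i', a', h1', h2', rfl⟩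
    obtain ⟨b, hb⟩ := (hex (i - i')).1 (by rw [map_sub, h1, h1', sub_self])
    have h3 : T.f (x • b) = T.f (a - a') := by rw [map_smul, hb, smul_sub, h2, h2', map_sub]
    have h4 : x • b = a - a' := hT.moduleCat_injective_f h3
    rw [← sub_eq_zero, ← map_sub, show (a : A) - (a' : A) = x * (b : A) from h4.symm, map_mul,
      map_eq_zero hker, zero_mul]
  have hexists : ∀ h, ∃ s, Rel h s := fun h => by
    obtain ⟨i, hi⟩ := hT.moduleCat_surjective_g (ev f h)
    obtain ⟨a, ha⟩ := (hex (x • i)).1 (by rw [map_smul, hi, smul_ev hker])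
    exact ⟨f (a : A), i, a, hi, ha.symm, rfl⟩
  choose δ hδ using hexists
  let δl : F.obj T.X₃ →ₗ[S] S :=
    { toFun := δ
      map_add' := fun h h' => by
        obtain ⟨i, a, h1, h2, h3⟩ := hδ h
        obtain ⟨i', a', h1', h2', h3'⟩ := hδ h'
        refine hfun _ _ _ (hδ _) ⟨i + i', a + a', ?_, ?_, ?_⟩
        · rw [map_add, h1, h1']; rfl
        · rw [map_add, smul_add, h2, h2']
        · rw [h3, h3']; exact (map_add f _ _).symm
      map_smul' := fun s h => by
        obtain ⟨b, rfl⟩ := hsurj s
        obtain ⟨i, a, h1, h2, h3⟩ := hδ h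
        refine hfun _ _ _ (hδ _) ⟨b • i, b • a, ?_, ?_, ?_⟩
        · rw [map_smul, h1, ev_smul]
        · rw [smul_comm, h2, map_smul]
        · rw [h3]; exact (map_mul f _ _).symm }
  let T' : ShortComplex (ModuleCat.{u} S) :=
    ShortComplex.mk (F.map T.g) (ModuleCat.ofHom δl : F.obj T.X₃ ⟶ ModuleCat.of S S) (by
      ext z
      refine hfun _ _ _ (hδ _) ⟨ev f z, 0, rfl, ?_, ?_⟩
      · rw [smul_ev hker, map_zero]
      · exact (_root_.map_zero f).symm)
  have hT' : T'.ShortExact := by
    refine ModuleCat.shortComplex_shortExact _ (fun y => ?_) ?_ ?_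
    · constructor
      · intro hy
        obtain ⟨i, a, h1, h2, h3⟩ := hδ y
        have ha : f (a : A) = 0 := h3.symm.trans hy
        rw [← RingHom.mem_ker, hker, Ideal.mem_span_singleton] at ha
        obtain ⟨b, hb⟩ := ha
        obtain ⟨z, hz⟩ := exists_ev_eq hsurj hker (i - T.f b) (by
          rw [smul_sub, ← map_smul, h2]
          exact sub_eq_zero.2 (congrArg T.f hb))
        refine ⟨z, ev_injective hsurj ?_⟩
        rw [← h1]
        show T.g (ev f z) = _
        rw [hz, map_sub, hex.apply_apply_eq_zero, sub_zero]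
      · rintro ⟨z, rfl⟩
        exact LinearMap.congr_fun (congrArg ModuleCat.Hom.hom T'.zero) z
    · intro y z e
      refine ev_injective hsurj (sub_eq_zero.1 ?_)
      obtain ⟨a, ha⟩ := (hex (ev f y - ev f z)).1 (by
        rw [map_sub, ← ev_map, ← ev_map]; exact sub_eq_zero.2 (congrArg (ev f) e))
      have h0 : x • a = 0 := hT.moduleCat_injective_f (by
        rw [map_smul, ha, smul_sub, smul_ev hker, smul_ev hker, sub_zero, map_zero])
      have : a = 0 := hx (h0.trans (smul_zero x).symm)
      rw [← ha, this, map_zero]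
    · intro s
      obtain ⟨a, ha⟩ := hsurj s
      obtain ⟨i, hi⟩ := exists_smul_eq p.J hx (T.f a)
      obtain ⟨h, hh⟩ := exists_ev_eq hsurj hker (T.g i) (by
        rw [← map_smul]
        exact (congrArg T.g hi).trans (hex.apply_apply_eq_zero a))
      exact ⟨h, hfun _ _ _ (hδ h) ⟨i, a, hh.symm, hi, ha.symm⟩⟩
  have := (ModuleCat.restrictCoextendScalarsAdj.{u, u, u} f).map_injective p.J inferInstance
  exact ⟨n + 1, hT'.hasInjectiveDimensionLT_X₃ (n + 1)
    (hasInjectiveDimensionLT_coextend hsurj hker hx n _ hD hC) (by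
      have : Injective T'.X₁ := this
      exact hasInjectiveDimensionLT_of_ge _ 1 _ (by omega))⟩

end Groth.Agent.Lib.ModelFibre.GorensteinQuot
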