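import Groth.Agent.Lib.ModelFibre.GlobalFun
import Groth.Agent.Lib.ModelFibre.InterConn

/-!
# The intersection graph of a model is connected, from connectedness of fibres
-/

universe u

open CategoryTheory Limits AlgebraicGeometry IsLocalRing TopologicalSpace Groth.Agent.Lib.ModelFibre

namespace Groth.Agent.Lib.ModelFibre.ConnFibre

/-- The connectedness theorem, in the form used here. -/
abbrev ZarConn : Prop :=
  ∀ {X Y : Scheme.{u}} (f : X ⟶ Y) [IsProper f] [IsLocallyNoetherian Y],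
    (∀ U : Y.Opens, IsIso (f.app U)) → (∀ y : Y, ConnectedSpace (f.fiber y)) ∧ GeometricallyConnected f

variable (zar : ZarConn.{u})
variable {R : Type u} [CommRing R] [IsDomain R] [IsDiscreteValuationRing R] {C X : Scheme.{u}}
  {f : C ⟶ Spec (CommRingCat.of (FractionRing R))} {p : X ⟶ Spec (CommRingCat.of R)}
  (hC : Curve.IsSmoothProperCurve (FractionRing R) C f) (hH0 : IsIso f.appTop)
  (hX : Models.IsRegularProperModel R X p C f)

include zar hC hH0 hX

theorem conclusion :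
    (∀ y : Spec (CommRingCat.of R), ConnectedSpace (p.fiber y)) ∧ GeometricallyConnected p := by
  have hS := Inter.IsSurf.of_model hC hX
  haveI : AlgebraicGeometry.IsIntegral X := hS.isIntegral
  obtain ⟨⟨-, -, -, g, hg⟩, hp, -⟩ := hX
  haveI := hp
  haveI := hC.2.2.1
  exact zar p fun U => GlobalFun.isIso_app p f g hg (ConcreteCategory.bijective_of_isIso f.appTop) U

theorem isPreconnected_specialFibreSet :
    _root_.IsPreconnected (Models.specialFibreSet R (Over.mk p)) := by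
  haveI := (conclusion zar hC hH0 hX).1 (closedPoint R)
  exact (GlobalFun.connected_specialFibreSet p).isPreconnected

theorem connectedSpace_specialFibre : ConnectedSpace ↥(Models.specialFibre R X p) := by
  haveI := (conclusion zar hC hH0 hX).1 (closedPoint R)
  exact GlobalFun.connectedSpace_specialFibre p

omit zar hC hH0 hX in
theorem mem_component {Y : Over (Spec (CommRingCat.of R))} {n : ℕ} (Γ : Fin n → ArSurf.VertComp R Y)
    (hΓ : Models.IsComponentList R Y Γ) (x : Y.left) (hx : x ∈ Models.specialFibreSet R Y) :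
    ∃ i, x ∈ Set.range ((Γ i).ι.base : (Γ i).curve.left → Y.left) := by
  obtain ⟨S, hxS, hS⟩ := exists_maximal_irreducible_of_mem hx
  obtain ⟨i, hi⟩ := hΓ.2.symm ▸ hS
  exact ⟨i, (show Set.range _ = S from hi) ▸ hxS⟩
where
  exists_maximal_irreducible_of_mem {Y : Over (Spec (CommRingCat.of R))} {x : Y.left}
      (hx : x ∈ Models.specialFibreSet R Y) : ∃ S, x ∈ S ∧ S ∈ Models.fibreComponents R Y := by
    obtain ⟨S, hS, hxS⟩ := exists_mem_irreducibleComponents_subset_of_isIrreducible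
      ({(⟨x, hx⟩ : Models.specialFibreSet R Y)} : Set _) isIrreducible_singleton
    refine ⟨Subtype.val '' S, ⟨_, hxS rfl, rfl⟩, ⟨hS.1.image _ continuous_subtype_val.continuousOn,
      fun y hy => by obtain ⟨z, -, rfl⟩ := hy; exact z.2⟩, fun T hT hle => ?_⟩
    intro t ht
    have h1 : IsIrreducible ((Subtype.val : Models.specialFibreSet R Y → Y.left) ⁻¹' closure T) :=
      isIrreducible_preimage_val hT.1.closure
        ((Models.isClosed_specialFibreSet R Y).closure_subset_iff.2 hT.2)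
    have h2 := hS.2 h1 fun z hz => subset_closure (hle ⟨z, hz, rfl⟩)
    exact ⟨⟨t, hT.2 ht⟩, h2 (subset_closure ht), rfl⟩
  isIrreducible_preimage_val {Z : Type u} [TopologicalSpace Z] {s T : Set Z} (hT : IsIrreducible T)
      (h : T ⊆ s) : IsIrreducible ((Subtype.val : s → Z) ⁻¹' T) := by
    refine ⟨let ⟨t, ht⟩ := hT.1; ⟨⟨t, h ht⟩, ht⟩, ?_⟩
    rintro _ _ ⟨U, hU, rfl⟩ ⟨V, hV, rfl⟩ ⟨a, ha, haU⟩ ⟨b, hb, hbV⟩
    obtain ⟨z, hz, hzU, hzV⟩ := hT.2 U V hU hV ⟨a, ha, haU⟩ ⟨b, hb, hbV⟩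
    exact ⟨⟨z, h hz⟩, hz, hzU, hzV⟩

theorem inter_connected {n : ℕ} (Γ : Fin n → ArSurf.VertComp R (Over.mk p))
    (hΓ : Models.IsComponentList R (Over.mk p) Γ) (L : Fin n → X.Modules)
    (hL : ∀ i, _root_.ClSub.IsInverseOf (L i) (_root_.ClSub.idealMod (Γ i).ι.ker))
    (I : Finset (Fin n)) (hI : I.Nonempty) (hI' : I ≠ Finset.univ) :
    ∃ i ∈ I, ∃ j ∉ I, ArSurf.inter R (Over.mk p) (L j) (Γ i) ≠ 0 := by
  obtain ⟨i, hi, j, hj, h⟩ := InterConn.exists_edge (Inter.IsSurf.of_model hC hX) Γ hΓ.1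
    (fun x hx => mem_component Γ hΓ x hx) (isPreconnected_specialFibreSet zar hC hH0 hX) L hL I hI hI'
  exact ⟨i, hi, j, hj, h.ne'⟩

theorem form_nonpos_and_null {n : ℕ} (Γ : Fin n → ArSurf.VertComp R (Over.mk p))
    (hΓ : Models.IsComponentList R (Over.mk p) Γ) (L : Fin n → X.Modules)
    (hL : ∀ i, _root_.ClSub.IsInverseOf (L i) (_root_.ClSub.idealMod (Γ i).ι.ker)) (a : Fin n → ℤ) :
    (∑ q : Fin n × Fin n, a q.1 * a q.2 * ArSurf.inter R (Over.mk p) (L q.2) (Γ q.1)) ≤ 0 ∧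
      ((∑ q : Fin n × Fin n, a q.1 * a q.2 * ArSurf.inter R (Over.mk p) (L q.2) (Γ q.1)) = 0 ↔
        ∃ c : ℚ, ∀ i, (a i : ℚ) = c * (Models.mult R (Over.mk p) (Γ i) : ℚ)) := by
  rw [Fintype.sum_prod_type (f := fun q : Fin n × Fin n =>
    a q.1 * a q.2 * ArSurf.inter R (Over.mk p) (L q.2) (Γ q.1))]
  exact ⟨InterForm.form_nonpos (Inter.IsSurf.of_model hC hX) Γ L hL a,
    (InterConn.null_iff (Inter.IsSurf.of_model hC hX) Γ hΓ (fun x hx => mem_component Γ hΓ x hx)
      (isPreconnected_specialFibreSet zar hC hH0 hX) L hL a).1⟩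

end Groth.Agent.Lib.ModelFibre.ConnFibre
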