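import Groth.Agent.Lib.ModelFibre.Inter
import Groth.Agent.Lib.Curves.GlobalSections
import Mathlib.LinearAlgebra.Dimension.Free

/-!
# Dimensions of cohomology of an integral proper scheme are multiples of the degree of the constants
-/

set_option linter.style.haveILetI false

universe u

open CategoryTheory Limits AlgebraicGeometry IsLocalRing Groth.Agent.Lib.ModelFibre

namespace Groth.Agent.Lib.ModelFibre.ConstDiv

open Groth.Agent.Lib

noncomputable section

theorem finrank_HH0_dvd {k : Type u} [Field k] {Y : Scheme.{u}} [Y.Over (Spec (CommRingCat.of k))]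
    [IsIntegral Y] [IsProper (Y ↘ Spec (CommRingCat.of k))] (M : Y.Modules) (n : ℕ) :
    Module.finrank k (Coh.HH Y (Coh.structureModule Y) 0) ∣ Module.finrank k (Coh.HH Y M n) := by
  have hF := isField_of_universallyClosed k (Y ↘ Spec (CommRingCat.of k))
  letI : Field (Coh.Γtop Y) := IsField.toField hF
  letI : Algebra k (Coh.Γtop Y) := (Coh.toGlobal (Y ↘ Spec (CommRingCat.of k))).toAlgebra
  haveI : IsScalarTower k (Coh.Γtop Y) (Coh.HH Y M n) := IsScalarTower.of_algebraMap_smul fun _ _ => rfl
  letI := Curves.GlobalSections.secModule k (Coh.structureModule Y)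
  have h0 : Module.finrank k (Coh.HH Y (Coh.structureModule Y) 0) = Module.finrank k (Coh.Γtop Y) := by
    let γ : ((Coh.structureModule Y).val.obj (Opposite.op ⊤) : Type u) ≃ₗ[k] Coh.Γtop Y :=
      { toFun := fun x => x
        invFun := fun x => x
        map_add' := fun _ _ => rfl
        map_smul' := fun _ _ => rfl
        left_inv := fun _ => rfl
        right_inv := fun _ => rfl }
    exact ((Curves.GlobalSections.h0Linear k (Coh.structureModule Y)).trans γ).finrank_eq
  rw [h0]
  exact ⟨_, (Module.finrank_mul_finrank k (Coh.Γtop Y) (Coh.HH Y M n)).symm⟩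

variable {R : Type u} [CommRing R] [IsDomain R] [IsDiscreteValuationRing R]
  {X : Over (Spec (CommRingCat.of R))} (hX : Inter.IsSurf X) (Γ : ArSurf.VertComp R X)

include hX

theorem wdeg_pos : 0 < Models.wdeg R X Γ := by
  haveI : IsProper (Γ.curve.left ↘ Spec (CommRingCat.of (ResidueField R))) := Inter.isProper_curve hX Γ
  have hF := isField_of_universallyClosed (ResidueField R) (Γ.curve.left ↘ Spec (CommRingCat.of (ResidueField R)))
  haveI := Curves.GlobalSections.finite_h0_structure (k := ResidueField R) (X := Γ.curve.left)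
  letI := Curves.GlobalSections.secModule (ResidueField R) (Coh.structureModule Γ.curve.left)
  haveI : Nontrivial (Coh.HH Γ.curve.left (Coh.structureModule Γ.curve.left) 0) := by
    haveI : Nontrivial ((Coh.structureModule Γ.curve.left).val.obj (Opposite.op ⊤) : Type u) := by
      letI : Field Γ(Γ.curve.left, ⊤) := IsField.toField hF
      exact (inferInstance : Nontrivial Γ(Γ.curve.left, ⊤))
    exact (Curves.GlobalSections.h0Linear (ResidueField R) (Coh.structureModule Γ.curve.left)).symm.injective.nontrivial
  exact Module.finrank_pos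

theorem wdeg_dvd_h1 : Models.wdeg R X Γ ∣ Models.h1 R X Γ := by
  haveI : IsProper (Γ.curve.left ↘ Spec (CommRingCat.of (ResidueField R))) := Inter.isProper_curve hX Γ
  exact finrank_HH0_dvd _ 1

theorem wdeg_dvd_inter (L : X.left.Modules) :
    (Models.wdeg R X Γ : ℤ) ∣ ArSurf.inter R X L Γ := by
  haveI : IsProper (Γ.curve.left ↘ Spec (CommRingCat.of (ResidueField R))) := Inter.isProper_curve hX Γ
  unfold ArSurf.inter ArSurf.curveDeg FGA.eulerCharLE Models.wdeg
  refine dvd_sub (Finset.dvd_sum fun i _ => Dvd.dvd.mul_left (Int.natCast_dvd_natCast.mpr (finrank_HH0_dvd _ i)) _)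
    (Finset.dvd_sum fun i _ => Dvd.dvd.mul_left (Int.natCast_dvd_natCast.mpr (finrank_HH0_dvd _ i)) _)

end

end Groth.Agent.Lib.ModelFibre.ConstDiv
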