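import Groth.Agent.Lib.ModelFibre.GlobalFun
import Groth.Agent.Lib.ModelFibre.ConnFibre
import Groth.Agent.Lib.ModelFibre.SmoothModel
import Groth.Agent.Lib.FEt.AppBijective
import Groth.Agent.Lib.RG.GeomComp
import Groth.Agent.Lib.Curves.GlobalSections
import Groth.Agent.Lib.SmoothCurve.Curve
import Groth.Agent.Lib.Snapper.Chi

/-!
# The generic fibre of a model whose closed fibre consists of curves is a smooth proper curve
-/

set_option linter.style.haveILetI false

universe u

open CategoryTheory Limits AlgebraicGeometry IsLocalRing Groth.Agent.Lib.ModelFibre TopologicalSpace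

namespace Groth.Agent.Lib.ModelFibre.CurveOfModel

open Groth.Agent.Lib

noncomputable section

section Field

variable {K : Type u} [Field K] {C : Scheme.{u}} (f : C ⟶ Spec (CommRingCat.of K)) [IsProper f]

/-- A proper scheme with `h⁰(O) = 1` has the ground field as global functions and is connected. -/
theorem of_hRank_one (h : Models.hRank K C f (Coh.structureModule C) 0 = 1) :
    IsIso f.appTop ∧ ConnectedSpace C := by
  letI : C.Over (Spec (CommRingCat.of K)) := ⟨f⟩
  letI := Curves.GlobalSections.secModule K (Coh.structureModule C)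
  have hdim : Module.finrank K ((Coh.structureModule C).val.obj (Opposite.op ⊤) : Type u) = 1 :=
    (Curves.GlobalSections.h0Linear K (Coh.structureModule C)).finrank_eq.symm.trans h
  haveI : FiniteDimensional K ((Coh.structureModule C).val.obj (Opposite.op ⊤) : Type u) :=
    Module.finite_of_finrank_eq_succ hdim
  haveI : Nontrivial Γ(C, ⊤) :=
    (Module.nontrivial_of_finrank_eq_succ hdim :
      Nontrivial ((Coh.structureModule C).val.obj (Opposite.op ⊤) : Type u))
  let φ : K →+* Γ(C, ⊤) := Coh.toGlobal f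
  let L : K →ₗ[K] ((Coh.structureModule C).val.obj (Opposite.op ⊤) : Type u) :=
    { toFun := fun c => (show Γ(C, ⊤) from φ c)
      map_add' := fun a b => map_add φ a b
      map_smul' := fun a b => map_mul φ a b }
  have hinj : Function.Injective L := φ.injective
  have hb : Function.Bijective φ := ⟨hinj,
    (LinearMap.injective_iff_surjective_of_finrank_eq_finrank (by rw [Module.finrank_self, hdim])).mp hinj⟩
  have hb' : Function.Bijective
      (⇑(ConcreteCategory.hom f.appTop) ∘ ⇑(ConcreteCategory.hom (Scheme.ΓSpecIso (CommRingCat.of K)).inv)) := by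
    have e : ⇑(ConcreteCategory.hom f.appTop) ∘ ⇑(ConcreteCategory.hom (Scheme.ΓSpecIso (CommRingCat.of K)).inv) =
        (⇑φ : K → _) := funext fun a => rfl
    rw [e]; exact hb
  refine ⟨(ConcreteCategory.isIso_iff_bijective _).2 ((Function.Bijective.of_comp_iff _
    (ConcreteCategory.bijective_of_isIso (Scheme.ΓSpecIso (CommRingCat.of K)).inv)).1 hb'), ?_⟩
  haveI : Nonempty C := by
    by_contra hne
    rw [not_nonempty_iff] at hne
    exact not_subsingleton Γ(C, ⊤) (Inter.subsingleton_iff_isEmpty.mpr hne)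
  refine connectedSpace_iff_clopen.mpr ⟨inferInstance, fun s hs => ?_⟩
  obtain ⟨e, he, hes⟩ := FEt.AppBijective.exists_idempotent_of_isClopen hs
  obtain ⟨c, rfl⟩ := hb.2 e
  have hc : IsIdempotentElem c := hb.1 (by rw [map_mul]; exact he)
  rcases IsIdempotentElem.iff_eq_zero_or_one.mp hc with rfl | rfl
  · left
    rw [← hes, map_zero, Scheme.basicOpen_zero]
    rfl
  · right
    rw [← hes, map_one, Scheme.basicOpen_of_isUnit _ isUnit_one]
    rfl

end Field

variable {R : Type u} [CommRing R] [IsDomain R] [IsDiscreteValuationRing R]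
  {C X : Scheme.{u}} {f : C ⟶ Spec (CommRingCat.of (FractionRing R))} {p : X ⟶ Spec (CommRingCat.of R)}

/-- Near the closed fibre a flat model whose closed fibre consists of curves has dimension at most two. -/
theorem ringKrullDim_stalk_le_two [IsLocallyNoetherian X] {n : ℕ} (Γ : Fin n → ArSurf.VertComp R (Over.mk p))
    (hΓ : Models.IsComponentList R (Over.mk p) Γ) (x : X) (hx : p x = closedPoint R) :
    ringKrullDim (X.presheaf.stalk x) ≤ 2 := by
  obtain ⟨π, hπ⟩ := IsDiscreteValuationRing.exists_irreducible R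
  let g := Stalk.baseHom p x π
  have hg : g ∈ maximalIdeal (X.presheaf.stalk x) := by
    rw [mem_maximalIdeal, mem_nonunits_iff, RegularExt.isUnit_baseHom_iff, RegularExt.basicOpen_toGlobal]
    show ¬ (π ∉ (p x).asIdeal)
    rw [hx, not_not]
    exact hπ.maximalIdeal_eq.ge (_root_.Ideal.mem_span_singleton_self π)
  refine (ringKrullDim_le_ringKrullDim_quotient_add_encard {g} ?_).trans ?_
  · rw [IsLocalRing.ringJacobson_eq_maximalIdeal]
    exact Set.singleton_subset_iff.mpr hg
  rw [Set.encard_singleton]
  refine le_trans (add_le_add (show ringKrullDim (X.presheaf.stalk x ⧸ _root_.Ideal.span {g}) ≤ 1 from ?_) le_rfl)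
    (le_of_eq (by norm_num))
  refine iSup_le fun s => ?_
  by_contra hlong
  have hlen : 2 ≤ s.length := by
    by_contra h
    exact hlong (by exact_mod_cast Nat.le_of_lt_succ (not_le.mp h))
  let q : Fin 3 → PrimeSpectrum (X.presheaf.stalk x) := fun i =>
    PrimeSpectrum.comap (_root_.Ideal.Quotient.mk _) (s ⟨i.1, by omega⟩)
  let z : Fin 3 → X := fun i => X.fromSpecStalk x (q i)
  have hz : ∀ i, z i ∈ Models.specialFibreSet R (Over.mk p) := fun i => by
    have hmem : g ∈ (q i).asIdeal := by
      show _root_.Ideal.Quotient.mk (_root_.Ideal.span {g}) g ∈ (s ⟨i.1, by omega⟩).asIdeal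
      rw [_root_.Ideal.Quotient.eq_zero_iff_mem.mpr (_root_.Ideal.mem_span_singleton_self g)]
      exact zero_mem _
    show (X.fromSpecStalk x ≫ p) (q i) = closedPoint R
    rw [Stalk.fromSpecStalk_comp]
    refine PrimeSpectrum.ext (le_antisymm (IsLocalRing.le_maximalIdeal
      ((Spec.map (CommRingCat.ofHom (Stalk.baseHom p x))) (q i)).2.ne_top) ?_)
    show IsLocalRing.maximalIdeal R ≤ _root_.Ideal.comap (Stalk.baseHom p x) (q i).asIdeal
    rw [hπ.maximalIdeal_eq]
    exact (_root_.Ideal.span_singleton_le_iff_mem _).2 hmem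
  have hlt : ∀ a b : Fin 3, a < b → z a ⤳ z b ∧ z a ≠ z b := fun a b hab => by
    have h : q a < q b := by
      have h0 : s ⟨a.1, by omega⟩ < s ⟨b.1, by omega⟩ := s.strictMono hab
      exact lt_of_le_of_ne (_root_.Ideal.comap_mono h0.le) fun e => h0.ne (PrimeSpectrum.comap_injective_of_surjective _
        _root_.Ideal.Quotient.mk_surjective e)
    exact ⟨(((PrimeSpectrum.le_iff_specializes _ _).mp h.le).map (X.fromSpecStalk x).continuous),
      fun e => h.ne ((X.fromSpecStalk x).isEmbedding.injective e)⟩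
  obtain ⟨i, w, hw⟩ := ConnFibre.mem_component Γ hΓ _ (hz 0)
  have hcl : IsClosed (Set.range (Γ i).ι) := (Γ i).ι.isClosedEmbedding.isClosed_range
  obtain ⟨w1, hw1⟩ := (hlt 0 1 (by decide)).1.mem_closed hcl ⟨w, hw⟩
  obtain ⟨w2, hw2⟩ := (hlt 0 2 (by decide)).1.mem_closed hcl ⟨w, hw⟩
  have h12 := hlt 1 2 (by decide)
  have h01 := hlt 0 1 (by decide)
  have hsp12 : w1 ⤳ w2 := (Γ i).ι.isClosedEmbedding.isInducing.specializes_iff.mp (hw1.symm ▸ hw2.symm ▸ h12.1)
  have hsp01 : w ⤳ w1 := (Γ i).ι.isClosedEmbedding.isInducing.specializes_iff.mp (hw.symm ▸ hw1.symm ▸ h01.1)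
  rcases SmoothCurve.Curve.eq_genericPoint_or_isClosed (Γ i).dim_eq w1 with h | h
  · have hww : w = w1 := (hsp01.antisymm (h ▸ genericPoint_specializes w)).eq
    exact h01.2 (by rw [← hw, ← hw1, hww])
  · have : w2 ∈ ({w1} : Set (Γ i).curve.left) := hsp12.mem_closed h rfl
    exact h12.2 (by rw [← hw1, ← hw2, Set.mem_singleton_iff.mp this])

/-- The generic fibre is a smooth proper curve. -/
theorem isSmoothProperCurve [IsProper f] [Smooth f]
    (h0 : Models.hRank (FractionRing R) C f (Coh.structureModule C) 0 = 1)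
    (hg1 : 0 < Models.curveGenus (FractionRing R) C f)
    (hX : Models.IsRegularProperModel R X p C f) {n : ℕ} (Γ : Fin n → ArSurf.VertComp R (Over.mk p))
    (hΓ : Models.IsComponentList R (Over.mk p) Γ) :
    Curve.IsSmoothProperCurve (FractionRing R) C f ∧ IsIso f.appTop := by
  obtain ⟨hiso, hconn⟩ := of_hRank_one f h0
  haveI := hconn
  haveI : AlgebraicGeometry.IsIntegral C := RG.GeomComp.isIntegral_of_smooth_connected f
  refine ⟨⟨inferInstance, inferInstance, inferInstance, le_antisymm ?_ ?_⟩, hiso⟩
  · obtain ⟨⟨hflat, -, -, g, hg⟩, hp, -⟩ := hX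
    haveI := hp
    haveI := hflat
    haveI := SmoothGeneric.isOpenImmersion_gK hg
    haveI : IsLocallyNoetherian X := LocallyOfFiniteType.isLocallyNoetherian p
    rw [topologicalKrullDim, Order.krullDim_eq_of_orderIso (irreducibleSetEquivPoints (α := C))]
    refine iSup_le fun s => ?_
    by_contra hlong
    have hlen : 2 ≤ s.length := by
      by_contra h
      exact hlong (by exact_mod_cast Nat.le_of_lt_succ (not_le.mp h))
    let c : Fin 3 → C := fun i => s ⟨i.1, by omega⟩
    have hc : ∀ a b : Fin 3, a < b → c b ⤳ c a ∧ c a ≠ c b := fun a b hab =>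
      ⟨(s.strictMono (show (⟨a.1, by omega⟩ : Fin (s.length + 1)) < ⟨b.1, by omega⟩ from hab)).le,
        (s.strictMono (show (⟨a.1, by omega⟩ : Fin (s.length + 1)) < ⟨b.1, by omega⟩ from hab)).ne⟩
    -- a point of the closed fibre below `g (c 0)`
    have hcl := (p.isClosedMap _ (isClosed_closure (s := {g (c 0)})))
    obtain ⟨x, hx, hpx⟩ := (IsLocalRing.specializes_closedPoint (p (g (c 0)))).mem_closed hcl
      ⟨g (c 0), subset_closure rfl, rfl⟩
    have hgx : g (c 0) ⤳ x := specializes_iff_mem_closure.mpr hx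
    have hne0 : g (c 0) ≠ x := fun e => by
      have h1 : p x = Spec.map (CommRingCat.ofHom (algebraMap R (FractionRing R))) (f (c 0)) := by
        rw [← e, ← Scheme.Hom.comp_apply, hg.w, Scheme.Hom.comp_apply]
      rw [hpx] at h1
      obtain ⟨π, hπ⟩ := IsDiscreteValuationRing.exists_irreducible R
      have h2 : algebraMap R (FractionRing R) π ∈ (f (c 0)).asIdeal := by
        have := hπ.maximalIdeal_eq.ge (_root_.Ideal.mem_span_singleton_self π)
        exact (congrArg PrimeSpectrum.asIdeal h1).le this
      exact (f (c 0)).2.ne_top (_root_.Ideal.eq_top_of_isUnit_mem _ h2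
        (IsUnit.mk0 _ fun h => hπ.ne_zero (IsFractionRing.injective R (FractionRing R) (h.trans (map_zero _).symm))))
    have hsp : ∀ i, g (c i) ⤳ x := fun i => by
      rcases eq_or_ne i 0 with rfl | h
      · exact hgx
      · exact ((hc 0 i (Fin.pos_iff_ne_zero.mpr h)).1.map g.continuous).trans hgx
    have hmem : ∀ y, y ⤳ x → ∃ q : PrimeSpectrum (X.presheaf.stalk x), X.fromSpecStalk x q = y := fun y hy => by
      have : y ∈ Set.range (X.fromSpecStalk x) := by rw [Scheme.range_fromSpecStalk]; exact hy
      exact this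
    choose q hq using fun i => hmem _ (hsp i)
    obtain ⟨q₀, hq₀⟩ := hmem x specializes_rfl
    have hlt : ∀ (a b : PrimeSpectrum (X.presheaf.stalk x)), X.fromSpecStalk x a ⤳ X.fromSpecStalk x b →
        X.fromSpecStalk x a ≠ X.fromSpecStalk x b → a < b := fun a b h hne =>
      lt_of_le_of_ne ((PrimeSpectrum.le_iff_specializes _ _).mpr
        ((X.fromSpecStalk x).isEmbedding.isInducing.specializes_iff.mp h)) fun e => hne (by rw [e])
    have hinj : ∀ a b : Fin 3, a < b → q b < q a := fun a b hab => hlt (q b) (q a)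
      (by rw [hq, hq]; exact (hc a b hab).1.map g.continuous)
      (by rw [hq, hq]; exact fun e => (hc a b hab).2 (g.isOpenEmbedding.injective e).symm)
    have hlast : q 0 < q₀ := hlt (q 0) q₀ (by rw [hq, hq₀]; exact hgx) (by rw [hq, hq₀]; exact hne0)
    let t : LTSeries (PrimeSpectrum (X.presheaf.stalk x)) :=
      ⟨3, ![q 2, q 1, q 0, q₀], fun i => by
        fin_cases i
        · exact hinj 1 2 (by decide)
        · exact hinj 0 1 (by decide)
        · exact hlast⟩
    have h3 : ((3 : ℕ) : WithBot ℕ∞) ≤ ringKrullDim (X.presheaf.stalk x) := Order.LTSeries.length_le_krullDim t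
    exact absurd (h3.trans (ringKrullDim_stalk_le_two Γ hΓ x hpx)) (by decide)
  · letI : C.Over (Spec (CommRingCat.of (FractionRing R))) := ⟨f⟩
    haveI : IsProper (C ↘ Spec (CommRingCat.of (FractionRing R))) := ‹IsProper f›
    by_contra hlt
    haveI := Curves.GlobalSections.noetherianSpace_of_proper (FractionRing R) C
    have hd : topologicalKrullDim C ≤ ((0 : ℕ) : WithBot ℕ∞) := by
      rcases eq_bot_or_bot_lt (topologicalKrullDim C) with h | h
      · rw [h]; exact bot_le
      · obtain ⟨a, ha⟩ := WithBot.ne_bot_iff_exists.mp h.ne'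
        rw [← ha] at hlt ⊢
        have : a < 1 := WithBot.coe_lt_coe.mp (not_le.mp hlt)
        exact WithBot.coe_le_coe.mpr (Order.lt_one_iff.mp this).le
    haveI := Snapper.Chi.subsingleton_HH_of_lt hd (Coh.structureModule C) (show 0 < 1 by norm_num)
    have : Models.curveGenus (FractionRing R) C f = 0 := by
      unfold Models.curveGenus Models.hRank
      exact Module.finrank_zero_of_subsingleton
    omega

end

end Groth.Agent.Lib.ModelFibre.CurveOfModel
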