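import Mathlib

/-!
# Cutting a module by a regular sequence near a general closed point of a component of its support
-/

universe u v

open RingTheory.Sequence Function
open scoped Pointwise

namespace Groth.Agent.Lib.ModelFibre.CutModule

variable {A : Type u} [CommRing A]

/-- A sequence regular on both ends of a short exact sequence is regular on the middle, and the lengths of
the quotients add. -/
theorem ses_regular : ∀ (rs : List A) {M₁ M₂ M₃ : Type v} [AddCommGroup M₁] [Module A M₁]
    [AddCommGroup M₂] [Module A M₂] [AddCommGroup M₃] [Module A M₃]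
    (f : M₁ →ₗ[A] M₂) (g : M₂ →ₗ[A] M₃), Injective f → Surjective g → Exact f g →
    IsWeaklyRegular M₁ rs → IsWeaklyRegular M₃ rs →
    IsWeaklyRegular M₂ rs ∧ Module.length A (M₂ ⧸ (Ideal.ofList rs • ⊤ : Submodule A M₂)) =
      Module.length A (M₁ ⧸ (Ideal.ofList rs • ⊤ : Submodule A M₁)) +
        Module.length A (M₃ ⧸ (Ideal.ofList rs • ⊤ : Submodule A M₃)) := by
  intro rs
  induction rs with
  | nil =>
    intro M₁ M₂ M₃ _ _ _ _ _ _ f g hf hg hex _ _
    refine ⟨IsWeaklyRegular.nil A M₂, ?_⟩
    have e : ∀ (M : Type v) [AddCommGroup M] [Module A M],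
        Module.length A (M ⧸ (Ideal.ofList ([] : List A) • ⊤ : Submodule A M)) = Module.length A M :=
      fun M _ _ => (Submodule.quotEquivOfEqBot _ (by simp)).length_eq
    rw [e, e, e]
    exact Module.length_eq_add_of_exact f g hf hg hex
  | cons r rs ih =>
    intro M₁ M₂ M₃ _ _ _ _ _ _ f g hf hg hex h₁ h₃
    rw [isWeaklyRegular_cons_iff] at h₁ h₃
    have hr : IsSMulRegular M₂ r := by
      intro x y hxy
      have h : r • (x - y) = 0 := by rw [smul_sub]; exact sub_eq_zero.2 hxy
      have h' : g (x - y) = 0 := h₃.1 (show r • g (x - y) = r • (0 : M₃) by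
        rw [← map_smul, h, map_zero, smul_zero])
      obtain ⟨z, hz⟩ := (hex _).1 h'
      have : z = 0 := h₁.1 (hf (show f (r • z) = f (r • (0 : M₁)) by
        rw [map_smul, hz, h, smul_zero, map_zero]))
      rw [this, map_zero] at hz
      exact sub_eq_zero.1 hz.symm
    have hf' : Injective (QuotSMulTop.map r f) := by
      have h0 : Exact (0 : PUnit.{v + 1} →ₗ[A] M₁) f :=
        (LinearMap.exact_zero_iff_injective _ _).2 hf
      have := QuotSMulTop.map_first_exact_on_four_term_exact_of_isSMulRegular_last h0 hex h₃.1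
      rw [map_zero] at this
      exact (LinearMap.exact_zero_iff_injective _ _).1 this
    obtain ⟨h, hlen⟩ := ih (QuotSMulTop.map r f) (QuotSMulTop.map r g) hf'
      (QuotSMulTop.map_surjective r hg) (QuotSMulTop.map_exact r hex hg) h₁.2 h₃.2
    refine ⟨(isWeaklyRegular_cons_iff _ _ _).2 ⟨hr, h⟩, ?_⟩
    rw [(Submodule.quotOfListConsSMulTopEquivQuotSMulTopInner M₁ r rs).length_eq,
      (Submodule.quotOfListConsSMulTopEquivQuotSMulTopInner M₂ r rs).length_eq,
      (Submodule.quotOfListConsSMulTopEquivQuotSMulTopInner M₃ r rs).length_eq]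
    exact hlen

/-- Every sequence is weakly regular on the zero module. -/
theorem isWeaklyRegular_of_subsingleton (rs : List A) (M : Type v) [AddCommGroup M] [Module A M]
    [Subsingleton M] : IsWeaklyRegular M rs :=
  (isWeaklyRegular_iff_Fin _ _).2 fun i x y _ => Subsingleton.elim x y

section Loc

variable (S : Submonoid A) {M M' : Type*} [AddCommGroup M] [Module A M] [AddCommGroup M'] [Module A M']
  (f : M →ₗ[A] M') [IsLocalizedModule S f] (J : Ideal A)

/-- The map `M/JM → M'/JM'` induced by a localization map. -/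
noncomputable def quotMap :
    M ⧸ (J • ⊤ : Submodule A M) →ₗ[A] M' ⧸ (J • ⊤ : Submodule A M') :=
  Submodule.mapQ _ _ f (Submodule.smul_top_le_comap_smul_top J f)

/-- Localization commutes with reduction modulo an ideal. -/
instance isLocalizedModule_quotMap : IsLocalizedModule S (quotMap f J) where
  map_units s := by
    rw [Module.End.isUnit_iff]
    have hu := (Module.End.isUnit_iff _).1 (IsLocalizedModule.map_units f s)
    refine ⟨fun a b h => ?_, fun b => ?_⟩
    · obtain ⟨a, rfl⟩ := Submodule.Quotient.mk_surjective _ a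
      obtain ⟨b, rfl⟩ := Submodule.Quotient.mk_surjective _ b
      rw [Submodule.Quotient.eq]
      simp only [Module.algebraMap_end_apply, ← Submodule.Quotient.mk_smul,
        Submodule.Quotient.eq, ← smul_sub] at h
      let e := LinearEquiv.ofBijective ((algebraMap A (Module.End A M')) s : M' →ₗ[A] M') hu
      have h2 := Submodule.smul_top_le_comap_smul_top J e.symm.toLinearMap h
      have h3 : e.symm ((s : A) • (a - b)) = a - b := e.symm_apply_apply (a - b)
      rw [Submodule.mem_comap] at h2
      rwa [show e.symm.toLinearMap ((s : A) • (a - b)) = a - b from h3] at h2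
    · obtain ⟨b, rfl⟩ := Submodule.Quotient.mk_surjective _ b
      obtain ⟨a, ha⟩ := hu.2 b
      exact ⟨Submodule.Quotient.mk a, congrArg Submodule.Quotient.mk ha⟩
  surj y := by
    obtain ⟨y, rfl⟩ := Submodule.Quotient.mk_surjective _ y
    obtain ⟨⟨x, s⟩, h⟩ := IsLocalizedModule.surj S f y
    exact ⟨⟨Submodule.Quotient.mk x, s⟩, congrArg Submodule.Quotient.mk h⟩
  exists_of_eq {x y} h := by
    obtain ⟨x, rfl⟩ := Submodule.Quotient.mk_surjective _ x
    obtain ⟨y, rfl⟩ := Submodule.Quotient.mk_surjective _ y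
    have h' : f (x - y) ∈ (J • ⊤ : Submodule A M') := by
      rw [map_sub, ← Submodule.Quotient.eq]; exact h
    have key : ∀ z ∈ (J • ⊤ : Submodule A M'),
        ∃ (s : S) (w : M), w ∈ (J • ⊤ : Submodule A M) ∧ (s : A) • z = f w := by
      intro z hz
      refine Submodule.smul_induction_on hz (fun a ha m _ => ?_) fun z₁ z₂ h₁ h₂ => ?_
      · obtain ⟨⟨w, s⟩, hw⟩ := IsLocalizedModule.surj S f m
        refine ⟨s, a • w, Submodule.smul_mem_smul ha trivial, ?_⟩
        rw [map_smul, ← hw, smul_comm, Submonoid.smul_def]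
      · obtain ⟨s₁, w₁, hw₁, e₁⟩ := h₁
        obtain ⟨s₂, w₂, hw₂, e₂⟩ := h₂
        refine ⟨s₁ * s₂, (s₂ : A) • w₁ + (s₁ : A) • w₂,
          add_mem (Submodule.smul_mem _ _ hw₁) (Submodule.smul_mem _ _ hw₂), ?_⟩
        rw [map_add, map_smul, map_smul, ← e₁, ← e₂, smul_smul, smul_smul, smul_add,
          Submonoid.coe_mul, mul_comm (s₂ : A)]
    obtain ⟨s, w, hw, e⟩ := key _ h'
    rw [← map_smul] at e
    obtain ⟨c, hc⟩ := IsLocalizedModule.exists_of_eq (S := S) (f := f) e
    refine ⟨c * s, ?_⟩
    simp only [Submonoid.smul_def, Submonoid.coe_mul]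
    rw [← Submodule.Quotient.mk_smul, ← Submodule.Quotient.mk_smul, Submodule.Quotient.eq, ← smul_sub,
      mul_smul]
    rw [Submonoid.smul_def, Submonoid.smul_def] at hc
    rw [hc]
    exact Submodule.smul_mem _ _ hw

end Loc

/-- Over a subring through which all the relevant residue rings have length one, lengths agree. -/
theorem length_eq_of_residue {R : Type*} [CommRing R] [Algebra R A] (I : Ideal A)
    (h : ∀ n : Ideal A, n.IsMaximal → I ≤ n → Module.length R (A ⧸ n) = 1)
    (M : Type v) [AddCommGroup M] [Module A M] (hM : IsFiniteLength A M) :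
    ∀ [Module R M] [IsScalarTower R A M], (∀ a ∈ I, ∀ x : M, a • x = 0) →
      Module.length R M = Module.length A M := by
  induction hM with
  | of_subsingleton => intros; rw [Module.length_eq_zero, Module.length_eq_zero]
  | @of_simple_quotient M _ _ N hs _ ih =>
    intro _ _ hI
    rw [Module.length_eq_add_of_exact (R := A) N.subtype N.mkQ (Submodule.injective_subtype _)
      (Submodule.mkQ_surjective _) (LinearMap.exact_subtype_mkQ _),
      Module.length_eq_add_of_exact (R := R) (N.subtype.restrictScalars R) (N.mkQ.restrictScalars R)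
      (Submodule.injective_subtype _) (Submodule.mkQ_surjective _) (LinearMap.exact_subtype_mkQ _),
      ih (fun a ha x => Subtype.ext (hI a ha x))]
    congr 1
    obtain ⟨n, hn, ⟨e⟩⟩ := isSimpleModule_iff_quot_maximal.1 hs
    have hle : I ≤ n := fun a ha => by
      obtain ⟨x, hx⟩ := e.surjective (1 : A ⧸ n)
      obtain ⟨x, rfl⟩ := Submodule.Quotient.mk_surjective _ x
      have h0 : e (a • Submodule.Quotient.mk x) = 0 := by
        rw [← Submodule.Quotient.mk_smul, hI a ha, Submodule.Quotient.mk_zero, map_zero]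
      rw [map_smul, hx, Algebra.smul_def, mul_one] at h0
      exact Ideal.Quotient.eq_zero_iff_mem.1 h0
    rw [Module.length_eq_one A (M ⧸ N), (e.restrictScalars R).length_eq, h n hn hle]

/-- An equivalence of modules localizes. -/
noncomputable def locEquiv (S : Submonoid A) {N N' : Type*} [AddCommGroup N] [Module A N]
    [AddCommGroup N'] [Module A N'] (e : N ≃ₗ[A] N') :
    LocalizedModule S N ≃ₗ[Localization S] LocalizedModule S N' :=
  LinearEquiv.ofBijective (LocalizedModule.map S e.toLinearMap)
    ⟨LocalizedModule.map_injective S _ e.injective, LocalizedModule.map_surjective S _ e.surjective⟩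

lemma length_localized_self (P : Ideal A) [P.IsPrime] :
    Module.length (Localization.AtPrime P) (LocalizedModule P.primeCompl (A ⧸ P)) = 1 := by
  let L := Localization.AtPrime P
  let e0 : (A ⧸ (P • ⊤ : Submodule A A)) ≃ₗ[A] (A ⧸ P) :=
    Submodule.quotEquivOfEq _ _ (by simp)
  let q := quotMap (Algebra.linearMap A L) P
  have hq : IsLocalizedModule P.primeCompl q := inferInstance
  let e1 := IsLocalizedModule.linearEquiv P.primeCompl
    (LocalizedModule.mkLinearMap P.primeCompl (A ⧸ (P • ⊤ : Submodule A A))) q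
  let e2 : (L ⧸ (P • ⊤ : Submodule A L)) ≃ₗ[A] (L ⧸ IsLocalRing.maximalIdeal L) :=
    (Submodule.quotEquivOfEq _ ((IsLocalRing.maximalIdeal L).restrictScalars A)
      (by rw [Ideal.smul_top_eq_map, Localization.AtPrime.map_eq_maximalIdeal])).trans
      (Submodule.Quotient.restrictScalarsEquiv A (IsLocalRing.maximalIdeal L))
  rw [((locEquiv P.primeCompl e0.symm).length_eq),
    ((e1.trans e2).extendScalarsOfIsLocalization P.primeCompl L).length_eq]
  rw [Module.length_eq_one_iff]
  exact isSimpleModule_iff_quot_maximal.2 ⟨IsLocalRing.maximalIdeal L, inferInstance, ⟨LinearEquiv.refl _ _⟩⟩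

variable [IsNoetherianRing A] (π : A) (P : Ideal A) [P.IsPrime]

/-- The conclusion of `exists_open_cut` for one closed point. -/
def CutsAt (N : Type u) [AddCommGroup N] [Module A N] (𝔐 : Ideal A) [𝔐.IsPrime] (rs : List A) : Prop :=
  IsWeaklyRegular (LocalizedModule 𝔐.primeCompl N) rs ∧
    Module.length A (LocalizedModule 𝔐.primeCompl N ⧸
      (Ideal.ofList rs • ⊤ : Submodule A (LocalizedModule 𝔐.primeCompl N))) =
      Module.length (Localization.AtPrime P) (LocalizedModule P.primeCompl N)

/-- Let `P` be minimal among the primes containing `π` and `N` a finite module killed by `π`. Near a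
general closed point, a sequence that is regular on `A/P` with quotient of length one is regular on `N`
and cuts it down to a module whose length is the length of `N` at `P`. -/
theorem exists_open_cut (hmin : ∀ p : Ideal A, p.IsPrime → π ∈ p → p ≤ P → p = P)
    (N : Type u) [AddCommGroup N] [Module A N] [Module.Finite A N] :
    (∀ x : N, π • x = 0) → ∃ g ∉ P, ∀ (𝔐 : Ideal A) [𝔐.IsMaximal], g ∉ 𝔐 → ∀ rs : List A,
      IsWeaklyRegular (LocalizedModule 𝔐.primeCompl (A ⧸ P)) rs →
      Module.length A (LocalizedModule 𝔐.primeCompl (A ⧸ P) ⧸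
        (Ideal.ofList rs • ⊤ : Submodule A (LocalizedModule 𝔐.primeCompl (A ⧸ P)))) = 1 →
      CutsAt P N 𝔐 rs := by
  induction ‹Module.Finite A N› using IsNoetherianRing.induction_on_isQuotientEquivQuotientPrime A with
  | subsingleton N =>
    intro _
    refine ⟨1, fun h => Ideal.IsPrime.ne_top ‹_› (P.eq_top_iff_one.2 h), fun 𝔐 _ _ rs _ _ => ?_⟩
    exact ⟨isWeaklyRegular_of_subsingleton _ _, by rw [Module.length_eq_zero, Module.length_eq_zero]⟩
  | quotient N p e =>
    intro hN
    have hp : π ∈ p.1 := by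
      have h : π • (Ideal.Quotient.mk p.1 1 : A ⧸ p.1) = 0 := by
        rw [← e.apply_symm_apply (Ideal.Quotient.mk p.1 1), ← map_smul, hN, map_zero]
      rw [Algebra.smul_def, map_one, mul_one] at h
      exact Ideal.Quotient.eq_zero_iff_mem.1 h
    by_cases hpP : p.1 = P
    · refine ⟨1, fun h => Ideal.IsPrime.ne_top ‹_› (P.eq_top_iff_one.2 h), fun 𝔐 _ _ rs h1 h2 => ?_⟩
      let e' : N ≃ₗ[A] (A ⧸ P) := e.trans (Submodule.quotEquivOfEq _ _ hpP)
      let E := (locEquiv 𝔐.primeCompl e').restrictScalars A
      refine ⟨(E.isWeaklyRegular_congr rs).2 h1, ?_⟩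
      rw [(locEquiv P.primeCompl e').length_eq, length_localized_self, ← h2]
      exact (Submodule.Quotient.equiv _ _ E (by rw [Submodule.map_smul'', Submodule.map_top,
        LinearEquiv.range])).length_eq
    · obtain ⟨g, hgp, hgP⟩ := SetLike.not_le_iff_exists.1 fun h => hpP (hmin p.1 p.2 hp h)
      refine ⟨g, hgP, fun 𝔐 _ hg rs _ _ => ?_⟩
      have hsub : ∀ (Q : Ideal A) [Q.IsPrime], g ∉ Q → Subsingleton (LocalizedModule Q.primeCompl N) := by
        intro Q _ hQ
        rw [LocalizedModule.subsingleton_iff]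
        exact fun x => ⟨g, hQ, e.injective (by
          rw [map_smul, map_zero]
          obtain ⟨a, ha⟩ := Ideal.Quotient.mk_surjective (e x)
          rw [← ha, Algebra.smul_def, Ideal.Quotient.algebraMap_eq, ← map_mul,
            Ideal.Quotient.eq_zero_iff_mem]
          exact p.1.mul_mem_right _ hgp)⟩
      have := hsub 𝔐 hg
      have := hsub P hgP
      exact ⟨isWeaklyRegular_of_subsingleton _ _, by rw [Module.length_eq_zero, Module.length_eq_zero]⟩
  | exact N₁ N₂ N₃ f g hf hg hex ih₁ ih₃ =>
    intro hN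
    obtain ⟨g₁, hg₁, H₁⟩ := ih₁ fun x => hf (by rw [map_smul, hN, map_zero])
    obtain ⟨g₃, hg₃, H₃⟩ := ih₃ fun x => by
      obtain ⟨x, rfl⟩ := hg x
      rw [← map_smul, hN, map_zero]
    refine ⟨g₁ * g₃, fun h => ((Ideal.IsPrime.mem_or_mem ‹_› h).elim hg₁ hg₃),
      fun 𝔐 _ hg' rs h1 h2 => ?_⟩
    obtain ⟨r₁, l₁⟩ := H₁ 𝔐 (fun h => hg' (𝔐.mul_mem_right _ h)) rs h1 h2
    obtain ⟨r₃, l₃⟩ := H₃ 𝔐 (fun h => hg' (𝔐.mul_mem_left _ h)) rs h1 h2
    obtain ⟨r, l⟩ := ses_regular rs
      ((LocalizedModule.map 𝔐.primeCompl f).restrictScalars A)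
      ((LocalizedModule.map 𝔐.primeCompl g).restrictScalars A)
      (LocalizedModule.map_injective _ f hf) (LocalizedModule.map_surjective _ g hg)
      (LocalizedModule.map_exact _ f g hex) r₁ r₃
    refine ⟨r, l.trans ?_⟩
    rw [l₁, l₃, Module.length_eq_add_of_exact (LocalizedModule.map P.primeCompl f)
      (LocalizedModule.map P.primeCompl g)
      (LocalizedModule.map_injective _ f hf) (LocalizedModule.map_surjective _ g hg)
      (LocalizedModule.map_exact _ f g hex)]

end Groth.Agent.Lib.ModelFibre.CutModule
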