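import Groth.Agent.Lib.ModelFibre.DivisorField
import Groth.Agent.Lib.ModelFibre.ConstDiv

/-!
# Comparing a divisor with a larger one satisfying the climbing criterion
-/

set_option linter.style.haveILetI false

universe u

open CategoryTheory Limits AlgebraicGeometry IsLocalRing Groth.Agent.Lib.ModelFibre

namespace Groth.Agent.Lib.ModelFibre.DivisorBound

open Groth.Agent.Lib

noncomputable section

variable {R : Type u} [CommRing R] [IsDomain R] [IsDiscreteValuationRing R]
  {X : Over (Spec (CommRingCat.of R))} (hX : Inter.IsSurf X) {n : ℕ}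
  (Γ : Fin n → ArSurf.VertComp R X)

include hX

/-- Adding a curve of positive intersection does not increase `H⁰` and changes `χ` by `w - h¹ - q`. -/
theorem step (L : Fin n → X.left.Modules)
    (hL : ∀ i, _root_.ClSub.IsInverseOf (L i) (_root_.ClSub.idealMod (Γ i).ι.ker))
    (a : Fin n → ℕ) (i : Fin n) (hpos : 0 < ∑ k, (a k : ℤ) * ArSurf.inter R X (L k) (Γ i)) :
    Models.lengthH R X (_root_.ClSub.quotMod (DivisorField.div Γ (a + Pi.single i 1))) 0 ≤
        Models.lengthH R X (_root_.ClSub.quotMod (DivisorField.div Γ a)) 0 ∧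
      LenEuler.chi R X (_root_.ClSub.quotMod (DivisorField.div Γ (a + Pi.single i 1))) =
        LenEuler.chi R X (_root_.ClSub.quotMod (DivisorField.div Γ a)) +
          ((Models.wdeg R X (Γ i) : ℤ) - Models.h1 R X (Γ i) -
            ∑ k, (a k : ℤ) * ArSurf.inter R X (L k) (Γ i)) ∧
      (Models.wdeg R X (Γ i) : ℤ) ≤ ∑ k, (a k : ℤ) * ArSurf.inter R X (L k) (Γ i) := by
  classical
  have hdiv : DivisorField.div Γ (a + Pi.single i 1) = DivisorField.div Γ a * (Γ i).ι.ker := by
    have h : (a + Pi.single i 1 : Fin n → ℕ) = fun k => a k + if k = i then 1 else 0 :=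
      funext fun k => by simp [Pi.single_apply]
    rw [h]
    exact EulerStep.prod_pow_add_single _ a i
  have hJ : ∑ j, (a j : ℤ) * EulerFormula.J Γ j i = -∑ k, (a k : ℤ) * ArSurf.inter R X (L k) (Γ i) := by
    rw [← Finset.sum_neg_distrib]
    exact Finset.sum_congr rfl fun k _ => by rw [EulerFormula.J_eq hX Γ hL]; ring
  refine ⟨?_, ?_, ?_⟩
  · rw [hdiv]
    obtain ⟨π, hπ⟩ := SurfInt.Seq.exists_descend (DivisorField.le_mul_left (DivisorField.div Γ a) (Γ i).ι.ker)
    have hinj : Function.Injective (Curves.LES.mapK R π 0) := by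
      rw [injective_iff_map_eq_zero]
      intro z hz
      by_contra hne
      have ht0 : π.app ⊤ (Curves.GlobalSections.h0Equiv _ z) = 0 := by
        refine (ProjKoszul.Regularity.h0Equiv_mapK (R := R) π z).symm.trans ?_
        rw [hz, map_zero]
        rfl
      have h := DivisorField.deg_nonneg_of_section hX Γ i hπ (Curves.GlobalSections.h0Equiv _ z)
        (fun h => hne ((AddEquiv.map_eq_zero_iff _).mp h)) ht0
      rw [hJ] at h
      omega
    unfold Models.lengthH
    exact ENat.toNat_le_toNat (Module.length_le_of_injective _ hinj) (EulerStep.finite_prod hX Γ a Finset.univ).1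
  · rw [hdiv]
    obtain ⟨-, hchi, -⟩ := EulerStep.step hX (Γ i) (EulerStep.isEffCartier_prod hX Γ a Finset.univ)
      (EulerStep.finite_prod hX Γ a Finset.univ)
    rw [hchi]
    congr 1
    rw [EulerStep.inter_prod hX Γ a (Γ i) Finset.univ]
    show ∑ j, (a j : ℤ) * EulerFormula.J Γ j i + _ = _
    rw [hJ]
    show _ + ((Models.wdeg R X (Γ i) : ℤ) - Models.h1 R X (Γ i)) = _
    ring
  · exact Int.le_of_dvd hpos (Finset.dvd_sum fun k _ => Dvd.dvd.mul_left (ConstDiv.wdeg_dvd_inter hX (Γ i) (L k)) _)

/-- Below a divisor `D` satisfying the criterion, `H⁰` does not decrease and `χ` does not increase downwards;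
strictly, if no last step is of exceptional type. -/
theorem compare (L : Fin n → X.left.Modules)
    (hL : ∀ i, _root_.ClSub.IsInverseOf (L i) (_root_.ClSub.idealMod (Γ i).ι.ker))
    {D : Fin n → ℕ} (hD : DivisorField.Climb Γ L D) (hn : 0 < n)
    (hnull : ∀ i, ∑ k, (D k : ℤ) * ArSurf.inter R X (L k) (Γ i) = 0)
    (hmin : ∀ i, ¬ (Models.h1 R X (Γ i) = 0 ∧ ArSurf.inter R X (L i) (Γ i) = -(Models.wdeg R X (Γ i) : ℤ))) :
    ∀ (N : ℕ) (a : Fin n → ℕ), (∀ i, a i ≤ D i) → (∀ i, 0 < a i) → (∑ i, (D i - a i) = N) →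
      Models.lengthH R X (_root_.ClSub.quotMod (DivisorField.div Γ D)) 0 ≤
          Models.lengthH R X (_root_.ClSub.quotMod (DivisorField.div Γ a)) 0 ∧
        LenEuler.chi R X (_root_.ClSub.quotMod (DivisorField.div Γ D)) ≤
          LenEuler.chi R X (_root_.ClSub.quotMod (DivisorField.div Γ a)) ∧
        (a ≠ D → LenEuler.chi R X (_root_.ClSub.quotMod (DivisorField.div Γ D)) <
          LenEuler.chi R X (_root_.ClSub.quotMod (DivisorField.div Γ a))) := by
  intro N
  induction N using Nat.strong_induction_on with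
  | _ N ih =>
    intro a hle hpos hN
    by_cases heq : a = D
    · subst heq
      exact ⟨le_rfl, le_rfl, fun h => absurd rfl h⟩
    obtain ⟨i, hi, hi'⟩ := hD a hle ⟨⟨0, hn⟩, hpos _⟩ heq
    classical
    obtain ⟨h0, hchi, hw⟩ := step hX Γ L hL a i hi'
    set b : Fin n → ℕ := a + Pi.single i 1 with hb
    have hbk : ∀ k, b k = a k + if k = i then 1 else 0 := fun k => by simp [hb, Pi.single_apply]
    have hle' : ∀ k, b k ≤ D k := fun k => by
      rw [hbk]
      split
      · subst k; omega
      · simpa using hle k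
    obtain ⟨h0', hchi', hstrict⟩ := ih (∑ k, (D k - b k)) (by
        rw [← hN]
        refine Finset.sum_lt_sum (fun k _ => ?_) ⟨i, Finset.mem_univ i, ?_⟩
        · rw [hbk]; omega
        · rw [hbk, if_pos rfl]; omega)
      b hle' (fun k => by rw [hbk]; have := hpos k; omega) rfl
    have hh : (0 : ℤ) ≤ Models.h1 R X (Γ i) := Int.natCast_nonneg _
    refine ⟨h0'.trans h0, by omega, fun _ => ?_⟩
    by_cases hlast : b = D
    · -- the last step
      have hsum : ∑ k, (a k : ℤ) * ArSurf.inter R X (L k) (Γ i) = -ArSurf.inter R X (L i) (Γ i) := by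
        refine eq_neg_iff_add_eq_zero.mpr (Eq.trans ?_ (hnull i))
        rw [← hlast]
        have hk : ∀ k, (b k : ℤ) * ArSurf.inter R X (L k) (Γ i) =
            (a k : ℤ) * ArSurf.inter R X (L k) (Γ i) + if k = i then ArSurf.inter R X (L i) (Γ i) else 0 :=
          fun k => by
            rw [hbk]
            split
            · subst k; push_cast; ring
            · simp
        rw [Finset.sum_congr rfl fun k _ => hk k, Finset.sum_add_distrib, Finset.sum_ite_eq' Finset.univ i,
          if_pos (Finset.mem_univ i)]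
      have hne : (Models.wdeg R X (Γ i) : ℤ) - Models.h1 R X (Γ i) -
          ∑ k, (a k : ℤ) * ArSurf.inter R X (L k) (Γ i) ≠ 0 := fun h => hmin i ⟨by omega, by omega⟩
      omega
    · have := hstrict hlast
      omega

end

end Groth.Agent.Lib.ModelFibre.DivisorBound
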