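import Groth.Agent.Lib.ModelFibre.DivisorField
import Mathlib.RingTheory.FiniteLength
import Mathlib.Data.Fin.Tuple.Basic

/-!
# Chains of divisors with a field of constants
-/

set_option linter.style.haveILetI false

universe u

open CategoryTheory Limits AlgebraicGeometry IsLocalRing Groth.Agent.Lib.ModelFibre

namespace Groth.Agent.Lib.ModelFibre.DivisorChain

open Groth.Agent.Lib

noncomputable section

variable {R : Type u} [CommRing R] [IsDomain R] [IsDiscreteValuationRing R]
  {X : Over (Spec (CommRingCat.of R))} (hX : Inter.IsSurf X) {n : ℕ}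
  (Γ : Fin n → ArSurf.VertComp R X)

include hX

theorem finite_ringHom (a : Fin n → ℕ) :
    ((((DivisorField.div Γ a).subschemeι ≫ X.hom).appTop.hom.comp
      (Scheme.ΓSpecIso (CommRingCat.of R)).inv.hom)).Finite := by
  set I := DivisorField.div Γ a
  let φ := (I.subschemeι ≫ X.hom).appTop.hom.comp (Scheme.ΓSpecIso (CommRingCat.of R)).inv.hom
  have hfin : Module.Finite R (Coh.HH X.left (_root_.ClSub.quotMod I) 0) := by
    haveI : IsNoetherian R (Coh.HH X.left (_root_.ClSub.quotMod I) 0) :=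
      (isFiniteLength_iff_isNoetherian_isArtinian.mp
        (Module.length_ne_top_iff.mp (EulerStep.finite_prod hX Γ a Finset.univ).1)).1
    infer_instance
  letI := Curves.GlobalSections.secModule R (_root_.ClSub.quotMod I)
  haveI : Module.Finite R ((_root_.ClSub.quotMod I).val.obj (Opposite.op ⊤) : Type u) :=
    Module.Finite.equiv (Curves.GlobalSections.h0Linear R (_root_.ClSub.quotMod I))
  letI : Algebra R Γ(I.subscheme, ⊤) := φ.toAlgebra
  let e : ((_root_.ClSub.quotMod I).val.obj (Opposite.op ⊤) : Type u) ≃ₗ[R] Γ(I.subscheme, ⊤) :=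
    { toFun := fun x => x
      invFun := fun x => x
      map_add' := fun _ _ => rfl
      map_smul' := fun _ _ => rfl
      left_inv := fun _ => rfl
      right_inv := fun _ => rfl }
  exact (Module.Finite.equiv e : Module.Finite R Γ(I.subscheme, ⊤))

theorem exists_chain (hdist : Function.Injective fun i => Set.range ((Γ i).ι.base : (Γ i).curve.left → X.left))
    (L : Fin n → X.left.Modules) (hL : ∀ i, _root_.ClSub.IsInverseOf (L i) (_root_.ClSub.idealMod (Γ i).ι.ker))
    {D : Fin n → ℕ} (hD : DivisorField.Climb Γ L D) (hn : 0 < n) :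
    ∀ (N : ℕ) (Z : Fin n → ℕ), (∀ i, Z i ≤ D i) → (∀ i, 0 < Z i) → DivisorField.Climb Γ L Z →
      (∑ i, (D i - Z i) = N) →
      ∃ (s : ℕ) (a : Fin (s + 1) → Fin n → ℕ), a 0 = Z ∧ a (Fin.last s) = D ∧
        (∀ j : Fin s, ∃ i, a j.succ = a j.castSucc + Pi.single i 1) ∧
        ∀ j, (∀ i, 0 < a j i) ∧ DivisorField.Climb Γ L (a j) := by
  intro N
  induction N using Nat.strong_induction_on with
  | _ N ih =>
    intro Z hle hpos hZ hN
    by_cases heq : Z = D
    · subst heq
      exact ⟨0, fun _ => Z, rfl, rfl, fun j => j.elim0, fun _ => ⟨hpos, hZ⟩⟩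
    obtain ⟨i, hi, hi'⟩ := hD Z hle ⟨⟨0, hn⟩, hpos _⟩ heq
    classical
    have hle' : ∀ k, (Z + Pi.single i 1 : Fin n → ℕ) k ≤ D k := fun k => by
      by_cases hk : k = i
      · subst hk; simp only [Pi.add_apply, Pi.single_eq_same]; omega
      · simp [hk, hle k]
    obtain ⟨s, a, h0, hlast, hstep, hall⟩ := ih (∑ k, (D k - (Z + Pi.single i 1 : Fin n → ℕ) k)) (by
        rw [← hN]
        refine Finset.sum_lt_sum (fun k _ => ?_) ⟨i, Finset.mem_univ i, ?_⟩
        · simp only [Pi.add_apply]; omega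
        · simp only [Pi.add_apply, Pi.single_eq_same]; omega)
      (Z + Pi.single i 1) hle' (fun k => by simp only [Pi.add_apply]; have := hpos k; omega)
      (DivisorField.climb_add hX Γ hdist L hL hpos hZ hi') rfl
    refine ⟨s + 1, Fin.cons Z a, rfl, ?_, fun j => ?_, fun j => ?_⟩
    · rw [← Fin.succ_last, Fin.cons_succ, hlast]
    · refine Fin.cases ⟨i, ?_⟩ (fun j => ?_) j
      · rw [Fin.castSucc_zero, Fin.cons_zero, Fin.cons_succ, h0]
      · obtain ⟨k, hk⟩ := hstep j
        exact ⟨k, by rw [Fin.cons_succ, ← Fin.succ_castSucc, Fin.cons_succ, hk]⟩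
    · refine Fin.cases ?_ (fun j => ?_) j
      · rw [Fin.cons_zero]; exact ⟨hpos, hZ⟩
      · rw [Fin.cons_succ]; exact hall j

end

end Groth.Agent.Lib.ModelFibre.DivisorChain
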