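import Groth.Agent.Lib.ModelFibre.EulerFibre

/-!
# Euler characteristics of vertical divisors; the genus formula
-/

set_option linter.style.haveILetI false

universe u

open CategoryTheory Limits AlgebraicGeometry IsLocalRing Groth.Agent.Lib.ModelFibre

namespace Groth.Agent.Lib.ModelFibre.EulerFormula

open Groth.Agent.Lib

noncomputable section

variable {R : Type u} [CommRing R] [IsDomain R] [IsDiscreteValuationRing R]
  {X : Over (Spec (CommRingCat.of R))} (hX : Inter.IsSurf X) {n : ℕ}
  (Γ : Fin n → ArSurf.VertComp R X) (hinj : Function.Injective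
    fun i => Set.range ((Γ i).ι.base : (Γ i).curve.left → X.left))

/-- `deg_{Γ_k} I(Γ_j)`. -/
def J (j k : Fin n) : ℤ := ArSurf.inter R X (_root_.ClSub.idealMod (Γ j).ι.ker) (Γ k)

include hX

theorem exists_inverses : ∃ L : Fin n → X.left.Modules,
    ∀ j, _root_.ClSub.IsInverseOf (L j) (_root_.ClSub.idealMod (Γ j).ι.ker) := by
  choose L hL using fun j => TensorMod.Invertible.exists_inverse
    (ClSub.Cartier.isInvertible_idealMod (Inter.isEffCartier hX (Γ j)))
  exact ⟨L, fun j => (hL j).2.map fun e => TensorMod.Basic.comm _ _ ≪≫ e⟩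

theorem J_eq {L : Fin n → X.left.Modules}
    (hL : ∀ j, _root_.ClSub.IsInverseOf (L j) (_root_.ClSub.idealMod (Γ j).ι.ker)) (j k : Fin n) :
    J Γ j k = - ArSurf.inter R X (L j) (Γ k) := by
  rw [Inter.inter_of_isInverseOf hX _
    (ClSub.Cartier.isInvertible_idealMod (Inter.isEffCartier hX (Γ j))) (hL j), neg_neg, J]

include hinj in
theorem J_symm (j k : Fin n) : J Γ j k = J Γ k j := by
  obtain ⟨L, hL⟩ := exists_inverses hX Γ
  by_cases h : j = k
  · rw [h]
  · rw [J_eq hX Γ hL, J_eq hX Γ hL, Inter.inter_symm hX (fun e => h (hinj e).symm) (hL k) (hL j)]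

include hinj in
/-- Twice the Euler characteristic of a vertical divisor. -/
theorem two_chi : ∀ (N : ℕ) (a : Fin n → ℕ), ∑ j, a j = N →
    2 * LenEuler.chi R X (_root_.ClSub.quotMod (∏ j, (Γ j).ι.ker ^ a j)) =
      (∑ j, (a j : ℤ) * (2 * EulerStep.chiΓ (Γ j) - J Γ j j)) +
        ∑ j, ∑ k, (a j : ℤ) * (a k : ℤ) * J Γ j k := by
  intro N
  induction N with
  | zero =>
    intro a ha
    have h0 : ∀ j, a j = 0 := fun j => (Finset.sum_eq_zero_iff.mp ha) j (Finset.mem_univ j)
    simp only [h0, pow_zero, Finset.prod_const_one, Nat.cast_zero, zero_mul, Finset.sum_const_zero,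
      add_zero]
    rw [show (1 : X.left.IdealSheafData) = ⊤ from rfl,
      (LenEuler.zero_of_id_eq_zero EulerStep.id_quotMod_top).2, mul_zero]
  | succ N ih =>
    intro a ha
    obtain ⟨i, hi⟩ : ∃ i, 0 < a i := by
      by_contra h
      push_neg at h
      rw [Finset.sum_eq_zero fun j _ => Nat.le_zero.mp (h j)] at ha
      omega
    let b : Fin n → ℕ := fun j => a j - if j = i then 1 else 0
    have hab : a = fun j => b j + if j = i then 1 else 0 := by
      funext j
      simp only [b]
      split
      · subst j; omega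
      · omega
    have hb : ∑ j, b j = N := by
      rw [hab] at ha
      simp only [Finset.sum_add_distrib, Finset.sum_ite_eq', Finset.mem_univ, if_true] at ha
      omega
    obtain ⟨-, hstep, -⟩ := EulerStep.step hX (Γ i) (EulerStep.isEffCartier_prod hX Γ b Finset.univ)
      (EulerStep.finite_prod hX Γ b Finset.univ)
    rw [EulerStep.inter_prod hX Γ b (Γ i)] at hstep
    change _ = _ + ((∑ j, (b j : ℤ) * J Γ j i) + _) at hstep
    rw [hab]
    simp only [EulerStep.prod_pow_add_single]
    rw [hstep, mul_add, ih b hb]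
    simp only [Nat.cast_add, Nat.cast_ite, Nat.cast_one, Nat.cast_zero, add_mul, mul_add,
      Finset.sum_add_distrib, ite_mul, mul_ite, one_mul, zero_mul, mul_one, mul_zero,
      Finset.sum_ite_eq', Finset.sum_ite_irrel, Finset.sum_const_zero, Finset.mem_univ, if_true]
    have hsym : ∑ j, (b j : ℤ) * J Γ i j = ∑ j, (b j : ℤ) * J Γ j i :=
      Finset.sum_congr rfl fun j _ => by rw [J_symm hX Γ hinj i j]
    rw [hsym]
    ring

end

end Groth.Agent.Lib.ModelFibre.EulerFormula
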