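import Groth.Agent.Lib.ModelFibre.HorizDiv
import Groth.Agent.Lib.ModelFibre.EulerFormula
import Groth.Agent.Lib.ModelFibre.RegPoint
import Groth.Agent.Lib.ModelFibre.ConnFibre
import Groth.Agent.Lib.Curves.PointIdeal
import Groth.Agent.Lib.CartierDescent.Stalk

/-!
# Line bundles of degree `δ_ij` on the components of the closed fibre
-/

set_option linter.style.haveILetI false

universe u

open CategoryTheory Limits AlgebraicGeometry IsLocalRing Groth.Agent.Lib.ModelFibre TopologicalSpace

namespace Groth.Agent.Lib.ModelFibre.DualDiv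

open Groth.Agent.Lib
open Groth.Agent.Lib.Ideal.Prime (stalkIdeal)

noncomputable section

/-- A closed point with regular one-dimensional local ring in a nonempty open of a curve. -/
theorem exists_regular_point {k : Type u} [Field k] [PerfectField k] {Y : Scheme.{u}} [IsIntegral Y]
    (c : Y ⟶ Spec (CommRingCat.of k)) [LocallyOfFiniteType c] (hdim : topologicalKrullDim Y = 1)
    (O : Y.Opens) (hO : genericPoint Y ∈ O) :
    ∃ y ∈ O, IsClosed ({y} : Set Y) ∧
      ∃ t : Y.presheaf.stalk y, t ≠ 0 ∧ _root_.Ideal.span {t} = maximalIdeal (Y.presheaf.stalk y) := by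
  haveI : IsLocallyNoetherian Y := LocallyOfFiniteType.isLocallyNoetherian c
  haveI : JacobsonSpace Y := LocallyOfFiniteType.jacobsonSpace c
  obtain ⟨V, hV, hgV, hVO⟩ := exists_isAffineOpen_mem_and_subset hO
  haveI : Nonempty V := ⟨⟨_, hgV⟩⟩
  let φ := (Scheme.ΓSpecIso (CommRingCat.of k)).inv ≫ c.appLE ⊤ V le_top
  have hφ : φ.hom.FiniteType := by
    have h := HasRingHomProperty.appLE @LocallyOfFiniteType c inferInstance ⟨⊤, isAffineOpen_top _⟩ ⟨V, hV⟩ le_top
    exact h.comp (RingHom.FiniteType.of_surjective _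
      (ConcreteCategory.bijective_of_isIso (Scheme.ΓSpecIso (CommRingCat.of k)).inv).2)
  letI : Algebra k Γ(Y, V) := φ.hom.toAlgebra
  haveI : Algebra.FiniteType k Γ(Y, V) := hφ
  obtain ⟨m, hm, -, hreg⟩ := RegPoint.exists_isRegularLocalRing (k := k) (C := Γ(Y, V)) (g := 1) one_ne_zero
  let q : PrimeSpectrum Γ(Y, V) := ⟨m, hm.isPrime⟩
  let y := hV.fromSpec q
  have hyV : y ∈ V := hV.range_fromSpec.le ⟨_, rfl⟩
  haveI : IsOpenImmersion hV.fromSpec := hV.isOpenImmersion_fromSpec
  have hy : hV.primeIdealOf ⟨y, hyV⟩ = q := by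
    apply hV.fromSpec.isOpenEmbedding.injective
    rw [hV.fromSpec_primeIdealOf]
  have hcl : IsClosed ({y} : Set Y) := by
    have h1 : IsClosed ({q} : Set (PrimeSpectrum Γ(Y, V))) := (PrimeSpectrum.isClosed_singleton_iff_isMaximal _).2 hm
    have h2 : q ∈ closedPoints (Spec Γ(Y, V)) := h1
    rw [← hV.fromSpec.isOpenEmbedding.preimage_closedPoints] at h2
    exact h2
  refine ⟨y, hVO hyV, hcl, ?_⟩
  letI := TopCat.Presheaf.algebra_section_stalk Y.presheaf (⟨y, hyV⟩ : V)
  haveI := hV.isLocalization_stalk ⟨y, hyV⟩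
  haveI : IsLocalization.AtPrime (Y.presheaf.stalk y) m := by
    have h := hV.isLocalization_stalk ⟨y, hyV⟩
    have e : (hV.primeIdealOf ⟨y, hyV⟩).asIdeal.primeCompl = m.primeCompl := by
      ext a
      show a ∉ (hV.primeIdealOf ⟨y, hyV⟩).asIdeal ↔ a ∉ m
      rw [hy]
    show IsLocalization m.primeCompl _
    exact e ▸ h
  haveI : IsRegularLocalRing (Y.presheaf.stalk y) := IsRegularLocalRing.of_ringEquiv
    (IsLocalization.algEquiv m.primeCompl (Localization.AtPrime m) (Y.presheaf.stalk y)).toRingEquiv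
  have hle : ringKrullDim (Y.presheaf.stalk y) ≤ 1 := (Cyc.TorPD.ringKrullDim_stalk_le y).trans hdim.le
  have hne : maximalIdeal (Y.presheaf.stalk y) ≠ ⊥ := fun h0 => by
    have hf : IsField (Y.presheaf.stalk y) := IsLocalRing.isField_iff_maximalIdeal_eq.2 h0
    have h1 : m = ⊥ := by
      rw [← IsLocalization.AtPrime.comap_maximalIdeal (Y.presheaf.stalk y) m, h0, eq_bot_iff]
      intro a ha
      exact (IsLocalization.injective (Y.presheaf.stalk y)
        (show m.primeCompl ≤ nonZeroDivisors _ from fun b (hb : b ∉ m) => mem_nonZeroDivisors_of_ne_zero fun e => hb (e ▸ m.zero_mem)) (ha.trans (map_zero _).symm))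
    have hyg : y = genericPoint Y := by
      have : q = hV.primeIdealOf ⟨genericPoint Y, hgV⟩ := PrimeSpectrum.ext (le_antisymm (h1.le.trans bot_le)
        (hy ▸ (Groth.Agent.Lib.AssPt.Basic.specializes_iff_primeIdealOf hV hyV hgV).1 (genericPoint_specializes y)))
      exact (congrArg hV.fromSpec this).trans (hV.fromSpec_primeIdealOf _)
    have huniv : ∀ z : Y, z = y := fun z => (hyg ▸ genericPoint_specializes z : y ⤳ z).mem_closed hcl rfl
    haveI : Subsingleton Y := ⟨fun a b => (huniv a).trans (huniv b).symm⟩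
    haveI : Subsingleton (IrreducibleCloseds Y) := ⟨fun A B => SetLike.coe_injective
      ((Subsingleton.eq_univ_of_nonempty A.isIrreducible.nonempty).trans
        (Subsingleton.eq_univ_of_nonempty B.isIrreducible.nonempty).symm)⟩
    have h := Order.krullDim_nonpos_of_subsingleton (α := IrreducibleCloseds Y)
    rw [show Order.krullDim (IrreducibleCloseds Y) = 1 from hdim] at h
    exact absurd h (by decide)
  have hspan := (isRegularLocalRing_iff (Y.presheaf.stalk y)).1 inferInstance
  have hs1 : (maximalIdeal (Y.presheaf.stalk y)).spanFinrank ≤ 1 := by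
    rw [← hspan] at hle; exact_mod_cast hle
  have hs0 : (maximalIdeal (Y.presheaf.stalk y)).spanFinrank ≠ 0 := fun h => hne
    ((Submodule.spanFinrank_eq_zero_iff_eq_bot (IsNoetherian.noetherian _)).1 h)
  have hprinc : (maximalIdeal (Y.presheaf.stalk y)).IsPrincipal :=
    ((Submodule.spanFinrank_eq_one_iff _).1 (by omega)).1
  obtain ⟨t, ht⟩ := hprinc.principal
  exact ⟨t, fun h0 => hne (by rw [ht, h0]; simp), ht.symm⟩

variable {R : Type u} [CommRing R] [IsDomain R] [IsDiscreteValuationRing R] [HenselianLocalRing R]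
  [IsAlgClosed (ResidueField R)] {X : Over (Spec (CommRingCat.of R))}

theorem exists_dual (hX : Inter.IsSurf X) (hdim : topologicalKrullDim X.left = 2)
    {n : ℕ} (Γ : Fin n → ArSurf.VertComp R X) (hΓ : Models.IsComponentList R X Γ) (i : Fin n) :
    ∃ M : X.left.Modules, PicF.IsInvertible M ∧
      ∀ j, ArSurf.inter R X M (Γ j) = if j = i then 1 else 0 := by
  classical
  haveI := hX.isIntegral
  haveI := hX.isProper
  haveI := hX.flat
  haveI : IsProper (Γ i).curve.hom := Inter.isProper_curve hX (Γ i)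
  -- the other components do not contain the generic point of `Γ i`
  let T : Set (Γ i).curve.left := ⋃ j ∈ ({i}ᶜ : Finset (Fin n)), (Γ i).ι ⁻¹' Set.range (Γ j).ι
  have hT : IsClosed T := Set.Finite.isClosed_biUnion (Finset.finite_toSet _)
    fun j _ => (Γ j).ι.isClosedEmbedding.isClosed_range.preimage (Γ i).ι.continuous
  have hgT : genericPoint (Γ i).curve.left ∉ T := fun h => by
    obtain ⟨j, hj, hmem⟩ := Set.mem_iUnion₂.1 h
    have hji : j ≠ i := by simpa using hj
    refine Inter.genPt_not_mem hX (Γ i) (Γ j) (fun e => hji (hΓ.1 e.symm)) ?_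
    rw [Scheme.Hom.support_ker]
    exact subset_closure hmem
  obtain ⟨y, hyT, hy, t, ht0, ht⟩ := exists_regular_point (Γ i).curve.hom (Γ i).dim_eq ⟨Tᶜ, hT.isOpen_compl⟩ hgT
  set x := (Γ i).ι y with hxdef
  have hx : IsClosed ({x} : Set X.left) := by
    rw [hxdef, ← Set.image_singleton]; exact (Γ i).ι.isClosedEmbedding.isClosedMap _ hy
  have hxs : x ∈ Models.specialFibreSet R X := (Inter.range_mem hX (Γ i)).1.2 ⟨y, rfl⟩
  have hxj : ∀ j, x ∈ Set.range (Γ j).ι → j = i := fun j hj => by
    by_contra hji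
    exact hyT (Set.mem_iUnion₂.2 ⟨j, by simpa using hji, hj⟩)
  -- the local equation
  obtain ⟨a, ha⟩ := (Γ i).ι.stalkMap_surjective y t
  obtain ⟨U, hU, hxU, -⟩ := exists_isAffineOpen_mem_and_subset (show x ∈ (⊤ : X.left.Opens) from trivial)
  letI := TopCat.Presheaf.algebra_section_stalk X.left.presheaf (⟨x, hxU⟩ : U)
  haveI := hU.isLocalization_stalk ⟨x, hxU⟩
  obtain ⟨⟨f, s⟩, hfs⟩ := IsLocalization.surj (hU.primeIdealOf ⟨x, hxU⟩).asIdeal.primeCompl a
  have hgt : _root_.Ideal.span {(Γ i).ι.stalkMap y (X.left.presheaf.germ U x hxU f)} =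
      maximalIdeal ((Γ i).curve.left.presheaf.stalk y) := by
    rw [← ht]
    have e : X.left.presheaf.germ U x hxU f = a * X.left.presheaf.germ U x hxU s.1 := hfs.symm
    rw [e, map_mul, ha]
    exact _root_.Ideal.span_singleton_mul_right_unit
      ((IsLocalization.map_units (X.left.presheaf.stalk x) s).map ((Γ i).ι.stalkMap y).hom) t
  set b := (Γ i).ι.app U f with hb
  have hby : ∀ (h : y ∈ (Γ i).ι ⁻¹ᵁ U),
      (Γ i).curve.left.presheaf.germ _ y h b = (Γ i).ι.stalkMap y (X.left.presheaf.germ U x hxU f) :=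
    fun h => (Scheme.Hom.germ_stalkMap_apply (Γ i).ι U y h f).symm
  have hfx : x ∉ X.left.basicOpen f := fun h => by
    rw [Scheme.mem_basicOpen X.left f x hxU] at h
    exact (maximalIdeal.isMaximal _).ne_top (hgt.symm.trans
      (_root_.Ideal.span_singleton_eq_top.2 (h.map ((Γ i).ι.stalkMap y).hom)))
  have hb0 : b ≠ 0 := fun h0 => ht0 (by
    have : t ∈ _root_.Ideal.span {(Γ i).ι.stalkMap y (X.left.presheaf.germ U x hxU f)} :=
      hgt.symm ▸ (ht ▸ _root_.Ideal.mem_span_singleton_self t)
    rw [← hby hxU, h0, map_zero, _root_.Ideal.span_singleton_zero, _root_.Ideal.mem_bot] at this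
    exact this)
  have hf : ∀ z ∈ Models.specialFibreSet R X, z ⤳ x → z ≠ x → z ∈ X.left.basicOpen f := by
    intro z hz hzx hne
    obtain ⟨j, w, hw⟩ := ConnFibre.mem_component Γ hΓ z hz
    have hxr : x ∈ Set.range (Γ j).ι := hzx.mem_closed (Γ j).ι.isClosedEmbedding.isClosed_range ⟨w, hw⟩
    obtain rfl := hxj j hxr
    rcases SmoothCurve.Curve.eq_genericPoint_or_isClosed (Γ j).dim_eq w with h | h
    · rw [← hw, h]
      have h1 : genericPoint (Γ j).curve.left ∈ (Γ j).ι ⁻¹ᵁ X.left.basicOpen f := by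
        rw [Scheme.preimage_basicOpen]
        obtain ⟨v, hv⟩ : ((Γ j).curve.left.basicOpen b : Set (Γ j).curve.left).Nonempty := by
          rw [Set.nonempty_iff_ne_empty]
          intro he
          exact hb0 ((basicOpen_eq_bot_iff b).1 (Opens.ext he))
        exact (genericPoint_specializes v).mem_open ((Γ j).curve.left.basicOpen b).2 hv
      exact h1
    · have hwy : w ⤳ y := (Γ j).ι.isClosedEmbedding.isInducing.specializes_iff.1 (hw.symm ▸ hzx)
      exact absurd (hw.symm.trans (congrArg (Γ j).ι (hwy.mem_closed h rfl).symm)) hne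
  obtain ⟨D, d, hd, -, hE, -, hR, hst⟩ := HorizDiv.exists_horizontal hdim x hx hxs hU hxU f hfx hf
  have hsupp : (d.ker.support : Set X.left) = Set.range d.base := by
    rw [Scheme.Hom.support_ker]; exact d.isClosedEmbedding.isClosed_range.closure_eq
  have hmeet : ∀ j, ∀ w : (Γ j).curve.left, (Γ j).ι w ∈ (d.ker.support : Set X.left) → (Γ j).ι w = x :=
    fun j w hw => hR.le ⟨hsupp ▸ hw, (Inter.range_mem hX (Γ j)).1.2 ⟨w, rfl⟩⟩
  have hyne : y ≠ genericPoint (Γ i).curve.left := fun e => by
    have huniv : ∀ w : (Γ i).curve.left, w = y := fun w =>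
      (e ▸ genericPoint_specializes w : y ⤳ w).mem_closed hy rfl
    haveI : Subsingleton (IrreducibleCloseds (Γ i).curve.left) := ⟨fun A B => by
      haveI : Subsingleton (Γ i).curve.left := ⟨fun a b => (huniv a).trans (huniv b).symm⟩
      exact SetLike.coe_injective ((Subsingleton.eq_univ_of_nonempty A.isIrreducible.nonempty).trans
        (Subsingleton.eq_univ_of_nonempty B.isIrreducible.nonempty).symm)⟩
    have h := Order.krullDim_nonpos_of_subsingleton (α := IrreducibleCloseds (Γ i).curve.left)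
    rw [show Order.krullDim (IrreducibleCloseds (Γ i).curve.left) = 1 from (Γ i).dim_eq] at h
    exact absurd h (by decide)
  have hgen : ∀ j, (Γ j).ι (genericPoint (Γ j).curve.left) ∉ (d.ker.support : Set X.left) := fun j hg => by
    have hgx := hmeet j _ hg
    obtain rfl := hxj j ⟨_, hgx⟩
    exact hyne ((Γ j).ι.isClosedEmbedding.injective hgx).symm
  obtain ⟨M, hM, ⟨eM⟩⟩ := TensorMod.Invertible.exists_inverse (ClSub.Cartier.isInvertible_idealMod hE)
  have hinv : _root_.ClSub.IsInverseOf M (_root_.ClSub.idealMod d.ker) := ⟨TensorMod.Basic.comm _ _ ≪≫ eM⟩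
  refine ⟨M, hM, fun j => ?_⟩
  split_ifs with hji
  · subst hji
    haveI : IsProper ((Γ j).curve.left ↘ Spec (CommRingCat.of (ResidueField R))) := Inter.isProper_curve hX (Γ j)
    rw [Inter.inter_of_isInverseOf hX _ (ClSub.Cartier.isInvertible_idealMod hE) hinv,
      Inter.inter_idealMod_eq hX _ hE (hgen j), neg_neg]
    have hJ : d.ker.comap (Γ j).ι = Curves.PointIdeal.ptI hy := by
      refine StalkIdeal.ext_of_stalkIdeal fun w => ?_
      by_cases hwy : w = y
      · subst hwy
        rw [CartierDescent.stalkIdeal_comap]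
        erw [hst]
        rw [_root_.Ideal.map_span, Set.image_singleton]
        refine hgt.trans ?_
        rw [← Curves.PointIdeal.ker_fromSpecResidueField]
        haveI : IsClosedImmersion ((Γ j).curve.left.fromSpecResidueField w) := by
          refine IsClosedImmersion.of_isPreimmersion _ ?_
          rw [Scheme.range_fromSpecResidueField]; exact hy
        have hw : ((Γ j).curve.left.fromSpecResidueField w)
            (genericPoint (Spec ((Γ j).curve.left.residueField w))) = w := by
          have : (Γ j).curve.left.fromSpecResidueField w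
              (genericPoint (Spec ((Γ j).curve.left.residueField w))) ∈
              Set.range ((Γ j).curve.left.fromSpecResidueField w) := ⟨_, rfl⟩
          rw [Scheme.range_fromSpecResidueField] at this
          exact this
        exact (StalkIdeal.stalkIdeal_ker ((Γ j).curve.left.fromSpecResidueField w) w
          (hw.symm ▸ specializes_rfl)).2 (closedPoint _)
          (((Γ j).curve.left.fromSpecStalk_closedPoint).trans hw.symm)
      · have h1 : w ∉ (Curves.PointIdeal.ptI hy).support := fun h =>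
          hwy (Set.mem_singleton_iff.1 ((Curves.PointIdeal.support_ptI hy).le h))
        rw [(StalkIdeal.stalkIdeal_eq_top_iff _ _).2 h1, StalkIdeal.stalkIdeal_eq_top_iff,
          ← SetLike.mem_coe, Scheme.IdealSheafData.support_comap]
        exact fun h => hwy ((Γ j).ι.isClosedEmbedding.injective (hmeet j w h))
    rw [hJ]
    have h1 := Curves.PointIdeal.hdim_quot_point_algClosed (k := ResidueField R) hy (Γ j).dim_eq.le
    exact_mod_cast h1
  · refine ((Inter.inter_nonneg hX (Γ j) hE (hgen j) hinv).2).2 (Set.disjoint_left.2 ?_)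
    rintro _ ⟨w, rfl⟩ hw
    exact hji (hxj j ⟨w, hmeet j w hw⟩)

end

end Groth.Agent.Lib.ModelFibre.DualDiv
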