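import Groth.Agent.Lib.ModelFibre.EulerStep
import Groth.Agent.Lib.ModelFibre.EulerAlg
import Groth.Agent.Lib.ModelFibre.GlobalFun
import Groth.Agent.Lib.CurveBundle.EndAlg
import Groth.Agent.Lib.ZarCoh.FlatBC.Equiv
import Groth.Agent.S0002

/-!
# The Euler characteristic of the closed fibre of a model is `1 - g`
-/

set_option linter.style.haveILetI false

universe u

open CategoryTheory Limits AlgebraicGeometry IsLocalRing Groth.Agent.Lib.ModelFibre TopologicalSpace

namespace Groth.Agent.Lib.ModelFibre.EulerFibre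

open Groth.Agent.Lib
open Groth.Agent.Lib.Ideal.Prime (stalkIdeal)

noncomputable section

variable {R : Type u} [CommRing R] [IsDomain R] [IsDiscreteValuationRing R]

section Surf

variable {X : Over (Spec (CommRingCat.of R))} (hX : Inter.IsSurf X) {n : ℕ}
  (Γ : Fin n → ArSurf.VertComp R X) (hΓ : Models.IsComponentList R X Γ)

/-- The ideal of the closed fibre. -/
def fibreIdeal : X.left.IdealSheafData := ∏ j, (Γ j).ι.ker ^ Models.mult R X (Γ j)

include hX hΓ

theorem stalk_fibreIdeal {π : R} (hπ : Irreducible π) (x : X.left) :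
    stalkIdeal (fibreIdeal Γ) x = _root_.Ideal.span {Stalk.baseHom X.hom x π} := by
  haveI := hX.flat
  classical
  have hcomp : ∀ i, Set.range ((Γ i).ι.base : (Γ i).curve.left → X.left) ∈ Models.fibreComponents R X :=
    fun i => hΓ.2 ▸ ⟨i, rfl⟩
  rw [(Components.stalk_structure X.hom hX.reg hπ Γ hcomp).2 hΓ.1
    (fun S hS => (hΓ.2.symm ▸ hS : S ∈ Set.range fun i => Set.range ((Γ i).ι.base : (Γ i).curve.left → X.left))) x]
  have hone : stalkIdeal (1 : X.left.IdealSheafData) x = 1 := by
    rw [_root_.Ideal.one_eq_top, StalkIdeal.stalkIdeal_eq_top_iff, show (1 : X.left.IdealSheafData) = ⊤ from rfl]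
    exact fun h => h
  have hpow : ∀ (I : X.left.IdealSheafData) (m : ℕ), stalkIdeal (I ^ m) x = stalkIdeal I x ^ m :=
    fun I m => by
      induction m with
      | zero => rw [pow_zero, pow_zero, hone]
      | succ m ih => rw [pow_succ, pow_succ, SurfInt.Mul.stalkIdeal_mul, ih]
  have : ∀ s : Finset (Fin n), stalkIdeal (∏ j ∈ s, (Γ j).ι.ker ^ Models.mult R X (Γ j)) x =
      ∏ i ∈ s, stalkIdeal (Γ i).ι.ker x ^ Models.mult R X (Γ i) := fun s => by
    induction s using Finset.induction_on with
    | empty => simp only [Finset.prod_empty]; exact hone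
    | @insert j s hj ih => simp only [Finset.prod_insert hj]; rw [SurfInt.Mul.stalkIdeal_mul, hpow, ih]
  exact this _

/-- `0 → O →π O → O_{X_k} → 0`. -/
theorem fibreSeq {π : R} (hπ : Irreducible π) :
    ∃ w, (ShortComplex.mk (CurveBundle.EndAlg.scal (Coh.structureModule X.left) (Coh.toGlobal X.hom π))
      (_root_.ClSub.toSubscheme (fibreIdeal Γ)) w).ShortExact := by
  haveI := hX.flat
  have hstalk : ∀ (x : X.left) (r : (Coh.structureModule X.left).presheaf.stalk x),
      Modules.StalkModule.stalkMapₗ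
        (CurveBundle.EndAlg.scal (Coh.structureModule X.left) (Coh.toGlobal X.hom π)) x r =
          Stalk.baseHom X.hom x π • r := fun x r => CurveBundle.EndAlg.stalk_scal _ _ x r
  have hq : ∀ (x : X.left) (r : X.left.presheaf.stalk x),
      Modules.StalkModule.stalkMapₗ (_root_.ClSub.toSubscheme (fibreIdeal Γ)) x
        ((SurfInt.Stalk.oStalk x).symm r) = SurfInt.Stalk.quotStalk (fibreIdeal Γ) x r := fun _ _ => rfl
  have w : CurveBundle.EndAlg.scal (Coh.structureModule X.left) (Coh.toGlobal X.hom π) ≫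
      _root_.ClSub.toSubscheme (fibreIdeal Γ) = 0 := by
    refine Modules.StalkModule.hom_ext_stalkMapₗ fun x => LinearMap.ext fun z => ?_
    obtain ⟨r, rfl⟩ := (SurfInt.Stalk.oStalk x).symm.surjective z
    rw [Modules.StalkModule.stalkMapₗ_comp, LinearMap.comp_apply, Modules.StalkModule.stalkMapₗ_zero,
      LinearMap.zero_apply, hstalk, ← map_smul, hq]
    refine LinearMap.mem_ker.mp ?_
    rw [SurfInt.Stalk.ker_quotStalk, stalk_fibreIdeal hX Γ hΓ hπ, smul_eq_mul]
    exact _root_.Ideal.mul_mem_right _ _ (_root_.Ideal.mem_span_singleton_self _)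
  refine ⟨w, ?_⟩
  haveI : Mono (CurveBundle.EndAlg.scal (Coh.structureModule X.left) (Coh.toGlobal X.hom π)) := by
    rw [Modules.StalkModule.mono_iff_stalkMapₗ_injective]
    intro x a b hab
    rw [hstalk, hstalk] at hab
    apply (SurfInt.Stalk.oStalk x).injective
    replace hab := congrArg (SurfInt.Stalk.oStalk x) hab
    rw [map_smul, map_smul] at hab
    exact Chart.isSMulRegular_baseHom X.hom x (IsRegular.of_ne_zero hπ.ne_zero) hab
  haveI := ClSub.Quot.epi_toSubscheme (fibreIdeal Γ)
  refine { exact := (Modules.Stalk.exact_iff_stalk _).mpr fun x => ?_ }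
  rw [ShortComplex.ab_exact_iff_function_exact]
  intro y
  change Modules.StalkModule.stalkMapₗ (_root_.ClSub.toSubscheme (fibreIdeal Γ)) x y = 0 ↔
    ∃ z, Modules.StalkModule.stalkMapₗ
      (CurveBundle.EndAlg.scal (Coh.structureModule X.left) (Coh.toGlobal X.hom π)) x z = y
  obtain ⟨r, rfl⟩ := (SurfInt.Stalk.oStalk x).symm.surjective y
  rw [hq, ← LinearMap.mem_ker, SurfInt.Stalk.ker_quotStalk, stalk_fibreIdeal hX Γ hΓ hπ,
    _root_.Ideal.mem_span_singleton']
  refine ⟨fun ⟨a, ha⟩ => ⟨(SurfInt.Stalk.oStalk x).symm a, ?_⟩, fun ⟨z, hz⟩ => ⟨SurfInt.Stalk.oStalk x z, ?_⟩⟩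
  · rw [hstalk, ← map_smul, smul_eq_mul, mul_comm, ha]
  · rw [hstalk] at hz
    have := congrArg (SurfInt.Stalk.oStalk x) hz
    rw [map_smul, LinearEquiv.apply_symm_apply, smul_eq_mul, mul_comm] at this
    exact this

theorem subsingleton_H2_fibre :
    Subsingleton (Coh.HH X.left (_root_.ClSub.quotMod (fibreIdeal Γ)) 2) :=
  (EulerStep.finite_prod' hX Γ _ Finset.univ).2

end Surf

variable {C X : Scheme.{u}} {f : C ⟶ Spec (CommRingCat.of (FractionRing R))}
  {p : X ⟶ Spec (CommRingCat.of R)} (hC : Curve.IsSmoothProperCurve (FractionRing R) C f)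
  (hH0 : IsIso f.appTop) (hX : Models.IsRegularProperModel R X p C f)
  {n : ℕ} (Γ : Fin n → ArSurf.VertComp R (Over.mk p))
  (hΓ : Models.IsComponentList R (Over.mk p) Γ)

include hC hH0 hX hΓ

/-- The Euler characteristic of the closed fibre. -/
theorem chi_fibre :
    LenEuler.chi R (Over.mk p) (_root_.ClSub.quotMod (fibreIdeal Γ)) =
      1 - (Models.curveGenus (FractionRing R) C f : ℤ) := by
  have hS := Inter.IsSurf.of_model hC hX
  obtain ⟨π, hπ⟩ := IsDiscreteValuationRing.exists_irreducible R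
  obtain ⟨w, hseq⟩ := fibreSeq hS Γ hΓ hπ
  have h2 := subsingleton_H2_fibre hS Γ hΓ
  obtain ⟨⟨-, -, -, g, hg⟩, hp, -⟩ := hX
  haveI := hp
  haveI := hC.2.2.1
  haveI : IsIntegral X := hS.isIntegral
  haveI : IsProper ((Over.mk p).left ↘ Spec (CommRingCat.of R)) := hp
  letI : C.Over (Spec (CommRingCat.of (FractionRing R))) := ⟨f⟩
  have hfin : ∀ i, Module.Finite R (Coh.HH (Over.mk p).left (Coh.structureModule (Over.mk p).left) i) :=
    fun i => Groth.Agent.S0002.result R (Over.mk p).left _ (Snapper.Twist.isCoh_structureModule _) i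
  haveI := hfin 0
  haveI := hfin 1
  haveI := hfin 2
  -- the maps
  let O := Coh.structureModule (Over.mk p).left
  let σ := CurveBundle.EndAlg.scal O (Coh.toGlobal (Over.mk p).hom π)
  let q := _root_.ClSub.toSubscheme (fibreIdeal Γ)
  have hσ : ∀ i, Curves.LES.mapK R σ i = EulerAlg.mulπ π (Coh.HH (Over.mk p).left O i) :=
    fun i => LinearMap.ext fun _ => rfl
  have e₁ := fun i => Curves.LES.exactK₂ R hseq i
  have e₂ := fun i => Curves.LES.exactK₃ R hseq i (i + 1) rfl
  have e₃ := fun i => Curves.LES.exactK₁ R hseq i (i + 1) rfl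
  dsimp only at e₁ e₂ e₃
  -- `H²(X, O) = 0`
  have hN2 : Subsingleton (Coh.HH (Over.mk p).left O 2) := by
    have hsurj : Function.Surjective (EulerAlg.mulπ π (Coh.HH (Over.mk p).left O 2)) := fun x => by
      rw [← hσ]
      exact (e₁ 2 x).mp (h2.elim _ _)
    refine subsingleton_of_forall_eq 0 fun x => ?_
    have : (⊤ : Submodule R (Coh.HH (Over.mk p).left O 2)) = ⊥ :=
      Submodule.eq_bot_of_le_smul_of_le_jacobson_bot (maximalIdeal R) ⊤ Module.Finite.fg_top
        (fun y _ => by
          obtain ⟨z, rfl⟩ := hsurj y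
          exact Submodule.smul_mem_smul
            (hπ.maximalIdeal_eq.ge (_root_.Ideal.mem_span_singleton_self π)) trivial)
        (IsLocalRing.maximalIdeal_le_jacobson _)
    exact (Submodule.mem_bot R).mp (this ▸ Submodule.mem_top)
  -- `H⁰(X, O) = R`
  have hglob := GlobalFun.bijective_toGlobal p f g hg (ConcreteCategory.bijective_of_isIso f.appTop)
  let e0 : Coh.HH (Over.mk p).left O 0 ≃ₗ[R] R := by
    letI := Curves.GlobalSections.secModule R O
    let γ : R ≃ₗ[R] ((O.val.obj (Opposite.op ⊤)) : Type u) :=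
      { Equiv.ofBijective (fun r => (Coh.toGlobal p r : ((O.val.obj (Opposite.op ⊤)) : Type u))) hglob with
        map_add' := fun a b => map_add (Coh.toGlobal p) a b
        map_smul' := fun a b => map_mul (Coh.toGlobal p) a b }
    exact (Curves.GlobalSections.h0Linear R O).trans γ.symm
  -- lengths
  have hQ0 := LenEuler.length_eq_range_add (e₂ 0)
  have l1 : Module.length R (LinearMap.range (Curves.LES.mapK R q 0)) = 1 := by
    rw [← (LinearMap.quotKerEquivRange _).length_eq,
      ((Submodule.quotEquivOfEq _ _ ((LinearMap.exact_iff.mp (e₁ 0)).trans (by rw [hσ])))).length_eq,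
      EulerAlg.length_coker_congr e0, EulerAlg.length_quot_self hπ]
  have l2 : Module.length R (LinearMap.range (Curves.LES.δK R hseq 0 1 rfl)) =
      Module.length R (LinearMap.ker (EulerAlg.mulπ π (Coh.HH (Over.mk p).left O 1))) :=
    (LinearEquiv.ofEq _ _ ((LinearMap.exact_iff.mp (e₃ 0)).symm.trans (by rw [hσ]))).length_eq
  have l3 : Module.length R (Coh.HH (Over.mk p).left (_root_.ClSub.quotMod (fibreIdeal Γ)) 1) =
      Module.length R (Coh.HH (Over.mk p).left O 1 ⧸
        LinearMap.range (EulerAlg.mulπ π (Coh.HH (Over.mk p).left O 1))) := by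
    have hs : Function.Surjective (Curves.LES.mapK R q 1) := fun x =>
      (e₂ 1 x).mp (hN2.elim _ _)
    rw [← ((Curves.LES.mapK R q 1).quotKerEquivOfSurjective hs).length_eq,
      ((Submodule.quotEquivOfEq _ _ ((LinearMap.exact_iff.mp (e₁ 1)).trans (by rw [hσ])))).length_eq]
  obtain ⟨hker, hdef⟩ := EulerAlg.defect hπ (Coh.HH (Over.mk p).left O 1)
  -- the rank is the genus
  have hrk : Module.finrank (FractionRing R)
      (TensorProduct R (FractionRing R) (Coh.HH (Over.mk p).left O 1)) =
      Models.curveGenus (FractionRing R) C f := by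
    haveI : CompactSpace (Over.mk p).left := (quasiCompact_iff_compactSpace p).mp inferInstance
    haveI : IsLocallyNoetherian X := LocallyOfFiniteType.isLocallyNoetherian p
    haveI : QuasiSeparatedSpace (Over.mk p).left := (inferInstance : QuasiSeparatedSpace X)
    haveI := TensorMod.QCohInv.isQCoh_structureModule (Over.mk p).left
    obtain ⟨e⟩ := ZarCoh.FlatBC.Equiv.nonempty_linearEquiv
      (X := (Over.mk p).left) (A := R) (B := FractionRing R) (g' := g) (M := O) hg 1
    exact (e.trans (Curves.LES.isoK (FractionRing R) (PicLoc.pullbackStructureIso g) 1)).finrank_eq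
  unfold LenEuler.chi Models.lengthH
  rw [hQ0, l3, l1, l2, hdef, hrk]
  rw [ENat.toNat_add (by simp) hker, ENat.toNat_add hker (ENat.natCast_ne_top _), ENat.toNat_natCast]
  simp only [ENat.toNat_one]
  push_cast
  ring

end

end Groth.Agent.Lib.ModelFibre.EulerFibre
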