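import Groth.Agent.Lib.ModelFibre.PointMeet
import Groth.Agent.Lib.ModelFibre.ConnFibre
import Groth.Agent.Lib.Flat55.DimSums
import Groth.Agent.H75.RedSub

/-!
# The components of the closed fibre of a regular flat proper surface form a component list
-/

set_option linter.style.haveILetI false

universe u

open CategoryTheory Limits AlgebraicGeometry IsLocalRing Groth.Agent.Lib.ModelFibre TopologicalSpace

namespace Groth.Agent.Lib.ModelFibre.ExistsComponents

open Groth.Agent.Lib

noncomputable section

variable {R : Type u} [CommRing R] [IsDomain R] [IsDiscreteValuationRing R]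
  {X : Over (Spec (CommRingCat.of R))}

/-- A reduced scheme mapping to the closed point maps to the residue field. -/
theorem exists_factor {Z : Scheme.{u}} [IsReduced Z] (g : Z ⟶ Spec (CommRingCat.of R)) [QuasiCompact g]
    (h : ∀ z, g z = closedPoint R) :
    ∃ g' : Z ⟶ Spec (CommRingCat.of (ResidueField R)), g' ≫ Spec.map (CommRingCat.ofHom (residue R)) = g := by
  set r := Spec.map (CommRingCat.ofHom (residue R))
  haveI : IsClosedImmersion r := IsClosedImmersion.spec_of_surjective _ residue_surjective
  have hle : r.ker ≤ g.ker := by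
    rw [← PointMeet.radical_ker r, ← PointMeet.radical_ker g, ← Scheme.IdealSheafData.vanishingIdeal_support,
      ← Scheme.IdealSheafData.vanishingIdeal_support]
    refine Scheme.IdealSheafData.vanishingIdeal_antimono fun x hx => ?_
    rw [← SetLike.mem_coe, Scheme.Hom.support_ker] at hx ⊢
    refine closure_mono ?_ hx
    rintro _ ⟨z, rfl⟩
    exact ⟨closedPoint _, (IsLocalRing.PrimeSpectrum.comap_residue R _).trans (h z).symm⟩
  exact ⟨IsClosedImmersion.lift r g hle, IsClosedImmersion.lift_fac _ _ _⟩

theorem exists_isComponentList (hS : Inter.IsSurf X) (hdim : topologicalKrullDim X.left = 2) :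
    ∃ (n : ℕ) (Γ : Fin n → ArSurf.VertComp R X), Models.IsComponentList R X Γ := by
  classical
  haveI := hS.isIntegral
  haveI := hS.isProper
  haveI := hS.flat
  haveI : IsLocallyNoetherian X.left := LocallyOfFiniteType.isLocallyNoetherian X.hom
  haveI : CompactSpace X.left := QuasiCompact.compactSpace_of_compactSpace X.hom
  haveI : IsNoetherian X.left := {}
  let s : ↥(Spec (CommRingCat.of R)) := closedPoint R
  let η : ↥(Spec (CommRingCat.of R)) := (⟨⊥, _root_.Ideal.isPrime_bot⟩ : PrimeSpectrum R)
  -- the generic point is over the generic point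
  have hgen : X.hom (genericPoint X.left) = η := by
    obtain ⟨π, hπ⟩ := IsDiscreteValuationRing.exists_irreducible R
    refine PrimeSpectrum.ext (by_contra fun hne => ?_)
    have hmax : (X.hom (genericPoint X.left)).asIdeal = maximalIdeal R :=
      ((X.hom (genericPoint X.left)).2.isMaximal hne).eq_of_le (IsLocalRing.maximalIdeal.isMaximal R).ne_top
        (le_maximalIdeal (X.hom (genericPoint X.left)).2.ne_top)
    have hu : ¬ IsUnit (Stalk.baseHom X.hom (genericPoint X.left) π) := by
      rw [RegularExt.isUnit_baseHom_iff, RegularExt.basicOpen_toGlobal]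
      show ¬ (π ∉ (X.hom (genericPoint X.left)).asIdeal)
      rw [not_not, hmax, hπ.maximalIdeal_eq]
      exact _root_.Ideal.mem_span_singleton_self π
    refine hu (isUnit_iff_ne_zero.mpr fun h0 => ?_)
    have hreg := Chart.isSMulRegular_baseHom X.hom (genericPoint X.left) (IsRegular.of_ne_zero hπ.ne_zero)
    exact one_ne_zero (hreg (a₁ := (1 : X.left.presheaf.stalk (genericPoint X.left))) (a₂ := 0) (by
      show Stalk.baseHom X.hom _ π • _ = Stalk.baseHom X.hom _ π • _
      rw [h0]; simp))
  set d := topologicalKrullDim ↥(X.hom.fiber η) with hd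
  have hcomp : ∀ (Z : Set ↥(X.hom.fiber s)), Z ∈ irreducibleComponents ↥(X.hom.fiber s) →
      topologicalKrullDim ↥Z = d :=
    fun Z hZ => Flat55.DimSums.fibre_component_dim_of_valuationRing R X.hom (genericPoint X.left) hgen s Z hZ
  have hset : Models.specialFibreSet R X = X.hom ⁻¹' {s} := rfl
  -- components as subsets of `X`
  let e := X.hom.fiberHomeo s
  let img : Set ↥(X.hom.fiber s) → Set X.left := fun Z => (X.hom.fiberι s) '' Z
  have himg : ∀ S : Set X.left, S ∈ Models.fibreComponents R X →
      ∃ Z ∈ irreducibleComponents ↥(X.hom.fiber s), img Z = S := fun S hS' => by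
    refine ⟨(X.hom.fiberι s) ⁻¹' S, ?_, Set.image_preimage_eq_of_subset (by
      rw [X.hom.range_fiberι]; exact hS'.1.2)⟩
    have hemb : Topology.IsEmbedding (X.hom.fiberι s) := (X.hom.fiberι s).isEmbedding
    have hirr : IsIrreducible ((X.hom.fiberι s) ⁻¹' S) := by
      refine ⟨?_, ?_⟩
      · obtain ⟨y, hy⟩ := hS'.1.1.nonempty
        obtain ⟨z, rfl⟩ : y ∈ Set.range (X.hom.fiberι s) := by rw [X.hom.range_fiberι]; exact hS'.1.2 hy
        exact ⟨z, hy⟩
      · intro U V hU hV ⟨a, haS, haU⟩ ⟨b, hbS, hbV⟩
        obtain ⟨U', hU', rfl⟩ := hemb.isInducing.isOpen_iff.mp hU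
        obtain ⟨V', hV', rfl⟩ := hemb.isInducing.isOpen_iff.mp hV
        obtain ⟨c, hcS, hcU, hcV⟩ := hS'.1.1.2 U' V' hU' hV' ⟨_, haS, haU⟩ ⟨_, hbS, hbV⟩
        obtain ⟨z, rfl⟩ : c ∈ Set.range (X.hom.fiberι s) := by rw [X.hom.range_fiberι]; exact hS'.1.2 hcS
        exact ⟨z, hcS, hcU, hcV⟩
    refine ⟨hirr, fun T hT hle => ?_⟩
    intro t ht
    exact hS'.2 ⟨hT.image _ (X.hom.fiberι s).continuous.continuousOn, fun y hy => by
      obtain ⟨z, -, rfl⟩ := hy
      have hm : X.hom.fiberι s z ∈ Set.range (X.hom.fiberι s) := ⟨z, rfl⟩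
      rw [X.hom.range_fiberι] at hm
      exact hm⟩ (fun y hy => by
        obtain ⟨z, rfl⟩ : y ∈ Set.range (X.hom.fiberι s) := by rw [X.hom.range_fiberι]; exact hS'.1.2 hy
        exact ⟨z, hle hy, rfl⟩) ⟨t, ht, rfl⟩
  have hfin : (Models.fibreComponents R X).Finite := by
    haveI : NoetherianSpace ↥(X.hom.fiber s) := (X.hom.fiberι s).isEmbedding.isInducing.noetherianSpace
    refine (NoetherianSpace.finite_irreducibleComponents.image img).subset fun S hS' => ?_
    obtain ⟨Z, hZ, rfl⟩ := himg S hS'
    exact ⟨Z, hZ, rfl⟩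
  have hdimS : ∀ S ∈ Models.fibreComponents R X, topologicalKrullDim ↥S = d := fun S hS' => by
    obtain ⟨Z, hZ, rfl⟩ := himg S hS'
    rw [← hcomp Z hZ]
    exact (IsHomeomorph.topologicalKrullDim_eq _
      ((X.hom.fiberι s).isEmbedding.homeomorphImage Z).isHomeomorph).symm
  -- `d = 1`
  have hd1 : d = 1 := by
    haveI : Nonempty (X.hom.fiber η) := by
      obtain ⟨z, -⟩ : genericPoint X.left ∈ Set.range (X.hom.fiberι η) := by
        rw [X.hom.range_fiberι]; exact hgen
      exact ⟨z⟩
    have hnn : (0 : WithBot ℕ∞) ≤ d := by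
      rw [hd, topologicalKrullDim]
      haveI : Nonempty (IrreducibleCloseds ↥(X.hom.fiber η)) :=
        ⟨⟨closure {Classical.arbitrary _}, isIrreducible_singleton.closure, isClosed_closure⟩⟩
      exact Order.krullDim_nonneg
    have hle : d ≤ 1 := by
      -- a chain in the generic fibre continues into the closed fibre
      rw [hd, topologicalKrullDim, Order.krullDim_eq_of_orderIso (irreducibleSetEquivPoints (α := ↥(X.hom.fiber η)))]
      refine iSup_le fun l => ?_
      by_contra hlong
      have hlen : 2 ≤ l.length := by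
        by_contra h
        exact hlong (by exact_mod_cast Nat.le_of_lt_succ (not_le.mp h))
      let c : Fin 3 → X.left := fun i => X.hom.fiberι η (l ⟨i.1, by omega⟩)
      have hc : ∀ a b : Fin 3, a < b → c b ⤳ c a ∧ c a ≠ c b := fun a b hab => by
        have h := l.strictMono (show (⟨a.1, by omega⟩ : Fin (l.length + 1)) < ⟨b.1, by omega⟩ from hab)
        exact ⟨h.le.map (X.hom.fiberι η).continuous, fun e => h.ne ((X.hom.fiberι η).isEmbedding.injective e)⟩
      have hcη : X.hom (c 0) = η := by
        have : c 0 ∈ Set.range (X.hom.fiberι η) := ⟨_, rfl⟩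
        rw [X.hom.range_fiberι] at this
        exact this
      obtain ⟨x, hx, hpx⟩ := (IsLocalRing.specializes_closedPoint (X.hom (c 0))).mem_closed
        (X.hom.isClosedMap _ (isClosed_closure (s := {c 0}))) ⟨c 0, subset_closure rfl, rfl⟩
      have hx0 : c 0 ⤳ x := specializes_iff_mem_closure.mpr hx
      have hne : c 0 ≠ x := fun e => by
        rw [← e, hcη] at hpx
        exact IsDiscreteValuationRing.not_a_field R (congrArg PrimeSpectrum.asIdeal hpx).symm
      have hlt : ∀ u v : X.left, v ⤳ u → u ≠ v → u < v := fun u v h hne =>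
        lt_of_le_not_ge h fun h' => hne ((show u ⤳ v from h').antisymm h).eq
      let t : LTSeries X.left := ⟨3, ![x, c 0, c 1, c 2], fun i => by
        fin_cases i
        · exact hlt _ _ hx0 hne.symm
        · exact hlt _ _ (hc 0 1 (by decide)).1 (hc 0 1 (by decide)).2
        · exact hlt _ _ (hc 1 2 (by decide)).1 (hc 1 2 (by decide)).2⟩
      have h3 : ((3 : ℕ) : WithBot ℕ∞) ≤ Order.krullDim X.left := Order.LTSeries.length_le_krullDim t
      rw [Order.krullDim_eq_of_orderIso (irreducibleSetEquivPoints (α := X.left)).symm] at h3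
      rw [← topologicalKrullDim, hdim] at h3
      exact absurd h3 (by decide)
    refine le_antisymm hle (not_lt.mp fun hlt => ?_)
    have hd0 : d = 0 := by
      obtain ⟨a, ha⟩ := WithBot.ne_bot_iff_exists.mp (fun h : d = ⊥ => by rw [h] at hnn; exact absurd hnn (by simp))
      rw [← ha] at hlt hnn ⊢
      exact WithBot.coe_eq_coe.mpr (Order.lt_one_iff.mp (WithBot.coe_lt_coe.mp hlt))
    -- then all fibres are discrete
    have hfib : ∀ u v : X.left, u ⤳ v → X.hom u = X.hom v → u = v := fun u v huv he => by
      obtain ⟨w, hw⟩ : ∃ w, X.hom u = w := ⟨_, rfl⟩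
      have hdimw : topologicalKrullDim ↥(X.hom.fiber w) ≤ 0 := by
        rcases eq_or_ne w.asIdeal ⊥ with h | h
        · rw [show w = η from PrimeSpectrum.ext h, ← hd, hd0]
        · have : w = s := PrimeSpectrum.ext ((w.2.isMaximal h).eq_of_le
            (IsLocalRing.maximalIdeal.isMaximal R).ne_top (le_maximalIdeal w.2.ne_top))
          subst this
          rw [topologicalKrullDim, Order.krullDim_eq_of_orderIso (irreducibleSetEquivPoints (α := ↥(X.hom.fiber s)))]
          refine iSup_le fun l => ?_
          by_contra hl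
          have hlen : 1 ≤ l.length := by
            by_contra h
            exact hl (by exact_mod_cast Nat.le_of_lt_succ (not_le.mp h))
          obtain ⟨Z, hZ, hmem⟩ := exists_mem_irreducibleComponents_subset_of_isIrreducible
            (closure {l ⟨1, by omega⟩} : Set ↥(X.hom.fiber s)) isIrreducible_singleton.closure
          have h01 := l.strictMono (show (⟨0, by omega⟩ : Fin (l.length + 1)) < ⟨1, by omega⟩ from Fin.mk_lt_mk.mpr one_pos)
          let a : ↥Z := ⟨l ⟨1, by omega⟩, hmem (subset_closure rfl)⟩
          let b : ↥Z := ⟨l ⟨0, by omega⟩, hmem (specializes_iff_mem_closure.mp h01.le)⟩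
          have h := hcomp Z hZ
          rw [hd0] at h
          have hcl : closure ({b} : Set ↥Z) < closure {a} := by
            refine lt_of_le_of_ne ((specializes_iff_closure_subset).mp (Topology.IsInducing.subtypeVal.specializes_iff.mp h01.le)) fun e => ?_
            exact h01.ne (congrArg Subtype.val ((specializes_iff_closure_subset.mpr e.ge).antisymm
              (specializes_iff_closure_subset.mpr e.le)).eq)
          let S : LTSeries (IrreducibleCloseds ↥Z) :=
            ⟨1, ![⟨closure {b}, isIrreducible_singleton.closure, isClosed_closure⟩,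
              ⟨closure {a}, isIrreducible_singleton.closure, isClosed_closure⟩], fun i => by
              fin_cases i
              exact hcl⟩
          have := Order.LTSeries.length_le_krullDim S
          rw [← topologicalKrullDim, h] at this
          exact absurd this (by simp [S])
      obtain ⟨u', rfl⟩ : u ∈ Set.range (X.hom.fiberι w) := by rw [X.hom.range_fiberι]; exact hw
      obtain ⟨v', rfl⟩ : v ∈ Set.range (X.hom.fiberι w) := by rw [X.hom.range_fiberι]; exact he.symm.trans hw
      have h' : u' ⤳ v' := (X.hom.fiberι w).isEmbedding.isInducing.specializes_iff.mp huv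
      by_contra hne
      have hne' : u' ≠ v' := fun e => hne (by rw [e])
      rw [topologicalKrullDim, Order.krullDim_eq_of_orderIso (irreducibleSetEquivPoints (α := ↥(X.hom.fiber w)))] at hdimw
      have hlt' : v' < u' := lt_of_le_not_ge h' fun h'' => hne' (h'.antisymm h'').eq
      have := (Order.LTSeries.length_le_krullDim (⟨1, ![v', u'], fun i => by fin_cases i; exact hlt'⟩ :
        LTSeries ↥(X.hom.fiber w))).trans hdimw
      exact absurd this (by simp)
    have h2 : (2 : WithBot ℕ∞) ≤ Order.krullDim X.left := by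
      rw [Order.krullDim_eq_of_orderIso (irreducibleSetEquivPoints (α := X.left)).symm, ← topologicalKrullDim, hdim]
    obtain ⟨l, hl⟩ := Order.le_krullDim_iff.mp (show ((2 : ℕ) : WithBot ℕ∞) ≤ _ from h2)
    have h01 := l.strictMono (show (⟨0, by omega⟩ : Fin (l.length + 1)) < ⟨1, by omega⟩ from Fin.mk_lt_mk.mpr one_pos)
    have h12 := l.strictMono (show (⟨1, by omega⟩ : Fin (l.length + 1)) < ⟨2, by omega⟩ from Fin.mk_lt_mk.mpr Nat.one_lt_two)
    have hm01 : X.hom (l ⟨1, by omega⟩) ⤳ X.hom (l ⟨0, by omega⟩) := h01.le.map X.hom.continuous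
    have hm12 : X.hom (l ⟨2, by omega⟩) ⤳ X.hom (l ⟨1, by omega⟩) := h12.le.map X.hom.continuous
    rcases eq_or_ne (X.hom (l ⟨1, by omega⟩)).asIdeal ⊥ with h | h
    · have h2' : (X.hom (l ⟨2, by omega⟩)).asIdeal = ⊥ :=
        le_bot_iff.mp (h ▸ (PrimeSpectrum.le_iff_specializes _ _).mpr hm12)
      exact h12.ne (hfib _ _ h12.le (PrimeSpectrum.ext (h2'.trans h.symm))).symm
    · have h1 : (X.hom (l ⟨1, by omega⟩)).asIdeal = maximalIdeal R :=
        ((X.hom (l ⟨1, by omega⟩)).2.isMaximal h).eq_of_le (IsLocalRing.maximalIdeal.isMaximal R).ne_top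
          (le_maximalIdeal (X.hom (l ⟨1, by omega⟩)).2.ne_top)
      refine h01.ne (hfib _ _ h01.le (PrimeSpectrum.ext ?_)).symm
      exact le_antisymm ((PrimeSpectrum.le_iff_specializes _ _).mpr hm01)
        (h1 ▸ le_maximalIdeal (X.hom (l ⟨0, by omega⟩)).2.ne_top)
  -- build the curves
  haveI := hfin.fintype
  let f := (Fintype.equivFin ↥(Models.fibreComponents R X)).symm
  have hcl : ∀ S ∈ Models.fibreComponents R X, IsClosed S := fun S hS' => by
    refine closure_subset_iff_isClosed.mp (hS'.2 ⟨hS'.1.1.closure, ?_⟩ subset_closure)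
    exact (Models.isClosed_specialFibreSet R X).closure_subset_iff.2 hS'.1.2
  have hmk : ∀ i, ∃ Δ : ArSurf.VertComp R X, Set.range (Δ.ι.base : Δ.curve.left → X.left) = (f i).1 := fun i => by
    let I := Scheme.IdealSheafData.vanishingIdeal (⟨(f i).1, hcl _ (f i).2⟩ : Closeds X.left)
    have hrange : Set.range I.subschemeι = (f i).1 := by
      rw [Scheme.IdealSheafData.range_subschemeι, Scheme.IdealSheafData.coe_support_vanishingIdeal]
      rfl
    haveI : IsReduced I.subscheme := Groth.Agent.H75.RedSub.isReduced_vanishingIdeal _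
    let h : I.subscheme ≃ₜ ↥((f i).1) :=
      I.subschemeι.isEmbedding.toHomeomorph.trans (Homeomorph.setCongr hrange)
    haveI : IrreducibleSpace ↥((f i).1) := Subtype.irreducibleSpace (f i).2.1.1
    haveI : IrreducibleSpace I.subscheme := h.symm.surjective.irreducibleSpace h.symm.continuous
    haveI : AlgebraicGeometry.IsIntegral I.subscheme := isIntegral_of_irreducibleSpace_of_isReduced I.subscheme
    obtain ⟨g', hg'⟩ := exists_factor (I.subschemeι ≫ X.hom) (fun z =>
      (f i).2.1.2 (hrange ▸ ⟨z, rfl⟩))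
    exact ⟨⟨Over.mk g', I.subschemeι, inferInstanceAs (IsClosedImmersion I.subschemeι),
      inferInstanceAs (AlgebraicGeometry.IsIntegral I.subscheme),
      (IsHomeomorph.topologicalKrullDim_eq _ h.isHomeomorph).trans ((hdimS _ (f i).2).trans hd1),
      hg'.symm⟩, hrange⟩
  choose Γ hΓ using hmk
  refine ⟨_, Γ, fun a b hab => f.injective (Subtype.ext ((hΓ a).symm.trans (hab.trans (hΓ b)))), ?_⟩
  ext S
  constructor
  · rintro ⟨a, rfl⟩
    show Set.range _ ∈ _
    rw [hΓ a]; exact (f a).2
  · intro hS'
    refine ⟨f.symm ⟨S, hS'⟩, ?_⟩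
    show Set.range _ = S
    rw [hΓ, Equiv.apply_symm_apply]

end

end Groth.Agent.Lib.ModelFibre.ExistsComponents
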