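import Mathlib
import Groth.Agent.Lib.AssPt.Basic
import Groth.Prelude.Def_ModelsG

/-!
# Going down for finite surjective morphisms onto normal integral schemes; components of closed fibres
-/

universe u

open CategoryTheory AlgebraicGeometry TopologicalSpace

namespace Groth.Agent.Lib.ModelFibre.GoingDown

open Groth.Agent.Lib.AssPt.Basic

variable {W Z : Scheme.{u}}

/-- The sections of a normal integral scheme over an affine open are integrally closed. -/
theorem isIntegrallyClosed_section [IsIntegral Z] (hZ : ∀ z : Z, IsIntegrallyClosed (Z.presheaf.stalk z))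
    {U : Z.Opens} (hU : IsAffineOpen U) [Nonempty U] : IsIntegrallyClosed Γ(Z, U) := by
  refine IsIntegrallyClosed.of_localization_maximal fun P _ hP => ?_
  obtain ⟨y, hy, hyP⟩ := exists_point_of_prime hU P
  letI := TopCat.Presheaf.algebra_section_stalk Z.presheaf (⟨y, hy⟩ : U)
  have hloc := hU.isLocalization_stalk ⟨y, hy⟩
  have : IsLocalization P.primeCompl (Z.presheaf.stalk y) := by
    have h : (hU.primeIdealOf ⟨y, hy⟩).asIdeal.primeCompl = P.primeCompl := by
      ext a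
      show a ∉ (hU.primeIdealOf ⟨y, hy⟩).asIdeal ↔ a ∉ P
      rw [hyP]
    exact h ▸ hloc
  have := hZ y
  exact IsIntegrallyClosed.of_equiv
    (IsLocalization.algEquiv P.primeCompl (Z.presheaf.stalk y) (Localization.AtPrime P)).toRingEquiv

theorem injective_app [IsIntegral Z] (ψ : W ⟶ Z) [Surjective ψ] (U : Z.Opens) :
    Function.Injective (ψ.app U).hom := by
  refine (injective_iff_map_eq_zero _).2 fun a ha => ?_
  rw [← basicOpen_eq_bot_iff]
  rw [eq_bot_iff]
  intro z hz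
  obtain ⟨w, rfl⟩ := ψ.surjective z
  have h : w ∈ ψ ⁻¹ᵁ Z.basicOpen a := hz
  rw [Scheme.preimage_basicOpen] at h
  have h2 : W.basicOpen ((ψ.app U).hom a) = ⊥ := by rw [ha]; exact W.basicOpen_zero _
  exact absurd (h2.le h) id

variable (ψ : W ⟶ Z) [IsFinite ψ]

/-- In a fibre of a finite morphism there are no proper specializations. -/
theorem eq_of_specializes {w w' : W} (h : w' ⤳ w) (he : ψ w' = ψ w) : w' = w := by
  obtain ⟨U, hU, hzU, -⟩ := exists_isAffineOpen_mem_and_subset (show ψ w ∈ (⊤ : Z.Opens) from trivial)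
  have hV : IsAffineOpen (ψ ⁻¹ᵁ U) := hU.preimage ψ
  have hw' : w' ∈ ψ ⁻¹ᵁ U := h.mem_open (ψ ⁻¹ᵁ U).2 hzU
  letI := (ψ.app U).hom.toAlgebra
  have : Algebra.IsIntegral Γ(Z, U) Γ(W, ψ ⁻¹ᵁ U) := ⟨(IsFinite.finite_app ψ U hU).to_isIntegral⟩
  have hle := (specializes_iff_primeIdealOf hV (show w ∈ ψ ⁻¹ᵁ U from hzU) hw').1 h
  rcases hle.lt_or_eq with hlt | heq
  · exfalso
    refine ne_of_lt (Ideal.IsIntegral.comap_lt_comap (R := Γ(Z, U)) hlt) ?_
    have h1 := congrArg PrimeSpectrum.asIdeal (IsAffineOpen.comap_primeIdealOf_appLE U hU (ψ ⁻¹ᵁ U) hV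
      (le_refl _) (show w ∈ ψ ⁻¹ᵁ U from hzU))
    have h2 := congrArg PrimeSpectrum.asIdeal (IsAffineOpen.comap_primeIdealOf_appLE U hU (ψ ⁻¹ᵁ U) hV
      (le_refl _) hw')
    rw [Scheme.Hom.appLE_eq_app] at h1 h2
    refine h2.trans (Eq.trans ?_ h1.symm)
    congr 3
  · have := congrArg hV.fromSpec (PrimeSpectrum.ext heq)
    rwa [hV.fromSpec_primeIdealOf, hV.fromSpec_primeIdealOf] at this

/-- A finite surjective morphism from an integral scheme onto a normal integral scheme is generalizing. -/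
theorem exists_generization [IsIntegral W] [IsIntegral Z] [Surjective ψ]
    (hZ : ∀ z : Z, IsIntegrallyClosed (Z.presheaf.stalk z)) (w : W) {δ : Z} (h : δ ⤳ ψ w) :
    ∃ γ : W, γ ⤳ w ∧ ψ γ = δ := by
  obtain ⟨U, hU, hzU, -⟩ := exists_isAffineOpen_mem_and_subset (show ψ w ∈ (⊤ : Z.Opens) from trivial)
  have hV : IsAffineOpen (ψ ⁻¹ᵁ U) := hU.preimage ψ
  have hwV : w ∈ ψ ⁻¹ᵁ U := hzU
  have hδU : δ ∈ U := h.mem_open U.2 hzU
  have : Nonempty U := ⟨⟨_, hzU⟩⟩
  have : Nonempty (ψ ⁻¹ᵁ U : W.Opens) := ⟨⟨_, hwV⟩⟩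
  have : IsIntegrallyClosed Γ(Z, U) := isIntegrallyClosed_section hZ hU
  letI := (ψ.app U).hom.toAlgebra
  have : Algebra.IsIntegral Γ(Z, U) Γ(W, ψ ⁻¹ᵁ U) := ⟨(IsFinite.finite_app ψ U hU).to_isIntegral⟩
  have : FaithfulSMul Γ(Z, U) Γ(W, ψ ⁻¹ᵁ U) :=
    (faithfulSMul_iff_algebraMap_injective _ _).2 (injective_app ψ U)
  set Q := (hV.primeIdealOf ⟨w, hwV⟩).asIdeal
  set p := (hU.primeIdealOf ⟨δ, hδU⟩).asIdeal
  have h1 := congrArg PrimeSpectrum.asIdeal (IsAffineOpen.comap_primeIdealOf_appLE U hU (ψ ⁻¹ᵁ U) hV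
    (le_refl _) hwV)
  rw [Scheme.Hom.appLE_eq_app] at h1
  have : Q.LiesOver (hU.primeIdealOf ⟨ψ w, hzU⟩).asIdeal := ⟨h1.symm⟩
  obtain ⟨P, hPQ, hPp, hPover⟩ :=
    Ideal.exists_ideal_le_liesOver_of_le (R := Γ(Z, U)) (p := p) (q := (hU.primeIdealOf ⟨ψ w, hzU⟩).asIdeal) Q
      ((specializes_iff_primeIdealOf hU hzU hδU).1 h)
  obtain ⟨γ, hγ, hγP⟩ := exists_point_of_prime hV P
  refine ⟨γ, (specializes_iff_primeIdealOf hV hwV hγ).2 (hγP.le.trans hPQ), ?_⟩
  have h2 := congrArg PrimeSpectrum.asIdeal (IsAffineOpen.comap_primeIdealOf_appLE U hU (ψ ⁻¹ᵁ U) hV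
    (le_refl _) hγ)
  rw [Scheme.Hom.appLE_eq_app] at h2
  have h3 : (hU.primeIdealOf ⟨ψ γ, hγ⟩).asIdeal = p := by
    rw [← h2, hPover.over]
    exact congrArg (Ideal.comap (ψ.app U).hom) hγP
  have h4 := congrArg hU.fromSpec (PrimeSpectrum.ext h3)
  rwa [hU.fromSpec_primeIdealOf, hU.fromSpec_primeIdealOf] at h4

section Fibre

variable {R : Type u} [CommRing R] [IsDomain R] [IsDiscreteValuationRing R]
  (X : Over (Spec (CommRingCat.of R)))

/-- The components of the closed fibre are the closures of its maximal points. -/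
theorem mem_fibreComponents_iff (S : Set X.left) :
    S ∈ Models.fibreComponents R X ↔ ∃ δ ∈ Models.specialFibreSet R X,
      (∀ y ∈ Models.specialFibreSet R X, y ⤳ δ → y = δ) ∧ S = closure {δ} := by
  have hclosed := Models.isClosed_specialFibreSet R X
  constructor
  · rintro ⟨⟨hirr, hsub⟩, hmax⟩
    have hS : IsClosed S := by
      rw [← closure_subset_iff_isClosed]
      exact hmax ⟨hirr.closure, hclosed.closure_subset_iff.2 hsub⟩ subset_closure
    obtain ⟨δ, hδ⟩ := QuasiSober.sober hirr hS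
    refine ⟨δ, hsub (hδ ▸ subset_closure rfl), fun y hy hyδ => ?_, hδ.symm⟩
    have h1 : S ⊆ closure {y} := by
      rw [← hδ]
      exact closure_minimal (Set.singleton_subset_iff.2 (specializes_iff_mem_closure.1 hyδ)) isClosed_closure
    have h2 := hmax ⟨isIrreducible_singleton.closure, hclosed.closure_subset_iff.2 (Set.singleton_subset_iff.2 hy)⟩ h1
    have h3 : y ∈ closure {δ} := by rw [hδ]; exact h2 (subset_closure rfl)
    exact (hyδ.antisymm (specializes_iff_mem_closure.2 h3)).eq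
  · rintro ⟨δ, hδ, hmax, rfl⟩
    refine ⟨⟨isIrreducible_singleton.closure, hclosed.closure_subset_iff.2 (Set.singleton_subset_iff.2 hδ)⟩,
      fun T ⟨hT, hTsub⟩ hle => ?_⟩
    obtain ⟨y, hy⟩ := QuasiSober.sober hT.closure isClosed_closure
    have hyfib : y ∈ Models.specialFibreSet R X :=
      (hclosed.closure_subset_iff.2 hTsub) (hy ▸ subset_closure rfl)
    have hyδ : y ⤳ δ := by
      rw [specializes_iff_mem_closure, hy]
      exact subset_closure (hle (subset_closure rfl))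
    rw [← hmax y hyfib hyδ, hy]
    exact subset_closure

/-- Components of the closed fibre lift along finite surjective morphisms onto normal schemes. -/
theorem exists_component_over {W Z : Over (Spec (CommRingCat.of R))} [IsIntegral W.left] [IsIntegral Z.left]
    (hZ : ∀ z : Z.left, IsIntegrallyClosed (Z.left.presheaf.stalk z))
    (ψ : W ⟶ Z) [IsFinite ψ.left] [Surjective ψ.left] (w : W.left)
    {Δ : Set Z.left} (hΔ : Δ ∈ Models.fibreComponents R Z) (hw : ψ.left w ∈ Δ) :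
    ∃ Γ ∈ Models.fibreComponents R W, w ∈ Γ ∧ ψ.left '' Γ = Δ := by
  obtain ⟨δ, hδ, hmax, rfl⟩ := (mem_fibreComponents_iff Z Δ).1 hΔ
  obtain ⟨γ, hγw, hγ⟩ := exists_generization ψ.left hZ w (specializes_iff_mem_closure.2 hw)
  have hfib : ∀ x : W.left, x ∈ Models.specialFibreSet R W ↔ ψ.left x ∈ Models.specialFibreSet R Z := fun x => by
    show W.hom x = _ ↔ Z.hom (ψ.left x) = _
    rw [← Over.w ψ]
    rfl
  refine ⟨closure {γ}, (mem_fibreComponents_iff W _).2 ⟨γ, (hfib γ).2 (hγ ▸ hδ), fun y hy hyγ => ?_, rfl⟩,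
    specializes_iff_mem_closure.1 hγw, ?_⟩
  · refine eq_of_specializes ψ.left hyγ ?_
    rw [hγ]
    exact hmax _ ((hfib y).1 hy) (hγ ▸ hyγ.map ψ.left.continuous)
  · rw [← ψ.left.isClosedMap.closure_image_eq_of_continuous ψ.left.continuous, Set.image_singleton, hγ]

end Fibre

end Groth.Agent.Lib.ModelFibre.GoingDown
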