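import Mathlib
import Groth.Agent.Lib.Cyc.TorPD
import Groth.Agent.Lib.AssPt.Basic
import Groth.Agent.Lib.Ideal.Prime
import Groth.Agent.Lib.ModelFibre.GoingDown

/-!
# Finite morphisms onto normal schemes are flat in codimension one
-/

universe u

open CategoryTheory AlgebraicGeometry TopologicalSpace IsLocalRing

namespace Groth.Agent.Lib.ModelFibre.FlatCodimOne

/-- A finite morphism between integral schemes is flat near every normal point of codimension at most one
of the target. -/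
theorem exists_flat_restrict {X Y : Scheme.{u}} (f : X ⟶ Y) [IsFinite f] [Surjective f] [IsIntegral X]
    [IsIntegral Y] [IsLocallyNoetherian Y] (y : Y) (hn : IsIntegrallyClosed (Y.presheaf.stalk y))
    (hdim : ringKrullDim (Y.presheaf.stalk y) ≤ 1) :
    ∃ U : Y.Opens, y ∈ U ∧ Flat (f ∣_ U) := by
  obtain ⟨V, hV, hyV, -⟩ := exists_isAffineOpen_mem_and_subset (x := y) (U := ⊤) trivial
  haveI : Nonempty ↥V := ⟨⟨_, hyV⟩⟩
  haveI : IsDomain Γ(Y, V) := @IsIntegral.component_integral _ _ V ⟨⟨_, hyV⟩⟩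
  haveI : IsNoetherianRing Γ(Y, V) := IsLocallyNoetherian.component_noetherian ⟨V, hV⟩
  obtain ⟨x₀, hx₀⟩ := f.surjective y
  haveI : Nonempty ↥(f ⁻¹ᵁ V) := ⟨⟨x₀, show f x₀ ∈ V by rw [hx₀]; exact hyV⟩⟩
  letI algAB : Algebra Γ(Y, V) Γ(X, f ⁻¹ᵁ V) := (f.app V).hom.toAlgebra
  haveI : Module.Finite Γ(Y, V) Γ(X, f ⁻¹ᵁ V) := f.finite_app V hV
  haveI : Module.FinitePresentation Γ(Y, V) Γ(X, f ⁻¹ᵁ V) :=
    Module.finitePresentation_of_finite _ _
  haveI : Module.IsTorsionFree Γ(Y, V) Γ(X, f ⁻¹ᵁ V) := by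
    haveI : IsDomain Γ(X, f ⁻¹ᵁ V) :=
      @IsIntegral.component_integral _ _ (f ⁻¹ᵁ V) ⟨⟨x₀, show f x₀ ∈ V by rw [hx₀]; exact hyV⟩⟩
    refine Module.IsTorsionFree.of_smul_eq_zero fun r m h => ?_
    rw [Algebra.smul_def, mul_eq_zero] at h
    exact h.imp_left fun h0 => GoingDown.injective_app f V (h0.trans (map_zero _).symm)
  set P := (hV.primeIdealOf ⟨y, hyV⟩).asIdeal
  letI := TopCat.Presheaf.algebra_section_stalk Y.presheaf (⟨y, hyV⟩ : V)
  haveI := hV.isLocalization_stalk ⟨y, hyV⟩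
  have hvr : ValuationRing (Localization.AtPrime P) := by
    let e := (IsLocalization.algEquiv P.primeCompl (Y.presheaf.stalk y) (Localization.AtPrime P)).toRingEquiv
    haveI : IsIntegrallyClosed (Localization.AtPrime P) := IsIntegrallyClosed.of_equiv e
    haveI : IsNoetherianRing (Localization.AtPrime P) := IsLocalization.isNoetherianRing P.primeCompl _ inferInstance
    haveI : Ring.DimensionLEOne (Localization.AtPrime P) := by
      refine ⟨fun {p} hp0 hp => ?_⟩
      have h1 : p.height = 1 := le_antisymm ?_ ?_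
      · by_contra hmax
        have hlt : p < maximalIdeal _ := lt_of_le_of_ne (le_maximalIdeal hp.ne_top)
          fun e' => hmax (e' ▸ maximalIdeal.isMaximal _)
        have h2 := Order.add_one_le_of_lt (Ideal.height_strict_mono_of_isPrime hlt)
        rw [h1] at h2
        have h3 : ((maximalIdeal (Localization.AtPrime P)).height : WithBot ℕ∞) ≤ 1 := by
          rw [IsLocalRing.maximalIdeal_height_eq_ringKrullDim, ← ringKrullDim_eq_of_ringEquiv e]
          exact hdim
        have h4 := h2.trans (WithBot.coe_le_coe.1 h3)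
        exact absurd h4 (by decide)
      · have h3 : (p.height : WithBot ℕ∞) ≤ 1 :=
          (Ideal.height_le_ringKrullDim_of_ne_top hp.ne_top).trans
            ((ringKrullDim_eq_of_ringEquiv e).symm.trans_le hdim)
        exact WithBot.coe_le_coe.1 h3
      · rw [Order.one_le_iff_ne_zero, Ne, Ideal.height_eq_zero_iff]
        intro hmin
        rw [IsDomain.minimalPrimes_eq_singleton_bot] at hmin
        exact hp0 hmin
    haveI : IsDedekindDomain (Localization.AtPrime P) := { }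
    haveI : IsPrincipalIdealRing (Localization.AtPrime P) := inferInstance
    infer_instance
  haveI : Module.IsTorsionFree (Localization.AtPrime P) (LocalizedModule P.primeCompl Γ(X, f ⁻¹ᵁ V)) :=
    inferInstance
  haveI : Module.Free (Localization.AtPrime P) (LocalizedModule P.primeCompl Γ(X, f ⁻¹ᵁ V)) := by
    haveI : Module.Finite (Localization.AtPrime P) (LocalizedModule P.primeCompl Γ(X, f ⁻¹ᵁ V)) :=
      Module.Finite.of_isLocalizedModule P.primeCompl (LocalizedModule.mkLinearMap P.primeCompl _)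
    haveI : Module.Flat (Localization.AtPrime P) (LocalizedModule P.primeCompl Γ(X, f ⁻¹ᵁ V)) := inferInstance
    exact Module.free_of_flat_of_isLocalRing
  obtain ⟨r, hr, hfree, -⟩ := Module.FinitePresentation.exists_free_localizedModule_powers
    P.primeCompl (LocalizedModule.mkLinearMap P.primeCompl Γ(X, f ⁻¹ᵁ V)) (Localization.AtPrime P)
  refine ⟨Y.basicOpen r, ?_, ?_⟩
  · rw [Scheme.mem_basicOpen Y r y hyV]
    exact IsLocalization.map_units (Y.presheaf.stalk y) (⟨r, hr⟩ : P.primeCompl)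
  haveI hD : IsAffineOpen (Y.basicOpen r) := hV.basicOpen r
  have hfD : IsAffineOpen (f ⁻¹ᵁ Y.basicOpen r) := hD.preimage f
  have key : (f.app (Y.basicOpen r)).hom.Flat := by
    letI : Algebra Γ(Y, V) Γ(Y, Y.basicOpen r) :=
      (Y.presheaf.map (homOfLE (Y.basicOpen_le r)).op).hom.toAlgebra
    haveI : IsLocalization.Away r Γ(Y, Y.basicOpen r) := hV.isLocalization_basicOpen r
    letI algD : Algebra Γ(Y, Y.basicOpen r) Γ(X, f ⁻¹ᵁ Y.basicOpen r) :=
      (f.app (Y.basicOpen r)).hom.toAlgebra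
    letI algBD : Algebra Γ(X, f ⁻¹ᵁ V) Γ(X, f ⁻¹ᵁ Y.basicOpen r) :=
      (X.presheaf.map (homOfLE (f.preimage_mono (Y.basicOpen_le r))).op).hom.toAlgebra
    letI : Algebra Γ(Y, V) Γ(X, f ⁻¹ᵁ Y.basicOpen r) :=
      ((algebraMap Γ(X, f ⁻¹ᵁ V) Γ(X, f ⁻¹ᵁ Y.basicOpen r)).comp
        (algebraMap Γ(Y, V) Γ(X, f ⁻¹ᵁ V))).toAlgebra
    haveI : IsScalarTower Γ(Y, V) Γ(X, f ⁻¹ᵁ V) Γ(X, f ⁻¹ᵁ Y.basicOpen r) :=
      IsScalarTower.of_algebraMap_eq fun _ => rfl
    haveI : IsScalarTower Γ(Y, V) Γ(Y, Y.basicOpen r) Γ(X, f ⁻¹ᵁ Y.basicOpen r) := by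
      refine IsScalarTower.of_algebraMap_eq' ?_
      simp only [RingHom.algebraMap_toAlgebra, ← CommRingCat.hom_comp]
      exact congrArg CommRingCat.Hom.hom (f.naturality _).symm
    haveI : IsLocalization.Away (algebraMap Γ(Y, V) Γ(X, f ⁻¹ᵁ V) r) Γ(X, f ⁻¹ᵁ Y.basicOpen r) := by
      have h := (hV.preimage f).isLocalization_of_eq_basicOpen (f.app V r)
        (homOfLE (f.preimage_mono (Y.basicOpen_le r))) (f.preimage_basicOpen r)
      exact h
    haveI : IsLocalizedModule (Submonoid.powers r)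
        (IsScalarTower.toAlgHom Γ(Y, V) Γ(X, f ⁻¹ᵁ V) Γ(X, f ⁻¹ᵁ Y.basicOpen r)).toLinearMap := by
      rw [isLocalizedModule_iff_isLocalization, Algebra.algebraMapSubmonoid, Submonoid.map_powers]
      assumption
    haveI : Module.Flat (Localization.Away r) (LocalizedModule.Away r Γ(X, f ⁻¹ᵁ V)) :=
      Module.Flat.of_free
    haveI : Module.Flat Γ(Y, V) (Localization.Away r) := IsLocalization.flat _ (Submonoid.powers r)
    haveI : Module.Flat Γ(Y, V) (LocalizedModule.Away r Γ(X, f ⁻¹ᵁ V)) :=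
      Module.Flat.trans Γ(Y, V) (Localization.Away r) _
    haveI : Module.Flat Γ(Y, V) Γ(X, f ⁻¹ᵁ Y.basicOpen r) :=
      Module.Flat.of_linearEquiv (IsLocalizedModule.iso (Submonoid.powers r)
        (IsScalarTower.toAlgHom Γ(Y, V) Γ(X, f ⁻¹ᵁ V) Γ(X, f ⁻¹ᵁ Y.basicOpen r)).toLinearMap).symm
    exact (Module.flat_iff_of_isLocalization Γ(Y, Y.basicOpen r) (Submonoid.powers r)
      Γ(X, f ⁻¹ᵁ Y.basicOpen r)).2 inferInstance
  haveI : IsAffine ↑(Y.basicOpen r) := hD
  haveI : IsAffine ↑(f ⁻¹ᵁ Y.basicOpen r) := hfD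
  rw [HasRingHomProperty.iff_of_isAffine (P := @Flat), morphismRestrict_appTop]
  have key' : ∀ W : Y.Opens, W = Y.basicOpen r → (f.app W).hom.Flat := fun W hW => hW ▸ key
  exact RingHom.Flat.comp (key' _ (Scheme.Opens.ι_image_top _))
    (RingHom.Flat.of_bijective (ConcreteCategory.bijective_of_isIso _))

end Groth.Agent.Lib.ModelFibre.FlatCodimOne
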