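import Mathlib

/-!
# Closed points of the generic fibre below a given closed point
-/

universe u

open IsLocalRing

namespace Groth.Agent.Lib.ModelFibre.GenericClosed

variable {R A : Type u} [CommRing R] [IsDomain R] [CommRing A] [Algebra R A]

/-- Below a prime `m` over a nonzero maximal ideal of `R` lying above a prime over `⊥` there is a prime `Q`
over `⊥` whose residue ring is algebraic over `R`. -/
theorem exists_prime_algebraic [IsNoetherianRing R] [Ring.DimensionLEOne R] [Algebra.FiniteType R A]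
    (m : Ideal A) [m.IsMaximal] [(m.under R).IsMaximal] (hm : m.under R ≠ ⊥)
    (P : Ideal A) [P.IsPrime] (hP : P ≤ m) (hP' : P.under R = ⊥) :
    ∃ Q : Ideal A, ∃ _ : Q.IsPrime, Q ≤ m ∧ Ideal.under R Q = ⊥ ∧
      ∀ a : A, IsAlgebraic R (Ideal.Quotient.mk Q a) := by
  have : IsNoetherianRing A := Algebra.FiniteType.isNoetherianRing R A
  obtain ⟨π, hπm, hπ0⟩ := Submodule.exists_mem_ne_zero_of_ne_bot hm
  let 𝒮 : Set (Ideal A) := {Q | Q.IsPrime ∧ Q ≤ m ∧ algebraMap R A π ∉ Q}
  obtain ⟨Q, ⟨hQp, hQm, hQπ⟩, hQmax⟩ := set_has_maximal_iff_noetherian.mpr inferInstance 𝒮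
    ⟨P, ‹_›, hP, fun h => hπ0 (by
      have : π ∈ P.under R := h
      rwa [hP', Ideal.mem_bot] at this)⟩
  have hQbot : Ideal.under R Q = ⊥ := by
    by_contra h
    have h1 := (Ring.DimensionLEOne.maximalOfPrime h inferInstance).eq_of_le
      (Ideal.IsPrime.ne_top inferInstance) (Ideal.comap_mono hQm : Ideal.under R Q ≤ m.under R)
    exact hQπ (show π ∈ Ideal.under R Q from h1 ▸ hπm)
  refine ⟨Q, hQp, hQm, hQbot, ?_⟩
  set n := m.map (Ideal.Quotient.mk Q)
  have hn : n.IsMaximal :=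
    Ideal.IsMaximal.map_of_surjective_of_ker_le Ideal.Quotient.mk_surjective (by rwa [Ideal.mk_ker])
  have hnc : n.comap (Ideal.Quotient.mk Q) = m := by
    rw [Ideal.comap_map_of_surjective _ Ideal.Quotient.mk_surjective, ← RingHom.ker_eq_comap_bot,
      Ideal.mk_ker, sup_eq_left.2 hQm]
  set b := algebraMap R (A ⧸ Q) π with hb
  have hbn : b ∈ n := Ideal.mem_map_of_mem _ hπm
  have hprimes : ∀ q : Ideal (A ⧸ Q), q.IsPrime → q ≤ n → q ≠ ⊥ → b ∈ q := by
    intro q hq hqn hq0
    by_contra hbq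
    have hmem : q.comap (Ideal.Quotient.mk Q) ∈ 𝒮 :=
      ⟨inferInstance, hnc ▸ Ideal.comap_mono hqn, hbq⟩
    refine hQmax _ hmem (lt_of_le_of_ne (fun x hx => ?_) fun h => hq0 ?_)
    · show Ideal.Quotient.mk Q x ∈ q
      rw [Ideal.Quotient.eq_zero_iff_mem.2 hx]; exact q.zero_mem
    · rw [← Ideal.map_comap_of_surjective _ Ideal.Quotient.mk_surjective q, ← h, Ideal.map_quotient_self]
  set S := (Ideal.span {b}).minimalPrimes with hS
  have hSfin : S.Finite := Ideal.finite_minimalPrimes_of_isNoetherianRing _ _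
  have hb0 : b ≠ 0 := fun h => hπ0 (by
    have : π ∈ Ideal.under R Q := show algebraMap R A π ∈ Q from Ideal.Quotient.eq_zero_iff_mem.1 h
    rwa [hQbot, Ideal.mem_bot] at this)
  have hnS : n ∈ S := by
    by_contra hnS
    have hcover : ¬ ((n : Set (A ⧸ Q)) ⊆ ⋃ p ∈ (↑hSfin.toFinset : Set (Ideal (A ⧸ Q))), (p : Set (A ⧸ Q))) := by
      rw [Ideal.subset_union_prime ⊥ ⊥ fun p hp _ _ => (hSfin.mem_toFinset.1 hp).1.1]
      rintro ⟨p, hp, hnp⟩
      have hp' := hSfin.mem_toFinset.1 hp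
      exact hnS ((hn.eq_of_le hp'.1.1.ne_top hnp) ▸ hp')
    obtain ⟨x, hxn, hx⟩ := Set.not_subset.1 hcover
    simp only [Set.mem_iUnion, SetLike.mem_coe, Set.Finite.mem_toFinset, not_exists] at hx
    obtain ⟨q, hq, hqn⟩ := Ideal.exists_minimalPrimes_le (J := n)
      ((Ideal.span_singleton_le_iff_mem _).2 hxn : Ideal.span {x} ≤ n)
    have := hq.1.1
    have hxq : x ∈ q := hq.1.2 (Ideal.mem_span_singleton_self x)
    have hq0 : q ≠ ⊥ := fun h => by
      rw [h, Ideal.mem_bot] at hxq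
      obtain ⟨p, hp, -⟩ := Ideal.exists_minimalPrimes_le (J := n) ((Ideal.span_singleton_le_iff_mem _).2 hbn :
        Ideal.span {b} ≤ n)
      exact hx p hp (hxq ▸ p.zero_mem)
    obtain ⟨p, hp, hpq⟩ := Ideal.exists_minimalPrimes_le (J := q)
      ((Ideal.span_singleton_le_iff_mem _).2 (hprimes q inferInstance hqn hq0) : Ideal.span {b} ≤ q)
    have := hp.1.1
    have h1 : q.height ≤ 1 := Ideal.height_le_one_of_isPrincipal_of_mem_minimalPrimes _ q hq
    have hp0 : (⊥ : Ideal (A ⧸ Q)) < p := bot_lt_iff_ne_bot.2 fun h => hb0 (by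
      have := hp.1.2 (Ideal.mem_span_singleton_self b)
      rwa [h, Ideal.mem_bot] at this)
    have h2 : p < q := lt_of_le_of_ne hpq fun h => hx p hp (h ▸ hxq)
    have := Ideal.height_strict_mono_of_isPrime hp0
    have := Ideal.height_strict_mono_of_isPrime h2
    have h3 : p.height = 0 := ENat.lt_one_iff_eq_zero.1 (lt_of_lt_of_le this h1)
    simp [h3] at *
  have hnR : n.under R = m.under R := by
    rw [← hnc]; rfl
  have hqf : Algebra.QuasiFiniteAt R n := by
    refine Algebra.QuasiFiniteAt.of_isOpen_singleton_fiber (⟨n, hn.isPrime⟩ : PrimeSpectrum (A ⧸ Q)) ?_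
    set T := ((m.under R).map (algebraMap R (A ⧸ Q))).minimalPrimes with hT
    have hTfin : T.Finite := Ideal.finite_minimalPrimes_of_isNoetherianRing _ _
    have hall : ∀ p ∈ T, p ≠ n → ¬ (p : Set (A ⧸ Q)) ⊆ n := fun p hp hne hle => hne (by
      have := hp.1.1
      refine le_antisymm hle ?_
      refine hnS.2 ⟨inferInstance, ?_⟩ hle
      rw [Ideal.span_singleton_le_iff_mem]
      exact hp.1.2 (Ideal.mem_map_of_mem _ hπm))
    have hs : ∀ p ∈ T, ∃ s, s ∉ n ∧ (p ≠ n → s ∈ p) := fun p hp => by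
      by_cases h : p = n
      · exact ⟨1, fun h1 => hn.ne_top (n.eq_top_iff_one.2 h1), fun h' => absurd h h'⟩
      · obtain ⟨s, hsp, hsn⟩ := Set.not_subset.1 (hall p hp h)
        exact ⟨s, hsn, fun _ => hsp⟩
    choose! s hsn hsp using hs
    refine ⟨PrimeSpectrum.basicOpen (∏ p ∈ hTfin.toFinset, s p), PrimeSpectrum.isOpen_basicOpen, ?_⟩
    ext ⟨q, hq⟩
    constructor
    · intro hsq
      by_contra hne
      have hle : (m.under R).map (algebraMap R (A ⧸ Q)) ≤ q.asIdeal := by
        rw [Ideal.map_le_iff_le_comap, ← hnR]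
        exact (congrArg PrimeSpectrum.asIdeal hq).ge
      obtain ⟨p, hp, hpq⟩ := Ideal.exists_minimalPrimes_le hle
      by_cases hpn : p = n
      · exact hne (Subtype.ext (PrimeSpectrum.ext (hn.eq_of_le q.2.ne_top (hpn ▸ hpq)).symm))
      · exact hsq (q.asIdeal.mem_of_dvd (Finset.dvd_prod_of_mem _ (hTfin.mem_toFinset.2 hp))
          (hpq (hsp p hp hpn)))
    · intro h
      cases h
      intro hmem
      obtain ⟨p, hp, hsp'⟩ := (Ideal.IsPrime.prod_mem_iff (hp := hn.isPrime)).1 hmem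
      exact hsn p (hTfin.mem_toFinset.1 hp) hsp'
  have hqf0 : Algebra.QuasiFiniteAt R (⊥ : Ideal (A ⧸ Q)) :=
    Algebra.QuasiFiniteAt.of_le (Q := n) bot_le
  intro a
  let L := Localization.AtPrime (⊥ : Ideal (A ⧸ Q))
  have : Algebra.QuasiFinite R L := hqf0
  have : IsFractionRing (A ⧸ Q) L := by
    have e : (⊥ : Ideal (A ⧸ Q)).primeCompl = nonZeroDivisors (A ⧸ Q) := by
      ext x; simp [Ideal.primeCompl]
    change IsLocalization _ _
    rw [← e]
    infer_instance
  letI : Field L := IsFractionRing.toField (A ⧸ Q) (K := L)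
  have hinj : Function.Injective (algebraMap R (A ⧸ Q)) := by
    rw [injective_iff_map_eq_zero]
    intro r hr
    have : r ∈ Ideal.under R Q := show algebraMap R A r ∈ Q from Ideal.Quotient.eq_zero_iff_mem.1 hr
    rwa [hQbot, Ideal.mem_bot] at this
  have : FaithfulSMul R L := (faithfulSMul_iff_algebraMap_injective R L).2 (by
    rw [IsScalarTower.algebraMap_eq R (A ⧸ Q) L]
    exact (IsFractionRing.injective (A ⧸ Q) L).comp hinj)
  letI := FractionRing.liftAlgebra R L
  have := FractionRing.isScalarTower_liftAlgebra R L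
  have : Algebra.QuasiFinite (FractionRing R) L := Algebra.QuasiFinite.of_restrictScalars R (FractionRing R) L
  have : Module.Finite (FractionRing R) L := Module.Finite.of_quasiFinite
  have h := (IsFractionRing.isAlgebraic_iff R (FractionRing R) L).2
    (Algebra.IsAlgebraic.isAlgebraic (algebraMap (A ⧸ Q) L (Ideal.Quotient.mk Q a)))
  exact (isAlgebraic_algebraMap_iff (IsFractionRing.injective (A ⧸ Q) L)).1 h

end Groth.Agent.Lib.ModelFibre.GenericClosed
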