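import Mathlib
import Groth.Agent.H52.FBase.Primary

/-!
# Algebraic extensions of scalars of a regular field extension are fields
-/

universe u

open scoped TensorProduct

namespace Groth.Agent.Lib.ModelFibre.TensorField

/-- An algebra integral over a field without zero divisors is a field. -/
theorem isField_of_isIntegral {L : Type u} [Field L] (S : Type u) [CommRing S] [Nontrivial S] [NoZeroDivisors S]
    [Algebra L S] [Algebra.IsIntegral L S] : IsField S := by
  have : IsDomain S := NoZeroDivisors.to_isDomain S
  exact isField_of_isIntegral_of_isField' (Field.toIsField L)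

/-- If `L/K` is geometrically reduced and `K` is separably closed in `L`, then `F ⊗_K L` is a field for an
algebraic closure `F`. -/
theorem isField_tensor (K L F : Type u) [Field K] [Field L] [Algebra K L] [Field F] [Algebra K F]
    [Algebra.IsAlgebraic K F] [Algebra.IsGeometricallyReduced K L] (hsep : separableClosure K L = ⊥) :
    IsField (F ⊗[K] L) := by
  let Ks := separableClosure K F
  let P := L ⊗[K] Ks
  have : Algebra.IsSeparable K Ks := separableClosure.isSeparable K F
  have : NoZeroDivisors P := Groth.Agent.H52.FBase.Primary.noZeroDivisors_tensor K L hsep Ks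
  have : Algebra.IsIntegral L P := Algebra.IsIntegral.tensorProduct K L Ks
  have hP : IsField P := isField_of_isIntegral (L := L) P
  let Q := L ⊗[K] F
  have hQred : IsReduced Q :=
    isReduced_of_injective (Algebra.TensorProduct.comm K L F).toRingHom (Algebra.TensorProduct.comm K L F).injective
  let ι : P →ₐ[L] Q := Algebra.TensorProduct.map (AlgHom.id L L) Ks.val
  obtain ⟨p, hp⟩ := ExpChar.exists K
  have : ExpChar Q p := expChar_of_injective_algebraMap (RingHom.injective (algebraMap K Q)) p
  have : ExpChar F p := expChar_of_injective_algebraMap (RingHom.injective (algebraMap K F)) p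
  have : ExpChar L p := expChar_of_injective_algebraMap (RingHom.injective (algebraMap K L)) p
  have : ExpChar Ks p := expChar_of_injective_algebraMap (RingHom.injective (algebraMap K Ks)) p
  have : IsPurelyInseparable Ks F := separableClosure.isPurelyInseparable K F
  have hmono : ∀ (z : Q) (n m : ℕ), n ≤ m → z ^ p ^ n ∈ ι.range → z ^ p ^ m ∈ ι.range := by
    intro z n m hnm h
    obtain ⟨k, rfl⟩ := Nat.exists_eq_add_of_le hnm
    rw [pow_add, pow_mul]
    exact ι.range.pow_mem h _
  have hpow : ∀ z : Q, ∃ n, z ^ p ^ n ∈ ι.range := by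
    intro z
    induction z using TensorProduct.induction_on with
    | zero => exact ⟨0, by rw [pow_zero, pow_one]; exact ι.range.zero_mem⟩
    | tmul a b =>
      obtain ⟨n, y, hy⟩ := IsPurelyInseparable.pow_mem Ks p b
      refine ⟨n, (a ^ p ^ n) ⊗ₜ y, ?_⟩
      rw [Algebra.TensorProduct.tmul_pow]
      show Algebra.TensorProduct.map (AlgHom.id L L) Ks.val ((a ^ p ^ n) ⊗ₜ[K] y) = _
      rw [Algebra.TensorProduct.map_tmul]
      exact congrArg _ hy
    | add x y hx hy =>
      obtain ⟨n, hn⟩ := hx
      obtain ⟨m, hm⟩ := hy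
      refine ⟨max n m, ?_⟩
      rw [add_pow_expChar_pow]
      exact ι.range.add_mem (hmono x n _ (le_max_left _ _) hn) (hmono y m _ (le_max_right _ _) hm)
  have hQ : IsField Q := by
    refine ⟨⟨0, 1, zero_ne_one⟩, mul_comm, fun {z} hz => ?_⟩
    obtain ⟨n, w, hw⟩ := hpow z
    have hw0 : w ≠ 0 := fun h => hz (IsReduced.eq_zero z ⟨p ^ n, hw ▸ (by rw [h]; exact map_zero ι)⟩)
    obtain ⟨v, hv⟩ := hP.mul_inv_cancel hw0
    have hu : IsUnit (z ^ p ^ n) := by
      have h0 : IsUnit (w : P) := ⟨⟨w, v, hv, (hP.mul_comm v w).trans hv⟩, rfl⟩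
      have h1 : IsUnit (ι.toRingHom w) := RingHom.isUnit_map ι.toRingHom h0
      exact hw ▸ h1
    exact ((isUnit_pow_iff (expChar_pow_pos K p n).ne').1 hu).exists_right_inv
  exact (Algebra.TensorProduct.comm K F L).toMulEquiv.isField hQ

end Groth.Agent.Lib.ModelFibre.TensorField
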