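import Mathlib
import Groth.Agent.Lib.ModelFibre.SmoothGeneric
import Groth.Agent.Lib.ModelFibre.TensorField
import Groth.Agent.S17018

/-!
# Algebraic extensions of scalars of the local ring at a generic point of the special fibre
-/

universe u

open CategoryTheory Limits AlgebraicGeometry IsLocalRing Polynomial
open scoped TensorProduct

namespace Groth.Agent.Lib.ModelFibre.GenericField

/-- In a discrete valuation ring inverting any nonzero nonunit gives the fraction field. -/
theorem isFractionRing_iff_away {B : Type u} [CommRing B] [IsDomain B] [IsDiscreteValuationRing B]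
    (F : Type u) [CommRing F] [Algebra B F] {b : B} (hb0 : b ≠ 0) (hb : ¬ IsUnit b) :
    IsLocalization.Away b F ↔ IsFractionRing B F := by
  refine IsLocalization.iff_of_le_of_exists_dvd (Submonoid.powers b) (nonZeroDivisors B)
    (Submonoid.powers_le.2 (mem_nonZeroDivisors_of_ne_zero hb0)) fun r hr => ?_
  obtain ⟨ϖ, hϖ⟩ := IsDiscreteValuationRing.exists_irreducible B
  obtain ⟨n, hn⟩ := IsDiscreteValuationRing.associated_pow_irreducible (nonZeroDivisors.ne_zero hr) hϖ
  have hdvd : ϖ ∣ b := by
    rw [← Ideal.mem_span_singleton, ← hϖ.maximalIdeal_eq]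
    exact hb
  exact ⟨b ^ n, ⟨n, rfl⟩, hn.dvd.trans (pow_dvd_pow_of_dvd hdvd n)⟩

/-- For a discrete valuation ring over a discrete valuation ring the generic fibre is the fraction field. -/
theorem isPushout_fractionRing {R : Type u} [CommRing R] [IsDomain R] [IsDiscreteValuationRing R]
    {B : Type u} [CommRing B] [IsDomain B] [IsDiscreteValuationRing B] [Algebra R B]
    (K F : Type u) [Field K] [Algebra R K] [IsFractionRing R K] [Field F] [Algebra B F]
    [IsFractionRing B F] [Algebra R F] [Algebra K F] [IsScalarTower R K F] [IsScalarTower R B F]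
    {π : R} (hπ : Irreducible π) (hπ0 : algebraMap R B π ≠ 0) (hπu : ¬ IsUnit (algebraMap R B π)) :
    Algebra.IsPushout R K B F := by
  have : IsLocalization (Submonoid.powers π) K :=
    (isFractionRing_iff_away K hπ.ne_zero hπ.not_isUnit).2 inferInstance
  have h2 : IsLocalization.Away (algebraMap R B π) F := (isFractionRing_iff_away F hπ0 hπu).2 inferInstance
  have : IsLocalization (Algebra.algebraMapSubmonoid B (Submonoid.powers π)) F := by
    rw [Algebra.algebraMapSubmonoid, Submonoid.map_powers]
    exact h2
  exact Algebra.IsPushout.symm ((Algebra.isLocalization_iff_isPushout (Submonoid.powers π) K).1 this)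

variable {R : Type u} [CommRing R] [IsDomain R] [IsDiscreteValuationRing R]
  [IsAlgClosed (ResidueField R)]

/-- For every algebraic extension `E` of `Frac R`, `E ⊗_R B` is a field. -/
theorem isField_tensor
    (X : Scheme.{u}) (f : X ⟶ Spec (CommRingCat.of R)) [IsProper f] [Flat f]
    (XK : Scheme.{u}) (gK : XK ⟶ X) (fK : XK ⟶ Spec (CommRingCat.of (FractionRing R)))
    (hK : IsPullback gK fK f (Spec.map (CommRingCat.ofHom (algebraMap R (FractionRing R)))))
    [SmoothOfRelativeDimension 1 fK] [ConnectedSpace XK]
    (Xs : Scheme.{u}) (gs : Xs ⟶ X) (fs : Xs ⟶ Spec (CommRingCat.of (ResidueField R)))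
    (hs : IsPullback gs fs f (Spec.map (CommRingCat.ofHom (residue R))))
    [ConnectedSpace Xs] [IsReduced Xs]
    (ξ : Xs) (hξ : closure ({ξ} : Set Xs) ∈ irreducibleComponents Xs)
    (B : Type u) [CommRing B] [IsDomain B] [IsDiscreteValuationRing B] [Algebra R B]
    (e : X.presheaf.stalk (gs.base ξ) ≅ CommRingCat.of B)
    (he : e.hom.hom.comp ((X.presheaf.germ ⊤ (gs.base ξ) trivial).hom.comp (Coh.toGlobal f)) =
      algebraMap R B)
    (E : Type u) [Field E] [Algebra R E] [Algebra (FractionRing R) E]
    [IsScalarTower R (FractionRing R) E] [Algebra.IsAlgebraic (FractionRing R) E] :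
    IsField (E ⊗[R] B) := by
  have := SmoothGeneric.isIntegral hK
  obtain ⟨π, hπ⟩ := IsDiscreteValuationRing.exists_irreducible R
  have H := SmoothGeneric.fibres hK hs hπ
  have hinjη : Function.Injective (Stalk.baseHom f (genericPoint X)) :=
    (injective_iff_map_eq_zero _).2 fun r hr => by
      by_contra h
      have hreg := Chart.isSMulRegular_baseHom f (genericPoint X) (IsRegular.of_ne_zero h)
      exact one_ne_zero (hreg (a₁ := (1 : X.functionField)) (a₂ := 0) (by simp [hr]))
  let : Algebra R X.functionField := (Stalk.baseHom f (genericPoint X)).toAlgebra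
  have : FaithfulSMul R X.functionField := (faithfulSMul_iff_algebraMap_injective R _).2 hinjη
  let : Algebra (FractionRing R) X.functionField := FractionRing.liftAlgebra R X.functionField
  have : Algebra.IsGeometricallyReduced (FractionRing R) X.functionField :=
    SmoothGeneric.isGeometricallyReduced hK rfl
  have hsep := RegularExt.separableClosure_eq_bot hπ H (FractionRing R) rfl
  have hfield := TensorField.isField_tensor (FractionRing R) X.functionField E hsep
  let ε : B ≃+* X.presheaf.stalk (gs.base ξ) := e.symm.commRingCatIsoToRingEquiv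
  let : Algebra B X.functionField :=
    ((algebraMap (X.presheaf.stalk (gs.base ξ)) X.functionField).comp ε.toRingHom).toAlgebra
  have : IsScalarTower R B X.functionField := .of_algebraMap_eq fun r => by
    rw [← he]
    show Stalk.baseHom f (genericPoint X) r = algebraMap (X.presheaf.stalk (gs.base ξ)) X.functionField
      (ε (e.hom.hom (Stalk.baseHom f (gs.base ξ) r)))
    rw [← RegularExt.algebraMap_baseHom f (gs.base ξ) r]
    exact congrArg _ (e.commRingCatIsoToRingEquiv.symm_apply_apply _).symm
  have : IsFractionRing B X.functionField :=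
    IsFractionRing.of_ringEquiv_left ε (fun a => rfl)
  have hmax := Groth.Agent.S17018.result R X f XK gK fK hK Xs gs fs hs ξ hξ B e he
  rw [hπ.maximalIdeal_eq, Ideal.map_span, Set.image_singleton] at hmax
  have : Algebra.IsPushout R (FractionRing R) B X.functionField := by
    refine isPushout_fractionRing _ _ hπ (fun h0 => IsDiscreteValuationRing.not_a_field B ?_) ?_
    · rw [hmax, h0, Ideal.span_singleton_zero]
    · exact (mem_maximalIdeal _).1 (hmax.ge (Ideal.mem_span_singleton_self _))
  let e1 : E ⊗[FractionRing R] ((FractionRing R) ⊗[R] B) ≃ₐ[E] E ⊗[R] B :=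
    Algebra.TensorProduct.cancelBaseChange R (FractionRing R) E E B
  let e2 : E ⊗[FractionRing R] ((FractionRing R) ⊗[R] B) ≃ₐ[FractionRing R]
      E ⊗[FractionRing R] X.functionField :=
    Algebra.TensorProduct.congr AlgEquiv.refl (Algebra.IsPushout.equiv R (FractionRing R) B X.functionField)
  exact MulEquiv.isField (MulEquiv.isField hfield e2.toMulEquiv) e1.symm.toMulEquiv

/-- An element algebraic over a discrete valuation ring has algebraic residue. -/
theorem isAlgebraic_residue {R' : Type u} [CommRing R'] [IsDomain R'] [IsLocalRing R'] [Algebra R R']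
    [IsLocalHom (algebraMap R R')] (hinj : Function.Injective (algebraMap R R')) (a : R')
    (ha : IsAlgebraic R a) : residue R' a ∈ ((residue R').comp (algebraMap R R')).range := by
  obtain ⟨π, hπ⟩ := IsDiscreteValuationRing.exists_irreducible R
  obtain ⟨g, hg0, hga⟩ := ha
  obtain ⟨i, hi⟩ : ∃ i, g.coeff i ≠ 0 := by
    by_contra h
    push Not at h
    exact hg0 (Polynomial.ext fun i => by rw [h i, coeff_zero])
  obtain ⟨n, w, hn⟩ := IsDiscreteValuationRing.eq_unit_mul_pow_irreducible hi hπ
  have key : ∀ (n : ℕ) (g : R[X]) (w : Rˣ), g.coeff i = (w : R) * π ^ n → aeval a g = 0 →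
      ∃ g : R[X], g.map (residue R) ≠ 0 ∧ aeval a g = 0 := by
    intro n
    induction n with
    | zero =>
      intro g w hw hg
      refine ⟨g, fun h => ?_, hg⟩
      have h1 := congrArg (fun q => q.coeff i) h
      simp only [coeff_map, coeff_zero, hw, pow_zero, mul_one] at h1
      exact (residue_ne_zero_iff_isUnit _).2 w.isUnit h1
    | succ n ih =>
      intro g w hw hg
      by_cases h : g.map (residue R) = 0
      · have hdvd : C π ∣ g := (C_dvd_iff_dvd_coeff _ _).2 fun j => by
          rw [← Ideal.mem_span_singleton, ← hπ.maximalIdeal_eq, ← ker_residue, RingHom.mem_ker,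
            ← coeff_map, h, coeff_zero]
        obtain ⟨g', rfl⟩ := hdvd
        refine ih g' w (mul_left_cancel₀ hπ.ne_zero ?_) ?_
        · rw [← coeff_C_mul, hw, pow_succ]; ring
        · rw [map_mul, aeval_C] at hg
          exact (mul_eq_zero.1 hg).resolve_left ((map_ne_zero_iff _ hinj).2 hπ.ne_zero)
      · exact ⟨g, h, hg⟩
  obtain ⟨g, hg, hga⟩ := key n g w hn hga
  let : Algebra (ResidueField R) (ResidueField R') := (ResidueField.map (algebraMap R R')).toAlgebra
  have halg : IsAlgebraic (ResidueField R) (residue R' a) := by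
    refine ⟨g.map (residue R), hg, ?_⟩
    rw [aeval_def, eval₂_map]
    have h := congrArg (residue R') hga
    rw [map_zero, aeval_def, hom_eval₂] at h
    exact h
  obtain ⟨c, hc⟩ := minpoly.mem_range_of_degree_eq_one (ResidueField R) (residue R' a)
    (IsAlgClosed.degree_eq_one_of_irreducible _ (minpoly.irreducible halg.isIntegral))
  obtain ⟨c, rfl⟩ := residue_surjective c
  exact ⟨c, hc⟩

end Groth.Agent.Lib.ModelFibre.GenericField
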