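import Groth.Agent.Lib.Cyc.PurInsep
import Groth.Agent.Lib.FibreDeg.Basic
import Groth.Agent.Lib.ModelFibre.Stalk
import Groth.Agent.Lib.Cyc.CH.BCLen
import Mathlib.AlgebraicGeometry.Pullbacks
import Mathlib.AlgebraicGeometry.Morphisms.UniversallyOpen
import Mathlib.AlgebraicGeometry.Morphisms.Flat
import Mathlib.FieldTheory.SeparableDegree
import Mathlib.RingTheory.LocalRing.Length

/-!
# Constants and multiplicities of a geometrically connected fibre
-/

set_option linter.style.haveILetI false

universe u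

open CategoryTheory Limits AlgebraicGeometry IsLocalRing TopologicalSpace TensorProduct

namespace Groth.Agent.Lib.ModelFibre.GeomFibre

noncomputable section

variable {Y Z : Scheme.{u}} (P : Y ⟶ Z) [Flat P]

/-- Flat maps send maximal points to maximal points. -/
theorem isMax_map {x : Y} (hx : ∀ y, y ⤳ x → y = x) : ∀ z, z ⤳ P x → z = P x := fun z hz => by
  obtain ⟨y, hy, rfl⟩ := Flat.generalizingMap P hz
  rw [hx y hy]

/-- Along a flat map the length of a local ring is a multiple of that of its image. -/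
theorem dvd_length (x : Y) {ℓ : ℕ}
    (h : ℓ ∣ (Module.length (Z.presheaf.stalk (P x)) (Z.presheaf.stalk (P x))).toNat) :
    ℓ ∣ (Module.length (Y.presheaf.stalk x) (Y.presheaf.stalk x)).toNat := by
  letI := (P.stalkMap x).hom.toAlgebra
  have : Module.Flat (Z.presheaf.stalk (P x)) (Y.presheaf.stalk x) := Flat.stalkMap P x
  have : IsLocalHom (algebraMap (Z.presheaf.stalk (P x)) (Y.presheaf.stalk x)) :=
    inferInstanceAs (IsLocalHom (P.stalkMap x).hom)
  have e := IsLocalRing.length_baseChange (Z.presheaf.stalk (P x)) (Y.presheaf.stalk x) (Z.presheaf.stalk (P x))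
  rw [(AlgebraTensorModule.rid (Z.presheaf.stalk (P x)) (Y.presheaf.stalk x) (Y.presheaf.stalk x)).length_eq] at e
  rw [e, ENat.toNat_mul]
  exact h.mul_right _

section Spec

variable (A : Type u) [CommRing A] [IsLocalRing A] [Subsingleton (PrimeSpectrum A)]

theorem length_stalk_spec (w : Spec (CommRingCat.of A)) :
    Module.length ((Spec (CommRingCat.of A)).presheaf.stalk w) ((Spec (CommRingCat.of A)).presheaf.stalk w) =
      Module.length A A := by
  obtain rfl : w = closedPoint A := Subsingleton.elim (α := PrimeSpectrum A) _ _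
  exact Cyc.CH.BCLen.length_eq_of_ringEquiv (stalkClosedPointIso (CommRingCat.of A)).commRingCatIsoToRingEquiv

end Spec

/-- If the constants `L` of a fibre are a proper extension of `k`, then geometric connectedness forces a
prime to divide all geometric multiplicities. -/
theorem exists_prime_dvd {k K L : Type u} [Field k] [Field K] [Algebra k K] [IsAlgClosed K] [Field L]
    [Algebra k L] [FiniteDimensional k L] {Xs Xb : Scheme.{u}} (fs : Xs ⟶ Spec (CommRingCat.of k))
    (h : Xs ⟶ Spec (CommRingCat.of L)) (hh : h ≫ Spec.map (CommRingCat.ofHom (algebraMap k L)) = fs)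
    (P : Xb ⟶ Xs) (fb : Xb ⟶ Spec (CommRingCat.of K))
    (hpb : IsPullback P fb fs (Spec.map (CommRingCat.ofHom (algebraMap k K))))
    [ConnectedSpace Xb] [Nonempty Xs] (hne : ¬ Function.Surjective (algebraMap k L)) :
    ∃ ℓ : ℕ, ℓ.Prime ∧ ∀ x : Xb,
      ℓ ∣ (Module.length (Xb.presheaf.stalk x) (Xb.presheaf.stalk x)).toNat := by
  set s := Spec.map (CommRingCat.ofHom (algebraMap k K)) with hs
  set t := Spec.map (CommRingCat.ofHom (algebraMap k L)) with ht
  let Q : Xb ⟶ pullback t s := pullback.lift (P ≫ h) fb (by rw [Category.assoc, hh, hpb.w])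
  have hQ : IsPullback P Q h (pullback.fst t s) := by
    have hbot : IsPullback (pullback.fst t s) (pullback.snd t s) t s := IsPullback.of_hasPullback t s
    refine IsPullback.of_bot ?_ (pullback.lift_fst _ _ _).symm hbot
    rw [pullback.lift_snd, hh]
    exact hpb
  haveI : Flat h := FibreDeg.Basic.flat_of_field h
  haveI : Surjective h := ⟨fun z => ⟨Classical.arbitrary Xs,
    Subsingleton.elim (α := PrimeSpectrum L) _ _⟩⟩
  haveI : Flat Q := MorphismProperty.of_isPullback hQ inferInstance
  haveI : Surjective Q := MorphismProperty.of_isPullback hQ inferInstance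
  let e : pullback t s ≅ Spec (CommRingCat.of (L ⊗[k] K)) := pullbackSpecIso k L K
  haveI : Flat (Q ≫ e.hom) := inferInstance
  haveI : Surjective (Q ≫ e.hom) := inferInstance
  haveI hconn : ConnectedSpace ↥(Spec (CommRingCat.of (L ⊗[k] K))) :=
    (Q ≫ e.hom).surjective.connectedSpace (Q ≫ e.hom).continuous
  haveI : ConnectedSpace (PrimeSpectrum (L ⊗[k] K)) := hconn
  letI : Algebra K (L ⊗[k] K) :=
    (Algebra.TensorProduct.includeRight : K →ₐ[k] L ⊗[k] K).toRingHom.toAlgebra
  haveI : Module.Finite K (L ⊗[k] K) := by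
    let E : K ⊗[k] L ≃ₗ[K] L ⊗[k] K :=
      { (Algebra.TensorProduct.comm k K L).toRingEquiv with
        map_smul' := fun a b => by
          rw [Algebra.smul_def, Algebra.smul_def]
          simp [RingHom.algebraMap_toAlgebra] }
    exact Module.Finite.equiv E
  haveI : IsArtinianRing (L ⊗[k] K) := IsArtinianRing.of_finite K (L ⊗[k] K)
  haveI hsub : Subsingleton (PrimeSpectrum (L ⊗[k] K)) := by
    haveI : DiscreteTopology (PrimeSpectrum (L ⊗[k] K)) := inferInstance
    exact PreconnectedSpace.trivial_of_discrete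
  -- one embedding
  haveI hinsep : IsPurelyInseparable k L := by
    refine isPurelyInseparable_of_finSepDegree_eq_one ?_
    rw [Field.finSepDegree_eq_of_isAlgClosed k L K]
    refine Nat.card_eq_one_iff_unique.mpr ⟨⟨fun σ τ => ?_⟩, ⟨IsAlgClosed.lift⟩⟩
    let φ : (L →ₐ[k] K) → (L ⊗[k] K →ₐ[k] K) := fun σ =>
      Algebra.TensorProduct.lift σ (AlgHom.id k K) fun _ _ => Commute.all _ _
    have hker : RingHom.ker (φ σ).toRingHom = RingHom.ker (φ τ).toRingHom :=
      congrArg PrimeSpectrum.asIdeal (Subsingleton.elim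
        (⟨RingHom.ker (φ σ).toRingHom, RingHom.ker_isPrime _⟩ : PrimeSpectrum (L ⊗[k] K))
        ⟨RingHom.ker (φ τ).toRingHom, RingHom.ker_isPrime _⟩)
    refine AlgHom.ext fun l => ?_
    have hmem : l ⊗ₜ[k] (1 : K) - (1 : L) ⊗ₜ[k] (σ l) ∈ RingHom.ker (φ σ).toRingHom := by
      simp [φ, RingHom.mem_ker]
    rw [hker] at hmem
    simp [φ, RingHom.mem_ker, sub_eq_zero] at hmem
    exact hmem.symm
  obtain ⟨q, hq⟩ := ExpChar.exists k
  haveI := hq
  haveI := Cyc.PurInsep.isLocalRing_tensor k K L
  obtain ⟨m, hm⟩ := Cyc.PurInsep.exists_length_eq_pow_of_finite k K q L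
  have hfield : Module.length (L ⊗[k] K) (L ⊗[k] K) ≠ 1 := by
    intro h1
    rw [Module.length_eq_one_iff, isSimpleModule_self_iff_isUnit] at h1
    let σ : L →ₐ[k] K := IsAlgClosed.lift
    let φ : L ⊗[k] K →ₐ[k] K :=
      Algebra.TensorProduct.lift σ (AlgHom.id k K) fun _ _ => Commute.all _ _
    have hinj : Function.Injective φ := (injective_iff_map_eq_zero φ).mpr fun a ha => by
      by_contra ha0
      exact not_isUnit_zero (ha ▸ (h1.2 a ha0).map φ)
    let φ' : L ⊗[k] K →ₗ[K] K :=
      { toFun := φ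
        map_add' := map_add φ
        map_smul' := fun c a => by
          rw [Algebra.smul_def, map_mul]
          simp [φ, RingHom.algebraMap_toAlgebra] }
    let E : K ⊗[k] L ≃ₗ[K] L ⊗[k] K :=
      { (Algebra.TensorProduct.comm k K L).toRingEquiv with
        map_smul' := fun a b => by
          rw [Algebra.smul_def, Algebra.smul_def]
          simp [RingHom.algebraMap_toAlgebra] }
    have hdim := LinearMap.finrank_le_finrank_of_injective (f := φ') hinj
    rw [← E.finrank_eq, Module.finrank_baseChange, Module.finrank_self] at hdim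
    apply hne
    intro l
    obtain ⟨c, hc⟩ := (finrank_eq_one_iff_of_nonzero' (1 : L) one_ne_zero).mp
      (le_antisymm hdim Module.finrank_pos) l
    exact ⟨c, by rw [← hc, Algebra.smul_def, mul_one]⟩
  have hqp : q.Prime ∧ 0 < m := by
    rcases expChar_is_prime_or_one k q with h | h
    · refine ⟨h, Nat.pos_of_ne_zero fun hm0 => hfield ?_⟩
      rw [hm, hm0, pow_zero, Nat.cast_one]
    · exact absurd (by rw [hm, h, one_pow, Nat.cast_one]) hfield
  refine ⟨q, hqp.1, fun x => dvd_length (Q ≫ e.hom) x ?_⟩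
  rw [length_stalk_spec (L ⊗[k] K), hm, ENat.toNat_natCast]
  exact dvd_pow_self q hqp.2.ne'

end

end Groth.Agent.Lib.ModelFibre.GeomFibre
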