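import Groth.Agent.Lib.ModelFibre.ExistsComponents
import Groth.Agent.Lib.ModelFibre.StalkIdeal
import Groth.Agent.Lib.PicSurj.Connected
import Groth.Agent.Lib.PicSurj.Noeth
import Groth.Agent.S2431

/-!
# Horizontal effective Cartier divisors through a closed point of the closed fibre, henselian base
-/

set_option linter.style.haveILetI false
set_option linter.unusedSectionVars false

universe u

open CategoryTheory Limits AlgebraicGeometry IsLocalRing Groth.Agent.Lib.ModelFibre TopologicalSpace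

namespace Groth.Agent.Lib.ModelFibre.HorizDiv

open Groth.Agent.Lib

noncomputable section

variable {R : Type u} [CommRing R] [IsDomain R] [IsDiscreteValuationRing R]
  {X : Over (Spec (CommRingCat.of R))} [IsIntegral X.left] [IsProper X.hom] [Flat X.hom]

theorem mem_basicOpen_iff {Y : Scheme.{u}} {U : Y.Opens} (hU : IsAffineOpen U) {y : Y} (hy : y ∈ U) (f : Γ(Y, U)) :
    y ∈ Y.basicOpen f ↔ f ∉ (hU.primeIdealOf ⟨y, hy⟩).asIdeal := by
  conv_lhs => rw [show y = hU.fromSpec (hU.primeIdealOf ⟨y, hy⟩) from (hU.fromSpec_primeIdealOf ⟨y, hy⟩).symm]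
  change hU.primeIdealOf ⟨y, hy⟩ ∈ (hU.fromSpec ⁻¹ᵁ Y.basicOpen f) ↔ _
  rw [hU.fromSpec_preimage_basicOpen]
  exact PrimeSpectrum.mem_basicOpen _ _

theorem genericPoint_asIdeal : (X.hom (genericPoint X.left)).asIdeal = ⊥ := by
  obtain ⟨π, hπ⟩ := IsDiscreteValuationRing.exists_irreducible R
  refine by_contra fun hne => ?_
  have hmax : (X.hom (genericPoint X.left)).asIdeal = maximalIdeal R :=
    ((X.hom (genericPoint X.left)).2.isMaximal hne).eq_of_le (IsLocalRing.maximalIdeal.isMaximal R).ne_top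
      (le_maximalIdeal (X.hom (genericPoint X.left)).2.ne_top)
  have hu : ¬ IsUnit (Stalk.baseHom X.hom (genericPoint X.left) π) := by
    rw [RegularExt.isUnit_baseHom_iff, RegularExt.basicOpen_toGlobal]
    show ¬ (π ∉ (X.hom (genericPoint X.left)).asIdeal)
    rw [not_not, hmax, hπ.maximalIdeal_eq]
    exact _root_.Ideal.mem_span_singleton_self π
  refine hu (isUnit_iff_ne_zero.mpr fun h0 => ?_)
  have hreg := Chart.isSMulRegular_baseHom X.hom (genericPoint X.left) (IsRegular.of_ne_zero hπ.ne_zero)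
  exact one_ne_zero (hreg (a₁ := (1 : X.left.presheaf.stalk (genericPoint X.left))) (a₂ := 0) (by
    show Stalk.baseHom X.hom _ π • _ = Stalk.baseHom X.hom _ π • _
    rw [h0]; simp))

theorem mem_special_or_bot (y : X.left) :
    y ∈ Models.specialFibreSet R X ∨ (X.hom y).asIdeal = ⊥ := by
  rcases eq_or_ne (X.hom y).asIdeal ⊥ with h | h
  · exact Or.inr h
  · exact Or.inl (PrimeSpectrum.ext (((X.hom y).2.isMaximal h).eq_of_le
      (IsLocalRing.maximalIdeal.isMaximal R).ne_top (le_maximalIdeal (X.hom y).2.ne_top)))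

theorem genericPoint_notMem : genericPoint X.left ∉ Models.specialFibreSet R X := fun h =>
  IsDiscreteValuationRing.not_a_field R
    ((congrArg PrimeSpectrum.asIdeal (Set.mem_singleton_iff.1 h)).symm.trans genericPoint_asIdeal)

omit [IsIntegral X.left] [IsProper X.hom] [Flat X.hom] in
theorem no_chain (hdim : topologicalKrullDim X.left = 2) {a b c e : X.left} (hab : a ⤳ b) (hbc : b ⤳ c)
    (hce : c ⤳ e) (h1 : a ≠ b) (h2 : b ≠ c) (h3 : c ≠ e) : False := by
  have hlt : ∀ u v : X.left, v ⤳ u → u ≠ v → u < v := fun u v h hne =>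
    lt_of_le_not_ge h fun h' => hne ((show u ⤳ v from h').antisymm h).eq
  let t : LTSeries X.left := ⟨3, ![e, c, b, a], fun i => by
    fin_cases i
    · exact hlt _ _ hce h3.symm
    · exact hlt _ _ hbc h2.symm
    · exact hlt _ _ hab h1.symm⟩
  have h3 : ((3 : ℕ) : WithBot ℕ∞) ≤ Order.krullDim X.left := Order.LTSeries.length_le_krullDim t
  rw [Order.krullDim_eq_of_orderIso (irreducibleSetEquivPoints (α := X.left)).symm] at h3
  rw [← topologicalKrullDim, hdim] at h3
  exact absurd h3 (by decide)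

/-- A point of the closed fibre closed in `X` is not maximal under generization there. -/
theorem exists_generization (hdim : topologicalKrullDim X.left = 2) (x : X.left)
    (hx : IsClosed ({x} : Set X.left)) (hxs : x ∈ Models.specialFibreSet R X) :
    ∃ z ∈ Models.specialFibreSet R X, z ⤳ x ∧ z ≠ x := by
  by_contra hno
  push Not at hno
  let s : ↥(Spec (CommRingCat.of R)) := closedPoint R
  let η : ↥(Spec (CommRingCat.of R)) := (⟨⊥, _root_.Ideal.isPrime_bot⟩ : PrimeSpectrum R)
  have hgen : X.hom (genericPoint X.left) = η := PrimeSpectrum.ext genericPoint_asIdeal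
  set d := topologicalKrullDim ↥(X.hom.fiber η) with hd
  have hcomp : ∀ (Z : Set ↥(X.hom.fiber s)), Z ∈ irreducibleComponents ↥(X.hom.fiber s) →
      topologicalKrullDim ↥Z = d :=
    fun Z hZ => Flat55.DimSums.fibre_component_dim_of_valuationRing R X.hom (genericPoint X.left) hgen s Z hZ
  obtain ⟨x', rfl⟩ : x ∈ Set.range (X.hom.fiberι s) := by rw [X.hom.range_fiberι]; exact hxs
  have hd0 : d = 0 := by
    have hcl : IsClosed ({x'} : Set ↥(X.hom.fiber s)) := by
      convert hx.preimage (X.hom.fiberι s).continuous using 1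
      ext y; exact (X.hom.fiberι s).isEmbedding.injective.eq_iff.symm
    have hmem : ({x'} : Set ↥(X.hom.fiber s)) ∈ irreducibleComponents ↥(X.hom.fiber s) := by
      refine ⟨isIrreducible_singleton, fun T hT hle y hy => ?_⟩
      obtain ⟨ζ, hζ⟩ := QuasiSober.sober hT.closure isClosed_closure
      have h1 : ζ ⤳ x' := hζ.specializes (subset_closure (hle rfl))
      have hm : X.hom.fiberι s ζ ∈ Set.range (X.hom.fiberι s) := ⟨ζ, rfl⟩
      rw [X.hom.range_fiberι] at hm
      have h2 : ζ = x' := (X.hom.fiberι s).isEmbedding.injective (hno _ hm (h1.map (X.hom.fiberι s).continuous))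
      have h3 : y ∈ closure ({x'} : Set ↥(X.hom.fiber s)) := h2 ▸ (hζ.def.symm ▸ subset_closure hy)
      rwa [hcl.closure_eq] at h3
    rw [← hcomp _ hmem]
    haveI : Subsingleton (IrreducibleCloseds ↥({x'} : Set ↥(X.hom.fiber s))) := ⟨fun A B => by
      have h : ∀ A : IrreducibleCloseds ↥({x'} : Set ↥(X.hom.fiber s)), (A : Set _) = Set.univ := fun A =>
        A.isIrreducible.nonempty.elim fun a ha => Set.eq_univ_of_forall fun b => (Subsingleton.elim a b) ▸ ha
      exact SetLike.coe_injective ((h A).trans (h B).symm)⟩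
    haveI : Nonempty (IrreducibleCloseds ↥({x'} : Set ↥(X.hom.fiber s))) :=
      ⟨⟨closure {⟨x', rfl⟩}, isIrreducible_singleton.closure, isClosed_closure⟩⟩
    exact Order.krullDim_eq_zero
  clear hno
  -- then all fibres are discrete
  have hfib : ∀ u v : X.left, u ⤳ v → X.hom u = X.hom v → u = v := fun u v huv he => by
    obtain ⟨w, hw⟩ : ∃ w, X.hom u = w := ⟨_, rfl⟩
    have hdimw : topologicalKrullDim ↥(X.hom.fiber w) ≤ 0 := by
      rcases eq_or_ne w.asIdeal ⊥ with h | h
      · rw [show w = η from PrimeSpectrum.ext h, ← hd, hd0]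
      · have : w = s := PrimeSpectrum.ext ((w.2.isMaximal h).eq_of_le
          (IsLocalRing.maximalIdeal.isMaximal R).ne_top (le_maximalIdeal w.2.ne_top))
        subst this
        rw [topologicalKrullDim, Order.krullDim_eq_of_orderIso (irreducibleSetEquivPoints (α := ↥(X.hom.fiber s)))]
        refine iSup_le fun l => ?_
        by_contra hl
        have hlen : 1 ≤ l.length := by
          by_contra h
          exact hl (by exact_mod_cast Nat.le_of_lt_succ (not_le.mp h))
        obtain ⟨Z, hZ, hmem⟩ := exists_mem_irreducibleComponents_subset_of_isIrreducible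
          (closure {l ⟨1, by omega⟩} : Set ↥(X.hom.fiber s)) isIrreducible_singleton.closure
        have h01 := l.strictMono (show (⟨0, by omega⟩ : Fin (l.length + 1)) < ⟨1, by omega⟩ from Fin.mk_lt_mk.mpr one_pos)
        let a : ↥Z := ⟨l ⟨1, by omega⟩, hmem (subset_closure rfl)⟩
        let b : ↥Z := ⟨l ⟨0, by omega⟩, hmem (specializes_iff_mem_closure.mp h01.le)⟩
        have h := hcomp Z hZ
        rw [hd0] at h
        have hcl : closure ({b} : Set ↥Z) < closure {a} := by
          refine lt_of_le_of_ne ((specializes_iff_closure_subset).mp (Topology.IsInducing.subtypeVal.specializes_iff.mp h01.le)) fun e => ?_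
          exact h01.ne (congrArg Subtype.val ((specializes_iff_closure_subset.mpr e.ge).antisymm
            (specializes_iff_closure_subset.mpr e.le)).eq)
        let S : LTSeries (IrreducibleCloseds ↥Z) :=
          ⟨1, ![⟨closure {b}, isIrreducible_singleton.closure, isClosed_closure⟩,
            ⟨closure {a}, isIrreducible_singleton.closure, isClosed_closure⟩], fun i => by
            fin_cases i
            exact hcl⟩
        have := Order.LTSeries.length_le_krullDim S
        rw [← topologicalKrullDim, h] at this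
        exact absurd this (by simp [S])
    obtain ⟨u', rfl⟩ : u ∈ Set.range (X.hom.fiberι w) := by rw [X.hom.range_fiberι]; exact hw
    obtain ⟨v', rfl⟩ : v ∈ Set.range (X.hom.fiberι w) := by rw [X.hom.range_fiberι]; exact he.symm.trans hw
    have h' : u' ⤳ v' := (X.hom.fiberι w).isEmbedding.isInducing.specializes_iff.mp huv
    by_contra hne
    have hne' : u' ≠ v' := fun e => hne (by rw [e])
    rw [topologicalKrullDim, Order.krullDim_eq_of_orderIso (irreducibleSetEquivPoints (α := ↥(X.hom.fiber w)))] at hdimw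
    have hlt' : v' < u' := lt_of_le_not_ge h' fun h'' => hne' (h'.antisymm h'').eq
    have := (Order.LTSeries.length_le_krullDim (⟨1, ![v', u'], fun i => by fin_cases i; exact hlt'⟩ :
      LTSeries ↥(X.hom.fiber w))).trans hdimw
    exact absurd this (by simp)
  have h2 : (2 : WithBot ℕ∞) ≤ Order.krullDim X.left := by
    rw [Order.krullDim_eq_of_orderIso (irreducibleSetEquivPoints (α := X.left)).symm, ← topologicalKrullDim, hdim]
  obtain ⟨l, hl⟩ := Order.le_krullDim_iff.mp (show ((2 : ℕ) : WithBot ℕ∞) ≤ _ from h2)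
  have h01 := l.strictMono (show (⟨0, by omega⟩ : Fin (l.length + 1)) < ⟨1, by omega⟩ from Fin.mk_lt_mk.mpr one_pos)
  have h12 := l.strictMono (show (⟨1, by omega⟩ : Fin (l.length + 1)) < ⟨2, by omega⟩ from Fin.mk_lt_mk.mpr Nat.one_lt_two)
  have hm01 : X.hom (l ⟨1, by omega⟩) ⤳ X.hom (l ⟨0, by omega⟩) := h01.le.map X.hom.continuous
  have hm12 : X.hom (l ⟨2, by omega⟩) ⤳ X.hom (l ⟨1, by omega⟩) := h12.le.map X.hom.continuous
  rcases eq_or_ne (X.hom (l ⟨1, by omega⟩)).asIdeal ⊥ with h | h
  · have h2' : (X.hom (l ⟨2, by omega⟩)).asIdeal = ⊥ :=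
      le_bot_iff.mp (h ▸ (PrimeSpectrum.le_iff_specializes _ _).mpr hm12)
    exact h12.ne (hfib _ _ h12.le (PrimeSpectrum.ext (h2'.trans h.symm))).symm
  · have h1 : (X.hom (l ⟨1, by omega⟩)).asIdeal = maximalIdeal R :=
      ((X.hom (l ⟨1, by omega⟩)).2.isMaximal h).eq_of_le (IsLocalRing.maximalIdeal.isMaximal R).ne_top
        (le_maximalIdeal (X.hom (l ⟨1, by omega⟩)).2.ne_top)
    refine h01.ne (hfib _ _ h01.le (PrimeSpectrum.ext ?_)).symm
    exact le_antisymm ((PrimeSpectrum.le_iff_specializes _ _).mpr hm01)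
      (h1 ▸ le_maximalIdeal (X.hom (l ⟨0, by omega⟩)).2.ne_top)

/-- A function on an affine open that vanishes at a closed point `x` of the closed fibre and at no point of the
closed fibre properly generizing `x`. -/
theorem exists_fun (hdim : topologicalKrullDim X.left = 2) (x : X.left) :
    ∃ (U : X.left.Opens) (_ : IsAffineOpen U) (f : Γ(X.left, U)), x ∈ U ∧ x ∉ X.left.basicOpen f ∧
      ∀ z ∈ Models.specialFibreSet R X, z ⤳ x → z ≠ x → z ∈ X.left.basicOpen f := by
  classical
  haveI : IsLocallyNoetherian X.left := LocallyOfFiniteType.isLocallyNoetherian X.hom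
  haveI : CompactSpace X.left := QuasiCompact.compactSpace_of_compactSpace X.hom
  haveI : IsNoetherian X.left := {}
  obtain ⟨U, hU, hxU, -⟩ := exists_isAffineOpen_mem_and_subset (show x ∈ (⊤ : X.left.Opens) from trivial)
  obtain ⟨S, hS⟩ := NoetherianSpace.exists_finset_irreducible
    (⟨Models.specialFibreSet R X, Models.isClosed_specialFibreSet R X⟩ : Closeds X.left)
  have hun : Models.specialFibreSet R X = ⋃ Y ∈ S, (Y : Set X.left) := by
    have h2 := congrArg (fun Y : Closeds X.left => (Y : Set X.left)) hS.2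
    simp only [Closeds.coe_mk, Closeds.coe_finset_sup] at h2
    rw [h2, Finset.sup_eq_iSup]
    simp
  choose g hg using fun Y : {Y // Y ∈ S} => QuasiSober.sober (hS.1 Y) Y.1.isClosed
  let P := (hU.primeIdealOf ⟨x, hxU⟩).asIdeal
  let Z := {Y : {Y // Y ∈ S} // g Y ∈ U ∧ g Y ⤳ x ∧ g Y ≠ x}
  let q : Z → _root_.Ideal Γ(X.left, U) := fun Y => (hU.primeIdealOf ⟨g Y.1, Y.2.1⟩).asIdeal
  have hsub : ¬ ((P : Set Γ(X.left, U)) ⊆ ⋃ Y ∈ ((Finset.univ : Finset Z) : Set Z), (q Y : Set Γ(X.left, U))) := by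
    intro hle
    obtain ⟨Y₀, -, -⟩ := Set.mem_iUnion₂.1 (hle P.zero_mem)
    obtain ⟨Y, -, hY⟩ := (_root_.Ideal.subset_union_prime Y₀ Y₀
      fun Y _ _ _ => (hU.primeIdealOf ⟨g Y.1, Y.2.1⟩).2).1 hle
    exact Y.2.2.2 (((Groth.Agent.Lib.AssPt.Basic.specializes_iff_primeIdealOf hU Y.2.1 hxU).2 hY).antisymm Y.2.2.1).eq.symm
  obtain ⟨f, hfP, hfq⟩ := Set.not_subset.1 hsub
  refine ⟨U, hU, f, hxU, fun hm => ?_, fun z hz hzx hne => ?_⟩
  · exact ((mem_basicOpen_iff hU hxU f).1 hm) hfP
  · obtain ⟨Y, hY, hzY⟩ := Set.mem_iUnion₂.1 (hun ▸ hz)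
    have hgz : g ⟨Y, hY⟩ ⤳ z := (hg ⟨Y, hY⟩).specializes hzY
    have hgU : g ⟨Y, hY⟩ ∈ U := (hgz.trans hzx).mem_open U.2 hxU
    have hgx : g ⟨Y, hY⟩ ≠ x := fun e => hne ((e ▸ hgz).antisymm hzx).eq.symm
    by_cases he : g ⟨Y, hY⟩ = z
    · have hzU : z ∈ U := he ▸ hgU
      refine (mem_basicOpen_iff hU hzU f).2 fun hf => hfq ?_
      refine Set.mem_iUnion₂.2 ⟨⟨⟨Y, hY⟩, hgU, he.symm ▸ hzx, hgx⟩, Finset.mem_univ _, ?_⟩
      show f ∈ (hU.primeIdealOf ⟨g ⟨Y, hY⟩, hgU⟩).asIdeal
      subst he
      exact hf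
    · exfalso
      have hgs : g ⟨Y, hY⟩ ∈ Models.specialFibreSet R X := by
        rw [hun]; exact Set.mem_biUnion hY (hg ⟨Y, hY⟩).mem
      exact no_chain hdim (genericPoint_specializes (g ⟨Y, hY⟩)) hgz hzx
        (fun e => genericPoint_notMem (e ▸ hgs)) he hne

variable [HenselianLocalRing R]

/-- An effective horizontal Cartier divisor cut out near `x` by a given function, meeting the closed fibre only
in `x`. -/
theorem exists_horizontal (hdim : topologicalKrullDim X.left = 2) (x : X.left)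
    (hx : IsClosed ({x} : Set X.left)) (hxs : x ∈ Models.specialFibreSet R X)
    {U : X.left.Opens} (hU : IsAffineOpen U) (hxU : x ∈ U) (f : Γ(X.left, U)) (hfx : x ∉ X.left.basicOpen f)
    (hf : ∀ z ∈ Models.specialFibreSet R X, z ⤳ x → z ≠ x → z ∈ X.left.basicOpen f) :
    ∃ (D : Scheme.{u}) (d : D ⟶ X.left), IsClosedImmersion d ∧ IsAffine D ∧ BlowUp.IsEffCartierIdeal d.ker ∧
      (∀ p : D, ∃ q : D, q ⤳ p ∧ ((d ≫ X.hom).base q).asIdeal = ⊥) ∧
      Set.range d.base ∩ Models.specialFibreSet R X = {x} ∧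
      Groth.Agent.Lib.Ideal.Prime.stalkIdeal d.ker x =
        _root_.Ideal.span {X.left.presheaf.germ U x hxU f} := by
  classical
  haveI : IsLocallyNoetherian X.left := LocallyOfFiniteType.isLocallyNoetherian X.hom
  haveI : CompactSpace X.left := QuasiCompact.compactSpace_of_compactSpace X.hom
  haveI : IsNoetherian X.left := {}
  -- isolate `x` in the zero set of `f` on the closed fibre
  let B : Set X.left := closure (((U : Set X.left) ∩ Models.specialFibreSet R X) \ X.left.basicOpen f)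
  obtain ⟨S, hS⟩ := NoetherianSpace.exists_finset_irreducible (⟨B, isClosed_closure⟩ : Closeds X.left)
  have hun : B = ⋃ Y ∈ S, (Y : Set X.left) := by
    have h2 := congrArg (fun Y : Closeds X.left => (Y : Set X.left)) hS.2
    simp only [Closeds.coe_mk, Closeds.coe_finset_sup] at h2
    rw [h2, Finset.sup_eq_iSup]
    simp
  let O : Set X.left := ⋃ Y ∈ S.filter (fun Y : Closeds X.left => x ∉ Y), (Y : Set X.left)
  have hO : IsClosed O := Set.Finite.isClosed_biUnion (Finset.finite_toSet _) fun Y _ => Y.isClosed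
  have hxO : x ∉ O := by simp [O]
  let W : X.left.Opens := U ⊓ ⟨Oᶜ, hO.isOpen_compl⟩
  have hiso : ∀ z ∈ Models.specialFibreSet R X, z ∈ W → z ∉ X.left.basicOpen f → z = x := by
    intro z hzs hzW hzD
    have hzB : z ∈ B := subset_closure ⟨⟨hzW.1, hzs⟩, hzD⟩
    obtain ⟨Y, hY, hzY⟩ := Set.mem_iUnion₂.1 (hun ▸ hzB)
    by_cases hxY : x ∈ Y
    · obtain ⟨g, hg⟩ := QuasiSober.sober (hS.1 ⟨Y, hY⟩) Y.isClosed
      have hgB : g ∈ B := by rw [hun]; exact Set.mem_biUnion hY hg.mem
      have hgs : g ∈ Models.specialFibreSet R X :=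
        closure_minimal (fun a ha => ha.1.2) (Models.isClosed_specialFibreSet R X) hgB
      have hgD : g ∉ X.left.basicOpen f := fun hgD => by
        obtain ⟨a, ha1, ha2⟩ := mem_closure_iff.1 hgB _ (X.left.basicOpen f).2 hgD
        exact ha2.2 ha1
      have hgx : g = x := by_contra fun hne => hgD (hf g hgs (hg.specializes hxY) hne)
      have := hg.specializes hzY
      rw [hgx] at this
      exact this.mem_closed hx rfl
    · exact absurd (Set.mem_iUnion₂.2 ⟨Y, Finset.mem_filter.2 ⟨hY, hxY⟩, hzY⟩) hzW.2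
  -- the closed piece of the zero set through `x`
  let I₀ := Scheme.IdealSheafData.vanishingIdeal
    (⟨Models.specialFibreSet R X, Models.isClosed_specialFibreSet R X⟩ : Closeds X.left)
  let i : I₀.subscheme ⟶ X.left := I₀.subschemeι
  have hi : Set.range i.base = Models.specialFibreSet R X := by
    rw [Scheme.IdealSheafData.range_subschemeι, Scheme.IdealSheafData.coe_support_vanishingIdeal]
    rfl
  have hb : PicSurj.Local.MeetsConn i := fun y => by
    have h := PicSurj.Connected.meetsConn (fun g _ _ h => (Groth.Agent.S2431.result g h).1)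
      (fun A _ _ Z g _ => PicSurj.Noeth.isNoetherianRing_Γ A g) X.hom y
    rw [hi]
    exact ⟨h.nonempty, h⟩
  obtain ⟨t, ht⟩ : x ∈ Set.range i.base := hi.symm ▸ hxs
  have htc : IsClosed ({t} : Set I₀.subscheme) := by
    convert hx.preimage i.continuous using 1
    ext a
    exact ⟨fun h => (congrArg i h).trans ht, fun h => i.isEmbedding.injective (h.trans ht.symm)⟩
  obtain ⟨W', C, hW'W, hxW', hxC, hCW', hCs, hW'D, hCx⟩ := PicSurj.Local.exists_closed_part hb W
    (X.left.basicOpen f) t htc (ht.symm ▸ ⟨hxU, hxO⟩) (ht.symm ▸ hfx)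
    fun a haW haD => i.isEmbedding.injective ((hiso _ (hi ▸ ⟨a, rfl⟩) haW haD).trans ht.symm)
  rw [ht] at hxW' hxC hCs
  replace hCx : ∀ y ∈ C, y ⤳ x := fun y hy => ht ▸ hCx y hy
  -- an affine neighbourhood containing the piece
  obtain ⟨g, hgle, hxg⟩ := hU.exists_basicOpen_le ⟨x, hxW'⟩ hxU
  let V : X.left.Opens := X.left.basicOpen g
  have hV : IsAffineOpen V := hU.basicOpen g
  have hVU : V ≤ U := X.left.basicOpen_le g
  let fV : Γ(X.left, V) := X.left.presheaf.map (homOfLE hVU).op f
  let r : CommRingCat.of Γ(X.left, V) ⟶ CommRingCat.of (Γ(X.left, V) ⧸ _root_.Ideal.span {fV}) :=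
    CommRingCat.ofHom (_root_.Ideal.Quotient.mk _)
  haveI : IsClosedImmersion (Spec.map r) := IsClosedImmersion.spec_of_surjective _ _root_.Ideal.Quotient.mk_surjective
  haveI : IsOpenImmersion hV.fromSpec := hV.isOpenImmersion_fromSpec
  let d : Spec (CommRingCat.of (Γ(X.left, V) ⧸ _root_.Ideal.span {fV})) ⟶ X.left := Spec.map r ≫ hV.fromSpec
  have hrange : Set.range d.base = (V : Set X.left) ∩ (X.left.basicOpen f : Set X.left)ᶜ := by
    have h1 : Set.range (Spec.map r).base = PrimeSpectrum.zeroLocus {fV} := by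
      have := range_comap_of_surjective _ r.hom _root_.Ideal.Quotient.mk_surjective
      rw [show RingHom.ker r.hom = _root_.Ideal.span {fV} from _root_.Ideal.mk_ker,
        PrimeSpectrum.zeroLocus_span] at this
      exact this
    ext y
    constructor
    · rintro ⟨q, rfl⟩
      refine ⟨hV.range_fromSpec.le ⟨_, rfl⟩, fun hy => ?_⟩
      have hy' : hV.fromSpec (Spec.map r q) ∈ X.left.basicOpen fV := by
        rw [Scheme.basicOpen_res]; exact ⟨hV.range_fromSpec.le ⟨_, rfl⟩, hy⟩
      have hy'' : Spec.map r q ∈ PrimeSpectrum.basicOpen fV := hV.fromSpec_preimage_basicOpen fV ▸ hy'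
      have hq : (Spec.map r q) ∈ PrimeSpectrum.zeroLocus {fV} := h1.le ⟨q, rfl⟩
      exact hy'' (hq rfl)
    · rintro ⟨hyV, hyD⟩
      have hy : hV.primeIdealOf ⟨y, hyV⟩ ∈ PrimeSpectrum.zeroLocus {fV} := by
        rintro _ rfl
        by_contra hne
        have h := (mem_basicOpen_iff hV hyV fV).2 hne
        rw [Scheme.basicOpen_res] at h
        exact hyD h.2
      obtain ⟨q, hq⟩ := h1.ge hy
      exact ⟨q, (congrArg hV.fromSpec hq).trans (hV.fromSpec_primeIdealOf ⟨y, hyV⟩)⟩
  have hrC : Set.range d.base = (C : Set X.left) ∩ (X.left.basicOpen f : Set X.left)ᶜ := by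
    rw [hrange]
    ext y
    exact ⟨fun h => ⟨by_contra fun hc => h.2 (hW'D y (hgle h.1) hc), h.2⟩,
      fun h => ⟨(hCx y h.1).mem_open V.2 hxg, h.2⟩⟩
  have hclosed : IsClosed (Set.range d.base) := hrC ▸ C.isClosed.inter (X.left.basicOpen f).2.isClosed_compl
  haveI hd : IsClosedImmersion d := IsClosedImmersion.of_isPreimmersion d hclosed
  have hker : d.ker.ideal ⟨V, hV⟩ = _root_.Ideal.span {fV} := by
    have happ : d.app V = r ≫ (Scheme.ΓSpecIso _).inv ≫ (Spec _).presheaf.map
        (eqToHom (show d ⁻¹ᵁ V = ⊤ by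
          rw [Scheme.Hom.comp_preimage, hV.fromSpec_preimage_self]; rfl)).op := by
      rw [Scheme.Hom.comp_app, hV.fromSpec_app_self, Category.assoc, Scheme.Hom.naturality,
        Scheme.ΓSpecIso_inv_naturality_assoc]
      rfl
    rw [Scheme.Hom.ker_apply, happ]
    ext a
    rw [RingHom.mem_ker, CommRingCat.hom_comp, RingHom.comp_apply,
      map_eq_zero_iff _ (ConcreteCategory.bijective_of_isIso _).injective]
    exact _root_.Ideal.Quotient.eq_zero_iff_mem
  have hxd : x ∈ Set.range d.base := hrange ▸ ⟨hxg, hfx⟩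
  have hne : fV ≠ 0 := fun h0 => by
    obtain ⟨z, hz, hzx, hzne⟩ := exists_generization hdim x hx hxs
    have hzV : z ∈ V := hzx.mem_open V.2 hxg
    have h := hf z hz hzx hzne
    have hzb : z ∈ X.left.basicOpen fV := by rw [Scheme.basicOpen_res]; exact ⟨hzV, h⟩
    rw [h0, Scheme.basicOpen_zero] at hzb
    exact hzb.elim
  haveI : Nonempty V := ⟨⟨x, hxg⟩⟩
  refine ⟨_, d, hd, inferInstance, fun y => ?_, fun p => ?_, ?_, ?_⟩
  · by_cases hy : y ∈ Set.range d.base
    · exact ⟨⟨V, hV⟩, (hrange ▸ hy).1, fV, mem_nonZeroDivisors_of_ne_zero hne, hker⟩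
    · obtain ⟨U', hU', hyU', hU'c⟩ := exists_isAffineOpen_mem_and_subset
        (show y ∈ (⟨(Set.range d.base)ᶜ, hclosed.isOpen_compl⟩ : X.left.Opens) from hy)
      refine ⟨⟨U', hU'⟩, hyU', 1, one_mem _, ?_⟩
      rw [_root_.Ideal.span_singleton_one, Scheme.Hom.ker_apply, eq_top_iff]
      rintro a -
      have hemp : d ⁻¹ᵁ U' = ⊥ := le_bot_iff.1 fun q hq => (hU'c hq ⟨q, rfl⟩).elim
      have hsub' : ∀ U'' : (Spec (CommRingCat.of (Γ(X.left, V) ⧸ _root_.Ideal.span {fV}))).Opens, U'' = ⊥ →
          ∀ b c : (Spec (CommRingCat.of (Γ(X.left, V) ⧸ _root_.Ideal.span {fV}))).presheaf.obj (Opposite.op U''),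
            b = c := by
        rintro _ rfl b c; exact Subsingleton.elim _ _
      exact hsub' _ hemp _ _
  · rcases mem_special_or_bot (d p) with hps | hps
    swap
    · exact ⟨p, specializes_rfl, hps⟩
    · have hpx : d p = x := by
        have : d p ∈ Set.range d.base ∩ Models.specialFibreSet R X := ⟨⟨p, rfl⟩, hps⟩
        rw [hrC] at this
        exact hCs.le ⟨this.1.1, hi ▸ this.2⟩
      obtain ⟨z, hz, hzx, hzne⟩ := exists_generization hdim x hx hxs
      have hzV : z ∈ V := hzx.mem_open V.2 hxg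
      set P := hV.primeIdealOf ⟨x, hxg⟩
      set Pz := hV.primeIdealOf ⟨z, hzV⟩
      have hfP : fV ∈ P.asIdeal := by
        by_contra hne'
        have h := (mem_basicOpen_iff hV hxg fV).2 hne'
        rw [Scheme.basicOpen_res] at h
        exact hfx h.2
      obtain ⟨Q, hQ, hQP⟩ := _root_.Ideal.exists_minimalPrimes_le
        ((_root_.Ideal.span_singleton_le_iff_mem (I := P.asIdeal)).2 hfP)
      haveI := hQ.1.1
      haveI : IsNoetherianRing Γ(X.left, V) := IsLocallyNoetherian.component_noetherian ⟨V, hV⟩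
      have hQh : Q.height ≤ 1 := _root_.Ideal.height_le_one_of_isPrincipal_of_mem_minimalPrimes _ Q hQ
      have hQne : Q ≠ P.asIdeal := fun e => by
        rw [e] at hQh
        have hlt : Pz.asIdeal < P.asIdeal := lt_of_le_of_ne
          ((Groth.Agent.Lib.AssPt.Basic.specializes_iff_primeIdealOf hV hxg hzV).1 hzx) fun e' => hzne (by
            have h := congrArg hV.fromSpec (show Pz = P from PrimeSpectrum.ext e')
            rwa [hV.fromSpec_primeIdealOf, hV.fromSpec_primeIdealOf] at h)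
        have h1 := (_root_.Ideal.height_strict_mono_of_isPrime hlt).trans_le hQh
        rw [Order.lt_one_iff] at h1
        haveI : (⊥ : _root_.Ideal Γ(X.left, V)).IsPrime := _root_.Ideal.isPrime_bot
        replace h1 : Pz.asIdeal = ⊥ := by_contra fun hne' => not_lt_zero
          ((_root_.Ideal.height_strict_mono_of_isPrime (bot_lt_iff_ne_bot.2 hne')).trans_eq h1)
        have hξ : genericPoint X.left ∈ V := (genericPoint_specializes x).mem_open V.2 hxg
        have h2 : Pz = hV.primeIdealOf ⟨genericPoint X.left, hξ⟩ := PrimeSpectrum.ext (le_antisymm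
          (h1.le.trans bot_le) ((Groth.Agent.Lib.AssPt.Basic.specializes_iff_primeIdealOf hV hzV hξ).1
            (genericPoint_specializes z)))
        have h3 := congrArg hV.fromSpec h2
        rw [hV.fromSpec_primeIdealOf, hV.fromSpec_primeIdealOf] at h3
        exact genericPoint_notMem (show genericPoint X.left ∈ _ from (show z = genericPoint X.left from h3) ▸ hz)
      let y := hV.fromSpec ⟨Q, hQ.1.1⟩
      have hyV : y ∈ V := hV.range_fromSpec.le ⟨_, rfl⟩
      have hPy : hV.primeIdealOf ⟨y, hyV⟩ = ⟨Q, hQ.1.1⟩ := by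
        apply hV.fromSpec.isOpenEmbedding.injective
        rw [hV.fromSpec_primeIdealOf]
      have hyD : y ∉ X.left.basicOpen f := fun h => by
        have hb : y ∈ X.left.basicOpen fV := by rw [Scheme.basicOpen_res]; exact ⟨hyV, h⟩
        exact ((mem_basicOpen_iff hV hyV fV).1 hb) (hPy.symm ▸ hQ.1.2 (_root_.Ideal.mem_span_singleton_self fV))
      obtain ⟨q, hq⟩ := hrange.ge ⟨hyV, hyD⟩
      have hyx : y ⤳ x := (Groth.Agent.Lib.AssPt.Basic.specializes_iff_primeIdealOf hV hxg hyV).2 (hPy.symm ▸ hQP)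
      refine ⟨q, d.isEmbedding.isInducing.specializes_iff.1 (hq.symm ▸ hpx.symm ▸ hyx), ?_⟩
      refine ((mem_special_or_bot (d q)).resolve_left fun hs => hQne ?_)
      have hm : d q ∈ (C : Set X.left) := (hrC.le ⟨q, rfl⟩).1
      have he : y = x := hq ▸ hCs.le ⟨hm, hi ▸ hs⟩
      have : hV.primeIdealOf ⟨y, hyV⟩ = P := congrArg hV.primeIdealOf (Subtype.ext he)
      exact congrArg PrimeSpectrum.asIdeal (hPy.symm.trans this)
  · refine Set.Subset.antisymm (fun y hy => hCs.le ⟨(hrC.le hy.1).1, hi ▸ hy.2⟩) ?_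
    rintro _ rfl
    exact ⟨hxd, hxs⟩
  · rw [Groth.Agent.Lib.Ideal.Prime.stalkIdeal_eq _ ⟨V, hV⟩ hxg, hker, _root_.Ideal.map_span, Set.image_singleton]
    exact congrArg (fun a => _root_.Ideal.span {a}) (X.left.presheaf.germ_res_apply (homOfLE hVU) x hxg f)

end

end Groth.Agent.Lib.ModelFibre.HorizDiv
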