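import Mathlib
import Groth.Agent.Lib.ModelFibre.CutModule
import Groth.Agent.Lib.ModelFibre.RegPoint
import Groth.Agent.Lib.Regular.Quotient
import Groth.Agent.Lib.Henselian.QuasiFinite

/-!
# Finite flat multisections through a component of the closed fibre

For a flat algebra `A` of finite type over a henselian discrete valuation ring `R` with algebraically
closed residue field and a prime `P` minimal among the primes over the maximal ideal of `R`, there is
a quotient of `A` which is finite free over `R` of rank the length of `A_P ⊗ k`.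
-/

universe u

open IsLocalRing RingTheory.Sequence Function
open Groth.Agent.Lib.ModelFibre.CutModule
open scoped Pointwise

namespace Groth.Agent.Lib.ModelFibre.Multisection

variable {A : Type u} [CommRing A]

/-- `(A/J)_S ≅ S⁻¹A / J S⁻¹A`. -/
noncomputable def localizedQuotEquiv (S : Submonoid A) (J : Ideal A) :
    LocalizedModule S (A ⧸ J) ≃ₗ[Localization S]
      (Localization S ⧸ J.map (algebraMap A (Localization S))) :=
  let e0 : (A ⧸ J) ≃ₗ[A] (A ⧸ (J • ⊤ : Submodule A A)) := Submodule.quotEquivOfEq _ _ (by simp)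
  let e1 := IsLocalizedModule.linearEquiv S
    (LocalizedModule.mkLinearMap S (A ⧸ (J • ⊤ : Submodule A A)))
    (quotMap (Algebra.linearMap A (Localization S)) J)
  let e2 : (Localization S ⧸ (J • ⊤ : Submodule A (Localization S))) ≃ₗ[A]
      (Localization S ⧸ J.map (algebraMap A (Localization S))) :=
    (Submodule.quotEquivOfEq _ ((J.map (algebraMap A (Localization S))).restrictScalars A)
      (Ideal.smul_top_eq_map J)).trans (Submodule.Quotient.restrictScalarsEquiv A _)
  (locEquiv S e0).trans ((e1.trans e2).extendScalarsOfIsLocalization S (Localization S))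

/-- The localization of a quotient ring at a prime, as a localization of modules. -/
theorem isLocalizedModule_quotient {J 𝔐 : Ideal A} [𝔐.IsPrime] (hJ : J ≤ 𝔐)
    (q : Ideal (A ⧸ J)) [q.IsPrime] (hq : q.comap (Ideal.Quotient.mk J) = 𝔐) :
    IsLocalizedModule 𝔐.primeCompl
      (IsScalarTower.toAlgHom A (A ⧸ J) (Localization.AtPrime q)).toLinearMap := by
  have e : Algebra.algebraMapSubmonoid (A ⧸ J) 𝔐.primeCompl = q.primeCompl := by
    ext x
    constructor
    · rintro ⟨s, hs, rfl⟩
      exact fun h => hs (hq ▸ (show s ∈ q.comap (Ideal.Quotient.mk J) from h))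
    · intro hx
      obtain ⟨s, rfl⟩ := Ideal.Quotient.mk_surjective x
      exact ⟨s, fun h => hx ((hq.symm ▸ h : s ∈ q.comap (Ideal.Quotient.mk J))), rfl⟩
  rw [isLocalizedModule_iff_isLocalization, e]
  infer_instance

/-- The length of a reduced finite free module. -/
theorem length_quotSMulTop_pi {R : Type u} [CommRing R] {π : R} (hπ : (Ideal.span {π}).IsMaximal)
    (n : ℕ) : Module.length R (QuotSMulTop π (Fin n → R)) = n := by
  let Φ : (Fin n → R) →ₗ[R] (Fin n → R ⧸ Ideal.span {π}) :=
    LinearMap.pi fun i => (Ideal.span {π} : Submodule R R).mkQ.comp (LinearMap.proj i)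
  have hΦ : Surjective Φ := fun y => by
    choose g hg using fun i => Submodule.mkQ_surjective (Ideal.span {π} : Submodule R R) (y i)
    exact ⟨g, funext hg⟩
  have hker : π • (⊤ : Submodule R (Fin n → R)) = LinearMap.ker Φ := by
    ext x
    rw [Submodule.mem_smul_pointwise_iff_exists]
    constructor
    · rintro ⟨y, -, rfl⟩
      rw [LinearMap.mem_ker]
      ext i
      exact Ideal.Quotient.eq_zero_iff_mem.2 (Ideal.mem_span_singleton.2 (dvd_mul_right π (y i)))
    · intro hx
      have h : ∀ i, π ∣ x i := fun i =>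
        Ideal.mem_span_singleton.1 (Ideal.Quotient.eq_zero_iff_mem.1 (congrFun hx i))
      choose y hy using h
      exact ⟨y, trivial, funext fun i => (hy i).symm⟩
  rw [((Submodule.quotEquivOfEq _ _ hker).trans (Φ.quotKerEquivOfSurjective hΦ)).length_eq,
    Module.length_pi_of_fintype]
  have : IsSimpleModule R (R ⧸ Ideal.span {π}) :=
    isSimpleModule_iff_quot_maximal.2 ⟨_, hπ, ⟨LinearEquiv.refl _ _⟩⟩
  simp [Module.length_eq_one]

variable {R : Type u} [CommRing R] [IsDomain R] [IsDiscreteValuationRing R] [Algebra R A]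
  [Algebra.FiniteType R A]

/-- Residue fields of closed points of the closed fibre have length one over `R`. -/
theorem length_quotient_maximal [IsAlgClosed (ResidueField R)] (n : Ideal A) [n.IsMaximal]
    (hn : (maximalIdeal R).map (algebraMap R A) ≤ n) : Module.length R (A ⧸ n) = 1 := by
  letI : Field (A ⧸ n) := Ideal.Quotient.field n
  letI : Algebra (ResidueField R) (A ⧸ n) :=
    (Ideal.Quotient.lift (maximalIdeal R) (algebraMap R (A ⧸ n)) fun r hr =>
      Ideal.Quotient.eq_zero_iff_mem.2 (hn (Ideal.mem_map_of_mem _ hr))).toAlgebra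
  have : IsScalarTower R (ResidueField R) (A ⧸ n) := IsScalarTower.of_algebraMap_eq fun _ => rfl
  have : Algebra.FiniteType (ResidueField R) (A ⧸ n) := .of_restrictScalars_finiteType R _ _
  have : Module.Finite (ResidueField R) (A ⧸ n) := finite_of_finite_type_of_isJacobsonRing _ _
  have hs : Surjective (algebraMap R (A ⧸ n)) := by
    rw [IsScalarTower.algebraMap_eq R (ResidueField R) (A ⧸ n)]
    exact (IsAlgClosed.algebraMap_bijective_of_isIntegral (k := ResidueField R)).2.comp
      IsLocalRing.residue_surjective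
  rw [Module.length_eq_of_surjective (R := A ⧸ n) (M := A ⧸ n) hs]
  exact Module.length_eq_one _ _

/-- A finite flat quotient of `A` cutting the closed fibre near a general point of the component `P`. -/
theorem exists_finite_free_quotient [HenselianLocalRing R] [IsAlgClosed (ResidueField R)]
    [Module.Flat R A] (P : Ideal A) [P.IsPrime] (hP : (maximalIdeal R).map (algebraMap R A) ≤ P)
    (hmin : ∀ p : Ideal A, p.IsPrime → (maximalIdeal R).map (algebraMap R A) ≤ p → p ≤ P → p = P) :
    ∃ (ℓ : ℕ) (B : Type u) (_ : CommRing B) (_ : Algebra R B) (φ : A →ₐ[R] B),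
      Surjective φ ∧ Module.Finite R B ∧ Module.Free R B ∧ Module.finrank R B = ℓ ∧
      Module.length (Localization.AtPrime P) (Localization.AtPrime P ⧸
        ((maximalIdeal R).map (algebraMap R A)).map (algebraMap A (Localization.AtPrime P))) = ℓ := by
  have : IsNoetherianRing A := Algebra.FiniteType.isNoetherianRing R A
  obtain ⟨π, hπ⟩ := IsDiscreteValuationRing.exists_irreducible R
  have hmR := (IsDiscreteValuationRing.irreducible_iff_uniformizer π).mp hπ
  set a := algebraMap R A π with ha
  have hmap : (maximalIdeal R).map (algebraMap R A) = Ideal.span {a} := by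
    rw [hmR, Ideal.map_span, Set.image_singleton]
  have haP : a ∈ P := hP (hmap ▸ Ideal.mem_span_singleton_self a)
  have hmin' : ∀ p : Ideal A, p.IsPrime → a ∈ p → p ≤ P → p = P := fun p hp hap =>
    hmin p hp (by rwa [hmap, Ideal.span_singleton_le_iff_mem])
  obtain ⟨g, hgP, hcut⟩ := exists_open_cut a P hmin' (A ⧸ Ideal.span {a}) fun x => by
    obtain ⟨x, rfl⟩ := Ideal.Quotient.mk_surjective x
    rw [Algebra.smul_def, Ideal.Quotient.algebraMap_eq, ← map_mul, Ideal.Quotient.eq_zero_iff_mem]
    exact Ideal.mul_mem_right _ _ (Ideal.mem_span_singleton_self a)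
  -- a regular closed point of the component
  letI : Algebra (ResidueField R) (A ⧸ P) :=
    (Ideal.Quotient.lift (maximalIdeal R) (algebraMap R (A ⧸ P)) fun r hr =>
      Ideal.Quotient.eq_zero_iff_mem.2 (hP (Ideal.mem_map_of_mem _ hr))).toAlgebra
  have : IsScalarTower R (ResidueField R) (A ⧸ P) := IsScalarTower.of_algebraMap_eq fun _ => rfl
  have : Algebra.FiniteType (ResidueField R) (A ⧸ P) := .of_restrictScalars_finiteType R _ _
  obtain ⟨n, hn, hgn, hreg⟩ := RegPoint.exists_isRegularLocalRing (k := ResidueField R)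
    (C := A ⧸ P) (g := Ideal.Quotient.mk P g) fun h => hgP (Ideal.Quotient.eq_zero_iff_mem.1 h)
  set 𝔐 := n.comap (Ideal.Quotient.mk P) with h𝔐
  have : 𝔐.IsMaximal := Ideal.comap_isMaximal_of_surjective _ Ideal.Quotient.mk_surjective
  have hP𝔐 : P ≤ 𝔐 := fun x hx => by
    show Ideal.Quotient.mk P x ∈ n
    rw [Ideal.Quotient.eq_zero_iff_mem.2 hx]; exact n.zero_mem
  let C := Localization.AtPrime n
  -- regular parameters at the point, lifted to `A`
  obtain ⟨t, htc, htspan⟩ :=
    Submodule.FG.exists_span_finset_card_eq_spanFinrank (Ideal.fg_of_isNoetherianRing (maximalIdeal C))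
  have htspan' : Ideal.span (t : Set C) = maximalIdeal C := htspan
  have hlift : ∀ x : C, ∃ y : A, Associated x (algebraMap A C y) := fun x => by
    obtain ⟨⟨c, s⟩, hc⟩ := IsLocalization.surj n.primeCompl x
    obtain ⟨y, rfl⟩ := Ideal.Quotient.mk_surjective c
    exact ⟨y, (IsLocalization.map_units C s).unit, hc⟩
  choose lift hlift' using hlift
  set rs : List A := t.toList.map lift with hrs
  have hspan : Ideal.ofList (rs.map (algebraMap A C)) = maximalIdeal C := by
    rw [← htspan', Ideal.ofList]
    refine le_antisymm (Ideal.span_le.2 ?_) (Ideal.span_le.2 ?_)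
    · intro z hz
      simp only [hrs, Set.mem_setOf_eq, List.mem_map, Finset.mem_toList] at hz
      obtain ⟨_, ⟨x, hx, rfl⟩, rfl⟩ := hz
      obtain ⟨u, hu⟩ := hlift' x
      rw [← hu]
      exact Ideal.mul_mem_right _ _ (Ideal.subset_span hx)
    · intro x hx
      obtain ⟨u, hu⟩ := (hlift' x).symm
      rw [← hu]
      refine Ideal.mul_mem_right _ _ (Ideal.subset_span ?_)
      simp only [hrs, Set.mem_setOf_eq, List.mem_map, Finset.mem_toList]
      exact ⟨_, ⟨x, hx, rfl⟩, rfl⟩
  have hlen : (rs.map (algebraMap A C)).length = (maximalIdeal C).spanFinrank := by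
    rw [← htc]; simp [hrs]
  have hrsC : IsWeaklyRegular C rs :=
    (isWeaklyRegular_map_algebraMap_iff C C rs).1
      (Groth.Agent.Lib.Regular.Quotient.isRegular_of_span_eq_maximalIdeal _ hspan hlen).toIsWeaklyRegular
  have hrs𝔐 : ∀ r ∈ rs, r ∈ 𝔐 := fun r hr => by
    have : algebraMap A C r ∈ maximalIdeal C :=
      hspan ▸ Ideal.subset_span (List.mem_map_of_mem hr)
    rw [IsScalarTower.algebraMap_apply A (A ⧸ P) C,
      IsLocalization.AtPrime.to_map_mem_maximal_iff C n] at this
    exact this
  -- the hypothesis of the cutting theorem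
  have : IsLocalizedModule 𝔐.primeCompl (IsScalarTower.toAlgHom A (A ⧸ P) C).toLinearMap :=
    isLocalizedModule_quotient hP𝔐 n rfl
  let eC := IsLocalizedModule.linearEquiv 𝔐.primeCompl
    (LocalizedModule.mkLinearMap 𝔐.primeCompl (A ⧸ P)) (IsScalarTower.toAlgHom A (A ⧸ P) C).toLinearMap
  have hlenC : Module.length A (C ⧸ (Ideal.ofList rs • ⊤ : Submodule A C)) = 1 := by
    have e : (Ideal.ofList rs • ⊤ : Submodule A C) = (maximalIdeal C).restrictScalars A := by
      rw [Ideal.smul_top_eq_map, Ideal.map_ofList, hspan]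
    rw [((Submodule.quotEquivOfEq _ _ e).trans
      (Submodule.Quotient.restrictScalarsEquiv A (maximalIdeal C))).length_eq]
    have hs : Surjective (algebraMap A (C ⧸ maximalIdeal C)) := fun z => by
      obtain ⟨c, hc⟩ := (IsLocalization.AtPrime.equivQuotMaximalIdeal n C).surjective z
      obtain ⟨c, rfl⟩ := Ideal.Quotient.mk_surjective c
      obtain ⟨y, rfl⟩ := Ideal.Quotient.mk_surjective c
      refine ⟨y, ?_⟩
      rw [← hc, IsLocalization.AtPrime.equivQuotMaximalIdeal_apply_mk]
      rfl
    letI : Field (C ⧸ maximalIdeal C) := Ideal.Quotient.field _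
    rw [Module.length_eq_of_surjective (R := C ⧸ maximalIdeal C) (M := C ⧸ maximalIdeal C) hs]
    exact Module.length_eq_one _ _
  obtain ⟨hwreg, hwlen⟩ := hcut 𝔐 hgn rs ((eC.isWeaklyRegular_congr rs).2 hrsC)
    ((Submodule.Quotient.equiv _ _ eC (by rw [Submodule.map_smul'', Submodule.map_top,
      LinearEquiv.range])).length_eq.trans hlenC)
  -- the length at `P` is finite
  let AP := Localization.AtPrime P
  have hne : ((maximalIdeal R).map (algebraMap R A)).map (algebraMap A AP) ≠ ⊤ :=
    ne_top_of_le_ne_top (maximalIdeal.isMaximal AP).ne_top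
      ((Ideal.map_mono hP).trans Localization.AtPrime.map_eq_maximalIdeal.le)
  have hfin : Module.length AP (AP ⧸ ((maximalIdeal R).map (algebraMap R A)).map (algebraMap A AP)) ≠ ⊤ := by
    set I := ((maximalIdeal R).map (algebraMap R A)).map (algebraMap A AP) with hI
    have : IsNoetherianRing AP := IsLocalization.isNoetherianRing P.primeCompl _ inferInstance
    have : Ring.KrullDimLE 0 (AP ⧸ I) := by
      refine Ring.krullDimLE_zero_iff.2 fun J hJ => ?_
      have h1 : (J.comap (Ideal.Quotient.mk I)).comap (algebraMap A AP) = P := by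
        refine hmin _ inferInstance ?_ ?_
        · rw [← Ideal.map_le_iff_le_comap]
          exact fun x hx => by
            show Ideal.Quotient.mk I x ∈ J
            rw [Ideal.Quotient.eq_zero_iff_mem.2 hx]; exact J.zero_mem
        · refine (Ideal.comap_mono (le_maximalIdeal ?_)).trans
            (IsLocalization.AtPrime.comap_maximalIdeal AP P).le
          exact Ideal.IsPrime.ne_top inferInstance
      have h2 : maximalIdeal AP ≤ J.comap (Ideal.Quotient.mk I) := by
        rw [← Localization.AtPrime.map_eq_maximalIdeal, Ideal.map_le_iff_le_comap, h1]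
      have h3 : (J.comap (Ideal.Quotient.mk I)).IsMaximal :=
        (le_antisymm h2 (le_maximalIdeal (Ideal.IsPrime.ne_top inferInstance))) ▸ maximalIdeal.isMaximal AP
      exact Ideal.map_comap_of_surjective _ Ideal.Quotient.mk_surjective J ▸
        (Ideal.IsMaximal.map_of_surjective_of_ker_le (f := Ideal.Quotient.mk I)
          Ideal.Quotient.mk_surjective (Ideal.ker_le_comap _))
    have : IsArtinianRing (AP ⧸ I) := IsNoetherianRing.isArtinianRing_of_krullDimLE_zero
    rw [Module.length_eq_of_surjective (R := AP ⧸ I) (M := AP ⧸ I) Ideal.Quotient.mk_surjective]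
    exact Module.length_ne_top
  obtain ⟨ℓ, hℓ⟩ := ENat.ne_top_iff_exists.1 hfin
  have hlenP : Module.length (Localization.AtPrime P) (LocalizedModule P.primeCompl (A ⧸ Ideal.span {a})) = ℓ := by
    rw [(localizedQuotEquiv P.primeCompl (Ideal.span {a})).length_eq, ← hmap]
    exact hℓ.symm
  rw [hlenP] at hwlen
  -- the regular sequence `rs ++ [a]` on `A_𝔐`
  let L := Localization.AtPrime 𝔐
  have haL : IsSMulRegular L a := by
    have : Module.Flat R L := .trans R A L
    have hπL : IsSMulRegular L π :=
      Module.Flat.isSMulRegular_of_isRegular (isRegular_of_ne_zero hπ.ne_zero)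
    intro x y h
    exact hπL (by simpa [ha, algebraMap_smul] using h)
  let eL : LocalizedModule 𝔐.primeCompl (A ⧸ Ideal.span {a}) ≃ₗ[A] QuotSMulTop a L :=
    ((localizedQuotEquiv 𝔐.primeCompl (Ideal.span {a})).restrictScalars A).trans
      (((Submodule.Quotient.restrictScalarsEquiv A _).symm).trans (Submodule.quotEquivOfEq _ _ (by
        rw [← Submodule.ideal_span_singleton_smul a (⊤ : Submodule A L), Ideal.smul_top_eq_map])))
  have hwreg1 : IsWeaklyRegular L (a :: rs) :=
    (isWeaklyRegular_cons_iff _ _ _).2 ⟨haL, (eL.isWeaklyRegular_congr rs).1 hwreg⟩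
  have hlenL : Module.length A (L ⧸ (Ideal.ofList (a :: rs) • ⊤ : Submodule A L)) = ℓ := by
    rw [(Submodule.quotOfListConsSMulTopEquivQuotSMulTopInner L a rs).length_eq, ← hwlen]
    exact (Submodule.Quotient.equiv _ _ eL (by rw [Submodule.map_smul'', Submodule.map_top,
      LinearEquiv.range])).length_eq.symm
  have hperm : IsWeaklyRegular L (rs ++ [a]) := by
    have : IsNoetherianRing L := IsLocalization.isNoetherianRing 𝔐.primeCompl _ inferInstance
    rw [← isWeaklyRegular_map_algebraMap_iff L L] at hwreg1 ⊢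
    refine IsLocalRing.isWeaklyRegular_of_perm_of_subset_maximalIdeal hwreg1
      ((List.perm_append_singleton a rs).symm.map (algebraMap A L)) fun r hr => ?_
    have hmem : ∀ x ∈ a :: rs, algebraMap A L x ∈ maximalIdeal L := fun x hx => by
      rw [IsLocalization.AtPrime.to_map_mem_maximal_iff L 𝔐]
      rcases List.mem_cons.1 hx with h | h
      · rw [h]; exact hP𝔐 haP
      · exact hrs𝔐 x h
    obtain ⟨x, hx, rfl⟩ := List.mem_map.1 (show r ∈ (a :: rs).map (algebraMap A L) from hr)
    exact hmem x hx
  rw [isWeaklyRegular_append_iff, isWeaklyRegular_singleton_iff] at hperm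
  -- the local ring of the multisection
  set J := Ideal.ofList rs with hJ
  have hJ𝔐 : J ≤ 𝔐 := Ideal.span_le.2 hrs𝔐
  set q := 𝔐.map (Ideal.Quotient.mk J) with hq
  have : q.IsMaximal := Ideal.IsMaximal.map_of_surjective_of_ker_le Ideal.Quotient.mk_surjective
    (by rwa [Ideal.mk_ker])
  have hqc : q.comap (Ideal.Quotient.mk J) = 𝔐 := by
    rw [hq, Ideal.comap_map_of_surjective _ Ideal.Quotient.mk_surjective, ← RingHom.ker_eq_comap_bot,
      Ideal.mk_ker, sup_eq_left.2 hJ𝔐]
  let B := Localization.AtPrime q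
  have : IsLocalizedModule 𝔐.primeCompl (IsScalarTower.toAlgHom A (A ⧸ J) B).toLinearMap :=
    isLocalizedModule_quotient hJ𝔐 q hqc
  let eJ : (A ⧸ J) ≃ₗ[A] (A ⧸ (J • ⊤ : Submodule A A)) := Submodule.quotEquivOfEq _ _ (by simp)
  let eB : B ≃ₗ[A] (L ⧸ (J • ⊤ : Submodule A L)) :=
    IsLocalizedModule.linearEquiv 𝔐.primeCompl (IsScalarTower.toAlgHom A (A ⧸ J) B).toLinearMap
      ((quotMap (Algebra.linearMap A L) J).comp eJ.toLinearMap)
  have haB : IsSMulRegular B a := (eB.isSMulRegular_congr a).2 hperm.2
  have hlenB : Module.length A (QuotSMulTop a B) = ℓ := by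
    rw [(QuotSMulTop.congr a eB).length_eq, ← hlenL]
    exact (Submodule.quotOfListConsSMulTopEquivQuotSMulTopOuter L a rs).length_eq.symm
  have hlenR : Module.length R (QuotSMulTop a B) = ℓ := by
    rw [length_eq_of_residue (R := R) (Ideal.span {a})
      (fun n hn hle => length_quotient_maximal n (hmap ▸ hle)) _ ?_ ?_, hlenB]
    · rw [← Module.length_ne_top_iff, hlenB]; exact ENat.coe_ne_top ℓ
    · intro b hb x
      obtain ⟨c, rfl⟩ := Ideal.mem_span_singleton'.1 hb
      rw [mul_smul, Module.mem_annihilator.1 (QuotSMulTop.mem_annihilator B a) x, smul_zero]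
  have hfinR : Module.Finite R (QuotSMulTop a B) := by
    have h : IsFiniteLength R (QuotSMulTop a B) := by
      rw [← Module.length_ne_top_iff, hlenR]; exact ENat.coe_ne_top ℓ
    obtain ⟨_, _⟩ := isFiniteLength_iff_isNoetherian_isArtinian.1 h
    exact inferInstance
  -- `B` is a finite quotient of `A`
  have : Algebra.FiniteType R (A ⧸ J) := inferInstance
  have hqm : q.under R = maximalIdeal R := by
    refine ((maximalIdeal.isMaximal R).eq_of_le (Ideal.IsPrime.ne_top inferInstance) ?_).symm
    rw [hmR, Ideal.span_singleton_le_iff_mem]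
    show algebraMap R (A ⧸ J) π ∈ q
    exact Ideal.mem_map_of_mem _ (hP𝔐 haP)
  have : q.LiesOver (maximalIdeal R) := ⟨hqm.symm⟩
  have : Algebra.WeaklyQuasiFiniteAt R q := by
    rw [Algebra.weaklyQuasiFiniteAt_iff, hqm, hmR, Ideal.map_span, Set.image_singleton]
    have e : (a • ⊤ : Submodule A B) = (Ideal.span {algebraMap R B π}).restrictScalars A := by
      rw [← Submodule.ideal_span_singleton_smul, Ideal.smul_top_eq_map, Ideal.map_span,
        Set.image_singleton, ha, ← IsScalarTower.algebraMap_apply R A B]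
    let e' := (Submodule.quotEquivOfEq _ _ e).trans
      (Submodule.Quotient.restrictScalarsEquiv A (Ideal.span {algebraMap R B π}))
    have : Module.Finite R (B ⧸ Ideal.span {algebraMap R B π}) :=
      Module.Finite.equiv (e'.restrictScalars R)
    infer_instance
  have : Algebra.QuasiFiniteAt R q := Algebra.QuasiFiniteAt.of_weaklyQuasiFiniteAt q
  obtain ⟨e, he, heq, hfin1⟩ :=
    Groth.Agent.Lib.Henselian.QuasiFinite.exists_idempotent_of_quasiFiniteAt (R := R) q
  set J1 := Ideal.span ({1 - e} : Set (A ⧸ J)) with hJ1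
  have hJ1q : J1 ≤ q := by
    rw [hJ1, Ideal.span_singleton_le_iff_mem]
    exact ((Ideal.IsPrime.mem_or_mem inferInstance
      (show e * (1 - e) ∈ q by rw [mul_sub, mul_one, he.eq, sub_self]; exact q.zero_mem))).resolve_left heq
  have hkill : ∀ x ∈ J1, algebraMap (A ⧸ J) B x = 0 := fun x hx => by
    obtain ⟨c, rfl⟩ := Ideal.mem_span_singleton'.1 hx
    rw [map_mul]
    have h1 : algebraMap (A ⧸ J) B e * algebraMap (A ⧸ J) B (1 - e) = 0 := by
      rw [← map_mul, mul_sub, mul_one, he.eq, sub_self, map_zero]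
    rw [((IsLocalization.map_units B (⟨e, heq⟩ : q.primeCompl)).mul_right_eq_zero).1 h1, mul_zero]
  let ψ : ((A ⧸ J) ⧸ J1) →ₐ[R] B :=
    Ideal.Quotient.liftₐ J1 (IsScalarTower.toAlgHom R (A ⧸ J) B) hkill
  have hψ : ∀ x, ψ (Ideal.Quotient.mk J1 x) = algebraMap (A ⧸ J) B x := fun x => rfl
  set q1 := q.map (Ideal.Quotient.mk J1) with hq1
  have : q1.IsMaximal := Ideal.IsMaximal.map_of_surjective_of_ker_le Ideal.Quotient.mk_surjective
    (by rwa [Ideal.mk_ker])
  have hq1c : ∀ x, Ideal.Quotient.mk J1 x ∈ q1 ↔ x ∈ q := fun x => by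
    rw [← Ideal.mem_comap, hq1, Ideal.comap_map_of_surjective _ Ideal.Quotient.mk_surjective,
      ← RingHom.ker_eq_comap_bot, Ideal.mk_ker, sup_eq_left.2 hJ1q]
  obtain ⟨ε, hε, hεq, hε'⟩ := Groth.Agent.Lib.Henselian.Finite.exists_idempotent_maximal (A := R)
    (Groth.Agent.Lib.Henselian.Pair.idempotents_bijOn (maximalIdeal R) ((A ⧸ J) ⧸ J1)).surjOn
    ⟨q1, inferInstance⟩
  have hψε : ψ ε = 1 := by
    obtain ⟨ε, rfl⟩ := Ideal.Quotient.mk_surjective ε
    have hu : IsUnit (algebraMap (A ⧸ J) B ε) :=
      IsLocalization.map_units B (⟨ε, fun h => hεq ((hq1c ε).2 h)⟩ : q.primeCompl)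
    have h2 : ψ (Ideal.Quotient.mk J1 ε) * ψ (Ideal.Quotient.mk J1 ε) = ψ (Ideal.Quotient.mk J1 ε) := by
      rw [← map_mul, hε.eq]
    exact hu.mul_eq_left.1 h2
  have hψsurj : Surjective ψ := by
    intro y
    obtain ⟨x, ⟨s, hs⟩, rfl⟩ := IsLocalization.exists_mk'_eq q.primeCompl y
    set s1 := Ideal.Quotient.mk J1 s
    have hu : IsUnit (s1 * ε + (1 - ε)) := by
      by_contra h
      obtain ⟨m, hm, hmem⟩ := exists_max_ideal_of_mem_nonunits (mem_nonunits_iff.2 h)
      by_cases hmq : m = q1
      · subst hmq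
        have h1 : ε * (1 - ε) ∈ q1 := by rw [mul_sub, mul_one, hε.eq, sub_self]; exact q1.zero_mem
        have h2 := (Ideal.IsPrime.mem_or_mem inferInstance h1).resolve_left hεq
        have h3 : s1 * ε ∈ q1 := (Ideal.add_mem_iff_left _ h2).1 hmem
        exact ((Ideal.IsPrime.mem_or_mem inferInstance h3).resolve_right hεq) |> fun h4 =>
          hs ((hq1c s).1 h4)
      · have hεm : ε ∈ m := hε' ⟨m, hm⟩ fun h' => hmq (congrArg MaximalSpectrum.asIdeal h')
        have h2 : (1 - ε) ∈ m := (Ideal.add_mem_iff_right _ (m.mul_mem_left _ hεm)).1 hmem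
        exact hm.ne_top (m.eq_top_iff_one.2 (by simpa using m.add_mem h2 hεm))
    obtain ⟨w, hw⟩ := hu.exists_right_inv
    have hw' : algebraMap (A ⧸ J) B s * ψ w = 1 := by
      have := congrArg ψ hw
      rw [map_mul, map_add, map_mul, map_sub, map_one, hψε, hψ] at this
      simpa using this
    refine ⟨Ideal.Quotient.mk J1 x * w, ?_⟩
    rw [map_mul, hψ, IsLocalization.eq_mk'_iff_mul_eq, mul_assoc, mul_comm (ψ w), hw', mul_one]
  have hBfin : Module.Finite R B := Module.Finite.of_surjective ψ.toLinearMap hψsurj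
  have hπB : IsSMulRegular B π := fun x y h => haB (by simpa [ha, algebraMap_smul] using h)
  have : Module.IsTorsionFree R B := ⟨fun r hr => by
    obtain ⟨n, u, rfl⟩ := IsDiscreteValuationRing.eq_unit_mul_pow_irreducible hr.ne_zero hπ
    exact (u.isUnit.isSMulRegular B).mul (hπB.pow n)⟩
  have hfree : Module.Free R B := Module.free_of_finite_type_torsion_free'
  refine ⟨ℓ, B, inferInstance, inferInstance,
    (ψ.comp (Ideal.Quotient.mkₐ R J1)).comp (Ideal.Quotient.mkₐ R J),
    (hψsurj.comp Ideal.Quotient.mk_surjective).comp Ideal.Quotient.mk_surjective,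
    hBfin, hfree, ?_, hℓ.symm⟩
  let b : B ≃ₗ[R] (Fin (Module.finrank R B) → R) := (Module.finBasis R B).equivFun
  have e1 : (a • ⊤ : Submodule A B).restrictScalars R = π • (⊤ : Submodule R B) := by
    ext x
    simp only [Submodule.restrictScalars_mem, Submodule.mem_smul_pointwise_iff_exists]
    constructor <;> rintro ⟨y, -, rfl⟩ <;> refine ⟨y, trivial, ?_⟩ <;> simp [ha, algebraMap_smul]
  have h := length_quotSMulTop_pi (π := π) (by rw [← hmR]; infer_instance) (Module.finrank R B)
  rw [← (QuotSMulTop.congr π b).length_eq, ← ((Submodule.Quotient.restrictScalarsEquiv R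
    (a • ⊤ : Submodule A B)).symm.trans (Submodule.quotEquivOfEq _ _ e1)).length_eq] at h
  exact_mod_cast h.symm.trans hlenR

end Groth.Agent.Lib.ModelFibre.Multisection
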