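import Groth.Prelude.Def_ModelsG
import Groth.Agent.Lib.ModelFibre.SmoothGeneric
import Groth.Agent.Lib.ModelFibre.StalkIdeal
import Groth.Agent.Lib.ModelFibre.Multisection
import Groth.Agent.Lib.Regular.UFD
import Groth.Agent.Lib.Cyc.DimFormula
import Groth.Agent.Lib.Dim.Basic

/-!
# Local structure of a regular model of a curve along a horizontal divisor
-/

universe u

open CategoryTheory Limits AlgebraicGeometry IsLocalRing TopologicalSpace Groth.Agent.Lib.ModelFibre
open scoped Pointwise

namespace Groth.Agent.Lib.ModelFibre.Horizontal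

variable {R : Type u} [CommRing R] [IsDomain R] [IsDiscreteValuationRing R]

/-- Local rings of an integral scheme of finite type over a discrete valuation ring, with generic fibre
of dimension one, have dimension at most two. -/
theorem ringKrullDim_stalk_le_two {X C : Scheme.{u}} (p : X ⟶ Spec (CommRingCat.of R)) [IsIntegral X]
    [LocallyOfFiniteType p] (fC : C ⟶ Spec (CommRingCat.of (FractionRing R))) (iX : C ⟶ X)
    (hiX : IsPullback iX fC p (Spec.map (CommRingCat.ofHom (algebraMap R (FractionRing R)))))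
    [IsIntegral C] [LocallyOfFiniteType fC] (hdim : topologicalKrullDim C ≤ 1) (z : X) :
    ringKrullDim (X.presheaf.stalk z) ≤ 2 := by
  set K := FractionRing R
  have := SmoothGeneric.isOpenImmersion_gK hiX
  have : IsAffineHom iX := MorphismProperty.of_isPullback hiX.flip inferInstance
  obtain ⟨U, hU, hzU, -⟩ := exists_isAffineOpen_mem_and_subset (show z ∈ (⊤ : X.Opens) from trivial)
  have : Nonempty (U : Set X) := ⟨⟨z, hzU⟩⟩
  have : IsDomain Γ(X, U) := @IsIntegral.component_integral _ _ U ⟨⟨z, hzU⟩⟩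
  set V : C.Opens := iX ⁻¹ᵁ U
  have hV : IsAffineOpen V := hU.preimage iX
  have hgen : genericPoint X ∈ U := (genericPoint_specializes z).mem_open U.2 hzU
  have : Nonempty (V : C.Opens).toScheme := ⟨⟨genericPoint C, by
    show iX (genericPoint C) ∈ U
    rw [genericPoint_eq_of_isOpenImmersion iX]
    exact hgen⟩⟩
  have : IsDomain Γ(C, V) := @IsIntegral.component_integral _ _ V ‹_›
  let ψ : Γ(X, U) →+* Γ(C, V) := (iX.app U).hom
  have hψ : Function.Injective ψ := by
    intro a b hab
    have h1 := congrArg (C.presheaf.germ V (genericPoint C) (by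
      show iX (genericPoint C) ∈ U
      rw [genericPoint_eq_of_isOpenImmersion iX]; exact hgen)) hab
    simp only [ψ] at h1
    have hm : iX (genericPoint C) ∈ U := by rw [genericPoint_eq_of_isOpenImmersion iX]; exact hgen
    have h2 := (ConcreteCategory.bijective_of_isIso (iX.stalkMap (genericPoint C))).1
      ((Scheme.Hom.germ_stalkMap_apply iX U (genericPoint C) hm a).trans
        (h1.trans (Scheme.Hom.germ_stalkMap_apply iX U (genericPoint C) hm b).symm))
    exact germ_injective_of_isIntegral _ _ hm h2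
  let ρ : R →+* Γ(X, U) :=
    (p.appLE ⊤ U (by simp)).hom.comp (Scheme.ΓSpecIso (CommRingCat.of R)).inv.hom
  let σ : K →+* Γ(C, V) :=
    (fC.appLE ⊤ V (by simp)).hom.comp (Scheme.ΓSpecIso (CommRingCat.of K)).inv.hom
  have hρσ : ψ.comp ρ = σ.comp (algebraMap R K) := by
    show (((Scheme.ΓSpecIso (CommRingCat.of R)).inv ≫ p.appLE ⊤ U (by simp)) ≫ iX.app U).hom =
      ((CommRingCat.ofHom (algebraMap R K)) ≫ (Scheme.ΓSpecIso (CommRingCat.of K)).inv ≫
        fC.appLE ⊤ V (by simp)).hom
    congr 1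
    rw [Scheme.ΓSpecIso_inv_naturality_assoc, Category.assoc]
    congr 1
    rw [← Scheme.Hom.appLE_eq_app iX (U := U)]
    refine (Scheme.Hom.appLE_comp_appLE _ _ _ _ _ _ _).trans ?_
    rw [Scheme.Hom.appTop, ← Scheme.Hom.appLE_eq_app]
    refine Eq.trans ?_ (Scheme.Hom.appLE_comp_appLE fC _ _ _ V _ _).symm
    simp only [hiX.w]
    rfl
  let _ : Algebra R Γ(X, U) := ρ.toAlgebra
  let _ : Algebra K Γ(C, V) := σ.toAlgebra
  let _ : Algebra Γ(X, U) Γ(C, V) := ψ.toAlgebra
  let _ : Algebra R Γ(C, V) := (ψ.comp ρ).toAlgebra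
  have : IsScalarTower R K Γ(C, V) := .of_algebraMap_eq fun r => RingHom.congr_fun hρσ r
  have : IsScalarTower R Γ(X, U) Γ(C, V) := .of_algebraMap_eq fun r => rfl
  have : Algebra.FiniteType R Γ(X, U) := by
    refine RingHom.finiteType_algebraMap.1 ?_
    exact (p.finiteType_appLE (isAffineOpen_top _) hU _).comp
      (RingHom.FiniteType.of_surjective _
        (Scheme.ΓSpecIso (CommRingCat.of R)).symm.commRingCatIsoToRingEquiv.surjective)
  have : Algebra.FiniteType K Γ(C, V) := by
    refine RingHom.finiteType_algebraMap.1 ?_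
    exact (fC.finiteType_appLE (isAffineOpen_top _) hV _).comp
      (RingHom.FiniteType.of_surjective _
        (Scheme.ΓSpecIso (CommRingCat.of K)).symm.commRingCatIsoToRingEquiv.surjective)
  have : FaithfulSMul R Γ(X, U) := by
    refine (faithfulSMul_iff_algebraMap_injective _ _).2 fun a b h => ?_
    have h1 : σ (algebraMap R K a) = σ (algebraMap R K b) := by
      rw [← RingHom.comp_apply, ← hρσ, RingHom.comp_apply]
      exact (congrArg ψ h).trans (RingHom.congr_fun hρσ b)
    exact IsFractionRing.injective R K (σ.injective h1)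
  -- transcendence degree
  have ht1 : Algebra.trdeg R Γ(X, U) ≤ 1 := by
    refine (trdeg_le_of_injective (IsScalarTower.toAlgHom R Γ(X, U) Γ(C, V)) hψ).trans ?_
    have : FaithfulSMul R K := (faithfulSMul_iff_algebraMap_injective _ _).2 (IsFractionRing.injective R K)
    have : Algebra.IsAlgebraic R K := IsLocalization.isAlgebraic K (nonZeroDivisors R)
    rw [← trdeg_add_eq R K (A := Γ(C, V)), trdeg_eq_zero, zero_add,
      Groth.Agent.Lib.Dim.Basic.trdeg_eq_trdegNat K Γ(C, V)]
    have h2 : (Groth.Agent.Lib.Dim.Basic.trdegNat K Γ(C, V) : WithBot ℕ∞) ≤ 1 := by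
      rw [← Groth.Agent.Lib.Dim.Basic.ringKrullDim_eq_trdegNat, ← PrimeSpectrum.topologicalKrullDim_eq_ringKrullDim]
      exact (hV.fromSpec.isOpenEmbedding.toIsEmbedding.isInducing.topologicalKrullDim_le).trans hdim
    exact_mod_cast h2
  obtain ⟨n, φ, hφ⟩ := Algebra.FiniteType.iff_quotient_mvPolynomial''.1
    (inferInstance : Algebra.FiniteType R Γ(X, U))
  obtain ⟨t, ht, hker⟩ := Groth.Agent.Lib.Cyc.DimFormula.height_ker_add_trdeg_of_injective φ hφ
  have ht' : t ≤ 1 := by rw [ht] at ht1; exact_mod_cast ht1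
  -- the prime of `z`
  have : IsNoetherianRing Γ(X, U) := Algebra.FiniteType.isNoetherianRing R _
  let := TopCat.Presheaf.algebra_section_stalk X.presheaf (⟨z, hzU⟩ : U)
  have := hU.isLocalization_stalk ⟨z, hzU⟩
  set q := (hU.primeIdealOf ⟨z, hzU⟩).asIdeal
  rw [IsLocalization.AtPrime.ringKrullDim_eq_height q]
  have h1 := (Groth.Agent.Lib.Cyc.DimFormula.height_map_add φ.toRingHom hφ q).1
  have h2 : ((q.comap φ.toRingHom).height : WithBot ℕ∞) ≤ (n + 1 : ℕ) := by
    refine (Ideal.height_le_ringKrullDim_of_ne_top (Ideal.IsPrime.ne_top inferInstance)).trans ?_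
    rw [MvPolynomial.ringKrullDim_of_isNoetherianRing, IsPrincipalIdealRing.ringKrullDim_eq_one _
      (IsDiscreteValuationRing.not_isField R)]
    simp [add_comm]
  have h2' : (q.comap φ.toRingHom).height ≤ ((n + 1 : ℕ) : ℕ∞) := by exact_mod_cast h2
  have h3 : q.height ≤ 2 := by
    have h4 : q.height + (RingHom.ker φ).height + (t : ℕ∞) ≤ ((n + 1 : ℕ) : ℕ∞) + t :=
      add_le_add (h1.trans h2') le_rfl
    rw [add_assoc, hker, Nat.cast_add, add_assoc, add_comm (n : ℕ∞) ((1 : ℕ) + t : ℕ∞)] at h4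
    have h5 : q.height ≤ ((1 : ℕ) : ℕ∞) + t :=
      (ENat.add_le_add_iff_right (ENat.natCast_ne_top n)).1 h4
    refine h5.trans ?_
    exact_mod_cast (by omega : 1 + t ≤ 2)
  exact WithBot.coe_le_coe.2 h3


/-- Local equations of the components of the closed fibre through a point of a regular scheme. -/
theorem exists_local_equations {X : Scheme.{u}} (p : X ⟶ Spec (CommRingCat.of R)) [Flat p]
    (hreg : ∀ y : X, IsRegularLocalRing (X.presheaf.stalk y)) (x₀ : X) {π : R} (hπ : Irreducible π)
    {n : ℕ} (Γ : Fin n → ArSurf.VertComp R (Over.mk p))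
    (hinj : Function.Injective fun i => Set.range ((Γ i).ι.base : (Γ i).curve.left → X))
    (hcomp : ∀ i, Set.range ((Γ i).ι.base : (Γ i).curve.left → X) ∈ Models.fibreComponents R (Over.mk p))
    (hx₀ : ∀ i, x₀ ∈ Set.range ((Γ i).ι.base : (Γ i).curve.left → X))
    (hall : ∀ S ∈ Models.fibreComponents R (Over.mk p), x₀ ∈ S →
      ∃ i, Set.range ((Γ i).ι.base : (Γ i).curve.left → X) = S) :
    ∃ a : Fin n → X.presheaf.stalk x₀, (∀ i, a i ∈ maximalIdeal (X.presheaf.stalk x₀)) ∧
      Associated (Stalk.baseHom p x₀ π) (∏ i, a i ^ Models.mult R (Over.mk p) (Γ i)) := by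
  have hdom : ∀ x : X, IsDomain (X.presheaf.stalk x) := fun x =>
    have := hreg x
    Groth.Agent.Lib.Regular.Quotient.isDomain _
  let g : ∀ x : X, X.presheaf.stalk x := fun x => Groth.Agent.Lib.ModelFibre.Stalk.baseHom p x π
  have hg0 : ∀ x, g x ≠ 0 := fun x h => by
    have hreg' := Groth.Agent.Lib.ModelFibre.Chart.isSMulRegular_baseHom p x (IsRegular.of_ne_zero hπ.ne_zero)
    exact one_ne_zero (hreg' (a₁ := (1 : X.presheaf.stalk x)) (a₂ := 0) (by
      show g x • _ = g x • _
      rw [h]; simp))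
  -- membership in the closed fibre
  have hmem : ∀ y : X, y ∈ Models.specialFibreSet R (Over.mk p) ↔ ¬ IsUnit (g y) := fun y => by
    rw [Groth.Agent.Lib.ModelFibre.RegularExt.isUnit_baseHom_iff,
      Groth.Agent.Lib.ModelFibre.RegularExt.basicOpen_toGlobal]
    show p y = IsLocalRing.closedPoint R ↔ ¬ (π ∉ (p y).asIdeal)
    rw [not_not]
    refine ⟨fun h => by rw [h]; exact hπ.maximalIdeal_eq.ge (Ideal.mem_span_singleton_self π), fun h => ?_⟩
    refine PrimeSpectrum.ext (le_antisymm (IsLocalRing.le_maximalIdeal (p y).2.ne_top) ?_)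
    show IsLocalRing.maximalIdeal R ≤ _
    rw [hπ.maximalIdeal_eq]
    exact (Ideal.span_singleton_le_iff_mem _).2 h
  have hfibre : ∀ (x : X) (q : PrimeSpectrum (X.presheaf.stalk x)), g x ∈ q.asIdeal →
      X.fromSpecStalk x q ∈ Models.specialFibreSet R (Over.mk p) := fun x q hq => by
    rw [hmem, Groth.Agent.Lib.ModelFibre.RegularExt.isUnit_baseHom_iff,
      Groth.Agent.Lib.ModelFibre.RegularExt.basicOpen_toGlobal]
    show ¬ (π ∉ ((X.fromSpecStalk x ≫ p) q).asIdeal)
    rw [Groth.Agent.Lib.ModelFibre.Stalk.fromSpecStalk_comp, not_not]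
    exact hq
  let ξ : Fin n → X := fun i => (Γ i).ι (genericPoint (Γ i).curve.left)
  let Z : Fin n → Set X := fun i => Set.range ((Γ i).ι.base : (Γ i).curve.left → X)
  have hmax : ∀ i, Maximal (fun S : Set X => IsIrreducible S ∧ S ⊆ Models.specialFibreSet R (Over.mk p)) (Z i) :=
    hcomp
  have hgen : ∀ i y, y ∈ Z i → ξ i ⤳ y := fun i y hy => by
    obtain ⟨z, rfl⟩ := hy
    exact (genericPoint_specializes z).map (Γ i).ι.continuous
  have hξfib : ∀ i, ξ i ∈ Models.specialFibreSet R (Over.mk p) := fun i => (hmax i).1.2 ⟨_, rfl⟩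
  have hclosedfib := Models.isClosed_specialFibreSet R (Over.mk p)
  let P : ∀ (i : Fin n) (x : X), Ideal (X.presheaf.stalk x) := fun i x =>
    Groth.Agent.Lib.Ideal.Prime.stalkIdeal (Γ i).ι.ker x
  have hsupp : ∀ i x, P i x = ⊤ ↔ x ∉ Z i := fun i x => by
    rw [Groth.Agent.Lib.ModelFibre.StalkIdeal.stalkIdeal_eq_top_iff]
    have h : (((Γ i).ι.ker.support : TopologicalSpace.Closeds _) : Set (Over.mk p).left) = Z i := by
      rw [Scheme.Hom.support_ker]
      exact (Γ i).ι.isClosedEmbedding.isClosed_range.closure_eq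
    exact not_congr (Set.ext_iff.1 h x)
  -- the prime of a component containing `x`
  have hprime : ∀ i x, x ∈ Z i → (P i x).IsPrime ∧
      ∃ q : PrimeSpectrum (X.presheaf.stalk x), X.fromSpecStalk x q = ξ i ∧ q.asIdeal = P i x ∧ g x ∈ P i x := by
    intro i x hx
    obtain ⟨h1, h2⟩ := Groth.Agent.Lib.ModelFibre.StalkIdeal.stalkIdeal_ker (Γ i).ι x (hgen i x hx)
    obtain ⟨q, hq⟩ : ξ i ∈ Set.range (X.fromSpecStalk x) := by
      rw [Scheme.range_fromSpecStalk]; exact hgen i x hx
    refine ⟨h1, q, hq, h2 q hq, ?_⟩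
    rw [show P i x = q.asIdeal from (h2 q hq).symm]
    by_contra h
    have h3 := hξfib i
    rw [← hq, hmem, Groth.Agent.Lib.ModelFibre.RegularExt.isUnit_baseHom_iff,
      Groth.Agent.Lib.ModelFibre.RegularExt.basicOpen_toGlobal] at h3
    apply h3
    show π ∉ ((X.fromSpecStalk x ≫ p) q).asIdeal
    rw [Groth.Agent.Lib.ModelFibre.Stalk.fromSpecStalk_comp]
    exact h
  have hufd : ∀ x : X, UniqueFactorizationMonoid (X.presheaf.stalk x) := fun x =>
    have := hreg x
    Groth.Agent.Lib.Regular.UFD.uniqueFactorizationMonoid _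
  have hprin : ∀ i x, x ∈ Z i → ∃ a : X.presheaf.stalk x, Prime a ∧ P i x = Ideal.span {a} := by
    intro i x hx
    obtain ⟨hP, q, hq, hqP, hgP⟩ := hprime i x hx
    have := hufd x
    obtain ⟨f, hf⟩ := UniqueFactorizationMonoid.exists_prime_factors (g x) (hg0 x)
    have hmemf : f.prod ∈ P i x := by
      obtain ⟨u, hu⟩ := hf.2
      rw [← hu] at hgP
      exact (Ideal.mul_unit_mem_iff_mem _ u.isUnit).1 hgP
    obtain ⟨a, haf, haP⟩ := hP.multiset_prod_mem_iff_exists_mem f |>.1 hmemf
    have ha := hf.1 a haf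
    refine ⟨a, ha, ?_⟩
    let q' : PrimeSpectrum (X.presheaf.stalk x) := ⟨Ideal.span {a}, (Ideal.span_singleton_prime ha.ne_zero).2 ha⟩
    have hgq : g x ∈ q'.asIdeal :=
      Ideal.mem_span_singleton.2 ((Multiset.dvd_prod haf).trans hf.2.dvd)
    set y := X.fromSpecStalk x q' with hy
    have hyξ : y ⤳ ξ i := by
      rw [← hq]
      exact ((PrimeSpectrum.le_iff_specializes q' q).1
        (show q'.asIdeal ≤ q.asIdeal by rw [hqP]; exact (Ideal.span_singleton_le_iff_mem _).2 haP)).map
          (X.fromSpecStalk x).continuous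
    have hclos : closure {y} ⊆ Models.specialFibreSet R (Over.mk p) :=
      hclosedfib.closure_subset_iff.2 (Set.singleton_subset_iff.2 (hfibre x q' hgq))
    have hsub : Z i ⊆ closure {y} := fun z hz => specializes_iff_mem_closure.1 (hyξ.trans (hgen i z hz))
    have hyZ : y ∈ Z i := (hmax i).2 ⟨isIrreducible_singleton.closure, hclos⟩ hsub (subset_closure rfl)
    have hyeq : y = ξ i := (hyξ.antisymm (hgen i y hyZ)).eq
    have := (Groth.Agent.Lib.ModelFibre.StalkIdeal.stalkIdeal_ker (Γ i).ι x (hgen i x hx)).2 q' hyeq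
    exact this.symm
  have hfactor : ∀ x, x ⤳ x₀ → ∀ (a : X.presheaf.stalk x), Prime a → a ∣ g x → ∃ j, P j x = Ideal.span {a} := by
    intro x hxx a ha hag
    let q' : PrimeSpectrum (X.presheaf.stalk x) := ⟨Ideal.span {a}, (Ideal.span_singleton_prime ha.ne_zero).2 ha⟩
    set y := X.fromSpecStalk x q' with hy
    have hyfib := hfibre x q' (Ideal.mem_span_singleton.2 hag)
    obtain ⟨S, hS, hyS⟩ : ∃ S, Maximal (fun S : Set X => IsIrreducible S ∧ S ⊆ Models.specialFibreSet R (Over.mk p)) S ∧ y ∈ S := by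
      have h0 : IsIrreducible (closure {y}) := isIrreducible_singleton.closure
      obtain ⟨S, hS, hsub, hmaxS⟩ := zorn_subset_nonempty
        {S : Set X | IsPreirreducible S ∧ S ⊆ Models.specialFibreSet R (Over.mk p)} (fun c hc hcc _ =>
          ⟨⋃₀ c, ⟨fun u v hu hv ⟨z, hzc, hzu⟩ ⟨w, hwc, hwv⟩ => by
            obtain ⟨A, hA, hzA⟩ := Set.mem_sUnion.1 hzc
            obtain ⟨B, hB, hwB⟩ := Set.mem_sUnion.1 hwc
            rcases hcc.total hA hB with hAB | hBA
            · obtain ⟨t, htB, ht⟩ := (hc hB).1 u v hu hv ⟨z, hAB hzA, hzu⟩ ⟨w, hwB, hwv⟩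
              exact ⟨t, Set.mem_sUnion.2 ⟨B, hB, htB⟩, ht⟩
            · obtain ⟨t, htA, ht⟩ := (hc hA).1 u v hu hv ⟨z, hzA, hzu⟩ ⟨w, hBA hwB, hwv⟩
              exact ⟨t, Set.mem_sUnion.2 ⟨A, hA, htA⟩, ht⟩,
          Set.sUnion_subset fun A hA => (hc hA).2⟩, fun A hA => Set.subset_sUnion_of_mem hA⟩)
        {y} ⟨isIrreducible_singleton.2, Set.singleton_subset_iff.2 hyfib⟩
      have hyS' : y ∈ S := hS (Set.mem_singleton y)
      exact ⟨S, ⟨⟨⟨⟨y, hyS'⟩, hsub.1⟩, hsub.2⟩, fun T hT hST => hmaxS ⟨hT.1.2, hT.2⟩ hST⟩, hyS'⟩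
    have hSclosed : IsClosed S := by
      have h1 := hS.2 ⟨hS.1.1.closure, hclosedfib.closure_subset_iff.2 hS.1.2⟩ subset_closure
      exact closure_eq_iff_isClosed.1 (Set.Subset.antisymm h1 subset_closure)
    have hyx : y ⤳ x := by
      have : y ∈ Set.range (X.fromSpecStalk x) := ⟨q', rfl⟩
      rwa [Scheme.range_fromSpecStalk] at this
    obtain ⟨j, rfl⟩ := hall S hS ((hyx.trans hxx).mem_closed hSclosed hyS)
    refine ⟨j, ?_⟩
    have hxZ : x ∈ Z j := hyx.mem_closed (Γ j).ι.isClosedEmbedding.isClosed_range hyS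
    obtain ⟨b, hb, hPb⟩ := hprin j x hxZ
    obtain ⟨hP, q, hq, hqP, -⟩ := hprime j x hxZ
    have hle : q ⤳ q' := by
      refine (X.fromSpecStalk x).isEmbedding.isInducing.specializes_iff.1 ?_
      rw [hq]
      exact hgen j y hyS
    have hle' : q.asIdeal ≤ q'.asIdeal := (PrimeSpectrum.le_iff_specializes q q').2 hle
    rw [hqP, hPb, Ideal.span_singleton_le_iff_mem, Ideal.mem_span_singleton] at hle'
    rw [hPb]
    exact (Ideal.span_singleton_eq_span_singleton.2 (ha.associated_of_dvd hb hle')).symm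
  have hdecomp : ∀ x, x ⤳ x₀ → ∃ e : Fin n → ℕ, Ideal.span {g x} = ∏ i, P i x ^ e i := by
    intro x hxx
    have := hufd x
    suffices h : ∀ a : X.presheaf.stalk x, a ≠ 0 →
        (∀ b, Prime b → b ∣ a → ∃ j, P j x = Ideal.span {b}) →
          ∃ e : Fin n → ℕ, Ideal.span {a} = ∏ i, P i x ^ e i from h _ (hg0 x) fun b hb hbg => hfactor x hxx b hb hbg
    intro a
    induction a using UniqueFactorizationMonoid.induction_on_prime with
    | h₁ => exact fun h => absurd rfl h
    | h₂ a ha => exact fun _ _ => ⟨fun _ => 0, by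
      rw [Ideal.span_singleton_eq_top.2 ha, Finset.prod_eq_one fun i _ => pow_zero _, Ideal.one_eq_top]⟩
    | h₃ a b ha hb ih =>
      intro _ hall
      obtain ⟨e, he⟩ := ih ha fun c hc hca => hall c hc (hca.mul_left b)
      obtain ⟨j, hj⟩ := hall b hb (dvd_mul_right b a)
      refine ⟨fun i => e i + if i = j then 1 else 0, ?_⟩
      rw [← Ideal.span_singleton_mul_span_singleton, he, ← hj, mul_comm]
      simp only [pow_add, Finset.prod_mul_distrib, pow_ite, pow_one, pow_zero, Finset.prod_ite_eq',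
        Finset.mem_univ, if_true]
  have hmult : ∀ i, Ideal.span {g (ξ i)} = P i (ξ i) ^ Models.mult R (Over.mk p) (Γ i) := by
    intro i
    obtain ⟨e, he⟩ := hdecomp (ξ i) (hgen i x₀ (hx₀ i))
    have htop : ∀ j, j ≠ i → P j (ξ i) = ⊤ := fun j hj => (hsupp j (ξ i)).2 fun hmemj => hj <| by
      have hsub : Z i ⊆ Z j := fun z hz =>
        (hgen i z hz).mem_closed (Γ j).ι.isClosedEmbedding.isClosed_range hmemj
      exact hinj (Set.Subset.antisymm ((hmax i).2 (hmax j).1 hsub) hsub)
    rw [Finset.prod_eq_single i (fun j _ hj => by rw [htop j hj, ← Ideal.one_eq_top, one_pow])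
      (fun h => absurd (Finset.mem_univ i) h)] at he
    suffices hlen : Models.mult R (Over.mk p) (Γ i) = e i by rw [hlen, he]
    obtain ⟨a, ha, hPa⟩ := hprin i (ξ i) ⟨_, rfl⟩
    have hamax : IsLocalRing.maximalIdeal (X.presheaf.stalk (ξ i)) = Ideal.span {a} := by
      rw [← hPa]
      exact (Groth.Agent.Lib.ModelFibre.StalkIdeal.stalkIdeal_ker (Γ i).ι (ξ i) specializes_rfl).2
        (IsLocalRing.closedPoint _) Scheme.fromSpecStalk_closedPoint
    have hord1 : Ring.ord (X.presheaf.stalk (ξ i)) a = 1 := by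
      rw [Ring.ord, Module.length_eq_one_iff, isSimpleModule_iff_isCoatom, ← hamax]
      exact Ideal.isMaximal_def.1 inferInstance
    have hmap : Ideal.map (Models.stalkHom R (Over.mk p) (Models.genPtOf R (Over.mk p) (Γ i)))
        (IsLocalRing.maximalIdeal R) = Ideal.span {a ^ e i} := by
      rw [hπ.maximalIdeal_eq, Ideal.map_span, Set.image_singleton, ← Ideal.span_singleton_pow, ← hPa]
      exact he
    show (Module.length _ _).toNat = e i
    rw [hmap]
    show (Ring.ord (X.presheaf.stalk (ξ i)) (a ^ e i)).toNat = e i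
    rw [Ring.ord_pow (mem_nonZeroDivisors_of_ne_zero ha.ne_zero), hord1, nsmul_one, ENat.toNat_natCast]
  choose a ha hPa using fun i => hprin i x₀ (hx₀ i)
  refine ⟨a, fun i => (mem_maximalIdeal _).2 (ha i).not_isUnit, ?_⟩
  rw [← Ideal.span_singleton_eq_span_singleton]
  obtain ⟨e, he⟩ := hdecomp x₀ specializes_rfl
  refine he.trans ?_
  rw [← Ideal.prod_span_singleton]
  refine Finset.prod_congr rfl fun i _ => ?_
  rw [← Ideal.span_singleton_pow, ← hPa i]
  clear a ha hPa
  have hx := hx₀ i
  let x := x₀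
  suffices hexp : e i = Models.mult R (Over.mk p) (Γ i) by rw [hexp]
  -- compare exponents at the generic point of the component
  have hs := hgen i x hx
  have h1 := congrArg (Ideal.map (X.presheaf.stalkSpecializes hs).hom) he
  rw [Ideal.map_span, Set.image_singleton] at h1
  have hgs : (X.presheaf.stalkSpecializes hs).hom (g x) = g (ξ i) :=
    congrArg (fun φ => φ.hom (Coh.toGlobal p π)) (X.presheaf.germ_stalkSpecializes (U := ⊤) (hy := trivial) hs)
  rw [hgs, hmult i, ← Ideal.mapHom_apply, map_prod] at h1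
  simp only [map_pow, Ideal.mapHom_apply] at h1
  rw [Finset.prod_eq_single i (fun j _ hj => by
      rw [Groth.Agent.Lib.ModelFibre.StalkIdeal.map_stalkSpecializes]
      show P j (ξ i) ^ e j = 1
      rw [(hsupp j (ξ i)).2 (fun hmemj => hj (hinj (Set.Subset.antisymm
          ((hmax i).2 (hmax j).1 fun z hz =>
            (hgen i z hz).mem_closed (Γ j).ι.isClosedEmbedding.isClosed_range hmemj)
          fun z hz => (hgen i z hz).mem_closed (Γ j).ι.isClosedEmbedding.isClosed_range hmemj))),
        ← Ideal.one_eq_top, one_pow])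
    (fun h => absurd (Finset.mem_univ i) h),
    Groth.Agent.Lib.ModelFibre.StalkIdeal.map_stalkSpecializes] at h1
  obtain ⟨a, ha, hPa⟩ := hprin i (ξ i) ⟨_, rfl⟩
  change P i (ξ i) ^ Models.mult R (Over.mk p) (Γ i) = P i (ξ i) ^ e i at h1
  rw [hPa, Ideal.span_singleton_pow, Ideal.span_singleton_pow,
    Ideal.span_singleton_eq_span_singleton] at h1
  exact ((le_antisymm ((pow_dvd_pow_iff ha.ne_zero ha.not_isUnit).1 h1.dvd) ((pow_dvd_pow_iff ha.ne_zero ha.not_isUnit).1 h1.symm.dvd))).symm



/-- A vertical prime divisor is a component of the closed fibre if the local rings have dimension at most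
two. -/
theorem range_mem_fibreComponents (X : Over (Spec (CommRingCat.of R))) [IsIntegral X.left]
    (hdim : ∀ z : X.left, ringKrullDim (X.left.presheaf.stalk z) ≤ 2)
    (hgen : genericPoint X.left ∉ Models.specialFibreSet R X) (Γ : ArSurf.VertComp R X) :
    Set.range (Γ.ι.base : Γ.curve.left → X.left) ∈ Models.fibreComponents R X := by
  set Z := Set.range (Γ.ι.base : Γ.curve.left → X.left)
  have hsub : Z ⊆ Models.specialFibreSet R X := by
    rintro _ ⟨y, rfl⟩
    show (Γ.ι ≫ X.hom) y = closedPoint R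
    rw [Γ.w]
    exact IsLocalRing.PrimeSpectrum.comap_residue R _
  have hirr : IsIrreducible Z := by
    have h0 := (IrreducibleSpace.isIrreducible_univ Γ.curve.left).image Γ.ι Γ.ι.continuous.continuousOn
    rwa [Set.image_univ] at h0
  refine ⟨⟨hirr, hsub⟩, fun T hT hZT => ?_⟩
  set ξ := Γ.ι (genericPoint Γ.curve.left) with hξ
  obtain ⟨w₀, hw₀⟩ : ∃ w : Γ.curve.left, w ≠ genericPoint Γ.curve.left := by
    by_contra hall
    push Not at hall
    have hsing : Subsingleton Γ.curve.left := ⟨fun a b => (hall a).trans (hall b).symm⟩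
    have h1 := Γ.dim_eq
    have h2 := topologicalKrullDim_zero_of_discreteTopology Γ.curve.left
    rw [h1] at h2
    exact absurd h2 (by decide)
  set w := Γ.ι w₀
  have hξw : ξ ⤳ w := (genericPoint_specializes w₀).map Γ.ι.continuous
  have hξne : ξ ≠ w := fun h => hw₀ (Γ.ι.isClosedEmbedding.injective h).symm
  have hclT : closure T ⊆ Models.specialFibreSet R X :=
    (Models.isClosed_specialFibreSet R X).closure_subset_iff.2 hT.2
  set η := hT.1.genericPoint
  have hη : IsGenericPoint η (closure T) := hT.1.isGenericPoint_genericPoint_closure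
  intro t ht
  by_contra htZ
  have hηξ : η ⤳ ξ := hη.specializes (subset_closure (hZT ⟨_, rfl⟩))
  have hne : η ≠ ξ := fun h => htZ <| by
    have h1 : η ⤳ t := hη.specializes (subset_closure ht)
    rw [h] at h1
    exact h1.mem_closed Γ.ι.isClosedEmbedding.isClosed_range ⟨_, rfl⟩
  have hgη : genericPoint X.left ≠ η := fun h => hgen (h ▸ hclT hη.mem)
  -- lift the chain to the local ring at `w`
  have hlift : ∀ y : X.left, y ⤳ w → ∃ q, X.left.fromSpecStalk w q = y := fun y hy => by
    show y ∈ Set.range (X.left.fromSpecStalk w)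
    rw [Scheme.range_fromSpecStalk]
    exact hy
  obtain ⟨q0, hq0⟩ := hlift (genericPoint X.left) (genericPoint_specializes w)
  obtain ⟨q1, hq1⟩ := hlift η (hηξ.trans hξw)
  obtain ⟨q2, hq2⟩ := hlift ξ hξw
  obtain ⟨q3, hq3⟩ := hlift w specializes_rfl
  have hlt : ∀ {a b : X.left} {qa qb : PrimeSpectrum (X.left.presheaf.stalk w)},
      X.left.fromSpecStalk w qa = a → X.left.fromSpecStalk w qb = b → a ⤳ b → a ≠ b → qa < qb := by
    rintro a b qa qb rfl rfl hab hne
    refine lt_of_le_of_ne ((PrimeSpectrum.le_iff_specializes qa qb).2 ?_) fun h => hne (by rw [h])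
    exact (X.left.fromSpecStalk w).isEmbedding.isInducing.specializes_iff.1 hab
  let l : LTSeries (PrimeSpectrum (X.left.presheaf.stalk w)) := LTSeries.mk 3 ![q0, q1, q2, q3] <|
    Fin.strictMono_iff_lt_succ.2 fun i => by
      fin_cases i
      · exact hlt hq0 hq1 (genericPoint_specializes η) hgη
      · exact hlt hq1 hq2 hηξ hne
      · exact hlt hq2 hq3 hξw hξne
  have h3 : ((l.length : ℕ) : WithBot ℕ∞) ≤ ringKrullDim (X.left.presheaf.stalk w) :=
    Order.LTSeries.length_le_krullDim l
  have := h3.trans (hdim w)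
  simp [l] at this
  exact absurd this (by decide)

/-- Positive integers `c i` with `Σ c i * r i` the degree of a horizontal divisor meeting the closed
fibre in a single point `x`. -/
theorem exists_coeff {X C : Scheme.{u}} (p : X ⟶ Spec (CommRingCat.of R)) [IsProper p]
    (fC : C ⟶ Spec (CommRingCat.of (FractionRing R))) (iX : C ⟶ X)
    (hiX : IsPullback iX fC p (Spec.map (CommRingCat.ofHom (algebraMap R (FractionRing R)))))
    {π : R} (hπ : Irreducible π) (x : X)
    (P : C) (hP : IsClosed ({P} : Set C))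
    (hPx : closure ({iX P} : Set X) ∩ Models.specialFibreSet R (Over.mk p) = {x})
    [Algebra (FractionRing R) (C.residueField P)]
    (halg : algebraMap (FractionRing R) (C.residueField P) = (C.residue P).hom.comp (Stalk.baseHom fC P))
    {n : ℕ} (a : Fin n → X.presheaf.stalk x) (ha : ∀ i, a i ∈ maximalIdeal (X.presheaf.stalk x))
    (r : Fin n → ℕ) (hassoc : Associated (Stalk.baseHom p x π) (∏ i, a i ^ r i)) :
    ∃ c : Fin n → ℕ, (∀ i, 1 ≤ c i) ∧
      Module.finrank (FractionRing R) (C.residueField P) = ∑ i, c i * r i := by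
  classical
  have := SmoothGeneric.isOpenImmersion_gK hiX
  set ξ := iX P with hξ
  have hxcl : x ∈ closure ({ξ} : Set X) := (hPx.ge rfl).1
  have hξx : ξ ⤳ x := specializes_iff_mem_closure.2 hxcl
  have hxs : p x = closedPoint R := (hPx.ge rfl).2
  have hrange : ∀ y : X, y ∈ Set.range iX ↔ π ∉ (p y).asIdeal := fun y => by
    rw [SmoothGeneric.range_gK hiX hπ, RegularExt.basicOpen_toGlobal]
    rfl
  have hcp : ∀ z : PrimeSpectrum R, π ∈ z.asIdeal → z = closedPoint R := fun z hz => by
    refine PrimeSpectrum.ext (le_antisymm (IsLocalRing.le_maximalIdeal z.2.ne_top) ?_)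
    show maximalIdeal R ≤ _
    rw [hπ.maximalIdeal_eq]
    exact (Ideal.span_singleton_le_iff_mem _).2 hz
  have hset : ∀ y ∈ closure ({ξ} : Set X), y = ξ ∨ y = x := by
    intro y hy
    by_cases h : π ∈ (p y).asIdeal
    · exact Or.inr (hPx.le ⟨hy, hcp _ h⟩)
    · obtain ⟨Q, rfl⟩ := (hrange y).2 h
      have h1 : P ⤳ Q :=
        iX.isOpenEmbedding.isInducing.specializes_iff.1 (specializes_iff_mem_closure.2 hy)
      exact Or.inl (congrArg iX (h1.mem_closed hP rfl))
  obtain ⟨U, hU, hxU, -⟩ := exists_isAffineOpen_mem_and_subset (show x ∈ (⊤ : X.Opens) from trivial)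
  have hξU : ξ ∈ U := hξx.mem_open U.2 hxU
  let L := C.residueField P
  let ψ : Γ(X, U) →+* L :=
    ((C.residue P).hom.comp (iX.stalkMap P).hom).comp (X.presheaf.germ U ξ hξU).hom
  let q : Ideal Γ(X, U) := RingHom.ker ψ
  have : q.IsPrime := RingHom.ker_isPrime ψ
  have hstalk : Function.Bijective (iX.stalkMap P).hom := ConcreteCategory.bijective_of_isIso (iX.stalkMap P)
  have hqξ : q = (hU.primeIdealOf ⟨ξ, hξU⟩).asIdeal := by
    let := TopCat.Presheaf.algebra_section_stalk X.presheaf (⟨ξ, hξU⟩ : U)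
    have := hU.isLocalization_stalk ⟨ξ, hξU⟩
    ext s
    rw [← IsLocalization.AtPrime.to_map_mem_maximal_iff (X.presheaf.stalk ξ)
      (hU.primeIdealOf ⟨ξ, hξU⟩).asIdeal s]
    show IsLocalRing.residue (C.presheaf.stalk P) ((iX.stalkMap P).hom (X.presheaf.germ U ξ hξU s)) = 0 ↔ _
    rw [IsLocalRing.residue_eq_zero_iff, mem_maximalIdeal, mem_maximalIdeal, mem_nonunits_iff,
      mem_nonunits_iff, not_iff_not]
    exact (isUnit_map_iff (iX.stalkMap P).hom _)
  let A := Γ(X, U) ⧸ q
  let j : Spec (CommRingCat.of A) ⟶ X :=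
    Spec.map (CommRingCat.ofHom (Ideal.Quotient.mk q)) ≫ hU.fromSpec
  have hjr : Set.range j = closure ({ξ} : Set X) := by
    have hr : Set.range (Spec.map (CommRingCat.ofHom (Ideal.Quotient.mk q))) =
        PrimeSpectrum.zeroLocus (q : Set Γ(X, U)) := by
      refine (range_comap_of_surjective _ (Ideal.Quotient.mk q) Ideal.Quotient.mk_surjective).trans ?_
      rw [Ideal.mk_ker]
    have hz : PrimeSpectrum.zeroLocus (q : Set Γ(X, U)) = closure {hU.primeIdealOf ⟨ξ, hξU⟩} := by
      rw [PrimeSpectrum.closure_singleton, hqξ]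
    have hclU : closure ({ξ} : Set X) ⊆ U := fun y hy => (hset y hy).elim (· ▸ hξU) (· ▸ hxU)
    rw [Scheme.Hom.comp_base, TopCat.coe_comp, Set.range_comp, hr, hz]
    apply Set.Subset.antisymm
    · refine (image_closure_subset_closure_image hU.fromSpec.continuous).trans ?_
      refine closure_mono ?_
      rintro _ ⟨_, rfl, rfl⟩
      exact hU.fromSpec_primeIdealOf _
    · intro y hy
      obtain ⟨w, rfl⟩ := hU.range_fromSpec.ge (hclU hy)
      refine ⟨w, ?_, rfl⟩
      refine (specializes_iff_mem_closure (x := (hU.primeIdealOf ⟨ξ, hξU⟩ : Spec Γ(X, U))) (y := w)).1 ?_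
      replace hy := specializes_iff_mem_closure.2 hy
      refine hU.fromSpec.isOpenEmbedding.isInducing.specializes_iff.1 ?_
      rw [hU.fromSpec_primeIdealOf]
      exact hy
  have : IsClosedImmersion (Spec.map (CommRingCat.ofHom (Ideal.Quotient.mk q))) :=
    IsClosedImmersion.spec_of_surjective _ Ideal.Quotient.mk_surjective
  have : IsClosedImmersion j := IsClosedImmersion.of_isPreimmersion j (hjr ▸ isClosed_closure)
  let ρ : R →+* Γ(X, U) := (X.presheaf.map (homOfLE le_top).op).hom.comp (RegularExt.glob p)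
  let _ : Algebra R A := ((Ideal.Quotient.mk q).comp ρ).toAlgebra
  have hjp : j ≫ p = Spec.map (CommRingCat.ofHom (algebraMap R A)) := by
    have h' : p = X.toSpecΓ ≫ Spec.map ((Scheme.ΓSpecIso (CommRingCat.of R)).inv ≫ p.appTop) := by
      rw [Spec.map_comp, ← Scheme.toSpecΓ_naturality_assoc, toSpecΓ_SpecMap_ΓSpecIso_inv, Category.comp_id]
    conv_lhs => rw [h']
    simp only [j, Category.assoc, IsAffineOpen.fromSpec_toSpecΓ_assoc, ← Spec.map_comp]
    rfl
  have : Module.Finite R A := by
    have : IsAffineHom (Spec.map (CommRingCat.ofHom (algebraMap R A))) := isAffineHom_of_isAffine _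
    have : IsFinite (Spec.map (CommRingCat.ofHom (algebraMap R A))) :=
      IsFinite.iff_isProper_and_isAffineHom.2 ⟨hjp ▸ inferInstance, inferInstance⟩
    exact RingHom.finite_algebraMap.1 ((IsFinite.SpecMap_iff _).1 this)
  let χ : A →+* L := Ideal.Quotient.lift q ψ fun _ h => h
  have hχ : Function.Injective χ := RingHom.lift_injective_of_ker_le_ideal q _ le_rfl
  have hsq : ψ.comp ρ = (algebraMap (FractionRing R) L).comp (algebraMap R (FractionRing R)) := by
    rw [halg]
    ext t
    show C.residue P (iX.stalkMap P (X.presheaf.germ U ξ hξU (X.presheaf.map _ (RegularExt.glob p t)))) =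
      (C.residue P).hom (((Stalk.baseHom fC P).comp (algebraMap R (FractionRing R))) t)
    rw [← RingHom.congr_fun (SmoothGeneric.stalkMap_baseHom hiX.w P) t, TopCat.Presheaf.germ_res_apply]
    rfl
  let _ : Algebra A L := χ.toAlgebra
  let _ : Algebra R L := ((algebraMap (FractionRing R) L).comp (algebraMap R (FractionRing R))).toAlgebra
  have : IsScalarTower R (FractionRing R) L := .of_algebraMap_eq fun _ => rfl
  have : IsScalarTower R A L := .of_algebraMap_eq fun t => (RingHom.congr_fun hsq t).symm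
  have hinjA : Function.Injective (algebraMap R A) := fun s t h =>
    IsFractionRing.injective R (FractionRing R) <| (algebraMap (FractionRing R) L).injective <| by
      rw [← IsScalarTower.algebraMap_apply, ← IsScalarTower.algebraMap_apply,
        IsScalarTower.algebraMap_apply R A L, h, ← IsScalarTower.algebraMap_apply]
  have : FaithfulSMul A L := (faithfulSMul_iff_algebraMap_injective _ _).2 hχ
  have : IsFractionRing A L := by
    refine IsFractionRing.of_field _ _ fun z => ?_
    obtain ⟨z, rfl⟩ := C.residue_surjective P z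
    obtain ⟨z, rfl⟩ := hstalk.2 z
    let := TopCat.Presheaf.algebra_section_stalk X.presheaf (⟨ξ, hξU⟩ : U)
    have := hU.isLocalization_stalk ⟨ξ, hξU⟩
    obtain ⟨⟨b, s⟩, hbs⟩ := IsLocalization.surj (hU.primeIdealOf ⟨ξ, hξU⟩).asIdeal.primeCompl z
    have hs : ψ s ≠ 0 := fun h => s.2 (hqξ.le (show (s : Γ(X, U)) ∈ q from h))
    refine ⟨Ideal.Quotient.mk q b, Ideal.Quotient.mk q s, ?_⟩
    show _ = ψ b / ψ s
    rw [eq_div_iff hs]
    have h1 := congrArg (fun t => C.residue P (iX.stalkMap P t)) hbs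
    simp only [map_mul] at h1
    exact h1
  have : FaithfulSMul R A := (faithfulSMul_iff_algebraMap_injective _ _).2 hinjA
  have : Module.IsTorsionFree R A := Module.IsTorsionFree.of_smul_eq_zero fun t m h => by
    rw [Algebra.smul_def, mul_eq_zero] at h
    exact h.imp_left fun h0 => hinjA (h0.trans (map_zero _).symm)
  have hrank : Module.finrank (FractionRing R) L = Module.finrank R A :=
    (IsFractionRing.finrank_right_eq R L (S := FractionRing R)).trans
      (IsFractionRing.finrank_left_eq R L (S := A)).symm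
  -- `A` is local with closed point over `x`
  obtain ⟨mx, hmx⟩ := hjr.ge hxcl
  have hclosed : ∀ M : Ideal A, M.IsMaximal → M = mx.asIdeal := by
    intro M hM
    have hover : (M.comap (algebraMap R A)) = maximalIdeal R :=
      IsLocalRing.eq_maximalIdeal (Ideal.isMaximal_comap_of_isIntegral_of_isMaximal M)
    let z : PrimeSpectrum A := ⟨M, hM.isPrime⟩
    have hz : p (j z) = closedPoint R := by
      show (j ≫ p) z = closedPoint R
      rw [hjp]
      exact PrimeSpectrum.ext hover
    have : j z = x := hPx.le ⟨hjr.le ⟨z, rfl⟩, hz⟩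
    exact congrArg PrimeSpectrum.asIdeal (j.isClosedEmbedding.injective (this.trans hmx.symm))
  have : IsLocalRing A := by
    obtain ⟨M, hM⟩ := Ideal.exists_maximal A
    exact .of_unique_max_ideal ⟨mx.asIdeal, hclosed M hM ▸ hM, fun N hN => hclosed N hN⟩
  have : IsLocalHom (algebraMap R A) :=
    ⟨fun t ht => by
      by_contra h
      have h1 : t ∈ (maximalIdeal A).comap (algebraMap R A) := by
        rw [IsLocalRing.eq_maximalIdeal (Ideal.isMaximal_comap_of_isIntegral_of_isMaximal (maximalIdeal A))]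
        exact h
      exact h1 ht⟩
  -- the surjection `O_x → A`
  let := TopCat.Presheaf.algebra_section_stalk X.presheaf (⟨x, hxU⟩ : U)
  have := hU.isLocalization_stalk ⟨x, hxU⟩
  have hmxU : (mx.asIdeal.comap (Ideal.Quotient.mk q)) = (hU.primeIdealOf ⟨x, hxU⟩).asIdeal := by
    refine congrArg PrimeSpectrum.asIdeal (hU.fromSpec.isOpenEmbedding.injective
      (a₁ := Spec.map (CommRingCat.ofHom (Ideal.Quotient.mk q)) mx) ?_)
    rw [hU.fromSpec_primeIdealOf]
    exact hmx
  have hunit : ∀ s : (hU.primeIdealOf ⟨x, hxU⟩).asIdeal.primeCompl, IsUnit (Ideal.Quotient.mk q (s : Γ(X, U))) := by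
    intro s
    by_contra h
    refine s.2 (hmxU.le ?_)
    show Ideal.Quotient.mk q _ ∈ mx.asIdeal
    rw [← hclosed _ (maximalIdeal.isMaximal A)]
    exact h
  let θ : X.presheaf.stalk x →+* A := IsLocalization.lift (M := (hU.primeIdealOf ⟨x, hxU⟩).asIdeal.primeCompl) hunit
  have hθ : θ (Stalk.baseHom p x π) = algebraMap R A π := by
    have : Stalk.baseHom p x π = algebraMap Γ(X, U) (X.presheaf.stalk x) (ρ π) :=
      (TopCat.Presheaf.germ_res_apply X.presheaf (homOfLE (le_top : U ≤ ⊤)) x hxU (RegularExt.glob p π)).symm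
    rw [this]
    exact IsLocalization.lift_eq _ _
  have hθm : ∀ z ∈ maximalIdeal (X.presheaf.stalk x), ¬ IsUnit (θ z) := by
    intro z hz
    obtain ⟨⟨b, s⟩, hbs⟩ := IsLocalization.surj (hU.primeIdealOf ⟨x, hxU⟩).asIdeal.primeCompl z
    intro hu
    have h1 : θ z * θ (algebraMap _ _ (s : Γ(X, U))) = θ (algebraMap _ _ b) := by rw [← map_mul, hbs]
    rw [IsLocalization.lift_eq, IsLocalization.lift_eq] at h1
    have h2 : IsUnit (Ideal.Quotient.mk q b) := h1 ▸ hu.mul (hunit s)
    have hb : b ∈ (hU.primeIdealOf ⟨x, hxU⟩).asIdeal := by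
      rw [← IsLocalization.AtPrime.to_map_mem_maximal_iff (X.presheaf.stalk x) (hU.primeIdealOf ⟨x, hxU⟩).asIdeal]
      exact hbs ▸ Ideal.mul_mem_right _ _ hz
    rw [← hmxU, Ideal.mem_comap] at hb
    exact mx.2.ne_top (Ideal.eq_top_of_isUnit_mem _ hb h2)
  -- lengths
  have hπA : algebraMap R A π ≠ 0 := fun h => hπ.ne_zero (hinjA (h.trans (map_zero _).symm))
  obtain ⟨u, hu⟩ := hassoc
  let b : Fin n → A := fun i => θ (a i)
  have hb : algebraMap R A π * θ u = ∏ i, b i ^ r i := by
    rw [← hθ, ← map_mul, hu, map_prod]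
    simp only [map_pow, b]
  let f : ℕ∞ := Module.length (ResidueField R) (ResidueField A)
  have hlen : ∀ z : A, Module.length R (A ⧸ Ideal.span {z}) = Ring.ord A z * f := fun z =>
    IsLocalRing.length_restrictScalars R A _
  have hd : Ring.ord A (algebraMap R A π) * f = Module.finrank R A := by
    rw [← hlen]
    let e := Module.finBasis R A
    have hker : Ideal.span {algebraMap R A π} = ((Ideal.span {π}).map (algebraMap R A)) := by
      rw [Ideal.map_span, Set.image_singleton]
    rw [← Multisection.length_quotSMulTop_pi (hπ.maximalIdeal_eq ▸ maximalIdeal.isMaximal R)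
      (Module.finrank R A)]
    let e1 : (A ⧸ Ideal.span {algebraMap R A π}) ≃ₗ[R] QuotSMulTop π A :=
      (Submodule.Quotient.restrictScalarsEquiv R (Ideal.span {algebraMap R A π})).symm.trans
        (Submodule.quotEquivOfEq _ _ (by
          rw [hker, ← Ideal.smul_top_eq_map, Submodule.ideal_span_singleton_smul]))
    let e2 : QuotSMulTop π A ≃ₗ[R] QuotSMulTop π (Fin (Module.finrank R A) → R) :=
      QuotSMulTop.congr π e.equivFun
    exact (e1.trans e2).length_eq
  have hordfin : Ring.ord A (algebraMap R A π) ≠ ⊤ := fun h => by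
    rw [h, ENat.top_mul (by
      simpa [f, pos_iff_ne_zero] using (Module.length_pos (R := ResidueField R) (M := ResidueField A)))] at hd
    exact ENat.natCast_ne_top _ hd.symm
  have hunitu : IsUnit (θ u) := u.isUnit.map θ
  have hsum : Ring.ord A (algebraMap R A π) = ∑ i, r i • Ring.ord A (b i) := by
    have h0 : Ring.ord A (θ u) = 0 := Ring.ord_of_isUnit hunitu
    have h1 := Ring.ord_mul A (a := algebraMap R A π) (mem_nonZeroDivisors_of_ne_zero hunitu.ne_zero)
    rw [h0, add_zero, hb] at h1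
    rw [← h1]
    have hne : ∀ i, b i ^ r i ≠ 0 := fun i =>
      Finset.prod_ne_zero_iff.1 (hb ▸ mul_ne_zero hπA hunitu.ne_zero) i (Finset.mem_univ i)
    have key : ∀ s : Finset (Fin n), Ring.ord A (∏ i ∈ s, b i ^ r i) = ∑ i ∈ s, r i • Ring.ord A (b i) := by
      intro s
      induction s using Finset.induction_on with
      | empty => simp
      | insert i s his ih =>
        rw [Finset.prod_insert his, Finset.sum_insert his,
          Ring.ord_mul A (mem_nonZeroDivisors_of_ne_zero (Finset.prod_ne_zero_iff.2 fun j _ => hne j)), ih]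
        congr 1
        rcases Nat.eq_zero_or_pos (r i) with h | h
        · simp [h]
        · exact Ring.ord_pow (mem_nonZeroDivisors_of_ne_zero fun h0 => hne i (by rw [h0, zero_pow h.ne'])) _
    exact key _
  refine ⟨fun i => if r i = 0 then 1 else (Ring.ord A (b i) * f).toNat, fun i => ?_, ?_⟩
  · show 1 ≤ if r i = 0 then 1 else _
    split_ifs with h
    · rfl
    have hi : r i • Ring.ord A (b i) * f ≤ Module.finrank R A := by
      rw [← hd, hsum]
      exact mul_le_mul_left (Finset.single_le_sum (f := fun j => r j • Ring.ord A (b j)) (fun j _ => zero_le) (Finset.mem_univ i)) _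
    have h1 : Ring.ord A (b i) * f ≠ 0 := by
      refine mul_ne_zero (fun h0 => hθm _ (ha i) ?_) (by
        simpa [f, pos_iff_ne_zero] using (Module.length_pos (R := ResidueField R) (M := ResidueField A)))
      rw [Ring.ord, Module.length_eq_zero_iff, Submodule.Quotient.subsingleton_iff] at h0
      exact Ideal.span_singleton_eq_top.1 h0
    have h2 : Ring.ord A (b i) * f ≠ ⊤ := by
      intro h0
      rw [nsmul_eq_mul, mul_assoc, h0, ENat.mul_top (by exact_mod_cast h), top_le_iff] at hi
      exact ENat.natCast_ne_top _ hi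
    exact Nat.one_le_iff_ne_zero.2 fun h0 => by
      rw [ENat.toNat_eq_zero] at h0
      exact h0.elim h1 h2
  · show Module.finrank (FractionRing R) L = _
    rw [hrank, ← ENat.toNat_natCast (Module.finrank R A), ← hd, hsum, Finset.sum_mul]
    have hfin : ∀ i ∈ Finset.univ, r i • Ring.ord A (b i) * f ≠ ⊤ := fun i hi h0 => by
      have h3 : r i • Ring.ord A (b i) * f ≤ Module.finrank R A := by
        rw [← hd, hsum, Finset.sum_mul]
        exact Finset.single_le_sum (f := fun j => r j • Ring.ord A (b j) * f) (fun j _ => zero_le) hi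
      rw [h0, top_le_iff] at h3
      exact ENat.natCast_ne_top _ h3
    rw [ENat.toNat_sum hfin]
    refine Finset.sum_congr rfl fun i _ => ?_
    show _ = (if r i = 0 then 1 else (Ring.ord A (b i) * f).toNat) * r i
    split_ifs with h
    · simp [h]
    · rw [nsmul_eq_mul, mul_assoc, ENat.toNat_mul, ENat.toNat_natCast, mul_comm]

end Groth.Agent.Lib.ModelFibre.Horizontal
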