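import Groth.Prelude.Def_ModelsG
import Groth.Agent.Lib.Curves.Finiteness
import Groth.Agent.Lib.Curves.LES
import Groth.Agent.Lib.ZarCoh.Linear
import Groth.Agent.Lib.TensorMod.QCohInv
import Mathlib.RingTheory.Length

/-!
# Euler characteristics by lengths over the base ring
-/

set_option linter.style.haveILetI false

universe u

open CategoryTheory Limits AlgebraicGeometry IsLocalRing

namespace Groth.Agent.Lib.ModelFibre.LenEuler

open Groth.Agent.Lib

noncomputable section

section Abstract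

variable {A : Type u} [CommRing A]

theorem length_eq_range_add {M N P : Type*} [AddCommGroup M] [Module A M] [AddCommGroup N]
    [Module A N] [AddCommGroup P] [Module A P] {f : M →ₗ[A] N} {g : N →ₗ[A] P}
    (h : Function.Exact f g) :
    Module.length A N = Module.length A (LinearMap.range f) + Module.length A (LinearMap.range g) :=
  Module.length_eq_add_of_exact (LinearMap.range f).subtype g.rangeRestrict
    (Submodule.injective_subtype _) g.surjective_rangeRestrict
    (LinearMap.exact_iff.mpr (by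
      rw [LinearMap.ker_rangeRestrict, Submodule.range_subtype]; exact LinearMap.exact_iff.mp h))

variable {A₀ B₀ C₀ A₁ B₁ C₁ : Type*}
  [AddCommGroup A₀] [Module A A₀] [AddCommGroup B₀] [Module A B₀] [AddCommGroup C₀] [Module A C₀]
  [AddCommGroup A₁] [Module A A₁] [AddCommGroup B₁] [Module A B₁] [AddCommGroup C₁] [Module A C₁]

/-- A six-term exact sequence. -/
theorem six_term {f₀ : A₀ →ₗ[A] B₀} {g₀ : B₀ →ₗ[A] C₀} {d : C₀ →ₗ[A] A₁} {f₁ : A₁ →ₗ[A] B₁}
    {g₁ : B₁ →ₗ[A] C₁} (hf₀ : Function.Injective f₀) (e₁ : Function.Exact f₀ g₀)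
    (e₂ : Function.Exact g₀ d) (e₃ : Function.Exact d f₁) (e₄ : Function.Exact f₁ g₁)
    (hg₁ : Function.Surjective g₁)
    (hA₀ : Module.length A A₀ ≠ ⊤) (hA₁ : Module.length A A₁ ≠ ⊤)
    (hC₀ : Module.length A C₀ ≠ ⊤) (hC₁ : Module.length A C₁ ≠ ⊤) :
    Module.length A B₀ ≠ ⊤ ∧ Module.length A B₁ ≠ ⊤ ∧
      ((Module.length A B₀).toNat : ℤ) - (Module.length A B₁).toNat =
        (((Module.length A A₀).toNat : ℤ) - (Module.length A A₁).toNat) +
          (((Module.length A C₀).toNat : ℤ) - (Module.length A C₁).toNat) := by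
  have hb0 := length_eq_range_add e₁
  have hc0 := length_eq_range_add e₂
  have ha1 := length_eq_range_add e₃
  have hb1 := length_eq_range_add e₄
  rw [← (LinearEquiv.ofInjective f₀ hf₀).length_eq] at hb0
  rw [LinearMap.range_eq_top.mpr hg₁, Submodule.topEquiv.length_eq] at hb1
  rw [hc0] at hC₀
  rw [ha1] at hA₁
  replace hC₀ := WithTop.add_ne_top.mp hC₀
  replace hA₁ := WithTop.add_ne_top.mp hA₁
  refine ⟨?_, ?_, ?_⟩
  · rw [hb0]; exact WithTop.add_ne_top.mpr ⟨hA₀, hC₀.1⟩
  · rw [hb1]; exact WithTop.add_ne_top.mpr ⟨hA₁.2, hC₁⟩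
  · rw [hb0, hb1, hc0, ha1, ENat.toNat_add hA₀ hC₀.1, ENat.toNat_add hA₁.2 hC₁,
      ENat.toNat_add hC₀.1 hC₀.2, ENat.toNat_add hA₁.1 hA₁.2]
    push_cast
    ring

end Abstract

variable (R : Type u) [CommRing R] [IsDomain R] [IsDiscreteValuationRing R]
  (X : Over (Spec (CommRingCat.of R)))

/-- `H⁰` and `H¹` have finite length over the base. -/
def Fin₂ (F : X.left.Modules) : Prop :=
  Module.length R (Coh.HH X.left F 0) ≠ ⊤ ∧ Module.length R (Coh.HH X.left F 1) ≠ ⊤

/-- The Euler characteristic by lengths. -/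
def chi (F : X.left.Modules) : ℤ :=
  (Models.lengthH R X F 0 : ℤ) - (Models.lengthH R X F 1 : ℤ)

variable {R X}

theorem of_iso {F G : X.left.Modules} (e : F ≅ G) (h : Fin₂ R X F) :
    Fin₂ R X G ∧ chi R X G = chi R X F := by
  have h0 := (Curves.LES.isoK R e 0).length_eq
  have h1 := (Curves.LES.isoK R e 1).length_eq
  refine ⟨⟨h0 ▸ h.1, h1 ▸ h.2⟩, ?_⟩
  unfold chi Models.lengthH
  rw [h0, h1]

/-- Additivity in short exact sequences whose kernel has no `H²`. -/
theorem of_shortExact {S : ShortComplex X.left.Modules} (hS : S.ShortExact)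
    (h2 : Subsingleton (Coh.HH X.left S.X₁ 2)) (h₁ : Fin₂ R X S.X₁) (h₃ : Fin₂ R X S.X₃) :
    Fin₂ R X S.X₂ ∧ chi R X S.X₂ = chi R X S.X₁ + chi R X S.X₃ := by
  haveI := hS.mono_f
  have hg₁ : Function.Surjective (Curves.LES.mapK R S.g 1) := fun x =>
    (Curves.LES.exactK₃ R hS 1 2 rfl x).mp (Subsingleton.elim _ _)
  obtain ⟨a, b, c⟩ := six_term (Curves.LES.mapK_injective_of_mono R S.f)
    (Curves.LES.exactK₂ R hS 0) (Curves.LES.exactK₃ R hS 0 1 rfl) (Curves.LES.exactK₁ R hS 0 1 rfl)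
    (Curves.LES.exactK₂ R hS 1) hg₁ h₁.1 h₁.2 h₃.1 h₃.2
  exact ⟨⟨a, b⟩, c⟩

theorem subsingleton_of_id_eq_zero {F : X.left.Modules} (h : 𝟙 F = 0) (n : ℕ) :
    Subsingleton (Coh.HH X.left F n) := by
  refine subsingleton_of_forall_eq 0 fun x => ?_
  have e := LinearMap.congr_fun (Curves.LES.mapK_id (A := R) F n) x
  rw [LinearMap.id_apply] at e
  rw [← e, h]
  show Sheaf.H.map ((Curves.LES.F X.left).map (0 : F ⟶ F)) n x = 0
  rw [Functor.map_zero]
  show ((Sheaf.functorH _ n).map (0 : Coh.toAb F ⟶ Coh.toAb F)).hom x = 0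
  rw [Functor.map_zero]
  rfl

theorem zero_of_id_eq_zero {F : X.left.Modules} (h : 𝟙 F = 0) :
    Fin₂ R X F ∧ chi R X F = 0 := by
  have hs : ∀ n, Module.length R (Coh.HH X.left F n) = 0 := fun n => by
    rw [Module.length_eq_zero_iff]
    exact subsingleton_of_id_eq_zero h n
  refine ⟨⟨by rw [hs]; exact ENat.zero_ne_top, by rw [hs]; exact ENat.zero_ne_top⟩, ?_⟩
  unfold chi Models.lengthH
  rw [hs, hs]
  simp

variable (Γ : ArSurf.VertComp R X) [IsProper Γ.curve.hom]

/-- Lengths of direct images from a vertical curve. -/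
theorem length_push (M : Γ.curve.left.Modules) [M.IsQuasicoherent] (n : ℕ)
    [FiniteDimensional (ResidueField R) (Coh.HH Γ.curve.left M n)] :
    Module.length R (Coh.HH X.left ((Coh.push Γ.ι).obj M) n) =
      (Module.finrank (ResidueField R) (Coh.HH Γ.curve.left M n) : ℕ∞) := by
  letI : Γ.curve.left.Over (Spec (CommRingCat.of R)) := ⟨Γ.ι ≫ X.hom⟩
  rw [(ZarCoh.Linear.affineLinearEquiv (A := R) Γ.ι rfl M n).length_eq]
  haveI : IsScalarTower R (ResidueField R) (Coh.HH Γ.curve.left M n) := by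
    refine IsScalarTower.of_algebraMap_smul fun a x => ?_
    show Coh.toGlobal Γ.curve.hom (residue R a) • x = Coh.toGlobal (Γ.ι ≫ X.hom) a • x
    congr 1
    rw [Γ.w]
    exact (congrArg Γ.curve.hom.appTop
      (congr($(Scheme.ΓSpecIso_inv_naturality (CommRingCat.ofHom (residue R))) a)))
  rw [Module.length_eq_of_surjective (R := ResidueField R) (S := R) residue_surjective,
    Module.length_eq_finrank]

theorem push_curve (M : Γ.curve.left.Modules) (hM : Coh.IsCoh M) :
    Fin₂ R X ((Coh.push Γ.ι).obj M) ∧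
      chi R X ((Coh.push Γ.ι).obj M) =
        FGA.eulerCharLE (ResidueField R) Γ.curve.left M 1 ∧
      Subsingleton (Coh.HH X.left ((Coh.push Γ.ι).obj M) 2) := by
  haveI : M.IsQuasicoherent := hM.1
  haveI : IsProper (Γ.curve.left ↘ Spec (CommRingCat.of (ResidueField R))) := ‹IsProper Γ.curve.hom›
  have hg := Curves.Finiteness.isGood_of_isCoh (k := ResidueField R) Γ.dim_eq.le hM
  haveI := hg.fin₀
  haveI := hg.fin₁
  refine ⟨⟨by rw [length_push Γ M 0]; exact ENat.natCast_ne_top _,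
    by rw [length_push Γ M 1]; exact ENat.natCast_ne_top _⟩, ?_, ?_⟩
  · unfold chi Models.lengthH FGA.eulerCharLE
    rw [length_push Γ M 0, length_push Γ M 1]
    simp [Finset.sum_range_succ, sub_eq_add_neg]
  · letI : Γ.curve.left.Over (Spec (CommRingCat.of R)) := ⟨Γ.ι ≫ X.hom⟩
    haveI := hg.vanish 2 le_rfl
    exact (ZarCoh.Linear.affineLinearEquiv (A := R) Γ.ι rfl M 2).toEquiv.subsingleton

end

end Groth.Agent.Lib.ModelFibre.LenEuler
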