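import Groth.Agent.Lib.ModelFibre.FlatSeq
import Groth.Agent.Lib.ModelFibre.StalkIdeal
import Groth.Agent.Lib.SurfInt.Seq
import Groth.Agent.Lib.Curves.LES
import Groth.Agent.Lib.Curves.GlobalSections
import Groth.Agent.Lib.ProjKoszul.Regularity
import Groth.Agent.Lib.Snapper.Twist
import Groth.Agent.S0002

/-!
# Functions on the closed fibre which lift to all its thickenings are global
-/

set_option linter.style.haveILetI false

universe u

open CategoryTheory Limits AlgebraicGeometry IsLocalRing Groth.Agent.Lib.ModelFibre TopologicalSpace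

namespace Groth.Agent.Lib.ModelFibre.LiftH0

open Groth.Agent.Lib
open Groth.Agent.Lib.Ideal.Prime (stalkIdeal)

noncomputable section

variable {R : Type u} [CommRing R] [IsDomain R] [IsDiscreteValuationRing R]
  (X : Over (Spec (CommRingCat.of R))) [Flat X.hom]

/-- The ideal of the `n`-th thickening of the closed fibre. -/
def powI (n : ℕ) : X.left.IdealSheafData := Models.specialFibreIdeal R X ^ n

theorem stalk_powI {π : R} (hπ : Irreducible π) (n : ℕ) (x : X.left) :
    stalkIdeal (powI X n) x = _root_.Ideal.span {Stalk.baseHom X.hom x π ^ n} := by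
  rw [powI, StalkIdeal.stalkIdeal_pow, FlatSeq.stalk_specialFibreIdeal X hπ,
    _root_.Ideal.span_singleton_pow]

theorem powI_one : powI X 1 = Models.specialFibreIdeal R X := pow_one _

omit [Flat X.hom] in
theorem powI_le {m n : ℕ} (h : m ≤ n) : powI X n ≤ powI X m :=
  Scheme.IdealSheafData.le_def.mpr fun U => by
    rw [powI, powI, Scheme.IdealSheafData.ideal_pow, Scheme.IdealSheafData.ideal_pow, Pi.pow_apply,
      Pi.pow_apply]
    exact _root_.Ideal.pow_le_pow_right h

omit [Flat X.hom] in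
theorem stalk_scal_apply (M : X.left.Modules) (r : R) (x : X.left) (v : M.presheaf.stalk x) :
    Modules.StalkModule.stalkMapₗ (CurveBundle.EndAlg.scal M (Coh.toGlobal X.hom r)) x v =
      Stalk.baseHom X.hom x r • v :=
  CurveBundle.EndAlg.stalk_scal _ _ x v

theorem quot_eq (I : X.left.IdealSheafData) (x : X.left) (r : X.left.presheaf.stalk x) :
    Modules.StalkModule.stalkMapₗ (_root_.ClSub.toSubscheme I) x ((SurfInt.Stalk.oStalk x).symm r) =
      SurfInt.Stalk.quotStalk I x r := rfl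

/-- `0 → O →πⁿ O → O_{X_n} → 0`. -/
theorem powSeq {π : R} (hπ : Irreducible π) (n : ℕ) :
    ∃ w, (ShortComplex.mk (CurveBundle.EndAlg.scal (Coh.structureModule X.left) (Coh.toGlobal X.hom (π ^ n)))
      (_root_.ClSub.toSubscheme (powI X n)) w).ShortExact := by
  have hg : ∀ x : X.left, Stalk.baseHom X.hom x (π ^ n) = Stalk.baseHom X.hom x π ^ n := fun x => map_pow _ _ _
  have hst : ∀ x, stalkIdeal (powI X n) x = _root_.Ideal.span {Stalk.baseHom X.hom x (π ^ n)} := fun x => by
    rw [stalk_powI X hπ, hg]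
  have hstalk := stalk_scal_apply X (Coh.structureModule X.left) (π ^ n)
  have w : CurveBundle.EndAlg.scal (Coh.structureModule X.left) (Coh.toGlobal X.hom (π ^ n)) ≫
      _root_.ClSub.toSubscheme (powI X n) = 0 := by
    refine Modules.StalkModule.hom_ext_stalkMapₗ fun x => LinearMap.ext fun z => ?_
    obtain ⟨r, rfl⟩ := (SurfInt.Stalk.oStalk x).symm.surjective z
    rw [Modules.StalkModule.stalkMapₗ_comp, LinearMap.comp_apply, Modules.StalkModule.stalkMapₗ_zero,
      LinearMap.zero_apply, hstalk, ← map_smul, quot_eq]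
    refine LinearMap.mem_ker.mp ?_
    rw [SurfInt.Stalk.ker_quotStalk, hst, smul_eq_mul]
    exact _root_.Ideal.mul_mem_right _ _ (_root_.Ideal.mem_span_singleton_self _)
  refine ⟨w, ?_⟩
  haveI : Mono (CurveBundle.EndAlg.scal (Coh.structureModule X.left) (Coh.toGlobal X.hom (π ^ n))) := by
    rw [Modules.StalkModule.mono_iff_stalkMapₗ_injective]
    intro x a b hab
    rw [hstalk, hstalk] at hab
    apply (SurfInt.Stalk.oStalk x).injective
    replace hab := congrArg (SurfInt.Stalk.oStalk x) hab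
    rw [map_smul, map_smul] at hab
    exact Chart.isSMulRegular_baseHom X.hom x (IsRegular.of_ne_zero (pow_ne_zero n hπ.ne_zero)) hab
  haveI := ClSub.Quot.epi_toSubscheme (powI X n)
  refine { exact := (Modules.Stalk.exact_iff_stalk _).mpr fun x => ?_ }
  rw [ShortComplex.ab_exact_iff_function_exact]
  intro y
  change Modules.StalkModule.stalkMapₗ (_root_.ClSub.toSubscheme (powI X n)) x y = 0 ↔
    ∃ z, Modules.StalkModule.stalkMapₗ
      (CurveBundle.EndAlg.scal (Coh.structureModule X.left) (Coh.toGlobal X.hom (π ^ n))) x z = y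
  obtain ⟨r, rfl⟩ := (SurfInt.Stalk.oStalk x).symm.surjective y
  rw [quot_eq, ← LinearMap.mem_ker, SurfInt.Stalk.ker_quotStalk, hst, _root_.Ideal.mem_span_singleton']
  refine ⟨fun ⟨a, ha⟩ => ⟨(SurfInt.Stalk.oStalk x).symm a, ?_⟩, fun ⟨z, hz⟩ => ⟨SurfInt.Stalk.oStalk x z, ?_⟩⟩
  · rw [hstalk, ← map_smul, smul_eq_mul, mul_comm, ha]
  · rw [hstalk] at hz
    have := congrArg (SurfInt.Stalk.oStalk x) hz
    rw [map_smul, LinearEquiv.apply_symm_apply, smul_eq_mul, mul_comm] at this
    exact this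

omit [Flat X.hom] in
theorem mapK_scal (M : X.left.Modules) (r : R) (i : ℕ) (z : Coh.HH X.left M i) :
    Curves.LES.mapK R (CurveBundle.EndAlg.scal M (Coh.toGlobal X.hom r)) i z = r • z := rfl

/-- `π ^ n` kills the cohomology of the `n`-th thickening. -/
theorem smul_eq_zero {π : R} (hπ : Irreducible π) (n i : ℕ)
    (z : Coh.HH X.left (_root_.ClSub.quotMod (powI X n)) i) : π ^ n • z = 0 := by
  have h0 : CurveBundle.EndAlg.scal (_root_.ClSub.quotMod (powI X n)) (Coh.toGlobal X.hom (π ^ n)) = 0 := by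
    refine Modules.StalkModule.hom_ext_stalkMapₗ fun x => LinearMap.ext fun z => ?_
    obtain ⟨r, rfl⟩ := SurfInt.Stalk.quotStalk_surjective (powI X n) x z
    rw [stalk_scal_apply, ← map_smul, Modules.StalkModule.stalkMapₗ_zero, LinearMap.zero_apply]
    refine LinearMap.mem_ker.mp ?_
    rw [SurfInt.Stalk.ker_quotStalk, stalk_powI X hπ, map_pow, smul_eq_mul]
    exact _root_.Ideal.mul_mem_right _ _ (_root_.Ideal.mem_span_singleton_self _)
  rw [← mapK_scal, h0]
  show Sheaf.H.map ((Curves.LES.F X.left).map (0 : _root_.ClSub.quotMod (powI X n) ⟶ _)) i z = 0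
  rw [Functor.map_zero]
  show ((Sheaf.functorH _ i).map (0 : Coh.toAb (_root_.ClSub.quotMod (powI X n)) ⟶
    Coh.toAb (_root_.ClSub.quotMod (powI X n)))).hom z = 0
  rw [Functor.map_zero]
  rfl

/-- A section over `X_{N+1}` killed by `π ^ N` vanishes on the closed fibre. -/
theorem restrict_eq_zero {π : R} (hπ : Irreducible π) (N : ℕ)
    {ρ : _root_.ClSub.quotMod (powI X (N + 1)) ⟶ _root_.ClSub.quotMod (powI X 1)}
    (hρ : _root_.ClSub.toSubscheme _ ≫ ρ = _root_.ClSub.toSubscheme _)
    (u : Coh.HH X.left (_root_.ClSub.quotMod (powI X (N + 1))) 0) (hu : π ^ N • u = 0) :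
    Curves.LES.mapK R ρ 0 u = 0 := by
  rw [← mapK_scal] at hu
  have hu' := congrArg (Curves.GlobalSections.h0Equiv (_root_.ClSub.quotMod (powI X (N + 1)))) hu
  rw [ProjKoszul.Regularity.h0Equiv_mapK, map_zero (Curves.GlobalSections.h0Equiv _)] at hu'
  apply (Curves.GlobalSections.h0Equiv _).injective
  rw [ProjKoszul.Regularity.h0Equiv_mapK, map_zero (Curves.GlobalSections.h0Equiv _)]
  refine TopCat.Presheaf.section_ext ⟨_, (_root_.ClSub.quotMod (powI X 1)).isSheaf⟩ ⊤ _ _ fun x _ => ?_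
  show (_root_.ClSub.quotMod (powI X 1)).presheaf.germ ⊤ x (Opens.mem_top x) _ =
    (_root_.ClSub.quotMod (powI X 1)).presheaf.germ ⊤ x (Opens.mem_top x) 0
  erw [← Modules.StalkModule.stalkMapₗ_germ]
  rw [map_zero]
  set s := Curves.GlobalSections.h0Equiv (_root_.ClSub.quotMod (powI X (N + 1))) u
  have h1 := congrArg (fun v => (_root_.ClSub.quotMod (powI X (N + 1))).presheaf.germ ⊤ x (Opens.mem_top x) v) hu'
  erw [← Modules.StalkModule.stalkMapₗ_germ] at h1
  replace h1 := ((stalk_scal_apply X _ _ x _).symm.trans h1).trans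
    (map_zero ((_root_.ClSub.quotMod (powI X (N + 1))).presheaf.germ ⊤ x (Opens.mem_top x)).hom)
  obtain ⟨r, hr⟩ := SurfInt.Stalk.quotStalk_surjective (powI X (N + 1)) x
    ((_root_.ClSub.quotMod (powI X (N + 1))).presheaf.germ ⊤ x (Opens.mem_top x) s)
  rw [← hr, ← map_smul, ← LinearMap.mem_ker, SurfInt.Stalk.ker_quotStalk, stalk_powI X hπ, map_pow,
    _root_.Ideal.mem_span_singleton, smul_eq_mul, pow_succ] at h1
  have hreg : IsSMulRegular (X.left.presheaf.stalk x) (Stalk.baseHom X.hom x π ^ N) := by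
    rw [← map_pow]
    exact Chart.isSMulRegular_baseHom X.hom x (IsRegular.of_ne_zero (pow_ne_zero N hπ.ne_zero))
  obtain ⟨c, hc⟩ := h1
  have hrc : r = Stalk.baseHom X.hom x π * c := hreg (by
    show _ • r = _ • (Stalk.baseHom X.hom x π * c)
    rw [smul_eq_mul, smul_eq_mul, hc]; ring)
  rw [← hr]
  show Modules.StalkModule.stalkMapₗ ρ x (Modules.StalkModule.stalkMapₗ (_root_.ClSub.toSubscheme _) x _) = 0
  rw [← LinearMap.comp_apply, ← Modules.StalkModule.stalkMapₗ_comp, hρ]
  show SurfInt.Stalk.quotStalk (powI X 1) x r = 0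
  rw [← LinearMap.mem_ker, SurfInt.Stalk.ker_quotStalk, stalk_powI X hπ, pow_one, hrc]
  exact _root_.Ideal.mul_mem_right _ _ (_root_.Ideal.mem_span_singleton_self _)

/-- On a proper flat scheme over `R`, a section over the closed fibre lifting to a fixed thickening is global. -/
theorem exists_bound [IsProper X.hom] {π : R} (hπ : Irreducible π) :
    ∃ N : ℕ, ∀ (ρ : _root_.ClSub.quotMod (powI X (N + 1)) ⟶ _root_.ClSub.quotMod (powI X 1)),
      _root_.ClSub.toSubscheme _ ≫ ρ = _root_.ClSub.toSubscheme _ →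
      ∀ u : Coh.HH X.left (_root_.ClSub.quotMod (powI X (N + 1))) 0,
        ∃ b : Coh.HH X.left (Coh.structureModule X.left) 0,
          Curves.LES.mapK R (_root_.ClSub.toSubscheme (powI X 1)) 0 b = Curves.LES.mapK R ρ 0 u := by
  haveI : IsProper (X.left ↘ Spec (CommRingCat.of R)) := ‹IsProper X.hom›
  haveI : IsLocallyNoetherian X.left := LocallyOfFiniteType.isLocallyNoetherian X.hom
  let H₁ := Coh.HH X.left (Coh.structureModule X.left) 1
  haveI : Module.Finite R H₁ :=
    Groth.Agent.S0002.result R X.left _ (Snapper.Twist.isCoh_structureModule _) 1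
  haveI : IsNoetherian R H₁ := inferInstance
  let chain : ℕ →o Submodule R H₁ :=
    { toFun := fun n => LinearMap.ker (LinearMap.lsmul R H₁ (π ^ n))
      monotone' := fun a b hab x hx => by
        rw [LinearMap.mem_ker, LinearMap.lsmul_apply] at hx ⊢
        rw [← Nat.sub_add_cancel hab, pow_add, mul_smul, hx, smul_zero] }
  obtain ⟨N, hN⟩ := monotone_stabilizes_iff_noetherian.mpr (inferInstance : IsNoetherian R H₁) chain
  refine ⟨N, fun ρ hρ u => ?_⟩
  obtain ⟨wn, hSn⟩ := powSeq X hπ (N + 1)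
  obtain ⟨wN, hSN⟩ := powSeq X hπ N
  -- `π^N u` comes from a global function
  let δu : H₁ := Curves.LES.δK R hSn 0 1 rfl u
  have hδ : π ^ (N + 1) • δu = 0 := by
    rw [← mapK_scal]
    exact ((Curves.LES.exactK₁ R hSn 0 1 rfl) _).mpr ⟨u, rfl⟩
  have hδN : π ^ N • δu = 0 := by
    have h : δu ∈ chain (N + 1) := LinearMap.mem_ker.mpr hδ
    rw [← hN (N + 1) (Nat.le_succ N)] at h
    exact LinearMap.mem_ker.mp h
  obtain ⟨a, ha⟩ := ((Curves.LES.exactK₃ R hSn 0 1 rfl) (π ^ N • u)).mp (by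
    show Curves.LES.δK R hSn 0 1 rfl (π ^ N • u) = 0
    rw [map_smul]; exact hδN)
  obtain ⟨ρN, hρN⟩ := SurfInt.Seq.exists_descend (powI_le X (Nat.le_succ N))
  have ha0 : Curves.LES.mapK R (_root_.ClSub.toSubscheme (powI X N)) 0 a = 0 := by
    rw [← hρN, Curves.LES.mapK_comp, LinearMap.comp_apply]
    show Curves.LES.mapK R ρN 0 (Curves.LES.mapK R (_root_.ClSub.toSubscheme (powI X (N + 1))) 0 a) = 0
    rw [ha, map_smul]
    exact smul_eq_zero X hπ N 0 _
  obtain ⟨b, hb⟩ := ((Curves.LES.exactK₂ R hSN 0) a).mp ha0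
  refine ⟨b, ?_⟩
  have hb' : π ^ N • b = a := hb
  have hzero : π ^ N • (u - Curves.LES.mapK R (_root_.ClSub.toSubscheme (powI X (N + 1))) 0 b) = 0 := by
    rw [smul_sub, ← map_smul, hb']
    exact sub_eq_zero.mpr ha.symm
  have := restrict_eq_zero X hπ N hρ _ hzero
  rw [map_sub, sub_eq_zero] at this
  rw [this, ← LinearMap.comp_apply, ← Curves.LES.mapK_comp, hρ]

end

end Groth.Agent.Lib.ModelFibre.LiftH0
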