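import Groth.Agent.Lib.ModelFibre.EulerFibre
import Groth.Agent.Lib.ModelFibre.FlatSeq
import Groth.Agent.Lib.ModelFibre.ConnFibre

/-!
# The ideals of the closed fibre and of the reduced closed fibre as products over the components
-/

set_option linter.style.haveILetI false

universe u

open CategoryTheory Limits AlgebraicGeometry IsLocalRing Groth.Agent.Lib.ModelFibre TopologicalSpace

namespace Groth.Agent.Lib.ModelFibre.RedFibre

open Groth.Agent.Lib
open Groth.Agent.Lib.Ideal.Prime (stalkIdeal stalkIdeal_eq)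

noncomputable section

theorem stalkIdeal_radical {Y : Scheme.{u}} (I : Y.IdealSheafData) (x : Y) :
    stalkIdeal I.radical x = (stalkIdeal I x).radical := by
  obtain ⟨U, hU, hxU, -⟩ := exists_isAffineOpen_mem_and_subset (show x ∈ (⊤ : Y.Opens) from trivial)
  letI := TopCat.Presheaf.algebra_section_stalk Y.presheaf (⟨x, hxU⟩ : U)
  have := hU.isLocalization_stalk ⟨x, hxU⟩
  rw [stalkIdeal_eq _ ⟨U, hU⟩ hxU, stalkIdeal_eq I ⟨U, hU⟩ hxU, Scheme.IdealSheafData.radical_ideal]
  exact IsLocalization.map_radical (hU.primeIdealOf ⟨x, hxU⟩).asIdeal.primeCompl (Y.presheaf.stalk x) _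

/-- In a domain, the product of principal primes none containing another is their intersection. -/
theorem mem_prod_of_forall {A : Type*} [CommRing A] [IsDomain A] {ι : Type*} (s : Finset ι) (a : ι → A)
    (hP : ∀ i ∈ s, Prime (a i)) (hne : ∀ i ∈ s, ∀ j ∈ s, i ≠ j → ¬ a i ∣ a j) :
    ∀ y : A, (∀ i ∈ s, a i ∣ y) → ∏ i ∈ s, a i ∣ y := by
  classical
  induction s using Finset.induction_on with
  | empty => intro y _; simp
  | @insert j s hj ih =>
    intro y hy
    obtain ⟨z, rfl⟩ := hy j (Finset.mem_insert_self _ _)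
    rw [Finset.prod_insert hj]
    refine mul_dvd_mul_left _ (ih (fun i hi => hP i (Finset.mem_insert_of_mem hi))
      (fun i hi k hk => hne i (Finset.mem_insert_of_mem hi) k (Finset.mem_insert_of_mem hk)) z fun i hi => ?_)
    have hij : i ≠ j := fun h => hj (h ▸ hi)
    exact ((hP i (Finset.mem_insert_of_mem hi)).dvd_or_dvd (hy i (Finset.mem_insert_of_mem hi))).resolve_left
      (hne i (Finset.mem_insert_of_mem hi) j (Finset.mem_insert_self _ _) hij)

variable {R : Type u} [CommRing R] [IsDomain R] [IsDiscreteValuationRing R]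
  {X : Over (Spec (CommRingCat.of R))} (hX : Inter.IsSurf X) {n : ℕ}
  (Γ : Fin n → ArSurf.VertComp R X) (hΓ : Models.IsComponentList R X Γ)

include hX hΓ

theorem specialFibreIdeal_eq :
    Models.specialFibreIdeal R X = ∏ j, (Γ j).ι.ker ^ Models.mult R X (Γ j) := by
  haveI := hX.flat
  obtain ⟨π, hπ⟩ := IsDiscreteValuationRing.exists_irreducible R
  exact StalkIdeal.ext_of_stalkIdeal fun x => (FlatSeq.stalk_specialFibreIdeal X hπ x).trans
    (EulerFibre.stalk_fibreIdeal hX Γ hΓ hπ x).symm

theorem radical_prod : (∏ j, (Γ j).ι.ker).radical = ∏ j, (Γ j).ι.ker := by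
  classical
  haveI := hX.flat
  obtain ⟨π, hπ⟩ := IsDiscreteValuationRing.exists_irreducible R
  have hcomp : ∀ i, Set.range ((Γ i).ι.base : (Γ i).curve.left → X.left) ∈ Models.fibreComponents R X :=
    fun i => hΓ.2 ▸ ⟨i, rfl⟩
  obtain ⟨hprime, -⟩ := Components.stalk_structure X.hom hX.reg hπ Γ hcomp
  have hrange : ∀ i, ((Γ i).ι.ker.support : Set X.left) = Set.range ((Γ i).ι.base : (Γ i).curve.left → X.left) :=
    fun i => by
      rw [Scheme.Hom.support_ker]; exact (Γ i).ι.isClosedEmbedding.isClosed_range.closure_eq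
  refine StalkIdeal.ext_of_stalkIdeal fun x => ?_
  haveI := hX.reg x
  haveI : IsDomain (X.left.presheaf.stalk x) := Regular.Quotient.isDomain _
  rw [stalkIdeal_radical]
  refine le_antisymm ?_ _root_.Ideal.le_radical
  rw [StalkIdeal.stalkIdeal_prod]
  intro y hy
  let s : Finset (Fin n) := Finset.univ.filter fun i => x ∈ Set.range ((Γ i).ι.base : (Γ i).curve.left → X.left)
  have hs : ∀ i, i ∈ s ↔ x ∈ Set.range ((Γ i).ι.base : (Γ i).curve.left → X.left) := fun i => by simp [s]
  choose a ha hspan using fun i (h : i ∈ s) => hprime i x ((hs i).1 h)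
  let b : Fin n → X.left.presheaf.stalk x := fun i => if h : i ∈ s then a i h else 1
  have hb : ∀ i, stalkIdeal (Γ i).ι.ker x = _root_.Ideal.span {b i} := fun i => by
    by_cases h : i ∈ s
    · simp only [b, dif_pos h]; exact hspan i h
    · simp only [b, dif_neg h, _root_.Ideal.span_singleton_one]
      rw [StalkIdeal.stalkIdeal_eq_top_iff]
      intro hm
      exact h ((hs i).2 (by rw [← hrange i]; exact hm))
  simp only [hb, _root_.Ideal.prod_span_singleton] at hy ⊢
  rw [_root_.Ideal.mem_span_singleton, ← Finset.prod_subset (Finset.subset_univ s)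
    (fun i _ hi => by simp only [b, dif_neg hi])]
  have hbp : ∀ i ∈ s, Prime (b i) := fun i hi => by simp only [b, dif_pos hi]; exact ha i hi
  refine mem_prod_of_forall s b hbp (fun i hi j hj hij hdvd => ?_) y fun i hi => ?_
  · -- two distinct components have distinct primes
    have hass := (hbp i hi).associated_of_dvd (hbp j hj) hdvd
    have heq : stalkIdeal (Γ i).ι.ker x = stalkIdeal (Γ j).ι.ker x := by
      rw [hb, hb]; exact _root_.Ideal.span_singleton_eq_span_singleton.mpr hass
    have hsp : ∀ k ∈ s, (Γ k).ι (genericPoint (Γ k).curve.left) ⤳ x := fun k hk => by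
      obtain ⟨z, hz⟩ := (hs k).1 hk
      exact hz ▸ (genericPoint_specializes z).map (Γ k).ι.continuous
    obtain ⟨q, hq⟩ : (Γ i).ι (genericPoint (Γ i).curve.left) ∈ Set.range (X.left.fromSpecStalk x) := by
      rw [Scheme.range_fromSpecStalk]; exact hsp i hi
    obtain ⟨q', hq'⟩ : (Γ j).ι (genericPoint (Γ j).curve.left) ∈ Set.range (X.left.fromSpecStalk x) := by
      rw [Scheme.range_fromSpecStalk]; exact hsp j hj
    have e1 := (StalkIdeal.stalkIdeal_ker (Γ i).ι x (hsp i hi)).2 q hq
    have e2 := (StalkIdeal.stalkIdeal_ker (Γ j).ι x (hsp j hj)).2 q' hq'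
    have hqq : q = q' := PrimeSpectrum.ext (by rw [e1, e2, heq])
    refine hij (hΓ.1 ?_)
    have hcl : ∀ k, Set.range ((Γ k).ι.base : (Γ k).curve.left → X.left) =
        closure {(Γ k).ι (genericPoint (Γ k).curve.left)} := fun k => by
      have h1 := (genericPoint_spec (Γ k).curve.left).image (Γ k).ι.continuous
      rw [Set.image_univ, (Γ k).ι.isClosedEmbedding.isClosed_range.closure_eq] at h1
      exact h1.symm
    show Set.range _ = Set.range _
    rw [hcl i, hcl j, ← hq, ← hq', hqq]
  · obtain ⟨m, hm⟩ := _root_.Ideal.mem_radical_iff.mp hy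
    rw [_root_.Ideal.mem_span_singleton] at hm
    exact (hbp i hi).dvd_of_dvd_pow ((Finset.dvd_prod_of_mem b (Finset.mem_univ i)).trans hm)

theorem redFibreIdeal_eq : Models.redFibreIdeal R X = ∏ j, (Γ j).ι.ker := by
  classical
  rw [← radical_prod hX Γ hΓ, ← Scheme.IdealSheafData.vanishingIdeal_support, Models.redFibreIdeal]
  congr 1
  ext x
  show x ∈ Models.specialFibreSet R X ↔ x ∈ (∏ j, (Γ j).ι.ker).support
  have hrange : ∀ i, ((Γ i).ι.ker.support : Set X.left) = Set.range ((Γ i).ι.base : (Γ i).curve.left → X.left) :=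
    fun i => by
      rw [Scheme.Hom.support_ker]; exact (Γ i).ι.isClosedEmbedding.isClosed_range.closure_eq
  constructor
  · intro hx
    obtain ⟨i, hi⟩ := ConnFibre.mem_component Γ hΓ x hx
    rw [← hrange i] at hi
    refine Scheme.IdealSheafData.support_antitone ?_ hi
    rw [← Finset.mul_prod_erase Finset.univ (fun j => (Γ j).ι.ker) (Finset.mem_univ i)]
    exact Scheme.IdealSheafData.le_def.mpr fun U => by
      rw [Scheme.IdealSheafData.ideal_mul, Pi.mul_apply]; exact _root_.Ideal.mul_le_left
  · intro hx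
    by_contra hns
    refine (StalkIdeal.stalkIdeal_eq_top_iff _ x).mp ?_ hx
    rw [StalkIdeal.stalkIdeal_prod, ← _root_.Ideal.one_eq_top]
    refine Finset.prod_eq_one fun i _ => ?_
    rw [_root_.Ideal.one_eq_top, StalkIdeal.stalkIdeal_eq_top_iff]
    intro hm
    have hm' : x ∈ Set.range ((Γ i).ι.base : (Γ i).curve.left → X.left) := hrange i ▸ hm
    have hc : Set.range ((Γ i).ι.base : (Γ i).curve.left → X.left) ∈ Models.fibreComponents R X :=
      hΓ.2 ▸ ⟨i, rfl⟩
    exact hns (hc.1.2 hm')

end

end Groth.Agent.Lib.ModelFibre.RedFibre
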