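import Groth.Agent.Lib.ModelFibre.TorsGen
import Groth.Agent.Lib.ModelFibre.TorsBound
import Groth.Agent.Lib.ModelFibre.Thick
import Mathlib.FieldTheory.PurelyInseparable.Basic

/-!
# Torsion of order prime to the residue characteristic is detected on the reduced closed fibre
-/

set_option linter.style.haveILetI false

universe u

open CategoryTheory Limits AlgebraicGeometry IsLocalRing TopologicalSpace Polynomial Groth.Agent.Lib.ModelFibre

namespace Groth.Agent.Lib.ModelFibre.TorsInj

open Groth.Agent.Lib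

noncomputable section

/-- An element of a finite extension is an `h`-th power times a power of a separable element, when `h` is
prime to the characteristic. -/
theorem exists_separable_pow {k L : Type u} [Field k] [Field L] [Algebra k L] [Algebra.IsAlgebraic k L]
    {h : ℕ} (hchar : ∀ q : ℕ, q.Prime → CharP k q → ¬ q ∣ h) (c : L) :
    ∃ Q : ℕ, Q.Coprime h ∧ _root_.IsSeparable k (c ^ Q) := by
  obtain ⟨q, hq⟩ := ExpChar.exists k
  haveI : ExpChar (separableClosure k L) q :=
    expChar_of_injective_ringHom (algebraMap k (separableClosure k L)).injective q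
  obtain ⟨n, y, hy⟩ := IsPurelyInseparable.pow_mem (separableClosure k L) q c
  refine ⟨q ^ n, ?_, ?_⟩
  · rcases hq with _ | ⟨hprime⟩
    · rw [one_pow]; exact Nat.coprime_one_left h
    · exact Nat.Coprime.pow_left n ((Nat.Prime.coprime_iff_not_dvd hprime).mpr (hchar q hprime ‹_›))
  · rw [← hy]
    exact mem_separableClosure_iff.mp y.2

variable {R : Type u} [CommRing R] [IsDomain R] [IsDiscreteValuationRing R]
  (X : Over (Spec (CommRingCat.of R))) [Flat X.hom] [IsProper X.hom]

/-- An invertible module with trivial `h`-th power, `h` prime to the residue characteristic, which is trivial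
on the reduced closed fibre is trivial, when the functions on the latter form a finite field extension. -/
theorem trivial_of_isField (hF : IsField Γ((Models.redFibreIdeal R X).subscheme, ⊤))
    (hfin : (((Models.redFibreIdeal R X).subschemeι ≫ X.hom).appTop.hom.comp
      (Scheme.ΓSpecIso (CommRingCat.of R)).inv.hom).Finite)
    {h : ℕ} (hh : 0 < h) (hchar : ∀ q : ℕ, q.Prime → CharP (ResidueField R) q → ¬ q ∣ h)
    (M : X.left.Modules) (hM : PicF.IsInvertible M)
    (φ : CohB1.tensorPow M h ≅ Coh.structureModule X.left)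
    (ψ : (Scheme.Modules.pullback (Models.redFibreIdeal R X).subschemeι).obj M ≅
      Coh.structureModule (Models.redFibreIdeal R X).subscheme) :
    Nonempty (M ≅ Coh.structureModule X.left) := by
  obtain ⟨π, hπ⟩ := IsDiscreteValuationRing.exists_irreducible R
  obtain ⟨N, hN⟩ := TorsBound.exists_thickening X hπ hM
  refine hN ?_
  let J := Models.redFibreIdeal R X
  let I := LiftH0.powI X (N + 1)
  have hunit : ∀ x : X.left, x ∈ Models.specialFibreSet R X ↔ ¬ IsUnit (Stalk.baseHom X.hom x π) := by
    intro x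
    have h1 : X.hom x = Spec.map (CommRingCat.ofHom (Stalk.baseHom X.hom x))
        (IsLocalRing.closedPoint (X.left.presheaf.stalk x)) := by
      rw [← Stalk.fromSpecStalk_comp]
      exact (congrArg (fun y => X.hom y) Scheme.fromSpecStalk_closedPoint).symm
    have h2 : π ∈ (X.hom x).asIdeal ↔ ¬ IsUnit (Stalk.baseHom X.hom x π) := by
      rw [h1]
      exact IsLocalRing.mem_maximalIdeal _
    refine Iff.trans ⟨fun hx => ?_, fun hx => ?_⟩ h2
    · rw [show X.hom x = IsLocalRing.closedPoint R from hx]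
      show π ∈ maximalIdeal R
      rw [hπ.maximalIdeal_eq]
      exact _root_.Ideal.mem_span_singleton_self π
    · refine PrimeSpectrum.ext (IsLocalRing.eq_maximalIdeal ((X.hom x).isPrime.isMaximal fun h0 => ?_))
      exact hπ.ne_zero (by rw [h0] at hx; exact hx)
  have hsupp : ∀ x : X.left, x ∈ I.support ↔ x ∈ Models.specialFibreSet R X := fun x => by
    rw [hunit x, ← not_iff_not, not_not, ← StalkIdeal.stalkIdeal_eq_top_iff, LiftH0.stalk_powI X hπ,
      _root_.Ideal.span_singleton_eq_top, isUnit_pow_succ_iff]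
  have hle : I ≤ J := by
    refine Scheme.IdealSheafData.le_support_iff_le_vanishingIdeal.mp ?_
    exact fun x hx => (hsupp x).mpr hx
  let j : J.subscheme ⟶ I.subscheme := IsClosedImmersion.lift I.subschemeι J.subschemeι
    (by rw [Scheme.IdealSheafData.ker_subschemeι, Scheme.IdealSheafData.ker_subschemeι]; exact hle)
  have hj : j ≫ I.subschemeι = J.subschemeι := IsClosedImmersion.lift_fac _ _ _
  haveI : IsClosedImmersion (j ≫ I.subschemeι) := by rw [hj]; infer_instance
  haveI : IsClosedImmersion j := IsClosedImmersion.of_comp j I.subschemeι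
  haveI : Surjective j := ⟨fun z => by
    have hz : I.subschemeι z ∈ (I.support : Set X.left) := by rw [← I.range_subschemeι]; exact ⟨z, rfl⟩
    have hz1 : I.subschemeι z ∈ (J.support : Set X.left) := by
      show I.subschemeι z ∈ ((Scheme.IdealSheafData.vanishingIdeal (⟨Models.specialFibreSet R X, Models.isClosed_specialFibreSet R X⟩ : Closeds X.left)).support : Set X.left)
      rw [Scheme.IdealSheafData.coe_support_vanishingIdeal]
      exact (hsupp _).mp hz
    rw [← J.range_subschemeι] at hz1
    obtain ⟨y, hy⟩ := hz1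
    exact ⟨y, I.subschemeι.isClosedEmbedding.injective (by rw [← Scheme.Hom.comp_apply, hj, hy])⟩⟩
  -- residue field structure on the functions of the reduced fibre
  letI : Field Γ(J.subscheme, ⊤) := hF.toField
  let φ₁ : R →+* Γ(J.subscheme, ⊤) :=
    (J.subschemeι ≫ X.hom).appTop.hom.comp (Scheme.ΓSpecIso (CommRingCat.of R)).inv.hom
  have hker : ∀ r ∈ maximalIdeal R, φ₁ r = 0 := by
    intro r hr
    by_contra h
    have hinj : Function.Injective φ₁ := by
      rw [RingHom.injective_iff_ker_eq_bot]
      by_contra hb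
      have hp : (RingHom.ker φ₁).IsPrime := RingHom.ker_isPrime φ₁
      exact h (RingHom.mem_ker.mp (((hp.isMaximal hb).eq_of_le (IsLocalRing.maximalIdeal.isMaximal R).ne_top
        (IsLocalRing.le_maximalIdeal hp.ne_top)).ge hr))
    letI : Algebra R Γ(J.subscheme, ⊤) := φ₁.toAlgebra
    haveI : Module.Finite R Γ(J.subscheme, ⊤) := hfin
    exact IsDiscreteValuationRing.not_isField R (isField_of_isIntegral_of_isField hinj hF)
  let ψ₁ : ResidueField R →+* Γ(J.subscheme, ⊤) := _root_.Ideal.Quotient.lift _ φ₁ hker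
  have hψφ : ψ₁.comp (residue R) = φ₁ := RingHom.ext fun r => rfl
  letI : Algebra (ResidueField R) Γ(J.subscheme, ⊤) := ψ₁.toAlgebra
  haveI : Module.Finite (ResidueField R) Γ(J.subscheme, ⊤) :=
    RingHom.Finite.of_comp_finite (f := residue R) (g := ψ₁) (by rw [hψφ]; exact hfin)
  have hu : IsUnit (h : Γ(J.subscheme, ⊤)) := by
    refine Ne.isUnit fun h0 => ?_
    rw [← map_natCast (algebraMap (ResidueField R) Γ(J.subscheme, ⊤)), map_eq_zero] at h0
    rcases (CharP.exists' (ResidueField R)) with hz | ⟨p, hp, hpc⟩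
    · exact hh.ne' (Nat.cast_eq_zero.mp h0)
    · exact hchar p hp.out hpc ((CharP.cast_eq_zero_iff (ResidueField R) p h).mp h0)
  -- restrict the data to the thickening
  obtain ⟨eI⟩ := TorsGen.nonempty_pullback_tensorPow I.subschemeι M h
  let φI : CohB1.tensorPow ((Scheme.Modules.pullback I.subschemeι).obj M) h ≅
      Coh.structureModule I.subscheme :=
    eI.symm ≪≫ (Scheme.Modules.pullback I.subschemeι).mapIso φ ≪≫ PicLoc.pullbackStructureIso I.subschemeι
  let ψI : (Scheme.Modules.pullback j).obj ((Scheme.Modules.pullback I.subschemeι).obj M) ≅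
      Coh.structureModule J.subscheme :=
    (Scheme.Modules.pullbackComp j I.subschemeι).app M ≪≫ (Scheme.Modules.pullbackCongr hj).app M ≪≫ ψ
  obtain ⟨c, hc, hmult⟩ := TorsGen.exists_mult j (PicLoc.isInvertible_pullback I.subschemeι hM) hh hu φI ψI
  obtain ⟨Q, hQ, hsep⟩ := exists_separable_pow (k := ResidueField R) hchar c
  let θ : Γ(J.subscheme, ⊤) := c ^ Q
  have hint : _root_.IsIntegral (ResidueField R) θ := IsIntegral.of_finite _ _
  obtain ⟨F, hF'⟩ := Polynomial.map_surjective (residue R) residue_surjective (minpoly (ResidueField R) θ)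
  let φ₂ : R →+* Γ(I.subscheme, ⊤) := Coh.toGlobal (I.subschemeι ≫ X.hom)
  have hφ₂ : j.appTop.hom.comp φ₂ = φ₁ := RingHom.ext fun r => by
    show j.appTop (Coh.toGlobal (I.subschemeι ≫ X.hom) r) = Coh.toGlobal (J.subschemeι ≫ X.hom) r
    rw [← hj, Category.assoc]
    rfl
  have hev : ∀ G : R[X], G.eval₂ φ₁ θ = Polynomial.aeval θ (G.map (residue R)) := fun G => by
    rw [Polynomial.aeval_def, Polynomial.eval₂_map]
    show _ = G.eval₂ (ψ₁.comp (residue R)) θ
    rw [hψφ]
  obtain ⟨r, -, hr⟩ := Thick.exists_root j φ₂ F θ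
    (by rw [hφ₂, hev, hF']; exact minpoly.aeval _ _)
    (by
      rw [hφ₂, hev, ← Polynomial.derivative_map, hF']
      exact Ne.isUnit (Polynomial.Separable.aeval_derivative_ne_zero hsep (minpoly.aeval (ResidueField R) θ)))
  have hru : IsUnit r := Thick.isUnit_of_isUnit_app j r (by
    show IsUnit (j.appTop r)
    rw [hr]; exact hc.pow Q)
  obtain ⟨cu, hcu⟩ := hc
  obtain ⟨ru, hru⟩ := hru
  have hbez : (Q : ℤ) * Nat.gcdA Q h + (h : ℤ) * Nat.gcdB Q h = 1 := by
    rw [← Nat.gcd_eq_gcd_ab, hQ.gcd_eq_one, Nat.cast_one]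
  let v : (Γ(J.subscheme, ⊤))ˣ := (cu ^ Nat.gcdB Q h)⁻¹
  let t : (Γ(I.subscheme, ⊤))ˣ := ru ^ Nat.gcdA Q h
  refine hmult (v : Γ(J.subscheme, ⊤)) (t : Γ(I.subscheme, ⊤)) v.isUnit ?_
  have hmap : Units.map (j.appTop.hom : Γ(I.subscheme, ⊤) →* Γ(J.subscheme, ⊤)) ru = cu ^ Q :=
    Units.ext (by rw [Units.coe_map, Units.val_pow_eq_pow_val, hru, hcu]; exact hr)
  have key : v ^ h * cu = Units.map (j.appTop.hom : Γ(I.subscheme, ⊤) →* Γ(J.subscheme, ⊤)) t := by
    simp only [v, t, map_zpow, hmap]
    rw [← zpow_natCast cu Q, ← zpow_natCast ((cu ^ Nat.gcdB Q h)⁻¹) h, inv_zpow', ← zpow_mul, ← zpow_mul]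
    nth_rewrite 2 [← zpow_one cu]
    rw [← zpow_add, ← hbez]
    congr 1
    ring
  have := congrArg Units.val key
  rw [Units.val_mul, Units.val_pow_eq_pow_val, hcu] at this
  exact this

end

end Groth.Agent.Lib.ModelFibre.TorsInj
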