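import Groth.Agent.S2431
import Groth.Agent.Lib.ModelFibre.TorsInj
import Groth.Agent.Lib.ModelFibre.RedFibre
import Groth.Agent.Lib.ModelFibre.DivisorChain
import Groth.Agent.Lib.ModelFibre.ExistsComponents
import Groth.Agent.Lib.Flat55.DimIneqFibre

/-!
# Torsion line bundles on regular models are detected on the reduced closed fibre
-/

set_option linter.style.haveILetI false

universe u

open CategoryTheory Limits AlgebraicGeometry Groth.Agent.Lib.ModelFibre

namespace Groth.Agent.Lib.ModelFibre.TorsModel

open Groth.Agent.Lib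

noncomputable section

/-- A regular proper model of a curve is two-dimensional. -/
theorem dim_two (R : Type u) [CommRing R] [IsDomain R] [IsDiscreteValuationRing R]
    (C X : Scheme.{u}) (f : C ⟶ Spec (CommRingCat.of (FractionRing R))) (p : X ⟶ Spec (CommRingCat.of R))
    (hC : Curve.IsSmoothProperCurve (FractionRing R) C f) (hX : Models.IsRegularProperModel R X p C f) :
    topologicalKrullDim X = 2 := by
  have hS := Inter.IsSurf.of_model hC hX
  refine le_antisymm (Flat55.DimIneqFibre.topologicalKrullDim_le_of_forall_stalk 2 hS.dim_le) ?_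
  obtain ⟨⟨-, -, -, g, hg⟩, hp, -⟩ := hX
  haveI := hp
  haveI : IsPreimmersion (Spec.map (CommRingCat.ofHom (algebraMap R (FractionRing R)))) :=
    IsPreimmersion.of_isLocalization (nonZeroDivisors R)
  haveI : IsPreimmersion g := MorphismProperty.of_isPullback hg.flip inferInstance
  have h1 : ((1 : ℕ) : WithBot ℕ∞) ≤ Order.krullDim C := by
    rw [Order.krullDim_eq_of_orderIso (irreducibleSetEquivPoints (α := C)).symm, ← topologicalKrullDim, hC.2.2.2]
    rfl
  obtain ⟨l, hl⟩ := Order.le_krullDim_iff.mp h1
  let a := l ⟨0, by omega⟩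
  let b := l ⟨1, by omega⟩
  have hab : a < b := l.strictMono (Fin.mk_lt_mk.mpr one_pos)
  have hpa : p (g a) ≠ IsLocalRing.closedPoint R := by
    intro h
    have hw : p (g a) = Spec.map (CommRingCat.ofHom (algebraMap R (FractionRing R))) (f a) := by
      rw [← Scheme.Hom.comp_apply, hg.w, Scheme.Hom.comp_apply]
    refine IsDiscreteValuationRing.not_a_field R (le_bot_iff.mp fun r hr => ?_)
    rw [h] at hw
    have h' : r ∈ (Spec.map (CommRingCat.ofHom (algebraMap R (FractionRing R))) (f a)).asIdeal :=
      (congrArg (fun q => r ∈ q.asIdeal) hw).mp hr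
    replace h' : algebraMap R (FractionRing R) r ∈ (f a).asIdeal := h'
    rw [((Ideal.eq_bot_or_top (f a).asIdeal).resolve_right (f a).2.ne_top), Submodule.mem_bot] at h'
    exact (IsFractionRing.to_map_eq_zero_iff).mp h'
  obtain ⟨y, hy, hpy⟩ := (IsLocalRing.specializes_closedPoint (p (g a))).mem_closed
    (p.isClosedMap _ (isClosed_closure (s := {g a}))) ⟨g a, subset_closure rfl, rfl⟩
  have hlt : ∀ u v : X, v ⤳ u → u ≠ v → u < v := fun u v h hne =>
    lt_of_le_not_ge h fun h' => hne ((show u ⤳ v from h').antisymm h).eq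
  let t : LTSeries X := ⟨2, ![y, g a, g b], fun i => by
    fin_cases i
    · exact hlt _ _ (specializes_iff_mem_closure.mpr hy) fun e => hpa ((congrArg p e).symm.trans hpy)
    · exact hlt _ _ (hab.le.map g.continuous) fun e => hab.ne (g.isEmbedding.injective e)⟩
  have h2 : ((2 : ℕ) : WithBot ℕ∞) ≤ Order.krullDim X := Order.LTSeries.length_le_krullDim t
  rw [Order.krullDim_eq_of_orderIso (irreducibleSetEquivPoints (α := X)).symm] at h2
  exact h2

/-- The functions on the reduced closed fibre of a regular proper model form a field, finite over `R`. -/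
theorem isField_red (R : Type u) [CommRing R] [IsDomain R] [IsDiscreteValuationRing R]
    (C X : Scheme.{u}) (f : C ⟶ Spec (CommRingCat.of (FractionRing R))) (p : X ⟶ Spec (CommRingCat.of R))
    (hC : Curve.IsSmoothProperCurve (FractionRing R) C f) (hH0 : IsIso f.appTop)
    (hX : Models.IsRegularProperModel R X p C f) :
    IsField Γ((Models.redFibreIdeal R (Over.mk p)).subscheme, ⊤) ∧
      (((Models.redFibreIdeal R (Over.mk p)).subschemeι ≫ (Over.mk p).hom).appTop.hom.comp
        (Scheme.ΓSpecIso (CommRingCat.of R)).inv.hom).Finite := by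
  have hS := Inter.IsSurf.of_model hC hX
  obtain ⟨n, Γ, hΓ⟩ := ExistsComponents.exists_isComponentList (X := Over.mk p) hS (dim_two R C X f p hC hX)
  have hcov : ∀ x ∈ Models.specialFibreSet R (Over.mk p), ∃ i, x ∈ Set.range ((Γ i).ι.base : (Γ i).curve.left → X) :=
    fun x hx => ConnFibre.mem_component Γ hΓ x hx
  have hconn := ConnFibre.isPreconnected_specialFibreSet @Groth.Agent.S2431.result hC hH0 hX
  have hn : 0 < n := by
    obtain ⟨⟨-, -, -, g, hg⟩, hp, -⟩ := hX
    haveI := hp
    haveI := hC.2.2.1
    obtain ⟨y, hy⟩ := GlobalFun.exists_special p f g hg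
    obtain ⟨i, -⟩ := hcov y hy
    exact i.pos
  obtain ⟨L, hL⟩ := EulerFormula.exists_inverses hS Γ
  have hdist : Function.Injective fun i => Set.range ((Γ i).ι.base : (Γ i).curve.left → X) := hΓ.1
  have hedge := DivisorField.edge_fibre hS Γ hΓ hcov hconn L hL
  have hred : Models.redFibreIdeal R (Over.mk p) = DivisorField.div Γ fun _ => 1 := by
    rw [RedFibre.redFibreIdeal_eq hS Γ hΓ]
    simp only [DivisorField.div, pow_one]
  rw [hred]
  exact ⟨DivisorField.isField_of hS Γ hdist L hL hedge hn (fun _ => one_pos)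
    (DivisorField.climb_one hS Γ hdist L hL hedge), DivisorChain.finite_ringHom hS Γ _⟩

end

end Groth.Agent.Lib.ModelFibre.TorsModel
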