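import Groth.Agent.Lib.ModelFibre.VertExt
import Groth.Agent.Lib.ModelFibre.ConnFibre

/-!
# Torsion line bundles on a model and their restrictions to the generic fibre
-/

set_option linter.style.haveILetI false

universe u

open CategoryTheory Limits AlgebraicGeometry IsLocalRing TopologicalSpace Groth.Agent.Lib.ModelFibre
open Groth.Agent.Lib

namespace Groth.Agent.Lib.ModelFibre.VertTors

noncomputable section

local instance picLawInst (Y : Scheme.{u}) : PicGrp.Law Y := TensorMod.Invertible.law Y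

variable {R : Type u} [CommRing R] [IsDomain R] [IsDiscreteValuationRing R] {C X : Scheme.{u}}
  {f : C ⟶ Spec (CommRingCat.of (FractionRing R))} {p : X ⟶ Spec (CommRingCat.of R)}
  (hC : Curve.IsSmoothProperCurve (FractionRing R) C f) (hH0 : IsIso f.appTop)
  (hX : Models.IsRegularProperModel R X p C f)
  {n : ℕ} (Γ : Fin n → ArSurf.VertComp R (Over.mk p)) (hΓ : Models.IsComponentList R (Over.mk p) Γ)

include hC hH0 hX

theorem surjective_toGlobal : Function.Surjective (Coh.toGlobal p) := by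
  haveI : AlgebraicGeometry.IsIntegral X := (Inter.IsSurf.of_model hC hX).isIntegral
  obtain ⟨⟨-, -, -, g, hg⟩, hp, -⟩ := hX
  haveI := hp
  haveI := hC.2.2.1
  exact (GlobalFun.bijective_toGlobal p f g hg (ConcreteCategory.bijective_of_isIso f.appTop)).2

include hΓ

omit hH0 in
theorem nonempty_index : Nonempty (Fin n) := by
  obtain ⟨⟨-, -, -, g, hg⟩, hp, -⟩ := hX
  haveI := hp
  haveI := hC.2.2.1
  obtain ⟨y, hy⟩ := GlobalFun.exists_special p f g hg
  obtain ⟨i, -⟩ := ConnFibre.mem_component Γ hΓ y hy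
  exact ⟨i⟩

theorem φ_eq_one_iff (v : Fin n → ℤ) :
    VertPic.φ (Inter.IsSurf.of_model hC hX) Γ v = 1 ↔
      ∃ c : ℤ, ∀ i, v i = c * (Models.mult R (Over.mk p) (Γ i) : ℤ) :=
  VertStalk.φ_eq_one_iff (Inter.IsSurf.of_model hC hX) Γ hΓ (surjective_toGlobal hC hH0 hX) v

theorem φ_eq_iff (v w : Fin n → ℤ) :
    VertPic.φ (Inter.IsSurf.of_model hC hX) Γ v = VertPic.φ (Inter.IsSurf.of_model hC hX) Γ w ↔
      ∃ c : ℤ, ∀ i, v i - w i = c * (Models.mult R (Over.mk p) (Γ i) : ℤ) := by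
  rw [← φ_eq_one_iff hC hH0 hX Γ hΓ fun i => v i - w i,
    show (fun i => v i - w i) = v + -w from funext fun i => sub_eq_add_neg _ _,
    VertPic.φ_add, VertPic.φ_neg, mul_inv_eq_one]

/-- The kernel of `Pic(X)[h] → Pic(C)[h]` is cyclic of order `gcd(h, d)`. -/
theorem existsUnique_torsion {g : C ⟶ X}
    (hg : IsPullback g f p (Spec.map (CommRingCat.ofHom (algebraMap R (FractionRing R)))))
    (L : Fin n → X.Modules) (hL : ∀ i, _root_.ClSub.IsInverseOf (L i) (_root_.ClSub.idealMod (Γ i).ι.ker))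
    (h : ℕ) (hh : 0 < h) (M : X.Modules) (hM : PicF.IsInvertible M)
    (htors : Nonempty (CohB1.tensorPow M h ≅ Coh.structureModule X))
    (htriv : Nonempty ((Scheme.Modules.pullback g).obj M ≅ Coh.structureModule C)) :
    ∃! k : ℕ, k < Nat.gcd h (Models.multGcd R (Over.mk p) Γ) ∧
      Nonempty (M ≅ FGA.multiTwist L
        (fun i => k * (Models.mult R (Over.mk p) (Γ i) / Nat.gcd h (Models.multGcd R (Over.mk p) Γ)))) := by
  have hS := Inter.IsSurf.of_model hC hX
  haveI := hC.2.2.1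
  obtain ⟨i₀⟩ := nonempty_index hC hX Γ hΓ
  set m : Fin n → ℕ := fun i => Models.mult R (Over.mk p) (Γ i) with hm
  set d := Models.multGcd R (Over.mk p) Γ with hd
  set e := Nat.gcd h d with he
  have he0 : 0 < e := Nat.gcd_pos_of_pos_left _ hh
  have hdm : ∀ i, e ∣ m i := fun i =>
    (Nat.gcd_dvd_right h d).trans (Finset.gcd_dvd (Finset.mem_univ i))
  choose q hq using hdm
  have hmul : ∀ k : ℕ, (fun i => ((k * (Models.mult R (Over.mk p) (Γ i) / e) : ℕ) : ℤ)) =
      fun i => (k : ℤ) * (q i : ℤ) := fun k => funext fun i => by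
    rw [show Models.mult R (Over.mk p) (Γ i) = e * q i from hq i, Nat.mul_div_cancel_left _ he0]
    push_cast; rfl
  have hiff : ∀ k : ℕ, Nonempty (M ≅ FGA.multiTwist L (fun i => k * (Models.mult R (Over.mk p) (Γ i) / e))) ↔
      PicGrp.cls M hM = VertPic.φ hS Γ (fun i => (k : ℤ) * (q i : ℤ)) := fun k => by
    rw [← hmul k, ← VertPic.cls_multiTwist hS Γ L hL, PicGrp.cls_eq_cls_iff]
  obtain ⟨b, hb⟩ := VertExt.exists_eq_φ hS Γ hΓ hg hM htriv
  have htors' := (VertPic.nonempty_tensorPow_iso hM h).1 htors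
  have hv : VertPic.φ hS Γ ((h : ℤ) • fun i => (b i : ℤ)) = 1 := by
    rw [VertPic.φ_nsmul, ← hb]; exact htors'
  obtain ⟨c, hc⟩ := (φ_eq_one_iff hC hH0 hX Γ hΓ _).1 hv
  -- `h ∣ c * d`
  have hd0 : 0 < d := Nat.pos_of_ne_zero fun h0 => by
    have := InterForm.mult_pos hS (Γ i₀)
    have h1 := Finset.gcd_eq_zero_iff.1 h0 i₀ (Finset.mem_univ i₀)
    omega
  have hcd : (h : ℤ) ∣ c * (d : ℤ) := by
    have h1 : (h : ℕ) ∣ c.natAbs * d := by
      rw [hd, Models.multGcd, ← normalize_eq c.natAbs, ← Finset.gcd_mul_left]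
      refine Finset.dvd_gcd fun i _ => ?_
      rw [← Int.natCast_dvd_natCast, Nat.cast_mul, ← dvd_abs, abs_mul, Int.natCast_natAbs, abs_abs,
        ← abs_mul, dvd_abs, ← hc i]
      exact Dvd.intro _ rfl
    rw [← dvd_abs, abs_mul, ← Int.natCast_natAbs c, Nat.abs_cast, ← Nat.cast_mul, Int.natCast_dvd_natCast]
    exact h1
  obtain ⟨h', hh'⟩ : e ∣ h := Nat.gcd_dvd_left h d
  obtain ⟨d', hd'⟩ : e ∣ d := Nat.gcd_dvd_right h d
  have hcop : Nat.Coprime h' d' := by
    have h1 : e * Nat.gcd h' d' = e * 1 := by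
      rw [← Nat.gcd_mul_left, ← hh', ← hd', mul_one]
    exact Nat.eq_of_mul_eq_mul_left he0 h1
  have hj : (h' : ℤ) ∣ c := by
    rw [hh', hd', Nat.cast_mul, Nat.cast_mul, mul_left_comm] at hcd
    exact (Nat.Coprime.isCoprime hcop).dvd_of_dvd_mul_right
      ((mul_dvd_mul_iff_left (Int.natCast_ne_zero.2 he0.ne')).1 hcd)
  obtain ⟨j, hj⟩ := hj
  have hbq : ∀ i, (b i : ℤ) = j * (q i : ℤ) := fun i => by
    have h1 := hc i
    rw [Pi.smul_apply, smul_eq_mul, hj, show Models.mult R (Over.mk p) (Γ i) = e * q i from hq i, hh'] at h1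
    push_cast at h1
    have hne : ((e : ℤ) * (h' : ℤ)) ≠ 0 := by
      rw [← Nat.cast_mul, ← hh']; exact_mod_cast hh.ne'
    exact mul_left_cancel₀ hne (by linear_combination h1)
  refine ⟨(j % (e : ℤ)).toNat, ⟨?_, (hiff _).2 ?_⟩, fun k' hk' => ?_⟩
  · have h1 := Int.emod_lt_of_pos j (Int.natCast_pos.2 he0)
    have h2 := Int.emod_nonneg j (Int.natCast_ne_zero.2 he0.ne')
    omega
  · rw [hb, φ_eq_iff hC hH0 hX Γ hΓ]
    refine ⟨j / (e : ℤ), fun i => ?_⟩
    rw [hbq i, Int.toNat_of_nonneg (Int.emod_nonneg j (Int.natCast_ne_zero.2 he0.ne')),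
      show Models.mult R (Over.mk p) (Γ i) = e * q i from hq i]
    push_cast
    linear_combination (-(q i : ℤ)) * (Int.mul_ediv_add_emod j (e : ℤ))
  · obtain ⟨hk1, hk2⟩ := hk'
    have h1 := (hiff k').1 hk2
    rw [hb, φ_eq_iff hC hH0 hX Γ hΓ] at h1
    obtain ⟨t, ht⟩ := h1
    have h2 := ht i₀
    rw [hbq i₀, show Models.mult R (Over.mk p) (Γ i₀) = e * q i₀ from hq i₀] at h2
    push_cast at h2
    have hq0 : (q i₀ : ℤ) ≠ 0 := by
      have := InterForm.mult_pos hS (Γ i₀)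
      rw [show Models.mult R (Over.mk p) (Γ i₀) = e * q i₀ from hq i₀] at this
      exact_mod_cast (Nat.pos_of_mul_pos_left this).ne'
    have h3 : j - (k' : ℤ) = t * (e : ℤ) := mul_right_cancel₀ hq0 (by linear_combination h2)
    have h4 : j % (e : ℤ) = (k' : ℤ) := by
      rw [show j = (k' : ℤ) + (e : ℤ) * t by linear_combination h3, Int.add_mul_emod_self_left]
      exact Int.emod_eq_of_lt (Int.natCast_nonneg _) (Int.ofNat_lt.2 hk1)
    rw [h4, Int.toNat_natCast]

/-- Lifting a torsion class from the generic fibre. -/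
theorem exists_lift_iff {g : C ⟶ X}
    (hg : IsPullback g f p (Spec.map (CommRingCat.ofHom (algebraMap R (FractionRing R)))))
    (L : Fin n → X.Modules) (hL : ∀ i, _root_.ClSub.IsInverseOf (L i) (_root_.ClSub.idealMod (Γ i).ι.ker))
    (h : ℕ) (N : C.Modules)
    (M : X.Modules) (hM : PicF.IsInvertible M) (hMN : Nonempty ((Scheme.Modules.pullback g).obj M ≅ N))
    (a b : Fin n → ℕ)
    (hab : Nonempty (CohB1.tensorMod (CohB1.tensorPow M h) (FGA.multiTwist L a) ≅ FGA.multiTwist L b)) :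
    (∃ M' : X.Modules, PicF.IsInvertible M' ∧ Nonempty (CohB1.tensorPow M' h ≅ Coh.structureModule X) ∧
        Nonempty ((Scheme.Modules.pullback g).obj M' ≅ N)) ↔
      ∃ (c : Fin n → ℤ) (e : ℤ), ∀ i,
        ((b i : ℤ) - (a i : ℤ)) = (h : ℤ) * c i + e * (Models.mult R (Over.mk p) (Γ i) : ℤ) := by
  have hS := Inter.IsSurf.of_model hC hX
  haveI := hC.2.2.1
  obtain ⟨i₀⟩ := hMN
  have hMh : PicGrp.cls M hM ^ h = VertPic.φ hS Γ (fun i => (b i : ℤ) - (a i : ℤ)) := by
    have h1 := (PicGrp.cls_eq_cls_iff (TensorMod.Invertible.isInvertible_tensorMod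
      (TensorMod.Invertible.isInvertible_tensorPow hM h) (VertPic.isInvertible_multiTwist hS Γ L hL a))
      (VertPic.isInvertible_multiTwist hS Γ L hL b)).2 hab
    rw [VertPic.cls_tensor (TensorMod.Invertible.isInvertible_tensorPow hM h)
        (VertPic.isInvertible_multiTwist hS Γ L hL a), VertPic.cls_pow hM h, VertPic.cls_multiTwist hS Γ L hL,
      VertPic.cls_multiTwist hS Γ L hL] at h1
    rw [show (fun i => (b i : ℤ) - (a i : ℤ)) = (fun i => (b i : ℤ)) + -(fun i => (a i : ℤ)) from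
      funext fun i => sub_eq_add_neg _ _, VertPic.φ_add, VertPic.φ_neg, ← h1, mul_inv_cancel_right]
  constructor
  · rintro ⟨M', hM', htors, ⟨i'⟩⟩
    obtain ⟨Mi, hMi, hMMi⟩ := TensorMod.Invertible.exists_inverse hM
    have hinv := PicGrp.cls_inv_eq_cls hM hMi hMMi
    have htriv : Nonempty ((Scheme.Modules.pullback g).obj (CohB1.tensorMod M' Mi) ≅ Coh.structureModule C) := by
      rw [← PicGrp.cls_eq_cls_iff (PicLoc.isInvertible_pullback g
        (TensorMod.Invertible.isInvertible_tensorMod hM' hMi)) (PicLoc.isInvertible_structureModule C),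
        PicGrp.cls_structureModule_eq_one, ← VertPic.cls_pullback g (TensorMod.Invertible.isInvertible_tensorMod hM' hMi),
        VertPic.cls_tensor hM' hMi, ← hinv, map_mul,
        map_inv, mul_inv_eq_one, VertPic.cls_pullback g hM', VertPic.cls_pullback g hM, PicGrp.cls_eq_cls_iff]
      exact ⟨i' ≪≫ i₀.symm⟩
    obtain ⟨v, hv⟩ := VertExt.exists_eq_φ hS Γ hΓ hg (TensorMod.Invertible.isInvertible_tensorMod hM' hMi) htriv
    have hM'v : PicGrp.cls M' hM' = PicGrp.cls (Y := (Over.mk p).left) M hM * VertPic.φ hS Γ (fun i => (v i : ℤ)) := by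
      rw [← hv, VertPic.cls_tensor hM' hMi, ← hinv, mul_comm (PicGrp.cls M' hM'), mul_inv_cancel_left]
    have h1 := (VertPic.nonempty_tensorPow_iso hM' h).1 htors
    rw [hM'v, mul_pow, hMh, ← VertPic.φ_nsmul, ← VertPic.φ_add, φ_eq_one_iff hC hH0 hX Γ hΓ] at h1
    obtain ⟨e, he⟩ := h1
    exact ⟨fun i => -(v i : ℤ), e, fun i => by
      have h2 := he i
      simp only [Pi.add_apply, Pi.smul_apply, smul_eq_mul] at h2
      linear_combination h2⟩
  · rintro ⟨c, e, hce⟩
    obtain ⟨M', hM', hcl⟩ := PicGrp.exists_eq_cls (PicGrp.cls (Y := (Over.mk p).left) M hM * VertPic.φ hS Γ (-c))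
    refine ⟨M', hM', (VertPic.nonempty_tensorPow_iso hM' h).2 ?_, ?_⟩
    · rw [← hcl, mul_pow, hMh, ← VertPic.φ_nsmul, ← VertPic.φ_add, φ_eq_one_iff hC hH0 hX Γ hΓ]
      exact ⟨e, fun i => by
        simp only [Pi.add_apply, Pi.smul_apply, Pi.neg_apply, smul_eq_mul]
        linear_combination hce i⟩
    · refine ⟨Nonempty.some ?_ ≪≫ i₀⟩
      rw [← PicGrp.cls_eq_cls_iff (PicLoc.isInvertible_pullback g hM') (PicLoc.isInvertible_pullback g hM),
        ← VertPic.cls_pullback g hM', ← VertPic.cls_pullback g hM, ← hcl, map_mul, VertExt.pullHom_φ hS Γ hg, mul_one]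

end

end Groth.Agent.Lib.ModelFibre.VertTors
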