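import Groth.Agent.Lib.ModelFibre.VertDeg
import Groth.Agent.Lib.ModelFibre.VertTors
import Groth.Agent.Lib.ModelFibre.ConnFibre

/-!
# Exactness at the generic fibre, from connectedness of fibres
-/

set_option linter.style.haveILetI false

universe u

open CategoryTheory Limits AlgebraicGeometry IsLocalRing TopologicalSpace Groth.Agent.Lib.ModelFibre
open Groth.Agent.Lib

namespace Groth.Agent.Lib.ModelFibre.VertExact

noncomputable section

local instance picLawInst (Y : Scheme.{u}) : PicGrp.Law Y := TensorMod.Invertible.law Y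

/-- A torsion class with degree vector in the image of the intersection matrix lifts to a torsion class. -/
theorem exists_lift (zar : ConnFibre.ZarConn.{u})
    {R : Type u} [CommRing R] [IsDomain R] [IsDiscreteValuationRing R]
    {C X : Scheme.{u}} {f : C ⟶ Spec (CommRingCat.of (FractionRing R))} {p : X ⟶ Spec (CommRingCat.of R)}
    (hC : Curve.IsSmoothProperCurve (FractionRing R) C f) (hH0 : IsIso f.appTop)
    (hX : Models.IsRegularProperModel R X p C f)
    {n : ℕ} (Γ : Fin n → ArSurf.VertComp R (Over.mk p)) (hΓ : Models.IsComponentList R (Over.mk p) Γ)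
    {g : C ⟶ X} (hg : IsPullback g f p (Spec.map (CommRingCat.ofHom (algebraMap R (FractionRing R)))))
    (L : Fin n → X.Modules) (hL : ∀ i, _root_.ClSub.IsInverseOf (L i) (_root_.ClSub.idealMod (Γ i).ι.ker))
    (h : ℕ) (hcop : Nat.Coprime h (Models.multGcd R (Over.mk p) Γ))
    (N : C.Modules) (hN : PicF.IsInvertible N) (hNt : Nonempty (CohB1.tensorPow N h ≅ Coh.structureModule C))
    (M : X.Modules) (hM : PicF.IsInvertible M) (hMN : Nonempty ((Scheme.Modules.pullback g).obj M ≅ N))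
    (v : Fin n → ℤ)
    (hv : ∀ i, ArSurf.inter R (Over.mk p) M (Γ i) = ∑ j, ArSurf.inter R (Over.mk p) (L j) (Γ i) * v j) :
    ∃ M' : X.Modules, PicF.IsInvertible M' ∧ Nonempty (CohB1.tensorPow M' h ≅ Coh.structureModule X) ∧
      Nonempty ((Scheme.Modules.pullback g).obj M' ≅ N) := by
  have hS := Inter.IsSurf.of_model hC hX
  haveI := hC.2.2.1
  obtain ⟨M₁, hM₁, hM₁N, hdeg⟩ := (VertDeg.exists_iff hS Γ L hL hg hΓ N hM hMN).1 ⟨v, hv⟩
  obtain ⟨i₁⟩ := hM₁N
  have htriv : Nonempty ((Scheme.Modules.pullback g).obj (CohB1.tensorPow M₁ h) ≅ Coh.structureModule C) := by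
    rw [← PicGrp.cls_eq_cls_iff (PicLoc.isInvertible_pullback g
      (TensorMod.Invertible.isInvertible_tensorPow hM₁ h)) (PicLoc.isInvertible_structureModule C),
      PicGrp.cls_structureModule_eq_one, ← VertPic.cls_pullback g (TensorMod.Invertible.isInvertible_tensorPow hM₁ h),
      VertPic.cls_pow hM₁ h, map_pow, VertPic.cls_pullback g hM₁,
      (PicGrp.cls_eq_cls_iff (PicLoc.isInvertible_pullback g hM₁) hN).2 ⟨i₁⟩]
    exact (VertPic.nonempty_tensorPow_iso hN h).1 hNt
  obtain ⟨c, hc⟩ := VertExt.exists_eq_φ hS Γ hΓ hg (TensorMod.Invertible.isInvertible_tensorPow hM₁ h) htriv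
  rw [VertPic.cls_pow hM₁ h] at hc
  have hpow : ∀ (Δ : ArSurf.VertComp R (Over.mk p)) (k : ℕ),
      VertDeg.degCl Δ (PicGrp.cls (Y := (Over.mk p).left) M₁ hM₁ ^ k) =
        k * ArSurf.inter R (Over.mk p) M₁ Δ := fun Δ k => by
    have h1 := map_pow (VertDeg.degHom hS Δ) (PicGrp.cls (Y := (Over.mk p).left) M₁ hM₁) k
    change Multiplicative.ofAdd _ = Multiplicative.ofAdd _ ^ k at h1
    rw [← ofAdd_nsmul, nsmul_eq_mul] at h1
    rw [Multiplicative.ofAdd.injective h1, VertDeg.degCl_cls hS Δ hM₁]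
  have hnull : ∀ i, ∑ j, (c j : ℤ) * ArSurf.inter R (Over.mk p) (L j) (Γ i) = 0 := fun i => by
    rw [← VertDeg.degCl_φ hS Γ L hL, ← hc, hpow, hdeg i, mul_zero]
  obtain ⟨q, hq⟩ := (InterConn.null_iff hS Γ hΓ (fun x hx => ConnFibre.mem_component Γ hΓ x hx)
    (ConnFibre.isPreconnected_specialFibreSet zar hC hH0 hX) L hL fun j => (c j : ℤ)).2.1 hnull
  set m : Fin n → ℕ := fun i => Models.mult R (Over.mk p) (Γ i) with hm
  set d := Models.multGcd R (Over.mk p) Γ with hd
  obtain ⟨i₀⟩ := VertTors.nonempty_index hC hX Γ hΓ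
  have hd0 : 0 < d := Nat.pos_of_ne_zero fun h0 => by
    have := InterForm.mult_pos hS (Γ i₀)
    have h1 := Finset.gcd_eq_zero_iff.1 h0 i₀ (Finset.mem_univ i₀)
    omega
  choose e he using fun i => Finset.gcd_dvd (f := fun j => Models.mult R (Over.mk p) (Γ j)) (Finset.mem_univ i)
  have hme : ∀ i, Models.mult R (Over.mk p) (Γ i) = d * e i := he
  obtain ⟨u, hu⟩ : ∃ u : ℤ, q * (d : ℚ) = u := by
    have hden : ∀ i, q.den ∣ Models.mult R (Over.mk p) (Γ i) := fun i => by
      have h1 : ((c i : ℤ) : ℚ) = q * (Models.mult R (Over.mk p) (Γ i) : ℚ) := hq i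
      have h2 : (q.den : ℤ) ∣ q.num * (Models.mult R (Over.mk p) (Γ i) : ℤ) := by
        refine ⟨(c i : ℤ), ?_⟩
        have h3 : (q.num : ℚ) = q * q.den := (Rat.mul_den_eq_num q).symm
        have h4 : ((q.num * (Models.mult R (Over.mk p) (Γ i) : ℤ) : ℤ) : ℚ) =
            (((q.den : ℤ) * (c i : ℤ) : ℤ) : ℚ) := by
          push_cast [h3] at h1 ⊢
          rw [h1]; ring
        exact_mod_cast h4
      exact Int.natCast_dvd_natCast.1 ((Int.isCoprime_iff_nat_coprime.2 (by
        simpa using q.reduced.symm)).dvd_of_dvd_mul_left h2)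
    obtain ⟨t, ht⟩ : q.den ∣ d := Finset.dvd_gcd fun i _ => hden i
    exact ⟨q.num * t, by rw [ht]; push_cast; rw [← mul_assoc, Rat.mul_den_eq_num]⟩
  have hcu : ∀ i, (c i : ℤ) = u * (e i : ℤ) := fun i => by
    have h1 : ((c i : ℤ) : ℚ) = q * (Models.mult R (Over.mk p) (Γ i) : ℚ) := hq i
    rw [hme i, Nat.cast_mul, ← mul_assoc, hu] at h1
    exact_mod_cast h1
  obtain ⟨a, b, hab⟩ := (Nat.isCoprime_iff_coprime (m := h) (n := d)).2 hcop
  refine ((VertTors.exists_lift_iff hC hH0 hX Γ hΓ hg L hL h N M₁ hM₁ ⟨i₁⟩ (fun _ => 0) c ?_).2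
    ⟨fun i => a * u * (e i : ℤ), b * u, fun i => ?_⟩)
  · rw [← PicGrp.cls_eq_cls_iff (TensorMod.Invertible.isInvertible_tensorMod
      (TensorMod.Invertible.isInvertible_tensorPow hM₁ h) (VertPic.isInvertible_multiTwist hS Γ L hL _))
      (VertPic.isInvertible_multiTwist hS Γ L hL c),
      VertPic.cls_tensor (TensorMod.Invertible.isInvertible_tensorPow hM₁ h)
        (VertPic.isInvertible_multiTwist hS Γ L hL _), VertPic.cls_pow hM₁ h,
      VertPic.cls_multiTwist hS Γ L hL, VertPic.cls_multiTwist hS Γ L hL, hc, ← VertPic.φ_add]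
    exact congrArg _ (funext fun i => by simp)
  · rw [hme i]
    push_cast
    linear_combination hcu i - (u * (e i : ℤ)) * hab

end

end Groth.Agent.Lib.ModelFibre.VertExact
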