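import Groth.Agent.Lib.ModelFibre.PicExtend
import Groth.Agent.Lib.ModelFibre.VertExact
import Groth.Agent.Lib.ModelFibre.DualDiv
import Groth.Agent.Lib.ModelFibre.TorsModel
import Groth.Agent.S2431

/-!
# `0 → Pic⁰ X → Pic C → component group → 0`
-/

set_option linter.style.haveILetI false
set_option linter.unusedSectionVars false

universe u

open CategoryTheory Limits AlgebraicGeometry IsLocalRing TopologicalSpace Groth.Agent.Lib.ModelFibre
open Groth.Agent.Lib

namespace Groth.Agent.Lib.ModelFibre.PicExact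

noncomputable section

local instance picLawInst (Y : Scheme.{u}) : PicGrp.Law Y := TensorMod.Invertible.law Y

variable {R : Type u} [CommRing R] [IsDomain R] [IsDiscreteValuationRing R]
  {C X : Scheme.{u}} {f : C ⟶ Spec (CommRingCat.of (FractionRing R))} {p : X ⟶ Spec (CommRingCat.of R)}
  (hC : Curve.IsSmoothProperCurve (FractionRing R) C f) (hH0 : IsIso f.appTop)
  (hX : Models.IsRegularProperModel R X p C f) {g : C ⟶ X}
  (hg : IsPullback g f p (Spec.map (CommRingCat.ofHom (algebraMap R (FractionRing R)))))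
  {n : ℕ} (Γ : Fin n → ArSurf.VertComp R (Over.mk p)) (hΓ : Models.IsComponentList R (Over.mk p) Γ)
  (L : Fin n → X.Modules) (hL : ∀ i, _root_.ClSub.IsInverseOf (L i) (_root_.ClSub.idealMod (Γ i).ι.ker))

include hC hH0 hX hg hΓ hL

/-- A class of degree zero trivial on the generic fibre is trivial if the multiplicities are coprime. -/
theorem eq_one_of_trivial (hgcd : Models.multGcd R (Over.mk p) Γ = 1)
    (M : X.Modules) (hM : PicF.IsInvertible M) (h0 : ∀ j, ArSurf.inter R (Over.mk p) M (Γ j) = 0)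
    (ht : PicGrp.pullHom g (TensorMod.Pullback.pullMul g) (PicGrp.cls M hM) = 1) :
    PicGrp.cls M hM = 1 := by
  have hS := Inter.IsSurf.of_model hC hX
  haveI := hC.2.2.1
  rw [VertPic.cls_pullback g hM, PicGrp.cls_eq_one_iff] at ht
  obtain ⟨b, hb⟩ := VertExt.exists_eq_φ hS Γ hΓ hg hM ht
  have hnull : ∀ i, ∑ j, (b j : ℤ) * ArSurf.inter R (Over.mk p) (L j) (Γ i) = 0 := fun i => by
    have h := VertDeg.degCl_φ hS Γ L hL (Γ i) fun j => (b j : ℤ)
    rw [← h, ← hb, VertDeg.degCl_cls hS, h0]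
  obtain ⟨q, hq⟩ := (InterConn.null_iff hS Γ hΓ (fun x hx => ConnFibre.mem_component Γ hΓ x hx)
    (ConnFibre.isPreconnected_specialFibreSet @Groth.Agent.S2431.result hC hH0 hX) L hL fun j => (b j : ℤ)).2.1 hnull
  have hden : ∀ i, q.den ∣ Models.mult R (Over.mk p) (Γ i) := fun i => by
    have h1 : ((b i : ℤ) : ℚ) = q * (Models.mult R (Over.mk p) (Γ i) : ℚ) := hq i
    have h2 : (q.den : ℤ) ∣ q.num * (Models.mult R (Over.mk p) (Γ i) : ℤ) := by
      refine ⟨(b i : ℤ), ?_⟩
      have h3 : (q.num : ℚ) = q * q.den := (Rat.mul_den_eq_num q).symm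
      have h4 : ((q.num * (Models.mult R (Over.mk p) (Γ i) : ℤ) : ℤ) : ℚ) =
          (((q.den : ℤ) * (b i : ℤ) : ℤ) : ℚ) := by
        push_cast [h3] at h1 ⊢
        rw [h1]; ring
      exact_mod_cast h4
    exact Int.natCast_dvd_natCast.1 ((Int.isCoprime_iff_nat_coprime.2 (by
      simpa using q.reduced.symm)).dvd_of_dvd_mul_left h2)
  have hd1 : q.den = 1 := Nat.dvd_one.1 (hgcd ▸ Finset.dvd_gcd fun i _ => hden i)
  rw [hb, VertTors.φ_eq_one_iff hC hH0 hX Γ hΓ]
  refine ⟨q.num, fun i => ?_⟩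
  have h1 := hq i
  rw [← Rat.num_div_den q, hd1, Nat.cast_one, div_one] at h1
  exact_mod_cast h1

theorem surjective_pullHom :
    Function.Surjective (PicGrp.pullHom g (TensorMod.Pullback.pullMul g)) := by
  intro c
  have hS := Inter.IsSurf.of_model hC hX
  haveI : AlgebraicGeometry.IsIntegral X := hS.isIntegral
  haveI := hC.2.2.1
  haveI : IsProper p := hX.2.1
  haveI := SmoothGeneric.isOpenImmersion_gK hg
  haveI : IsLocallyNoetherian X := LocallyOfFiniteType.isLocallyNoetherian p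
  haveI : CompactSpace X := QuasiCompact.compactSpace_of_compactSpace p
  haveI : IsNoetherian X := {}
  obtain ⟨N, hN, rfl⟩ := PicGrp.exists_eq_cls c
  obtain ⟨M, hM, ⟨e⟩⟩ := PicExtend.exists_extension g hS.reg (TorsModel.dim_two R C X f p hC hX).le hN
  exact ⟨PicGrp.cls M hM, (VertPic.cls_pullback g hM).trans (VertPic.cls_eq_of_iso _ hN e)⟩

theorem exact_componentGroup [HenselianLocalRing R] [IsAlgClosed (ResidueField R)] :
    ∃ ψ : Additive (PicLoc.PicSet C) →+
        ((Fin n → ℤ) ⧸ LinearMap.range (Matrix.mulVecLin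
          (Matrix.of fun j i => ArSurf.inter R (Over.mk p) (L i) (Γ j)))),
      (∀ (M : X.Modules) (hM : PicF.IsInvertible M),
          ψ (Additive.ofMul (PicGrp.pullHom g (TensorMod.Pullback.pullMul g) (PicGrp.cls M hM))) =
            Submodule.Quotient.mk (fun j => ArSurf.inter R (Over.mk p) M (Γ j))) ∧
        Function.Surjective ψ ∧
        (∀ c : PicLoc.PicSet C, ψ (Additive.ofMul c) = 0 →
          ∃ (M : X.Modules) (hM : PicF.IsInvertible M),
            (∀ j, ArSurf.inter R (Over.mk p) M (Γ j) = 0) ∧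
              PicGrp.pullHom g (TensorMod.Pullback.pullMul g) (PicGrp.cls M hM) = c) := by
  classical
  have hS := Inter.IsSurf.of_model hC hX
  haveI := hC.2.2.1
  haveI : Nonempty C := inferInstance
  set S := LinearMap.range (Matrix.mulVecLin
    (Matrix.of fun j i => ArSurf.inter R (Over.mk p) (L i) (Γ j))) with hSdef
  set π := PicGrp.pullHom g (TensorMod.Pullback.pullMul g)
  let deg : PicLoc.PicSet X →* Multiplicative ((Fin n → ℤ) ⧸ S) :=
    MonoidHom.mk' (fun c => Multiplicative.ofAdd (Submodule.Quotient.mk fun j => VertDeg.degCl (Γ j) c))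
      fun c d => by
        rw [← ofAdd_add, ← Submodule.Quotient.mk_add]
        exact congrArg _ (congrArg _ (funext fun j => VertDeg.degCl_mul hS (Γ j) c d))
  have hker : π.ker ≤ deg.ker := by
    intro c hc
    obtain ⟨M, hM, rfl⟩ := PicGrp.exists_eq_cls c
    rw [MonoidHom.mem_ker, VertPic.cls_pullback g hM, PicGrp.cls_eq_one_iff] at hc
    obtain ⟨b, hb⟩ := VertExt.exists_eq_φ hS Γ hΓ hg hM hc
    rw [MonoidHom.mem_ker]
    show Multiplicative.ofAdd (Submodule.Quotient.mk fun j => VertDeg.degCl (Γ j) (PicGrp.cls M hM)) = 1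
    rw [ofAdd_eq_one, Submodule.Quotient.mk_eq_zero, hSdef, LinearMap.mem_range]
    refine ⟨fun i => (b i : ℤ), funext fun j => ?_⟩
    rw [hb]
    refine Eq.trans ?_ (VertDeg.degCl_φ hS Γ L hL (Γ j) _).symm
    simp only [Matrix.mulVecLin_apply, Matrix.mulVec, dotProduct, Matrix.of_apply]
    exact Finset.sum_congr rfl fun i _ => mul_comm (ArSurf.inter R (Over.mk p) (L i) (Γ j)) (b i : ℤ)
  have hsur := surjective_pullHom hC hH0 hX hg Γ hΓ L hL
  let ψ₀ : PicLoc.PicSet C →* Multiplicative ((Fin n → ℤ) ⧸ S) :=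
    π.liftOfSurjective hsur ⟨deg, hker⟩
  have hψ₀ : ∀ c, ψ₀ (π c) = deg c := fun c => π.liftOfRightInverse_comp_apply _ _ ⟨deg, hker⟩ c
  let ψ : Additive (PicLoc.PicSet C) →+ ((Fin n → ℤ) ⧸ S) := MonoidHom.toAdditiveLeft ψ₀
  have hψ : ∀ (M : X.Modules) (hM : PicF.IsInvertible M),
      ψ (Additive.ofMul (π (PicGrp.cls M hM))) =
        Submodule.Quotient.mk (fun j => ArSurf.inter R (Over.mk p) M (Γ j)) := fun M hM => by
    show Multiplicative.toAdd (ψ₀ (π (PicGrp.cls M hM))) = _
    rw [hψ₀]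
    show Submodule.Quotient.mk (p := S) _ = _
    exact congrArg _ (funext fun j => VertDeg.degCl_cls hS (Γ j) hM)
  refine ⟨ψ, hψ, fun v => ?_, fun c hc => ?_⟩
  · obtain ⟨v, rfl⟩ := Submodule.Quotient.mk_surjective _ v
    have hd := fun i => DualDiv.exists_dual hS (TorsModel.dim_two R C X f p hC hX) Γ hΓ i
    choose E hE hEd using hd
    have hbasis : ∀ i, Submodule.Quotient.mk (p := S) (Pi.single i (1 : ℤ)) =
        ψ (Additive.ofMul (π (PicGrp.cls (E i) (hE i)))) := fun i => by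
      rw [hψ]
      exact congrArg _ (funext fun j => by rw [hEd i j, Pi.single_apply])
    refine ⟨∑ i, v i • Additive.ofMul (π (PicGrp.cls (E i) (hE i))), ?_⟩
    rw [map_sum]
    simp only [map_zsmul, ← hbasis, ← Submodule.Quotient.mk_smul]
    exact (map_sum S.mkQ _ _).symm.trans (congrArg (Submodule.Quotient.mk (p := S))
      (funext fun j => by simp [Finset.sum_apply, Pi.single_apply]))
  · obtain ⟨d, rfl⟩ := hsur c
    obtain ⟨M, hM, rfl⟩ := PicGrp.exists_eq_cls d
    rw [hψ M hM, Submodule.Quotient.mk_eq_zero, hSdef, LinearMap.mem_range] at hc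
    obtain ⟨v, hv⟩ := hc
    obtain ⟨M', hM', hM'N, h0⟩ := (VertDeg.exists_iff hS Γ L hL hg hΓ ((Scheme.Modules.pullback g).obj M) hM
      ⟨Iso.refl _⟩).1 ⟨v, fun i => (congrFun hv i).symm⟩
    refine ⟨M', hM', h0, ?_⟩
    exact (VertPic.cls_pullback g hM').trans
      ((VertPic.cls_eq_of_iso _ (PicLoc.isInvertible_pullback g hM) hM'N.some).trans
        (VertPic.cls_pullback g hM).symm)

end

end Groth.Agent.Lib.ModelFibre.PicExact
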