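import Groth.Agent.Lib.RefHull.ExtHull
import Groth.Agent.Lib.RefHull.DivTwist
import Groth.Agent.Lib.RefHull.ReflRestrict
import Groth.Agent.Lib.Devissage.Localization

/-!
# Invertible modules extend from opens of regular surfaces
-/

set_option linter.style.haveILetI false

universe u

open CategoryTheory Limits AlgebraicGeometry TopologicalSpace

namespace Groth.Agent.Lib.ModelFibre.PicExtend

open Groth.Agent.Lib

noncomputable section

variable {U X : Scheme.{u}} (g : U ⟶ X) [IsOpenImmersion g]

theorem stalkMap_restrict {A B : X.Modules} (φ : A ⟶ B) (c : U)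
    (v : (A.restrict g).presheaf.stalk c) :
    Modules.StalkRestrict.restrictStalkAddEquiv g B c
        (RefHull.stalkMapₗ ((Scheme.Modules.restrictFunctor g).map φ) c v) =
      RefHull.stalkMapₗ φ (g c) (Modules.StalkRestrict.restrictStalkAddEquiv g A c v) := by
  obtain ⟨V, hV, s, rfl⟩ := TopCat.Presheaf.exists_germ_eq _ v
  rw [RefHull.stalkMapₗ_germ]
  refine (Modules.StalkRestrict.restrictStalkAddEquiv_germ g B hV _).trans ?_
  refine Eq.trans ?_ ((congrArg (RefHull.stalkMapₗ φ (g c))
    (Modules.StalkRestrict.restrictStalkAddEquiv_germ g A hV s)).trans (RefHull.stalkMapₗ_germ φ _ _ _)).symm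
  rfl

/-- An invertible module on a nonempty open of a regular integral surface extends. -/
theorem exists_extension [IsIntegral X] [IsNoetherian X] [IsIntegral U]
    (hreg : ∀ x : X, IsRegularLocalRing (X.presheaf.stalk x)) (hdim : topologicalKrullDim X ≤ 2)
    {N : U.Modules} (hN : PicF.IsInvertible N) :
    ∃ M : X.Modules, PicF.IsInvertible M ∧ Nonempty ((Scheme.Modules.pullback g).obj M ≅ N) := by
  haveI := Devissage.Localization.isNoetherian_open g
  have hN1 := RefHull.DivTwist.isRef1_of_isInvertible hN
  obtain ⟨G, hG, ⟨e⟩⟩ := Devissage.Localization.exists_extension g hN1.1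
  have hGr : PicF.IsInvertible ((Scheme.Modules.restrictFunctor g).obj G) :=
    TensorMod.Invertible.isInvertible_of_iso e.symm hN
  have hG1 := RefHull.DivTwist.isRef1_of_isInvertible hGr
  have hrefl : ∀ c : U, RefHull.IsReflexiveAt G (g c) := fun c =>
    (RefHull.ReflRestrict.isReflexive_restrict_iff g G c).1
      ((RefHull.Reflexive.isReflexive_iff_forall hG1.1).1 hG1.2.1 c)
  let β := (Scheme.Modules.restrictFunctor g).map (RefHull.bidualMap G)
  haveI : IsIso β := by
    refine (Modules.StalkModule.isIso_iff_stalkMapₗ_bijective β).2 fun c => ?_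
    have hb := (RefHull.Reflexive.bijective_stalkMap_bidual_iff hG (g c)).2 (hrefl c)
    have h : ⇑(RefHull.stalkMapₗ β c) =
        (Modules.StalkRestrict.restrictStalkAddEquiv g (RefHull.ddual G) c).symm ∘
          RefHull.stalkMapₗ (RefHull.bidualMap G) (g c) ∘
            Modules.StalkRestrict.restrictStalkAddEquiv g G c := funext fun v => by
      refine ((AddEquiv.eq_symm_apply _).2 ?_)
      exact stalkMap_restrict g (RefHull.bidualMap G) c v
    show Function.Bijective (RefHull.stalkMapₗ β c)
    rw [h]
    exact (AddEquiv.bijective _).comp (hb.comp (AddEquiv.bijective _))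
  let H := RefHull.ddual G
  let eH : (Scheme.Modules.restrictFunctor g).obj H ≅ N := (asIso β).symm ≪≫ e
  have hgen : RefHull.GenInvertible H := by
    refine ⟨g.opensRange, ?_, ?_⟩
    · refine g.opensRange.2.dense ?_
      exact ⟨g (genericPoint U), genericPoint U, rfl⟩
    · have hj : g.isoOpensRange.inv ≫ g = g.opensRange.ι := Scheme.Hom.isoOpensRange_inv_comp g
      refine TensorMod.Invertible.isInvertible_of_iso ?_ (PicLoc.isInvertible_pullback g.isoOpensRange.inv hN)
      exact (Scheme.Modules.pullback g.isoOpensRange.inv).mapIso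
          (((Scheme.Modules.restrictFunctorIsoPullback g).app H).symm ≪≫ eH).symm ≪≫
        (Scheme.Modules.pullbackComp g.isoOpensRange.inv g).app H ≪≫
        (Scheme.Modules.pullbackCongr hj).app H ≪≫
        ((Scheme.Modules.restrictFunctorIsoPullback g.opensRange.ι).app H).symm
  have hH : RefHull.IsRef1 H :=
    ⟨RefHull.Reflexive.isCoh_ddual hG, RefHull.Reflexive.isReflexive_dual (RefHull.Reflexive.isCoh_dual hG), hgen⟩
  exact ⟨H, RefHull.ExtHull.isInvertible hreg hdim hH,
    ⟨((Scheme.Modules.restrictFunctorIsoPullback g).app H).symm ≪≫ eH⟩⟩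

end

end Groth.Agent.Lib.ModelFibre.PicExtend
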