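import Groth.Agent.Lib.ModelFibre.PicTower
import Groth.Agent.Lib.ModelFibre.TorsModel
import Groth.Agent.Lib.ModelFibre.CurveOfModel
import Mathlib.RingTheory.Henselian

/-!
# The Picard group of a regular model over a complete discrete valuation ring and its closed fibre
-/

set_option linter.style.haveILetI false

universe u

open CategoryTheory Limits AlgebraicGeometry IsLocalRing TopologicalSpace Groth.Agent.Lib.ModelFibre

namespace Groth.Agent.Lib.ModelFibre.PicModel

open Groth.Agent.Lib

noncomputable section

variable (R : Type u) [CommRing R] [IsDomain R] [IsDiscreteValuationRing R]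

/-- A complete local ring is henselian. -/
theorem henselianLocalRing [IsAdicComplete (maximalIdeal R) R] : HenselianLocalRing R where
  is_henselian f hf a h₁ h₂ :=
    HenselianRing.is_henselian (I := maximalIdeal R) f hf a h₁ (h₂.map _)

theorem range_fst (X : Over (Spec (CommRingCat.of R))) :
    Set.range (pullback.fst X.hom (Spec.map (CommRingCat.ofHom (algebraMap R (ResidueField R))))).base =
      Models.specialFibreSet R X := by
  refine (Scheme.Pullback.range_fst X.hom _).trans (congrArg (fun S => X.hom.base ⁻¹' S) ?_)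
  refine Set.Subset.antisymm ?_ ?_
  · rintro _ ⟨z, rfl⟩
    exact IsLocalRing.PrimeSpectrum.comap_residue R z
  · rintro _ rfl
    exact ⟨closedPoint _, IsLocalRing.PrimeSpectrum.comap_residue R _⟩

/-- The fibres of a regular proper model of a curve are at most one-dimensional. -/
theorem fibre_dim_le_one (C X : Scheme.{u}) (f : C ⟶ Spec (CommRingCat.of (FractionRing R)))
    (p : X ⟶ Spec (CommRingCat.of R))
    (hC : Curve.IsSmoothProperCurve (FractionRing R) C f) (hX : Models.IsRegularProperModel R X p C f)
    (s : Spec (CommRingCat.of R)) :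
    topologicalKrullDim ↥(pullback p ((Spec (CommRingCat.of R)).fromSpecResidueField s)) ≤ 1 := by
  have hS := Inter.IsSurf.of_model hC hX
  haveI : AlgebraicGeometry.IsIntegral X := hS.isIntegral
  haveI : IsProper p := hX.2.1
  obtain ⟨⟨-, -, -, g, hg⟩, -, -⟩ := hX
  let i := pullback.fst p ((Spec (CommRingCat.of R)).fromSpecResidueField s)
  have hi : ∀ z, p (i z) = s := fun z => by
    have : i z ∈ Set.range i.base := ⟨z, rfl⟩
    rw [Scheme.Pullback.range_fst, Scheme.range_fromSpecResidueField] at this
    exact this
  rw [topologicalKrullDim, Order.krullDim_eq_of_orderIso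
    (irreducibleSetEquivPoints (α := ↥(pullback p ((Spec (CommRingCat.of R)).fromSpecResidueField s))))]
  refine iSup_le fun l => ?_
  by_contra hlong
  have hlen : 2 ≤ l.length := by
    by_contra h
    exact hlong (by exact_mod_cast Nat.le_of_lt_succ (not_le.mp h))
  let c : Fin 3 → X := fun a => i (l ⟨a.1, by omega⟩)
  have hc : ∀ a b : Fin 3, a < b → c a < c b := fun a b hab => by
    have h := l.strictMono (show (⟨a.1, by omega⟩ : Fin (l.length + 1)) < ⟨b.1, by omega⟩ from hab)
    have hle : c b ⤳ c a := h.le.map i.continuous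
    exact lt_of_le_not_ge hle fun h' => h.ne (i.isEmbedding.injective ((show c a ⤳ c b from h').antisymm hle).eq)
  have hlt : ∀ u v : X, v ⤳ u → u ≠ v → u < v := fun u v h hne =>
    lt_of_le_not_ge h fun h' => hne ((show u ⤳ v from h').antisymm h).eq
  have htwo : Order.krullDim X ≤ ((2 : ℕ) : WithBot ℕ∞) := by
    rw [Order.krullDim_eq_of_orderIso (irreducibleSetEquivPoints (α := X)).symm]
    exact (TorsModel.dim_two R C X f p hC ⟨⟨hS.flat, inferInstance, inferInstance, g, hg⟩, inferInstance,
      fun x => hS.reg x⟩).le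
  by_cases hs : s = closedPoint R
  · -- the generic point is above
    have hgp : c 2 ≠ genericPoint X := by
      intro e
      haveI : Nonempty C := hC.2.2.1.nonempty
      obtain ⟨a⟩ := ‹Nonempty C›
      have h1 : p (genericPoint X) ⤳ p (g a) := (genericPoint_specializes (g a)).map p.continuous
      rw [← e, hi, hs] at h1
      have h2 : p (g a) = closedPoint R :=
        ((IsLocalRing.specializes_closedPoint (p (g a))).antisymm h1).eq
      rw [← Scheme.Hom.comp_apply, hg.w, Scheme.Hom.comp_apply] at h2
      obtain ⟨π, hπ⟩ := IsDiscreteValuationRing.exists_irreducible R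
      have h3 : algebraMap R (FractionRing R) π ∈ (f a).asIdeal := by
        have := hπ.maximalIdeal_eq.ge (_root_.Ideal.mem_span_singleton_self π)
        exact (congrArg PrimeSpectrum.asIdeal h2).ge this
      exact (f a).2.ne_top (_root_.Ideal.eq_top_of_isUnit_mem _ h3
        (IsUnit.mk0 _ fun h => hπ.ne_zero (IsFractionRing.injective R (FractionRing R) (h.trans (map_zero _).symm))))
    let t : LTSeries X := ⟨3, ![c 0, c 1, c 2, genericPoint X], fun j => by
      fin_cases j
      · exact hc 0 1 (by decide)
      · exact hc 1 2 (by decide)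
      · exact hlt _ _ (genericPoint_specializes _) hgp⟩
    have h3 := (Order.LTSeries.length_le_krullDim t).trans htwo
    exact absurd h3 (by exact_mod_cast (by decide : ¬ (3 : ℕ) ≤ 2))
  · -- a point of the closed fibre is below
    obtain ⟨y, hy, hpy⟩ := (IsLocalRing.specializes_closedPoint (p (c 0))).mem_closed
      (p.isClosedMap _ (isClosed_closure (s := {c 0}))) ⟨c 0, subset_closure rfl, rfl⟩
    have hne : y ≠ c 0 := fun e => hs (by rw [← hi (l ⟨0, by omega⟩)]; exact (congrArg p e).symm.trans hpy)
    let t : LTSeries X := ⟨3, ![y, c 0, c 1, c 2], fun j => by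
      fin_cases j
      · exact hlt _ _ (specializes_iff_mem_closure.mpr hy) hne
      · exact hc 0 1 (by decide)
      · exact hc 1 2 (by decide)⟩
    have h3 := (Order.LTSeries.length_le_krullDim t).trans htwo
    exact absurd h3 (by exact_mod_cast (by decide : ¬ (3 : ℕ) ≤ 2))

/-- A class trivial on the closed fibre has a root of order prime to the residue characteristic trivial on
the closed fibre. -/
theorem exists_root_kernel [IsAdicComplete (maximalIdeal R) R] (C X : Scheme.{u})
    (f : C ⟶ Spec (CommRingCat.of (FractionRing R))) (p : X ⟶ Spec (CommRingCat.of R))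
    (hk : IsAlgClosed (ResidueField R))
    (hC : Curve.IsSmoothProperCurve (FractionRing R) C f) (hH0 : IsIso f.appTop)
    (hX : Models.IsRegularProperModel R X p C f) {q : ℕ} (hq : 0 < q) (hqk : (q : ResidueField R) ≠ 0)
    [PicGrp.Law X] (c : PicLoc.PicSet X)
    (hc : PicF.pullCl (pullback.fst p (Spec.map (CommRingCat.ofHom (algebraMap R (ResidueField R))))) c.1 =
      PicF.cl (Coh.structureModule _)) :
    ∃ d : PicLoc.PicSet X,
      PicF.pullCl (pullback.fst p (Spec.map (CommRingCat.ofHom (algebraMap R (ResidueField R))))) d.1 =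
        PicF.cl (Coh.structureModule _) ∧ d ^ q = c := by
  haveI : IsProper (Over.mk p).hom := hX.2.1
  haveI : Flat (Over.mk p).hom := (Inter.IsSurf.of_model hC hX).flat
  haveI := hk
  let O := Over.mk p
  obtain ⟨hF, hfin⟩ := TorsModel.isField_red R C X f p hC hH0 hX
  let J := Models.redFibreIdeal R O
  -- the reduction of the bottom level
  have hJrange : Set.range J.subschemeι.base = Models.specialFibreSet R O := by
    rw [Scheme.IdealSheafData.range_subschemeι]
    show ((Scheme.IdealSheafData.vanishingIdeal (⟨Models.specialFibreSet R O,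
      Models.isClosed_specialFibreSet R O⟩ : Closeds X)).support : Set X) = _
    rw [Scheme.IdealSheafData.coe_support_vanishingIdeal]
    rfl
  let j := IsClosedImmersion.lift (PicTower.w O 0) J.subschemeι (by
    rw [Scheme.IdealSheafData.ker_subschemeι]
    refine Scheme.IdealSheafData.le_support_iff_le_vanishingIdeal.mp ?_
    intro x hx
    show x ∈ ((PicTower.w O 0).ker.support : Set O.left)
    rw [Scheme.Hom.support_ker]
    exact subset_closure ((PicTower.range_w O 0).ge hx))
  have hj : j ≫ PicTower.w O 0 = J.subschemeι := IsClosedImmersion.lift_fac _ _ _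
  haveI : IsClosedImmersion (j ≫ PicTower.w O 0) := by rw [hj]; infer_instance
  haveI : IsClosedImmersion j := IsClosedImmersion.of_comp j (PicTower.w O 0)
  haveI : Surjective j := ⟨fun z => by
    have h : PicTower.w O 0 z ∈ Set.range J.subschemeι.base := by
      rw [hJrange, ← PicTower.range_w O 0]; exact ⟨z, rfl⟩
    obtain ⟨y, hy⟩ := h
    exact ⟨y, (PicTower.w O 0).isClosedEmbedding.injective (by rw [← Scheme.Hom.comp_apply, hj, hy])⟩⟩
  -- its functions are the residue field
  let φ : R →+* Γ(J.subscheme, ⊤) :=
    (J.subschemeι ≫ O.hom).appTop.hom.comp (Scheme.ΓSpecIso (CommRingCat.of R)).inv.hom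
  letI : Field Γ(J.subscheme, ⊤) := hF.toField
  have hker : ∀ r ∈ maximalIdeal R, φ r = 0 := by
    intro r hr
    by_contra h
    have hinj : Function.Injective φ := by
      rw [RingHom.injective_iff_ker_eq_bot]
      by_contra hb
      have hp : (RingHom.ker φ).IsPrime := RingHom.ker_isPrime φ
      exact h (RingHom.mem_ker.mp (((hp.isMaximal hb).eq_of_le (IsLocalRing.maximalIdeal.isMaximal R).ne_top
        (IsLocalRing.le_maximalIdeal hp.ne_top)).ge hr))
    letI : Algebra R Γ(J.subscheme, ⊤) := φ.toAlgebra
    haveI : Module.Finite R Γ(J.subscheme, ⊤) := hfin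
    exact IsDiscreteValuationRing.not_isField R (isField_of_isIntegral_of_isField hinj hF)
  let ψ : ResidueField R →+* Γ(J.subscheme, ⊤) := _root_.Ideal.Quotient.lift _ φ hker
  letI : Algebra (ResidueField R) Γ(J.subscheme, ⊤) := ψ.toAlgebra
  haveI : Module.Finite (ResidueField R) Γ(J.subscheme, ⊤) :=
    RingHom.Finite.of_comp_finite (f := residue R) (g := ψ) (by
      rw [show ψ.comp (residue R) = φ from RingHom.ext fun r => rfl]; exact hfin)
  have hψ : Function.Bijective ψ := IsAlgClosed.algebraMap_bijective_of_isIntegral (k := ResidueField R)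
  have hu : IsUnit (q : Γ(J.subscheme, ⊤)) :=
    Ne.isUnit fun h0 => hqk (hψ.1 (by rw [map_natCast, map_zero, h0]))
  have hu0 : IsUnit (q : Γ((PicTower.T O).X 0, ⊤)) := Thick.isUnit_of_isUnit_app j _ (by
    show IsUnit (j.appTop _)
    rw [map_natCast]; exact hu)
  have hdiv : ∀ a : Γ((PicTower.T O).X 0, ⊤), IsUnit a → ∃ v, IsUnit v ∧ v ^ q * a = 1 := fun a ha =>
    ThickRoot.exists_unit_root j hq hu (fun b => by
      obtain ⟨b', rfl⟩ := hψ.2 b
      obtain ⟨z, rfl⟩ := IsAlgClosed.exists_pow_nat_eq b' hq
      exact ⟨ψ z, (map_pow ψ z q).symm⟩) a ha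
  -- compare the two descriptions of the closed fibre
  let fs := pullback.fst p (Spec.map (CommRingCat.ofHom (algebraMap R (ResidueField R))))
  haveI : IsClosedImmersion (Spec.map (CommRingCat.ofHom (algebraMap R (ResidueField R)))) :=
    IsClosedImmersion.spec_of_surjective _ residue_surjective
  haveI : IsClosedImmersion fs :=
    MorphismProperty.of_isPullback (IsPullback.of_hasPullback p
      (Spec.map (CommRingCat.ofHom (algebraMap R (ResidueField R))))).flip inferInstance
  have hfs : fs.ker = (PicTower.w O 0).ker := by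
    rw [PicTower.ker_w, zero_add, pow_one, Models.specialFibreIdeal, PicTower.idealSheaf_eq]
    exact Scheme.IdealSheafData.ker_fst_of_isClosedImmersion
      (Spec.map (CommRingCat.ofHom (algebraMap R (ResidueField R)))) p
  let a := IsClosedImmersion.lift (PicTower.w O 0) fs hfs.ge
  have ha : a ≫ PicTower.w O 0 = fs := IsClosedImmersion.lift_fac _ _ _
  let b := IsClosedImmersion.lift fs (PicTower.w O 0) hfs.le
  have hb : b ≫ fs = PicTower.w O 0 := IsClosedImmersion.lift_fac _ _ _
  have hone : ∀ {Y Z : Scheme.{u}} (h : Y ⟶ Z),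
      PicF.pullCl h (PicF.cl (Coh.structureModule Z)) = PicF.cl (Coh.structureModule Y) :=
    fun h => Quot.sound ⟨PicLoc.pullbackStructureIso h⟩
  letI : PicGrp.Law ((PicTower.T O).X 0) := TensorMod.Invertible.law _
  have hlaw : ‹PicGrp.Law X› = TensorMod.Invertible.law X := Subsingleton.elim _ _
  subst hlaw
  obtain ⟨d, hd, hdq⟩ := PicTower.exists_root O hq hu0 hdiv c (Subtype.ext (by
    show PicF.pullCl _ c.1 = _
    rw [← hb, PicLoc.pullCl_comp, hc, hone, PicGrp.one_val]))
  refine ⟨d, ?_, hdq⟩
  have hd' : PicF.pullCl (PicTower.w O 0) d.1 = PicF.cl (Coh.structureModule _) :=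
    (congrArg Subtype.val hd).trans PicGrp.one_val
  show PicF.pullCl fs d.1 = _
  rw [← ha, PicLoc.pullCl_comp, hd', hone]

end

end Groth.Agent.Lib.ModelFibre.PicModel
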