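import Groth.Agent.Lib.ModelFibre.Inter
import Groth.Agent.Lib.ModelFibre.P1Curve
import Groth.Agent.Lib.ModelFibre.RegularExt
import Groth.Agent.Lib.FibreDeg.Compose
import Groth.Agent.Lib.SmoothCurve.Curve
import Groth.Agent.Lib.HilbD.Closed

/-!
# Two vertical curves with intersection number one meet in a rational point
-/

set_option linter.style.haveILetI false

universe u

open CategoryTheory Limits AlgebraicGeometry IsLocalRing Groth.Agent.Lib.ModelFibre TopologicalSpace

namespace Groth.Agent.Lib.ModelFibre.PointMeet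

open Groth.Agent.Lib

noncomputable section

theorem map_comap_eq_sup {A B : Scheme.{u}} (c : A ⟶ B) [IsClosedImmersion c]
    (J : B.IdealSheafData) : (J.comap c).map c = J ⊔ c.ker := by
  have h : c.ker.comap c = ⊥ := by
    rw [← Scheme.IdealSheafData.map_bot c]
    exact le_bot_iff.mp (Scheme.IdealSheafData.comap_map_le _ _)
  have h2 : (J ⊔ c.ker).comap c = J.comap c := by
    rw [Scheme.IdealSheafData.comap_sup, h, sup_bot_eq]
  rw [← h2]
  exact HilbD.Closed.map_comap c le_sup_right

/-- The kernel of a morphism from a reduced scheme is radical. -/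
theorem radical_ker {A B : Scheme.{u}} [IsReduced A] (g : A ⟶ B) [QuasiCompact g] :
    g.ker.radical = g.ker :=
  Scheme.IdealSheafData.ext (funext fun U => by
    rw [Scheme.IdealSheafData.radical_ideal, Scheme.Hom.ker_apply]
    refine _root_.Ideal.radical_eq_iff.mpr ?_
    intro a ha
    obtain ⟨m, hm⟩ := ha
    rw [RingHom.mem_ker, map_pow] at hm
    exact RingHom.mem_ker.mpr (IsNilpotent.eq_zero ⟨m, hm⟩))

/-- A nonempty scheme with finitely many closed points and one-dimensional functions over a field is a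
rational point. -/
theorem isIso_of_finrank_one {k : Type u} [Field k] {Z : Scheme.{u}} (z : Z ⟶ Spec (CommRingCat.of k))
    [Finite Z] (hcl : ∀ x : Z, IsClosed ({x} : Set Z))
    (h : letI : Z.Over (Spec (CommRingCat.of k)) := ⟨z⟩
      Module.finrank k (Coh.HH Z (Coh.structureModule Z) 0) = 1) : IsIso z := by
  letI : Z.Over (Spec (CommRingCat.of k)) := ⟨z⟩
  letI := Curves.GlobalSections.secModule k (Coh.structureModule Z)
  haveI := FibreDeg.Compose.isAffine_of_finite_of_isClosed hcl
  have hdim : Module.finrank k ((Coh.structureModule Z).val.obj (Opposite.op ⊤) : Type u) = 1 :=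
    (Curves.GlobalSections.h0Linear k (Coh.structureModule Z)).finrank_eq.symm.trans h
  haveI : FiniteDimensional k ((Coh.structureModule Z).val.obj (Opposite.op ⊤) : Type u) :=
    Module.finite_of_finrank_eq_succ hdim
  haveI : Nontrivial Γ(Z, ⊤) :=
    (Module.nontrivial_of_finrank_eq_succ hdim :
      Nontrivial ((Coh.structureModule Z).val.obj (Opposite.op ⊤) : Type u))
  let φ : k →+* Γ(Z, ⊤) := Coh.toGlobal z
  let L : k →ₗ[k] ((Coh.structureModule Z).val.obj (Opposite.op ⊤) : Type u) :=
    { toFun := fun c => (show Γ(Z, ⊤) from φ c)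
      map_add' := fun a b => map_add φ a b
      map_smul' := fun a b => map_mul φ a b }
  have hinj : Function.Injective L := φ.injective
  have hsurj : Function.Surjective L :=
    (LinearMap.injective_iff_surjective_of_finrank_eq_finrank (by rw [Module.finrank_self, hdim])).mp hinj
  have hb : Function.Bijective φ := ⟨hinj, hsurj⟩
  haveI : IsIso z.appTop := by
    rw [ConcreteCategory.isIso_iff_bijective]
    have e : ⇑z.appTop.hom = ⇑φ ∘ ⇑(Scheme.ΓSpecIso (CommRingCat.of k)).hom.hom := by
      funext a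
      show z.appTop.hom a = z.appTop.hom
        ((Scheme.ΓSpecIso (CommRingCat.of k)).inv.hom ((Scheme.ΓSpecIso (CommRingCat.of k)).hom.hom a))
      exact (congrArg z.appTop.hom ((Scheme.ΓSpecIso (CommRingCat.of k)).commRingCatIsoToRingEquiv.symm_apply_apply a)).symm
    show Function.Bijective ⇑z.appTop.hom
    rw [e]
    exact hb.comp (ConcreteCategory.bijective_of_isIso (Scheme.ΓSpecIso (CommRingCat.of k)).hom)
  have : z = Z.isoSpec.hom ≫ Spec.map z.appTop ≫ (Spec (CommRingCat.of k)).isoSpec.inv := by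
    rw [← Category.assoc, Iso.eq_comp_inv, Scheme.isoSpec_hom_naturality z]
  rw [this]
  infer_instance

variable {R : Type u} [CommRing R] [IsDomain R] [IsDiscreteValuationRing R]
  {X : Over (Spec (CommRingCat.of R))} (hX : Inter.IsSurf X) {Γ₁ Γ₂ : ArSurf.VertComp R X}

include hX

theorem meet_point
    (hne : Set.range (Γ₁.ι.base : Γ₁.curve.left → X.left) ≠ Set.range Γ₂.ι.base)
    {L₂ : X.left.Modules} (hL₂ : _root_.ClSub.IsInverseOf L₂ (_root_.ClSub.idealMod Γ₂.ι.ker))
    (hI : ArSurf.inter R X L₂ Γ₁ = 1) :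
    ∃ x : X.left, Set.range (Γ₁.ι.base : Γ₁.curve.left → X.left) ∩ Set.range Γ₂.ι.base = {x} ∧
      Γ₁.ι.ker ⊔ Γ₂.ι.ker = Scheme.IdealSheafData.vanishingIdeal ⟨closure {x}, isClosed_closure⟩ ∧
      Function.Surjective ((X.left.residue x).hom.comp (Models.stalkHom R X x)) := by
  haveI := Inter.isProper_curve hX Γ₁
  have hgen := Inter.genPt_not_mem hX Γ₁ Γ₂ hne
  rw [Inter.inter_of_isInverseOf hX Γ₁ (ClSub.Cartier.isInvertible_idealMod (Inter.isEffCartier hX Γ₂)) hL₂,
    Inter.inter_idealMod_eq hX Γ₁ (Inter.isEffCartier hX Γ₂) hgen, neg_neg, Inter.finrank_quot] at hI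
  set J := Γ₂.ι.ker.comap Γ₁.ι with hJ
  let z : J.subscheme ⟶ Spec (CommRingCat.of (ResidueField R)) := J.subschemeι ≫ Γ₁.curve.hom
  -- finitely many points
  haveI := Curves.GlobalSections.noetherianSpace_of_proper (ResidueField R) Γ₁.curve.left
  have hgen' : genericPoint Γ₁.curve.left ∉ (J.support : Set Γ₁.curve.left) := by
    rw [hJ, Scheme.IdealSheafData.support_comap]; exact hgen
  have hfin : (J.support : Set Γ₁.curve.left).Finite :=
    SmoothCurve.Curve.finite_of_isClosed Γ₁.dim_eq J.support.isClosed hgen'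
  haveI : Finite J.subscheme := by
    have := (Set.Finite.preimage J.subschemeι.isClosedEmbedding.injective.injOn hfin)
    refine Set.finite_univ_iff.mp (this.subset fun y _ => ?_)
    rw [Set.mem_preimage, ← J.range_subschemeι]
    exact ⟨y, rfl⟩
  have hcl : ∀ y : J.subscheme, IsClosed ({y} : Set J.subscheme) := fun y => by
    have hy : J.subschemeι y ∈ (J.support : Set Γ₁.curve.left) := by
      rw [← J.range_subschemeι]; exact ⟨y, rfl⟩
    rcases SmoothCurve.Curve.eq_genericPoint_or_isClosed Γ₁.dim_eq (J.subschemeι y) with h | h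
    · exact absurd (h ▸ hy) hgen'
    · have := h.preimage J.subschemeι.continuous
      rwa [← Set.image_singleton, Set.preimage_image_eq _ J.subschemeι.isClosedEmbedding.injective] at this
  haveI : IsIso z := isIso_of_finrank_one z hcl (by exact_mod_cast hI)
  haveI : IsClosedImmersion Γ₁.ι := Γ₁.isClosedImmersion
  let σ : Spec (CommRingCat.of (ResidueField R)) ⟶ X.left := inv z ≫ J.subschemeι ≫ Γ₁.ι
  have hσp : σ ≫ X.hom = Spec.map (CommRingCat.ofHom (residue R)) := by
    simp only [σ, Category.assoc]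
    rw [Γ₁.w, IsIso.inv_comp_eq]
    exact (Category.assoc _ _ _).symm
  have hker : σ.ker = Γ₁.ι.ker ⊔ Γ₂.ι.ker := by
    show (inv z ≫ J.subschemeι ≫ Γ₁.ι).ker = _
    rw [Scheme.Hom.ker_comp_of_isIso, Scheme.Hom.ker_comp, Scheme.IdealSheafData.ker_subschemeι, hJ,
      map_comap_eq_sup, sup_comm]
  let x : X.left := σ (closedPoint (ResidueField R))
  have hrange : Set.range σ = {x} := by
    refine Set.Subset.antisymm (fun y hy => ?_) (fun y hy => ⟨_, hy.symm⟩)
    obtain ⟨s, rfl⟩ := hy
    exact congrArg σ (Subsingleton.elim (α := PrimeSpectrum (ResidueField R)) s (closedPoint _))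
  have hsupp : (σ.ker.support : Set X.left) = {x} := by
    rw [Scheme.Hom.support_ker, hrange]
    have : IsClosed ({x} : Set X.left) := hrange ▸ σ.isClosedEmbedding.isClosed_range
    exact this.closure_eq
  refine ⟨x, ?_, ?_, ?_⟩
  · rw [← hsupp, hker, Scheme.IdealSheafData.support_sup]
    show _ = (Γ₁.ι.ker.support : Set X.left) ∩ Γ₂.ι.ker.support
    rw [Scheme.Hom.support_ker, Scheme.Hom.support_ker, Γ₁.ι.isClosedEmbedding.isClosed_range.closure_eq,
      Γ₂.ι.isClosedEmbedding.isClosed_range.closure_eq]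
  · rw [← hker, ← radical_ker σ, ← Scheme.IdealSheafData.vanishingIdeal_support]
    congr 1
    refine TopologicalSpace.Closeds.ext ?_
    show (σ.ker.support : Set X.left) = closure {x}
    rw [hsupp]
    exact ((hrange ▸ σ.isClosedEmbedding.isClosed_range : IsClosed ({x} : Set X.left))).closure_eq.symm
  · let τ := Scheme.stalkClosedPointTo σ
    have hτ : CommRingCat.ofHom (Stalk.baseHom X.hom x) ≫ τ = CommRingCat.ofHom (residue R) := by
      apply Spec.map_injective
      rw [Spec.map_comp, ← Stalk.fromSpecStalk_comp, ← Category.assoc]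
      rw [show Spec.map τ ≫ X.left.fromSpecStalk x = σ from Scheme.Spec_stalkClosedPointTo_fromSpecStalk σ]
      exact hσp
    intro c
    obtain ⟨a, rfl⟩ := X.left.residue_surjective x c
    obtain ⟨r, hr⟩ := residue_surjective (τ.hom a)
    refine ⟨r, ?_⟩
    show X.left.residue x (Stalk.baseHom X.hom x r) = X.left.residue x a
    rw [← sub_eq_zero, ← map_sub]
    refine (IsLocalRing.residue_eq_zero_iff _).mpr ?_
    rw [mem_maximalIdeal, mem_nonunits_iff]
    intro hu
    have h2 : τ.hom (Stalk.baseHom X.hom x r) = residue R r := congr($hτ r)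
    exact (hu.map τ.hom).ne_zero (by rw [map_sub, h2, hr, sub_self])

end

end Groth.Agent.Lib.ModelFibre.PointMeet
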