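import Mathlib
import Groth.Agent.Lib.PointDim.Basic
import Groth.Prelude.Def_W4c5delpairindexchiIndex

/-!
# Closed points from finite algebras and the index of a scheme over a field
-/

universe u

open CategoryTheory AlgebraicGeometry Limits IsLocalRing

namespace Groth.Agent.Lib.ModelFibre.Points

/-- If the residue degrees of the maximal ideals of a finite algebra lie in a subgroup of `ℤ`, so does
its dimension. -/
theorem finrank_mem {K L : Type u} [Field K] [CommRing L] [Algebra K L] [Module.Finite K L]
    (G : AddSubgroup ℤ) (h : ∀ Q : Ideal L, Q.IsMaximal → (Module.finrank K (L ⧸ Q) : ℤ) ∈ G) :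
    (Module.finrank K L : ℤ) ∈ G := by
  have : IsArtinianRing L := isArtinian_of_tower K inferInstance
  suffices ∀ (N : Type u) [AddCommGroup N] [Module L N] [Module.Finite L N] [Module K N]
      [IsScalarTower K L N], (Module.finrank K N : ℤ) ∈ G from this L
  intro N _ _ hN
  induction hN using IsNoetherianRing.induction_on_isQuotientEquivQuotientPrime L with
  | subsingleton N =>
    intro _ _
    rw [Module.finrank_zero_of_subsingleton]; exact G.zero_mem
  | quotient N p e =>
    intro _ _
    rw [(e.restrictScalars K).finrank_eq]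
    exact h p.1 (IsArtinianRing.isMaximal_of_isPrime p.1)
  | exact N₁ N₂ N₃ f g hf hg hex ih₁ ih₃ =>
    intro _ _
    letI := Module.compHom N₁ (algebraMap K L)
    letI := Module.compHom N₃ (algebraMap K L)
    have : IsScalarTower K L N₁ := IsScalarTower.of_algebraMap_smul fun _ _ => rfl
    have : IsScalarTower K L N₃ := IsScalarTower.of_algebraMap_smul fun _ _ => rfl
    have : Module.Finite K N₂ := .trans L N₂
    have e := (Function.Exact.linearMap_ker_eq (f := f.restrictScalars K) (g := g.restrictScalars K) hex)
    have h1 := LinearMap.finrank_range_add_finrank_ker (g.restrictScalars K)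
    rw [LinearMap.range_eq_top.2 (show Function.Surjective (g.restrictScalars K) from hg), finrank_top, e,
      LinearMap.finrank_range_of_inj (show Function.Injective (f.restrictScalars K) from hf)] at h1
    rw [← h1, Nat.cast_add]
    exact G.add_mem ih₃ ih₁

variable {K : Type u} [Field K]

open Groth.Agent.Lib.PointDim.Basic

/-- A point of a scheme of finite type over a field with values in a finite extension generated by the
coordinates gives an element of the index subgroup. -/
theorem finrank_mem_indexSubgroup {X : Scheme.{u}} (f : X ⟶ Spec (CommRingCat.of K))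
    [LocallyOfFiniteType f] {Y : Scheme.{u}} (g : X ⟶ Y) {A : CommRingCat.{u}} (ι : Spec A ⟶ Y)
    [IsOpenImmersion ι] {E : Type u} [Field E] [Algebra K E] [Module.Finite K E] (ψ : A →+* E)
    (hgen : Subring.closure (Set.range ψ ∪ Set.range (algebraMap K E)) = ⊤)
    (u : Spec (CommRingCat.of E) ⟶ X) (hu : u ≫ f = Spec.map (CommRingCat.ofHom (algebraMap K E)))
    (hu' : u ≫ g = Spec.map (CommRingCat.ofHom ψ) ≫ ι) :
    (Module.finrank K E : ℤ) ∈ Curv2.indexSubgroup f := by
  set x := u (closedPoint E) with hx
  set d := X.descResidueField (Scheme.stalkClosedPointTo u) with hd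
  have hdu : Spec.map d ≫ X.fromSpecResidueField x = u :=
    X.descResidueField_stalkClosedPointTo_fromSpecResidueField E u
  have hk : kToRes f x ≫ d = CommRingCat.ofHom (algebraMap K E) := by
    apply Spec.map_injective
    rw [Spec.map_comp, specMap_kToRes, ← Category.assoc, hdu, hu]
  have hgx : g x ∈ Set.range ι := by
    have : g x = ι (Spec.map (CommRingCat.ofHom ψ) (closedPoint E)) := by
      rw [hx, ← Scheme.Hom.comp_apply, hu', Scheme.Hom.comp_apply]
    exact ⟨_, this.symm⟩
  have hrange : Set.range (X.fromSpecResidueField x ≫ g) ⊆ Set.range ι := by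
    rintro _ ⟨s, rfl⟩
    rw [Scheme.Hom.comp_apply, Scheme.fromSpecResidueField_apply]
    exact hgx
  let χ : A ⟶ X.residueField x :=
    Spec.preimage (IsOpenImmersion.lift ι (X.fromSpecResidueField x ≫ g) hrange)
  have hχ : χ ≫ d = CommRingCat.ofHom ψ := by
    apply Spec.map_injective
    rw [← cancel_mono ι, Spec.map_comp, Category.assoc, Spec.map_preimage,
      IsOpenImmersion.lift_fac, ← Category.assoc, hdu, hu']
  have hsurj : Function.Surjective d.hom := by
    rw [← RingHom.range_eq_top, eq_top_iff, ← hgen, Subring.closure_le]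
    rintro _ (⟨a, rfl⟩ | ⟨a, rfl⟩)
    · exact ⟨χ.hom a, congr($(hχ).hom a)⟩
    · exact ⟨(kToRes f x).hom a, congr($(hk).hom a)⟩
  letI : Algebra K (X.residueField x) := (kToRes f x).hom.toAlgebra
  let e : X.residueField x ≃ₐ[K] E :=
    AlgEquiv.ofRingEquiv (f := RingEquiv.ofBijective d.hom ⟨d.hom.injective, hsurj⟩)
      fun a => congr($(hk).hom a)
  have hfin : Module.Finite K (X.residueField x) := Module.Finite.equiv e.symm.toLinearEquiv
  have hdeg : f.residueDegree x = Module.finrank K E := by
    rw [← e.toLinearEquiv.finrank_eq]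
    unfold Scheme.Hom.residueDegree
    letI : Algebra ((Spec (CommRingCat.of K)).residueField (f x)) (X.residueField x) :=
      (f.residueFieldMap x).hom.toAlgebra
    refine (Algebra.finrank_eq_of_equiv_equiv
      (RingEquiv.ofBijective (kToRes (𝟙 (Spec (CommRingCat.of K))) (f x)).hom
        (kToRes_id_bijective (f x))).symm (RingEquiv.refl _) ?_)
    ext y
    obtain ⟨a, rfl⟩ := (kToRes_id_bijective (f x)).2 y
    show algebraMap K (X.residueField x) _ = _
    erw [RingEquiv.symm_apply_apply]
    exact congr($(kToRes_eq_residueFieldMap f x).hom a)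
  refine AddSubgroup.subset_closure ⟨x, ?_, congrArg _ hdeg⟩
  show IsClosed ({x} : Set X)
  rw [isClosed_iff_natTdeg_eq_zero f x, natTdeg, tdeg]
  have : Algebra.IsAlgebraic K (X.residueField x) := Algebra.IsAlgebraic.of_finite K _
  rw [trdeg_eq_zero (R := K) (A := X.residueField x), map_zero]

end Groth.Agent.Lib.ModelFibre.Points
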