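import Groth.Agent.Lib.ModelFibre.EulerFibre
import Groth.Agent.Lib.ModelFibre.InterForm
import Groth.Agent.Lib.ModelFibre.ConstDiv
import Groth.Agent.Lib.Regular.DirectLimit
import Mathlib.AlgebraicGeometry.ValuativeCriterion
import Mathlib.AlgebraicGeometry.Stalk
import Mathlib.RingTheory.SimpleModule.Basic

/-!
# A rational point of the generic fibre on a regular proper model
-/

set_option linter.style.haveILetI false

universe u

open CategoryTheory Limits AlgebraicGeometry IsLocalRing Groth.Agent.Lib.ModelFibre TopologicalSpace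

namespace Groth.Agent.Lib.ModelFibre.RatPoint

open Groth.Agent.Lib
open Groth.Agent.Lib.Ideal.Prime (stalkIdeal)

noncomputable section

variable {R : Type u} [CommRing R] [IsDomain R] [IsDiscreteValuationRing R]

set_option backward.isDefEq.respectTransparency.types false in
/-- A closed point with a retraction of the base onto its local ring. -/
theorem exists_point {C X : Scheme.{u}} {f : C ⟶ Spec (CommRingCat.of (FractionRing R))}
    (p : X ⟶ Spec (CommRingCat.of R)) [IsProper p] (g : C ⟶ X)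
    (hg : g ≫ p = f ≫ Spec.map (CommRingCat.ofHom (algebraMap R (FractionRing R))))
    (s : Spec (CommRingCat.of (FractionRing R)) ⟶ C) (hs : s ≫ f = 𝟙 _) :
    ∃ (x : X) (ρ : X.presheaf.stalk x →+* R), IsClosed ({x} : Set X) ∧
      p x = closedPoint R ∧ IsLocalHom ρ ∧ ρ.comp (Stalk.baseHom p x) = RingHom.id R := by
  have hu : ValuativeCriterion.Existence p := by
    have h : UniversallyClosed p := inferInstance
    rw [UniversallyClosed.eq_valuativeCriterion] at h
    exact h.1
  let S : ValuativeCommSq p :=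
    { R := R
      K := FractionRing R
      i₁ := s ≫ g
      i₂ := 𝟙 _
      commSq := ⟨by rw [Category.assoc, hg, reassoc_of% hs]; exact (Category.comp_id _).symm⟩ }
  obtain ⟨⟨σ₀, -, hσ₀⟩⟩ := (hu S).exists_lift
  obtain ⟨σ, hσ⟩ : ∃ σ : Spec (CommRingCat.of R) ⟶ X, σ ≫ p = 𝟙 _ := ⟨σ₀, hσ₀⟩
  haveI : IsClosedImmersion σ := by
    haveI : IsClosedImmersion (σ ≫ p) := by rw [hσ]; infer_instance
    exact IsClosedImmersion.of_comp σ p
  haveI : IsLocalRing (CommRingCat.of R) := inferInstanceAs (IsLocalRing R)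
  have hpx : p (σ (closedPoint R)) = closedPoint R := by
    rw [← Scheme.Hom.comp_apply, hσ]; rfl
  have hcl : IsClosed ({σ (closedPoint R)} : Set X) := by
    have := σ.isClosedEmbedding.isClosedMap _ (IsLocalRing.isClosed_singleton_closedPoint R)
    convert this using 1
    exact Set.image_singleton.symm
  refine ⟨σ (closedPoint R), (Scheme.stalkClosedPointTo σ).hom, hcl, hpx,
    inferInstance, ?_⟩
  have h : Spec.map (Scheme.stalkClosedPointTo σ) ≫
      Spec.map (CommRingCat.ofHom (Stalk.baseHom p (σ (closedPoint R)))) = 𝟙 _ := by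
    refine (congrArg (Spec.map (Scheme.stalkClosedPointTo σ) ≫ ·)
      (Stalk.fromSpecStalk_comp p (σ (closedPoint R)))).symm.trans ?_
    exact (Category.assoc _ _ _).symm.trans
      ((congrArg (· ≫ p) (Scheme.Spec_stalkClosedPointTo_fromSpecStalk σ)).trans hσ)
  rw [← Spec.map_comp, ← Spec.map_id] at h
  exact congrArg CommRingCat.Hom.hom (Spec.map_injective h)

/-- With a rational point, a field of functions is a quotient of the base. -/
theorem surjective_of_point {T X : Scheme.{u}} (ι : T ⟶ X) [IsClosedImmersion ι]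
    (p : X ⟶ Spec (CommRingCat.of R)) (hT : IsField Γ(T, ⊤)) (z : T)
    (hz : ∀ a : X.presheaf.stalk (ι z), ∃ r : R, a - Stalk.baseHom p (ι z) r ∈ maximalIdeal _)
    (hp : p (ι z) = closedPoint R) :
    Function.Surjective (Coh.toGlobal (ι ≫ p)) ∧
      ∀ r ∈ maximalIdeal R, Coh.toGlobal (ι ≫ p) r = 0 := by
  have hgerm : ∀ r, T.presheaf.germ ⊤ z trivial (Coh.toGlobal (ι ≫ p) r) =
      ι.stalkMap z (Stalk.baseHom p (ι z) r) := fun r =>
    (Scheme.Hom.germ_stalkMap_apply ι ⊤ z trivial (Coh.toGlobal p r)).symm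
  have hzero : ∀ t : Γ(T, ⊤), ¬ IsUnit (T.presheaf.germ ⊤ z trivial t) → t = 0 := fun t ht => by
    by_contra h0
    obtain ⟨b, hb⟩ := hT.mul_inv_cancel h0
    exact ht ((IsUnit.of_mul_eq_one _ hb).map _)
  refine ⟨fun t => ?_, fun r hr => ?_⟩
  · obtain ⟨a, ha⟩ := ι.stalkMap_surjective z (T.presheaf.germ ⊤ z trivial t)
    obtain ⟨r, hr⟩ := hz a
    refine ⟨r, (sub_eq_zero.mp (hzero (t - Coh.toGlobal (ι ≫ p) r) ?_)).symm⟩
    erw [map_sub, hgerm, ← ha, ← map_sub]
    exact fun h => hr ((isUnit_map_iff (ι.stalkMap z).hom _).mp h)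
  · refine hzero _ fun h => ?_
    rw [hgerm] at h
    have h' := (isUnit_map_iff (ι.stalkMap z).hom _).mp h
    rw [RegularExt.isUnit_baseHom_iff, RegularExt.basicOpen_toGlobal] at h'
    exact h' (show r ∈ (p (ι z)).asIdeal by rw [hp]; exact hr)

/-- A finite `R`-module which is a cyclic nonzero quotient of `R` killed by `𝔪` has length one. -/
theorem length_eq_one {M : Type u} [AddCommGroup M] [Module R M] (φ : R →ₗ[R] M)
    (hφ : Function.Surjective φ) (hker : ∀ r ∈ maximalIdeal R, φ r = 0) (h1 : φ 1 ≠ 0) :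
    Module.length R M = 1 := by
  have hk : LinearMap.ker φ = maximalIdeal R :=
    le_antisymm (le_maximalIdeal fun h => h1 (LinearMap.mem_ker.mp (h.symm ▸ Submodule.mem_top)))
      fun r hr => LinearMap.mem_ker.mpr (hker r hr)
  rw [← (φ.quotKerEquivOfSurjective hφ).length_eq, hk, Module.length_eq_one_iff]
  exact isSimpleModule_iff_isCoatom.mpr (IsLocalRing.maximalIdeal.isMaximal R).out

end

end Groth.Agent.Lib.ModelFibre.RatPoint
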