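import Groth.Agent.Lib.ModelFibre.TorsGen
import Groth.Agent.Lib.ModelFibre.Thick
import Groth.Agent.Lib.TensorMod.Invertible

/-!
# Roots of invertible modules along thickenings
-/

set_option linter.style.haveILetI false

universe u

open CategoryTheory AlgebraicGeometry Opposite TopologicalSpace Polynomial
open Groth.Agent.Lib.TensorMod Groth.Agent.Lib.TensorMod.Dual Groth.Agent.Lib.TensorMod.Gen
open Groth.Agent.Lib.Ample.GenLocus
open Groth.Agent.Lib.TensorMod.Pullback (unitSec)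
open Groth.Agent.H97

namespace Groth.Agent.Lib.ModelFibre.ThickRoot

open Groth.Agent.H54.PicTorsion

noncomputable section

variable {Z₀ Z : Scheme.{u}} (i : Z₀ ⟶ Z) [IsClosedImmersion i] [Surjective i]

/-- An invertible module trivial on a thickened subscheme is an `n`-th power of one which is trivial
there, when `n` is invertible. -/
theorem exists_root_module {n : ℕ} (hn : 0 < n) (hu : IsUnit (n : Γ(Z₀, ⊤))) {N : Z.Modules}
    (hN : PicF.IsInvertible N) (ψ : (Scheme.Modules.pullback i).obj N ≅ Coh.structureModule Z₀) :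
    ∃ M : Z.Modules, PicF.IsInvertible M ∧ Nonempty (CohB1.tensorPow M n ≅ N) ∧
      Nonempty ((Scheme.Modules.pullback i).obj M ≅ Coh.structureModule Z₀) := by
  classical
  let ε : Γ((Scheme.Modules.pullback i).obj N, ⊤) := ψ.inv.app ⊤ (one Z₀ ⊤)
  have hε : IsGen ((Scheme.Modules.pullback i).obj N) ⊤ ε :=
    isGen_of_isIso_over (isIso_over_of_iso ψ.symm ⊤) (isGen_one ⊤)
  have hloc : ∀ z : Z, ∃ (U : Z.Opens) (e : Γ(N, U)), z ∈ U ∧ IsGen N U e ∧
      unitSec i N e = rs ((Scheme.Modules.pullback i).obj N) le_top ε := by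
    intro z
    obtain ⟨U₀, e, hz, he⟩ := isInvertible_iff.1 hN z
    obtain ⟨U, hU, hzU, hle⟩ := exists_isAffineOpen_mem_and_subset (U := U₀) hz
    obtain ⟨g, hg⟩ := exists_coord (isGen_unitSec i (he.res hle))
      (rs _ (le_top : i ⁻¹ᵁ U ≤ ⊤) ε)
    obtain ⟨G, rfl⟩ := i.app_surjective U hU g
    have hG : IsUnit G := H54.PicTorsion.isUnit_of_isUnit_app i G
      (isUnit_of_isGen_smul (isGen_unitSec i (he.res hle)) (hg ▸ hε.res le_top))
    exact ⟨U, G • rs N hle e, hzU, IsGen_smul_isUnit (he.res hle) hG, (unitSec_smul i G _).trans hg.symm⟩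
  choose U e hzU he hεe using hloc
  have hcov : iSup U = ⊤ := top_le_iff.1 fun z _ => Opens.mem_iSup.2 ⟨z, hzU z⟩
  let Good : ∀ (a b : Z) (W : Z.Opens) (_ : W ≤ U a) (_ : W ≤ U b), Γ(Z, W) → Prop :=
    fun a b W ha hb r => i.app W r = 1 ∧ rs N hb (e b) = r ^ n • rs N ha (e a)
  have good_unit : ∀ a b W ha hb r, Good a b W ha hb r → IsUnit r := fun a b W ha hb r h =>
    H54.PicTorsion.isUnit_of_isUnit_app i r (h.1.symm ▸ isUnit_one)
  have good_unique : ∀ a b W ha hb r r', Good a b W ha hb r → Good a b W ha hb r' → r = r' := by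
    intro a b W ha hb r r' h h'
    refine root_unique i hu (good_unit a b W ha hb r' h') ?_ (h.1.trans h'.1.symm)
    exact ((he a) W ha).1 (h.2.symm.trans h'.2)
  have good_res : ∀ a b W ha hb r, Good a b W ha hb r → ∀ (V : Z.Opens) (hV : V ≤ W),
      Good a b V (hV.trans ha) (hV.trans hb) (rf hV r) := by
    intro a b W ha hb r h V hV
    constructor
    · rw [app_rf, h.1]; exact map_one (Z₀.presheaf.map (homOfLE (i.preimage_mono hV)).op).hom
    · have := congrArg (rs N hV) h.2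
      rw [rs_smul, rs_rs, rs_rs] at this
      rw [this]
      congr 1
      exact map_pow (Z.presheaf.map (homOfLE hV).op).hom r n
  have good_ex : ∀ a b, ∃ r, Good a b (U a ⊓ U b) inf_le_left inf_le_right r := by
    intro a b
    let W := U a ⊓ U b
    obtain ⟨t, ht⟩ := exists_coord ((he a).res (inf_le_left : W ≤ U a))
      (rs N (inf_le_right : W ≤ U b) (e b))
    have ht1 : i.app W t = 1 := by
      have h1 := congrArg (unitSec i N) ht
      rw [unitSec_smul, ← unitSec_rs, ← unitSec_rs, hεe, hεe, rs_rs, rs_rs] at h1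
      refine ((hε.res (le_top : i ⁻¹ᵁ W ≤ ⊤)) _ le_rfl).1 ?_
      simp only [rs_self, one_smul]
      exact h1.symm
    obtain ⟨r, hr, hri⟩ := H54.PicTorsion.exists_root i hn hu t 1 isUnit_one (by rw [one_pow, ht1])
    exact ⟨r, hri, by rw [hr]; exact ht⟩
  choose tr htr using good_ex
  have good_one : ∀ a W (ha : W ≤ U a), Good a a W ha ha 1 := fun a W ha => by
    refine ⟨map_one _, ?_⟩
    rw [one_pow, one_smul]
  let c : GlueLine.Cocycle U :=
    { u := tr
      self := fun a W h => good_unique a a W _ _ _ _ (good_res a a _ _ _ _ (htr a a) W h)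
        (good_one a W (h.trans inf_le_left))
      trans := fun a b d W ha hb hd => by
        refine good_unique a d W ha hd _ _ ?_ (good_res a d _ _ _ _ (htr a d) W (le_inf ha hd))
        have h1 := good_res a b _ _ _ _ (htr a b) W (le_inf ha hb)
        have h2 := good_res b d _ _ _ _ (htr b d) W (le_inf hb hd)
        refine ⟨?_, ?_⟩
        · rw [map_mul, h1.1, h2.1, one_mul]
        · rw [h2.2, h1.2, smul_smul, mul_pow, mul_comm] }
  have hgood : ∀ a b W (ha : W ≤ U a) (hb : W ≤ U b), Good a b W ha hb (c.tr a b ha hb) :=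
    fun a b W ha hb => good_res a b _ _ _ _ (htr a b) W (le_inf ha hb)
  refine ⟨GlueLine.glue c, GlueLine.isInvertible_glue c hcov, ?_, ?_⟩
  · obtain ⟨φ, -⟩ := HomGlue.exists_iso_of_gen hcov (fun a => tpow (GlueLine.gen c a) n)
      (fun a => isGen_tpow (GlueLine.isGen_gen c a) n) e he fun a b W ha hb r hr => by
        rw [rs_tpow, rs_tpow, GlueLine.rs_gen c b a hb ha, tpow_smul] at hr
        have hrr : c.tr b a hb ha ^ n = r :=
          ((isGen_tpow ((GlueLine.isGen_gen c b).res hb) n) W le_rfl).1 (by simpa only [rs_self] using hr)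
        subst hrr
        exact (hgood b a W hb ha).2
    exact ⟨φ⟩
  · have hpre : (⨆ a, i ⁻¹ᵁ U a) = ⊤ := by rw [← Scheme.Hom.preimage_iSup, hcov]; rfl
    obtain ⟨φ, -⟩ := HomGlue.exists_iso_of_gen hpre (fun a => unitSec i _ (GlueLine.gen c a))
      (fun a => isGen_unitSec i (GlueLine.isGen_gen c a)) (fun a => one Z₀ (i ⁻¹ᵁ U a)) (fun a => isGen_one _)
      fun a b W ha hb r hr => by
        let V : Z.Opens := U a ⊓ U b
        have hWV : W ≤ i ⁻¹ᵁ V := le_inf ha hb
        have h1 := congrArg (unitSec i _)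
          (GlueLine.rs_gen c b a (inf_le_right : V ≤ U b) (inf_le_left : V ≤ U a))
        rw [unitSec_smul, ← unitSec_rs, ← unitSec_rs, (hgood b a V inf_le_right inf_le_left).1, one_smul] at h1
        have h2 := congrArg (rs _ hWV) h1
        rw [rs_rs, rs_rs] at h2
        have hrr : r = 1 := ((isGen_unitSec i (GlueLine.isGen_gen c b)) W hb).1
          ((hr.symm.trans h2).trans (one_smul _ _).symm)
        subst hrr
        rw [one_smul]
        exact (map_one (Z₀.presheaf.map (homOfLE ha).op).hom).trans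
          (map_one (Z₀.presheaf.map (homOfLE hb).op).hom).symm
    exact ⟨φ⟩

/-- A module with trivial `n`-th power which is trivial on a thickened subscheme with `n`-divisible units
is trivial. -/
theorem eq_trivial {n : ℕ} (hn : 0 < n) (hu : IsUnit (n : Γ(Z₀, ⊤)))
    (hdiv : ∀ c : Γ(Z₀, ⊤), IsUnit c → ∃ v, IsUnit v ∧ v ^ n * c = 1)
    {M : Z.Modules} (hM : PicF.IsInvertible M) (φ : CohB1.tensorPow M n ≅ Coh.structureModule Z)
    (ψ : (Scheme.Modules.pullback i).obj M ≅ Coh.structureModule Z₀) :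
    Nonempty (M ≅ Coh.structureModule Z) := by
  obtain ⟨c, hc, h⟩ := TorsGen.exists_mult i hM hn hu φ ψ
  obtain ⟨v, hv, hvc⟩ := hdiv c hc
  exact h v 1 hv (by rw [hvc, map_one])

include i in
/-- Units of a scheme whose reduction has an algebraically closed field of functions are divisible. -/
theorem exists_unit_root {n : ℕ} (hn : 0 < n) (hu : IsUnit (n : Γ(Z₀, ⊤)))
    (hroot : ∀ a : Γ(Z₀, ⊤), ∃ b, b ^ n = a) (c : Γ(Z, ⊤)) (hc : IsUnit c) :
    ∃ v : Γ(Z, ⊤), IsUnit v ∧ v ^ n * c = 1 := by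
  obtain ⟨cu, rfl⟩ := hc
  obtain ⟨θ, hθ⟩ := hroot (i.appTop (↑cu⁻¹ : Γ(Z, ⊤)))
  have hθu : IsUnit θ := (isUnit_pow_iff hn.ne').mp (hθ.symm ▸ (cu⁻¹).isUnit.map _)
  obtain ⟨v, hv, -⟩ := Thick.exists_root i (RingHom.id Γ(Z, ⊤)) (X ^ n - C (↑cu⁻¹ : Γ(Z, ⊤))) θ
    (by simp [hθ])
    (by
      simp [derivative_X_pow]
      exact ⟨hu, hθu.pow _⟩)
  have hvn : v ^ n = (↑cu⁻¹ : Γ(Z, ⊤)) := by simpa [sub_eq_zero] using hv
  exact ⟨v, (isUnit_pow_iff hn.ne').mp (hvn.symm ▸ (cu⁻¹).isUnit), by rw [hvn, Units.inv_mul]⟩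

end

end Groth.Agent.Lib.ModelFibre.ThickRoot
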