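import Mathlib

/-!
# Unramified extensions of a discrete valuation ring with prescribed algebraic residue field
-/

universe u

open Polynomial IsLocalRing

namespace Groth.Agent.Lib.ModelFibre.Unramified

variable (R : Type u) [CommRing R] [IsDomain R] [IsDiscreteValuationRing R] (π : R)
  (k' : Type u) [Field k'] [Algebra R k']
  (F : Type u) [Field F] [Algebra R F]

/-- A discrete valuation ring inside `F`, unramified over `R`, with a map of its residue field to `k'`. -/
structure Stage where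
  A : Subalgebra R F
  ψ : A →ₐ[R] k'
  ker : ∀ a, ψ a = 0 → ∃ b, a = algebraMap R A π * b
  unit : ∀ a, ψ a ≠ 0 → IsUnit a
  pow : ∀ a : A, a ≠ 0 → ∃ (n : ℕ) (v : A), IsUnit v ∧ a = algebraMap R A π ^ n * v

variable {R π k' F}

theorem Stage.irreducible (hπF : algebraMap R F π ≠ 0) (hπk : algebraMap R k' π = 0) (s : Stage R π k' F) :
    Irreducible (algebraMap R s.A π) := by
  have h0 : algebraMap R s.A π ≠ 0 := fun h => hπF (congrArg Subtype.val h)
  have hu : ¬ IsUnit (algebraMap R s.A π) := fun h => (h.map s.ψ).ne_zero ((s.ψ.commutes π).trans hπk)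
  refine ⟨hu, fun a b hab => ?_⟩
  by_contra hcon
  push Not at hcon
  obtain ⟨a', ha'⟩ := s.ker a (by_contra fun h => hcon.1 (s.unit a h))
  obtain ⟨b', hb'⟩ := s.ker b (by_contra fun h => hcon.2 (s.unit b h))
  refine hu (IsUnit.of_mul_eq_one (a' * b') (mul_left_cancel₀ h0 ?_))
  conv_rhs => rw [mul_one, hab, ha', hb']
  ring

theorem Stage.isDVR (hπF : algebraMap R F π ≠ 0) (hπk : algebraMap R k' π = 0) (s : Stage R π k' F) :
    IsDiscreteValuationRing s.A :=
  IsDiscreteValuationRing.ofHasUnitMulPowIrreducibleFactorization ⟨_, s.irreducible hπF hπk, fun {a} ha => by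
    obtain ⟨n, v, hv, h⟩ := s.pow a ha
    exact ⟨n, hv.unit, h.symm⟩⟩

set_option maxHeartbeats 1000000 in
/-- The stage generated by a root. -/
theorem exists_bigger_of_root (hπF : algebraMap R F π ≠ 0) (hπk : algebraMap R k' π = 0)
    (s : Stage R π k' F) [IsDiscreteValuationRing s.A] (a : k') (k0 : Subfield k') (ψ0 : s.A →+* k0)
    (hψ0 : Function.Surjective ψ0) (hcomp : k0.subtype.comp ψ0 = s.ψ.toRingHom) (halg : IsIntegral k0 a)
    (g : s.A[X]) (hgm : g.Monic) (hgh : g.map ψ0 = minpoly k0 a) (α : F) (hα' : aeval α g = 0)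
    (hmin : minpoly s.A α = g) :
    ∃ t : Stage R π k' F, ∃ h : s.A ≤ t.A, t.ψ.comp (Subalgebra.inclusion h) = s.ψ ∧ a ∈ t.ψ.range := by
  set h := minpoly k0 a with hh
  have hψval : ∀ x, k0.subtype (ψ0 x) = s.ψ x := fun x => RingHom.congr_fun hcomp x
  have hαint : IsIntegral s.A α := ⟨g, hgm, hα'⟩
  have hfaith : FaithfulSMul s.A F := (faithfulSMul_iff_algebraMap_injective _ _).2 Subtype.val_injective
  set A' : Subalgebra s.A F := Algebra.adjoin s.A {α}
  -- the map to `k'`
  let φ : AdjoinRoot (minpoly s.A α) →+* k' := AdjoinRoot.lift s.ψ.toRingHom a (by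
    rw [hmin, ← hcomp, ← eval₂_map, hgh]
    exact minpoly.aeval k0 a)
  let e : AdjoinRoot (minpoly s.A α) ≃ₐ[s.A] A' := minpoly.equivAdjoin hαint
  let ψ' : A' →+* k' := φ.comp e.symm.toRingHom
  have hev : ∀ q : s.A[X], aeval α q ∈ A' := fun q => by
    show _ ∈ Algebra.adjoin s.A {α}
    rw [Algebra.adjoin_singleton_eq_range_aeval]
    exact ⟨q, rfl⟩
  have hmk : ∀ q : s.A[X], e (AdjoinRoot.mk _ q) = ⟨aeval α q, hev q⟩ := fun q => by
    rw [← AdjoinRoot.aeval_eq q, ← Polynomial.aeval_algHom_apply]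
    have hroot : e (AdjoinRoot.root _) = ⟨α, Algebra.self_mem_adjoin_singleton s.A α⟩ := by
      rw [minpoly.coe_equivAdjoin]
      simp [AdjoinRoot.Minpoly.toAdjoin]
    rw [hroot]
    exact Subtype.ext (Polynomial.aeval_subalgebra_coe q A' _)
  have helem : ∀ x : A', ∃ q : s.A[X], (x : F) = aeval α q ∧ ψ' x = (q.map ψ0).eval₂ k0.subtype a := by
    intro x
    obtain ⟨z, rfl⟩ := e.surjective x
    obtain ⟨q, rfl⟩ := AdjoinRoot.mk_surjective z
    refine ⟨q, ?_, ?_⟩
    · exact congrArg Subtype.val (hmk q)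
    · show φ (e.symm (e _)) = _
      rw [AlgEquiv.symm_apply_apply, AdjoinRoot.lift_mk, eval₂_map, hcomp]
  have hψev : ∀ q : s.A[X], ψ' ⟨aeval α q, hev q⟩ = (q.map ψ0).eval₂ k0.subtype a := fun q => by
    have hq : e (AdjoinRoot.mk _ q) = ⟨aeval α q, hev q⟩ := hmk q
    show φ (e.symm ⟨aeval α q, hev q⟩) = _
    rw [← hq, AlgEquiv.symm_apply_apply, AdjoinRoot.lift_mk, eval₂_map, hcomp]
  let πA : A' := algebraMap s.A A' (algebraMap R s.A π)
  -- the kernel
  have hker : ∀ x : A', ψ' x = 0 → ∃ b : A', x = πA * b := by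
    intro x hx
    obtain ⟨q, hq, hq'⟩ := helem x
    rw [hq'] at hx
    have hdvd : h ∣ q.map ψ0 := minpoly.dvd k0 a hx
    obtain ⟨r, hr⟩ := hdvd
    obtain ⟨r₀, rfl⟩ := Polynomial.map_surjective ψ0 hψ0 r
    have hzero : (q - g * r₀).map ψ0 = 0 := by
      rw [Polynomial.map_sub, Polynomial.map_mul, hgh, hr, sub_self]
    have hdiv : C (algebraMap R s.A π) ∣ q - g * r₀ := (C_dvd_iff_dvd_coeff _ _).2 fun i => by
      have h1 := congrArg (fun p => ((p.coeff i : k0) : k')) hzero
      simp only [coeff_map, coeff_zero] at h1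
      obtain ⟨b, hb⟩ := s.ker _ ((hψval _).symm.trans h1)
      exact ⟨b, hb⟩
    obtain ⟨s', hs'⟩ := hdiv
    refine ⟨⟨aeval α s', hev s'⟩, Subtype.ext ?_⟩
    show (x : F) = algebraMap s.A F (algebraMap R s.A π) * aeval α s'
    rw [hq, eq_add_of_sub_eq hs', map_add, map_mul, map_mul, aeval_C, hα', zero_mul, add_zero]
  have hψπ : ψ' πA = 0 := by
    have h1 := hψev (C (algebraMap R s.A π))
    rw [show (⟨aeval α (C (algebraMap R s.A π)), hev _⟩ : A') = πA from Subtype.ext (aeval_C _ _), map_C,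
      eval₂_C] at h1
    rw [h1]
    exact (hψval _).trans ((s.ψ.commutes π).trans hπk)
  have : Algebra.IsIntegral s.A A' := by
    have : Module.Finite s.A A' := Module.Finite.iff_fg.2 hαint.fg_adjoin_singleton
    exact Algebra.IsIntegral.of_finite _ _
  have hunit : ∀ x : A', ψ' x ≠ 0 → IsUnit x := by
    intro x hx
    by_contra hu
    obtain ⟨M, hM, hxM⟩ := exists_max_ideal_of_mem_nonunits hu
    have hMA : M.comap (algebraMap s.A A') = maximalIdeal s.A :=
      eq_maximalIdeal (Ideal.isMaximal_comap_of_isIntegral_of_isMaximal M)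
    have hπM : πA ∈ M := hMA.ge ((s.irreducible hπF hπk).not_isUnit)
    obtain ⟨q, hq, hq'⟩ := helem x
    have hndvd : ¬ h ∣ q.map ψ0 := fun ⟨r, hr⟩ => hx (by
      rw [hq', hr, eval₂_mul, show h.eval₂ k0.subtype a = 0 from minpoly.aeval k0 a, zero_mul])
    obtain ⟨u, v, huv⟩ := (minpoly.irreducible halg).coprime_iff_not_dvd.2 hndvd
    obtain ⟨v₀, rfl⟩ := Polynomial.map_surjective ψ0 hψ0 v
    have h1 : ψ' (x * ⟨aeval α v₀, hev v₀⟩ - 1) = 0 := by
      have h2 := congrArg (fun p => p.eval₂ k0.subtype a) huv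
      simp only [eval₂_add, eval₂_mul, eval₂_one] at h2
      rw [show h.eval₂ k0.subtype a = 0 from minpoly.aeval k0 a, mul_zero, zero_add] at h2
      rw [map_sub, map_mul, map_one, hq', hψev, mul_comm, h2, sub_self]
    obtain ⟨b, hb⟩ := hker _ h1
    refine hM.ne_top ((Ideal.eq_top_iff_one _).2 ?_)
    have h3 : (1 : A') = x * ⟨aeval α v₀, hev v₀⟩ - πA * b := by rw [← hb]; ring
    rw [h3]
    exact sub_mem (M.mul_mem_right _ hxM) (M.mul_mem_right _ hπM)
  have : IsNoetherianRing A' :=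
    isNoetherianRing_of_ringEquiv (AdjoinRoot (minpoly s.A α)) e.toRingEquiv
  have : WfDvdMonoid A' := IsNoetherianRing.wfDvdMonoid
  have hπA0 : ¬ IsUnit πA := fun hu => (hu.map ψ').ne_zero hψπ
  have hpow : ∀ x : A', x ≠ 0 → ∃ (n : ℕ) (v : A'), IsUnit v ∧ x = πA ^ n * v := by
    intro x hx
    obtain ⟨n, v, hv, hxv⟩ := WfDvdMonoid.max_power_factor' hx hπA0
    exact ⟨n, v, by_contra fun hu => hv (hker v (by_contra fun h => hu (hunit v h))), hxv⟩
  let t : Stage R π k' F :=
    { A := A'.restrictScalars R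
      ψ := { ψ' with
        commutes' := fun r => by
          show ψ' ⟨algebraMap R F r, _⟩ = _
          have h1 := hψev (C (algebraMap R s.A r))
          rw [map_C, eval₂_C] at h1
          refine Eq.trans ?_ (h1.trans ((hψval _).trans (s.ψ.commutes r)))
          congr 1
          exact Subtype.ext (aeval_C α (algebraMap R s.A r)).symm }
      ker := hker
      unit := hunit
      pow := hpow }
  have hle : s.A ≤ t.A := fun x hx => (algebraMap s.A A' ⟨x, hx⟩).2
  refine ⟨t, hle, ?_, ⟨⟨α, Algebra.self_mem_adjoin_singleton s.A α⟩, ?_⟩⟩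
  · ext x
    show ψ' ⟨(x : F), _⟩ = s.ψ x
    have h1 := hψev (C x)
    rw [map_C, eval₂_C] at h1
    refine Eq.trans ?_ (h1.trans (hψval x))
    congr 1
    exact Subtype.ext (aeval_C α x).symm
  · show ψ' ⟨α, _⟩ = a
    have h1 := hψev X
    rw [map_X, eval₂_X] at h1
    refine Eq.trans ?_ h1
    congr 1
    exact Subtype.ext (aeval_X α).symm

/-- Extending a stage by a root of a lift of a minimal polynomial. -/
theorem exists_bigger [IsSepClosed F] (hπF : algebraMap R F π ≠ 0) (hπk : algebraMap R k' π = 0)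
    (hint : Algebra.IsIntegral R k') (s : Stage R π k' F) (a : k') (ha : a ∉ s.ψ.range) :
    ∃ t : Stage R π k' F, ∃ h : s.A ≤ t.A, t.ψ.comp (Subalgebra.inclusion h) = s.ψ ∧ a ∈ t.ψ.range := by
  have := s.isDVR hπF hπk
  let k0 : Subfield k' :=
    { s.ψ.range.toSubring with
      inv_mem' := by
        rintro x ⟨y, rfl⟩
        show (s.ψ y)⁻¹ ∈ Set.range s.ψ
        by_cases hy : s.ψ y = 0
        · exact ⟨0, by rw [hy, map_zero, inv_zero]⟩
        · obtain ⟨z, hz⟩ := (s.unit y hy).exists_right_inv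
          exact ⟨z, eq_inv_of_mul_eq_one_right (by rw [← map_mul, hz, map_one])⟩ }
  let ψ0 : s.A →+* k0 := s.ψ.toRingHom.codRestrict k0 fun x => ⟨x, rfl⟩
  have hψ0 : Function.Surjective ψ0 := by
    rintro ⟨_, y, rfl⟩
    exact ⟨y, rfl⟩
  have hcomp : k0.subtype.comp ψ0 = s.ψ.toRingHom := rfl
  have halg : IsIntegral k0 a := by
    obtain ⟨g, hg, hga⟩ := hint.isIntegral a
    refine ⟨g.map (ψ0.comp (algebraMap R s.A)), hg.map _, ?_⟩
    rw [eval₂_map]
    refine Eq.trans ?_ hga
    congr 1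
    exact RingHom.ext fun r => s.ψ.commutes r
  set h := minpoly k0 a with hh
  obtain ⟨g₀, hg₀, hg₀d, hg₀m⟩ := Polynomial.lifts_and_degree_eq_and_monic
    ((Polynomial.mem_lifts h).2 (Polynomial.map_surjective ψ0 hψ0 h)) (minpoly.monic halg)
  have hdeg2 : 2 ≤ h.natDegree := by
    refine (minpoly.two_le_natDegree_iff halg).2 ?_
    rintro ⟨⟨_, y, rfl⟩, hy⟩
    exact ha ⟨y, hy⟩
  set L := FractionRing s.A
  have hinjA : Function.Injective (algebraMap s.A L) := IsFractionRing.injective _ _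
  -- choose a lift with separable generic image
  obtain ⟨g, hgm, hgh, hgd⟩ : ∃ g : s.A[X], g.Monic ∧ g.map ψ0 = h ∧
      (g.map (algebraMap s.A L)).derivative ≠ 0 := by
    by_cases hd : (g₀.map (algebraMap s.A L)).derivative = 0
    · have hlt : (C (algebraMap R s.A π) * X).degree < g₀.degree := by
        refine (degree_C_mul_X_le _).trans_lt ?_
        rw [hg₀d, degree_eq_natDegree (minpoly.ne_zero halg)]
        exact_mod_cast hdeg2
      refine ⟨g₀ + C (algebraMap R s.A π) * X, hg₀m.add_of_left hlt, ?_, ?_⟩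
      · rw [Polynomial.map_add, Polynomial.map_mul, map_C, map_X, hg₀]
        rw [show ψ0 (algebraMap R s.A π) = 0 from Subtype.ext ((s.ψ.commutes π).trans hπk)]
        rw [C_0, zero_mul, add_zero]
      · rw [Polynomial.map_add, derivative_add, hd, zero_add, Polynomial.map_mul, map_C, map_X,
          derivative_C_mul_X]
        exact C_ne_zero.2 ((map_ne_zero_iff _ hinjA).2 fun e => hπF (congrArg Subtype.val e))
    · exact ⟨g₀, hg₀m, hg₀, hd⟩
  have hirr : Irreducible g :=
    Polynomial.Monic.irreducible_of_irreducible_map ψ0 g hgm (hgh.symm ▸ minpoly.irreducible halg)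
  have hsep : (g.map (algebraMap s.A L)).Separable :=
    (separable_iff_derivative_ne_zero ((hgm.irreducible_iff_irreducible_map_fraction_map (K := L)).1 hirr)).2 hgd
  have hfaith : FaithfulSMul s.A F := (faithfulSMul_iff_algebraMap_injective _ _).2 Subtype.val_injective
  let ι : L →+* F := IsFractionRing.lift (show Function.Injective (algebraMap s.A F) from Subtype.val_injective)
  obtain ⟨α, hα⟩ := IsSepClosed.exists_eval₂_eq_zero ι (g.map (algebraMap s.A L)) (by
    rw [degree_map_eq_of_injective hinjA]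
    intro h0
    exact hirr.not_isUnit (Monic.degree_le_zero_iff_eq_one hgm |>.1 h0.le ▸ isUnit_one)) hsep
  have hα' : aeval α g = 0 := by
    rw [eval₂_map, show ι.comp (algebraMap s.A L) = algebraMap s.A F from
      RingHom.ext fun x => IsFractionRing.lift_algebraMap (K := L) Subtype.val_injective x] at hα
    exact hα
  have hαint : IsIntegral s.A α := ⟨g, hgm, hα'⟩
  have hmin : minpoly s.A α = g := by
    obtain ⟨c, hc⟩ := minpoly.isIntegrallyClosed_dvd hαint hα'
    have hcu : IsUnit c := (hirr.isUnit_or_isUnit hc).resolve_left (minpoly.not_isUnit s.A α)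
    have hcm : c.Monic := (minpoly.monic hαint).of_mul_monic_left (hc ▸ hgm)
    rw [hcm.isUnit_iff.1 hcu, mul_one] at hc
    exact hc.symm
  exact exists_bigger_of_root hπF hπk s a k0 ψ0 hψ0 hcomp halg g hgm hgh α hα' hmin

/-- The base as a stage. -/
theorem nonempty_stage (hπ : Irreducible π) (hinj : Function.Injective (algebraMap R F))
    (hker : RingHom.ker (algebraMap R k') = maximalIdeal R) : Nonempty (Stage R π k' F) := by
  let e : R ≃ₐ[R] (⊥ : Subalgebra R F) := (Algebra.botEquivOfInjective hinj).symm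
  have he : ∀ r, e r = algebraMap R _ r := fun r => e.commutes r
  let ψ : (⊥ : Subalgebra R F) →ₐ[R] k' := (Algebra.ofId R k').comp e.symm.toAlgHom
  have hψ : ∀ r, ψ (e r) = algebraMap R k' r := fun r => by
    show algebraMap R k' (e.symm (e r)) = _
    rw [e.symm_apply_apply]
  have hm : ∀ r, algebraMap R k' r = 0 ↔ π ∣ r := fun r => by
    rw [← RingHom.mem_ker, hker, hπ.maximalIdeal_eq, Ideal.mem_span_singleton]
  refine ⟨⟨⊥, ψ, fun a ha => ?_, fun a ha => ?_, fun a ha => ?_⟩⟩ <;> obtain ⟨r, rfl⟩ := e.surjective a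
  · rw [hψ, hm] at ha
    obtain ⟨b, rfl⟩ := ha
    exact ⟨e b, by rw [map_mul, he π]⟩
  · rw [hψ] at ha
    refine IsUnit.map e ?_
    by_contra hu
    exact ha (RingHom.mem_ker.1 (hker.ge hu))
  · obtain ⟨n, v, rfl⟩ := IsDiscreteValuationRing.eq_unit_mul_pow_irreducible
      (show r ≠ 0 from fun h => ha (by rw [h, map_zero])) hπ
    exact ⟨n, e v, v.isUnit.map e, by rw [map_mul, map_pow, he π, mul_comm]⟩

/-- There is an unramified extension inside a separably closed field with residue field `k'`. -/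
theorem exists_surjective [IsSepClosed F] (hπ : Irreducible π) (hinj : Function.Injective (algebraMap R F))
    (hker : RingHom.ker (algebraMap R k') = maximalIdeal R) (hint : Algebra.IsIntegral R k') :
    ∃ s : Stage R π k' F, Function.Surjective s.ψ := by
  have hπF : algebraMap R F π ≠ 0 := (map_ne_zero_iff _ hinj).2 hπ.ne_zero
  have hπk : algebraMap R k' π = 0 :=
    RingHom.mem_ker.1 (hker.ge (hπ.maximalIdeal_eq.ge (Ideal.mem_span_singleton_self π)))
  let r : Stage R π k' F → Stage R π k' F → Prop := fun s t =>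
    ∃ h : s.A ≤ t.A, t.ψ.comp (Subalgebra.inclusion h) = s.ψ
  have hub : ∀ c, IsChain r c → ∃ ub, ∀ x ∈ c, r x ub := by
    intro c hc
    rcases c.eq_empty_or_nonempty with rfl | hne
    · obtain ⟨s⟩ := nonempty_stage (F := F) hπ hinj hker
      exact ⟨s, by simp⟩
    have : Nonempty c := hne.to_subtype
    let K : c → Subalgebra R F := fun i => i.1.A
    have hcmp : ∀ i j : c, r i.1 j.1 ∨ r j.1 i.1 := fun i j => by
      rcases eq_or_ne i.1 j.1 with e | e
      · exact Or.inl (e ▸ ⟨le_rfl, AlgHom.ext fun x => rfl⟩)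
      · exact hc i.2 j.2 e
    have hdir : Directed (· ≤ ·) K := fun i j => by
      rcases hcmp i j with ⟨h, -⟩ | ⟨h, -⟩
      · exact ⟨j, h, le_rfl⟩
      · exact ⟨i, le_rfl, h⟩
    have hcompat : ∀ (i j : c) (h : K i ≤ K j), i.1.ψ = j.1.ψ.comp (Subalgebra.inclusion h) := fun i j h => by
      rcases hcmp i j with ⟨h', hh⟩ | ⟨h', hh⟩
      · exact hh.symm
      · apply AlgHom.ext
        intro x
        have := DFunLike.congr_fun hh ⟨x.1, h x.2⟩
        exact this
    let ψ := Subalgebra.iSupLift K hdir (fun i => i.1.ψ) hcompat (iSup K) le_rfl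
    have hψ : ∀ (i : c) (x : i.1.A), ψ ⟨x.1, le_iSup K i x.2⟩ = i.1.ψ x := fun i x =>
      Subalgebra.iSupLift_inclusion (K := K) (i := i) x (le_iSup K i)
    have hmem : ∀ x : (iSup K : Subalgebra R F), ∃ i : c, x.1 ∈ i.1.A := fun x => by
      have := x.2
      rw [← SetLike.mem_coe, Subalgebra.coe_iSup_of_directed hdir, Set.mem_iUnion] at this
      exact this
    refine ⟨⟨iSup K, ψ, fun x hx => ?_, fun x hx => ?_, fun x hx => ?_⟩, fun s hs => ?_⟩
    · obtain ⟨i, hi⟩ := hmem x
      obtain ⟨b, hb⟩ := i.1.ker ⟨x.1, hi⟩ ((hψ i ⟨x.1, hi⟩).symm.trans hx)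
      exact ⟨⟨b.1, le_iSup K i b.2⟩, by
        apply Subtype.ext
        have h3 := congrArg Subtype.val hb
        exact h3⟩
    · obtain ⟨i, hi⟩ := hmem x
      exact (i.1.unit ⟨x.1, hi⟩ (fun e => hx ((hψ i ⟨x.1, hi⟩).trans e))).map
        (Subalgebra.inclusion (le_iSup K i))
    · obtain ⟨i, hi⟩ := hmem x
      obtain ⟨n, v, hv, hxv⟩ := i.1.pow ⟨x.1, hi⟩ (fun e => hx (by
          apply Subtype.ext
          have h3 := congrArg Subtype.val e
          exact h3))
      exact ⟨n, Subalgebra.inclusion (le_iSup K i) v, hv.map _, by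
        apply Subtype.ext
        have h3 := congrArg Subtype.val hxv
        exact h3⟩
    · exact ⟨le_iSup K ⟨s, hs⟩, AlgHom.ext fun x => hψ ⟨s, hs⟩ x⟩
  obtain ⟨m, hm⟩ := exists_maximal_of_chains_bounded hub (by
    rintro s t u ⟨h, hh⟩ ⟨h', hh'⟩
    refine ⟨h.trans h', ?_⟩
    rw [← hh, ← hh', AlgHom.comp_assoc]
    rfl)
  refine ⟨m, fun a => ?_⟩
  by_contra ha
  obtain ⟨t, hle, hcomp, hat⟩ := exists_bigger hπF hπk hint m a (fun ⟨y, hy⟩ => ha ⟨y, hy⟩)
  obtain ⟨hle', hcomp'⟩ := hm t ⟨hle, hcomp⟩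
  obtain ⟨y, rfl⟩ := hat
  exact ha ⟨⟨y.1, hle' y.2⟩, by
    have := DFunLike.congr_fun hcomp' y
    exact this⟩

end Groth.Agent.Lib.ModelFibre.Unramified
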