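import Groth.Agent.Lib.ModelFibre.VertExt

/-!
# Degrees of classes on the components
-/

set_option linter.style.haveILetI false

universe u

open CategoryTheory Limits AlgebraicGeometry IsLocalRing TopologicalSpace Groth.Agent.Lib.ModelFibre
open Groth.Agent.Lib

namespace Groth.Agent.Lib.ModelFibre.VertDeg

noncomputable section

local instance picLawInst (Y : Scheme.{u}) : PicGrp.Law Y := TensorMod.Invertible.law Y

variable {R : Type u} [CommRing R] [IsDomain R] [IsDiscreteValuationRing R]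
variable {X : Over (Spec (CommRingCat.of R))} (hX : Inter.IsSurf X)

/-- The degree of a class on a component. -/
def degCl (Δ : ArSurf.VertComp R X) (c : PicLoc.PicSet X.left) : ℤ :=
  ArSurf.inter R X (PicGrp.exists_eq_cls c).choose Δ

include hX

theorem degCl_cls (Δ : ArSurf.VertComp R X) {L : X.left.Modules} (hL : PicF.IsInvertible L) :
    degCl Δ (PicGrp.cls L hL) = ArSurf.inter R X L Δ := by
  obtain ⟨hM, he⟩ := (PicGrp.exists_eq_cls (PicGrp.cls L hL)).choose_spec
  exact Inter.inter_congr hX Δ ((PicGrp.cls_eq_cls_iff hL hM).1 he).some.symm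

theorem degCl_mul (Δ : ArSurf.VertComp R X) (c d : PicLoc.PicSet X.left) :
    degCl Δ (c * d) = degCl Δ c + degCl Δ d := by
  obtain ⟨L, hL, rfl⟩ := PicGrp.exists_eq_cls c
  obtain ⟨M, hM, rfl⟩ := PicGrp.exists_eq_cls d
  rw [← VertPic.cls_tensor hL hM, degCl_cls hX, degCl_cls hX, degCl_cls hX,
    Inter.inter_tensor hX Δ hL hM]

/-- The degree as a homomorphism. -/
def degHom (Δ : ArSurf.VertComp R X) : PicLoc.PicSet X.left →* Multiplicative ℤ :=
  MonoidHom.mk' (fun c => Multiplicative.ofAdd (degCl Δ c)) fun c d => by rw [degCl_mul hX]; rfl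

variable {n : ℕ} (Γ : Fin n → ArSurf.VertComp R X) (L : Fin n → X.left.Modules)
  (hL : ∀ i, _root_.ClSub.IsInverseOf (L i) (_root_.ClSub.idealMod (Γ i).ι.ker))

include hL

theorem degCl_φ (Δ : ArSurf.VertComp R X) (v : Fin n → ℤ) :
    degCl Δ (VertPic.φ hX Γ v) = ∑ j, v j * ArSurf.inter R X (L j) Δ := by
  have h : degHom hX Δ (VertPic.φ hX Γ v) = Multiplicative.ofAdd (∑ j, v j * ArSurf.inter R X (L j) Δ) := by
    rw [VertPic.φ, map_prod, ofAdd_sum]
    refine Finset.prod_congr rfl fun j _ => ?_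
    rw [map_zpow, zpow_neg, ← inv_zpow, ← map_inv, ← VertPic.cls_L hX Γ L hL]
    show Multiplicative.ofAdd (degCl Δ _) ^ v j = _
    rw [degCl_cls hX, ← ofAdd_zsmul, smul_eq_mul]
  exact Multiplicative.ofAdd.injective h

variable {C : Scheme.{u}} {fC : C ⟶ Spec (CommRingCat.of (FractionRing R))} {g : C ⟶ X.left}
  (hg : IsPullback g fC X.hom (Spec.map (CommRingCat.ofHom (algebraMap R (FractionRing R)))))
  (hΓ : Models.IsComponentList R X Γ)

include hg hΓ

/-- Degree vectors in the image of the intersection matrix are those of classes lifting to degree zero. -/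
theorem exists_iff [Nonempty C] (N : C.Modules) {M : X.left.Modules} (hM : PicF.IsInvertible M)
    (hMN : Nonempty ((Scheme.Modules.pullback g).obj M ≅ N)) :
    (∃ v : Fin n → ℤ, ∀ i, ArSurf.inter R X M (Γ i) = ∑ j, ArSurf.inter R X (L j) (Γ i) * v j) ↔
      ∃ M' : X.left.Modules, PicF.IsInvertible M' ∧ Nonempty ((Scheme.Modules.pullback g).obj M' ≅ N) ∧
        ∀ i, ArSurf.inter R X M' (Γ i) = 0 := by
  obtain ⟨i₀⟩ := hMN
  constructor
  · rintro ⟨v, hv⟩
    obtain ⟨M', hM', hcl⟩ := PicGrp.exists_eq_cls (PicGrp.cls M hM * VertPic.φ hX Γ (-v))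
    refine ⟨M', hM', ⟨Nonempty.some ?_ ≪≫ i₀⟩, fun i => ?_⟩
    · rw [← PicGrp.cls_eq_cls_iff (PicLoc.isInvertible_pullback g hM') (PicLoc.isInvertible_pullback g hM),
        ← VertPic.cls_pullback g hM', ← VertPic.cls_pullback g hM, ← hcl, map_mul,
        VertExt.pullHom_φ hX Γ hg, mul_one]
    · rw [← degCl_cls hX (Γ i) hM', ← hcl, degCl_mul hX, degCl_cls hX, degCl_φ hX Γ L hL, hv i,
        ← Finset.sum_add_distrib]
      exact Finset.sum_eq_zero fun j _ => by rw [Pi.neg_apply]; ring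
  · rintro ⟨M', hM', ⟨i'⟩, h0⟩
    obtain ⟨Mi, hMi, hMMi⟩ := TensorMod.Invertible.exists_inverse hM
    have hinv := PicGrp.cls_inv_eq_cls hM hMi hMMi
    have htriv : Nonempty ((Scheme.Modules.pullback g).obj (CohB1.tensorMod M' Mi) ≅ Coh.structureModule C) := by
      rw [← PicGrp.cls_eq_cls_iff (PicLoc.isInvertible_pullback g
        (TensorMod.Invertible.isInvertible_tensorMod hM' hMi)) (PicLoc.isInvertible_structureModule C),
        PicGrp.cls_structureModule_eq_one,
        ← VertPic.cls_pullback g (TensorMod.Invertible.isInvertible_tensorMod hM' hMi),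
        VertPic.cls_tensor hM' hMi, ← hinv, map_mul, map_inv, mul_inv_eq_one,
        VertPic.cls_pullback g hM', VertPic.cls_pullback g hM, PicGrp.cls_eq_cls_iff]
      exact ⟨i' ≪≫ i₀.symm⟩
    obtain ⟨b, hb⟩ := VertExt.exists_eq_φ hX Γ hΓ hg (TensorMod.Invertible.isInvertible_tensorMod hM' hMi) htriv
    refine ⟨fun j => -(b j : ℤ), fun i => ?_⟩
    have h1 : PicGrp.cls M' hM' = PicGrp.cls M hM * VertPic.φ hX Γ (fun j => (b j : ℤ)) := by
      rw [← hb, VertPic.cls_tensor hM' hMi, ← hinv, mul_comm (PicGrp.cls M' hM'), mul_inv_cancel_left]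
    have h2 := congrArg (degCl (Γ i)) h1
    rw [degCl_mul hX, degCl_cls hX, degCl_cls hX, degCl_φ hX Γ L hL, h0 i] at h2
    calc ArSurf.inter R X M (Γ i) = -∑ j, (b j : ℤ) * ArSurf.inter R X (L j) (Γ i) := by linarith
      _ = _ := by rw [← Finset.sum_neg_distrib]; exact Finset.sum_congr rfl fun j _ => by ring

end

end Groth.Agent.Lib.ModelFibre.VertDeg
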