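import Groth.Agent.Lib.ModelFibre.VertStalk
import Groth.Agent.Lib.QCoh.Localizing
import Groth.Agent.Lib.TensorMod.QCohInv
import Groth.Agent.Lib.Ample.GenLocus
import Groth.Agent.Lib.SurfInt.Div
import Groth.Agent.Lib.SurfInt.Pencil
import Groth.Agent.Lib.Regular.UFD

/-!
# Invertible modules trivial on the generic fibre are vertical
-/

set_option linter.style.haveILetI false

universe u

open CategoryTheory Limits AlgebraicGeometry IsLocalRing TopologicalSpace Groth.Agent.Lib.ModelFibre
open Groth.Agent.Lib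
open Groth.Agent.Lib.Ideal.Prime (stalkIdeal)

namespace Groth.Agent.Lib.ModelFibre.VertExt

noncomputable section

local instance picLawInst (Y : Scheme.{u}) : PicGrp.Law Y := TensorMod.Invertible.law Y

variable {R : Type u} [CommRing R] [IsDomain R] [IsDiscreteValuationRing R]
variable {X : Over (Spec (CommRingCat.of R))} (hX : Inter.IsSurf X) {n : ℕ}
  (Γ : Fin n → ArSurf.VertComp R X) (hΓ : Models.IsComponentList R X Γ)

include hX hΓ

/-- An effective divisor supported in the closed fibre is a combination of the components. -/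
theorem exists_eq_idl (D : X.left.IdealSheafData)
    (hprin : ∀ x : X.left, ∃ c : X.left.presheaf.stalk x, c ≠ 0 ∧ stalkIdeal D x = _root_.Ideal.span {c})
    (hsupp : (D.support : Set X.left) ⊆ Models.specialFibreSet R X) :
    ∃ b : Fin n → ℕ, D = VertPic.idl Γ b := by
  haveI := hX.flat
  have hdom : ∀ x : X.left, IsDomain (X.left.presheaf.stalk x) := fun x =>
    have := hX.reg x
    Regular.Quotient.isDomain _
  have hufd : ∀ x : X.left, UniqueFactorizationMonoid (X.left.presheaf.stalk x) := fun x =>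
    have := hX.reg x
    Regular.UFD.uniqueFactorizationMonoid _
  obtain ⟨π, hπ⟩ := IsDiscreteValuationRing.exists_irreducible R
  -- a prime divisor of an equation of `D` is a component
  have hfac : ∀ (x : X.left) (c h : X.left.presheaf.stalk x), stalkIdeal D x = _root_.Ideal.span {c} →
      Prime h → h ∣ c → ∃ i, stalkIdeal (Γ i).ι.ker x = _root_.Ideal.span {h} := by
    intro x c h hc hh hdvd
    haveI := hdom x
    let q : PrimeSpectrum (X.left.presheaf.stalk x) :=
      ⟨_root_.Ideal.span {h}, (_root_.Ideal.span_singleton_prime hh.ne_zero).2 hh⟩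
    set y := X.left.fromSpecStalk x q with hy
    have hyx : y ⤳ x := by
      have h0 : y ∈ Set.range (X.left.fromSpecStalk x) := ⟨q, rfl⟩
      rw [Scheme.range_fromSpecStalk] at h0
      exact h0
    obtain ⟨U, hU, hxU, -⟩ := exists_isAffineOpen_mem_and_subset (show x ∈ (⊤ : X.left.Opens) from trivial)
    have hys : y ∈ D.support := by
      have hyU : y ∈ U := hyx.mem_open U.2 hxU
      rw [Ideal.Prime.mem_support_iff_le_prime D ⟨U, hU⟩ hyU]
      intro t ht
      have h1 : (X.left.presheaf.germ U x hxU).hom t ∈ q.asIdeal := by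
        have h2 : (X.left.presheaf.germ U x hxU).hom t ∈ stalkIdeal D x := by
          rw [Ideal.Prime.stalkIdeal_eq D ⟨U, hU⟩ hxU]
          exact _root_.Ideal.mem_map_of_mem _ ht
        rw [hc] at h2
        exact _root_.Ideal.mem_span_singleton.2 (hdvd.trans (_root_.Ideal.mem_span_singleton.1 h2))
      haveI : IsOpenImmersion hU.fromSpec := hU.isOpenImmersion_fromSpec
      have hq' : (Spec.map (X.left.presheaf.germ U x hxU)) q = hU.primeIdealOf ⟨y, hyU⟩ := by
        apply hU.fromSpec.isOpenEmbedding.injective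
        rw [hU.fromSpec_primeIdealOf]
        show (Spec.map (X.left.presheaf.germ U x hxU) ≫ hU.fromSpec) q = y
        rw [hy, ← hU.fromSpecStalk_eq_fromSpecStalk hxU]
        rfl
      exact (congrArg PrimeSpectrum.asIdeal hq').le h1
    have hπh : Stalk.baseHom X.hom x π ∈ q.asIdeal := by
      have h3 : (X.left.fromSpecStalk x ≫ X.hom) q = closedPoint R := hsupp hys
      rw [Stalk.fromSpecStalk_comp] at h3
      have h4 := congrArg PrimeSpectrum.asIdeal h3
      change q.asIdeal.comap (Stalk.baseHom X.hom x) = maximalIdeal R at h4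
      rw [← _root_.Ideal.mem_comap, h4, hπ.maximalIdeal_eq]
      exact _root_.Ideal.mem_span_singleton_self π
    have h5 : ∏ i, stalkIdeal (Γ i).ι.ker x ^ Models.mult R X (Γ i) ≤ q.asIdeal := by
      rw [← VertStalk.span_uniformizer hX Γ hΓ hπ x]
      exact (_root_.Ideal.span_singleton_le_iff_mem _).2 hπh
    obtain ⟨i, -, hi⟩ := (q.isPrime.prod_le (f := fun i => stalkIdeal (Γ i).ι.ker x ^ Models.mult R X (Γ i))).1 h5
    have hi' : stalkIdeal (Γ i).ι.ker x ≤ q.asIdeal := q.isPrime.le_of_pow_le hi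
    by_cases hxi : x ∈ Set.range ((Γ i).ι.base : (Γ i).curve.left → X.left)
    · obtain ⟨a, ha, haI⟩ := VertStalk.prin hX Γ i hxi
      refine ⟨i, haI.trans (_root_.Ideal.span_singleton_eq_span_singleton.2 ?_)⟩
      rw [haI, _root_.Ideal.span_singleton_le_iff_mem] at hi'
      exact (hh.irreducible.associated_of_dvd ha.irreducible (_root_.Ideal.mem_span_singleton.1 hi')).symm
    · exact absurd (top_le_iff.1 ((VertStalk.stalkIdeal_ker_eq_top Γ i hxi).symm.le.trans hi'))
        q.isPrime.ne_top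
  have hexp : ∀ x : X.left, ∃ k : Fin n → ℕ,
      stalkIdeal D x = ∏ i, stalkIdeal (Γ i).ι.ker x ^ k i := by
    intro x
    obtain ⟨c, hc0, hc⟩ := hprin x
    haveI := hdom x
    haveI := hufd x
    suffices h : ∀ c : X.left.presheaf.stalk x, c ≠ 0 →
        (∀ h, Prime h → h ∣ c → ∃ i, stalkIdeal (Γ i).ι.ker x = _root_.Ideal.span {h}) →
        ∃ k : Fin n → ℕ, _root_.Ideal.span {c} = ∏ i, stalkIdeal (Γ i).ι.ker x ^ k i by
      obtain ⟨k, hk⟩ := h c hc0 fun h => hfac x c h hc
      exact ⟨k, hc.trans hk⟩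
    intro c
    induction c using UniqueFactorizationMonoid.induction_on_prime with
    | h₁ => exact fun h0 => absurd rfl h0
    | h₂ c hc =>
      refine fun _ _ => ⟨0, ?_⟩
      rw [_root_.Ideal.span_singleton_eq_top.2 hc, ← _root_.Ideal.one_eq_top]
      exact (Finset.prod_eq_one fun i _ => pow_zero _).symm
    | h₃ c h hc0 hh ih =>
      intro _ hall
      obtain ⟨i, hi⟩ := hall h hh (dvd_mul_right h c)
      obtain ⟨k, hk⟩ := ih hc0 fun h' hh' hd => hall h' hh' (hd.trans (dvd_mul_left c h))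
      classical
      refine ⟨k + Pi.single i 1, ?_⟩
      rw [← _root_.Ideal.span_singleton_mul_span_singleton, hk, ← hi, mul_comm]
      simp only [Pi.add_apply, pow_add, Finset.prod_mul_distrib]
      congr 1
      rw [Finset.prod_eq_single i (fun j _ hj => by rw [Pi.single_eq_of_ne hj, pow_zero])
        (fun h => absurd (Finset.mem_univ i) h), Pi.single_eq_same, pow_one]
  choose k hk using hexp
  refine ⟨fun i => k (VertStalk.ξ Γ i) i, StalkIdeal.ext_of_stalkIdeal fun x => ?_⟩
  rw [VertStalk.stalkIdeal_idl, hk x]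
  refine Finset.prod_congr rfl fun i _ => ?_
  by_cases hxi : x ∈ Set.range ((Γ i).ι.base : (Γ i).curve.left → X.left)
  · congr 1
    have hs : VertStalk.ξ Γ i ⤳ x := by
      obtain ⟨z, rfl⟩ := hxi
      exact (genericPoint_specializes z).map (Γ i).ι.continuous
    have h1 := congrArg (_root_.Ideal.map (X.left.presheaf.stalkSpecializes hs).hom) (hk x)
    rw [StalkIdeal.map_stalkSpecializes, hk, ← _root_.Ideal.mapHom_apply, map_prod] at h1
    simp only [map_pow, _root_.Ideal.mapHom_apply, StalkIdeal.map_stalkSpecializes] at h1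
    rw [VertStalk.prod_gen hX Γ hΓ, VertStalk.prod_gen hX Γ hΓ] at h1
    exact (VertStalk.eq_of_pow_eq hX Γ hΓ h1).symm
  · rw [VertStalk.stalkIdeal_ker_eq_top Γ i hxi, ← _root_.Ideal.one_eq_top, one_pow, one_pow]

variable {C : Scheme.{u}} {fC : C ⟶ Spec (CommRingCat.of (FractionRing R))} {g : C ⟶ X.left}
  (hg : IsPullback g fC X.hom (Spec.map (CommRingCat.ofHom (algebraMap R (FractionRing R)))))

include hg

/-- An invertible module trivial on the generic fibre is vertical. -/
theorem exists_eq_φ [Nonempty C] {M : X.left.Modules} (hM : PicF.IsInvertible M)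
    (htriv : Nonempty ((Scheme.Modules.pullback g).obj M ≅ Coh.structureModule C)) :
    ∃ b : Fin n → ℕ, PicGrp.cls M hM = VertPic.φ hX Γ fun i => (b i : ℤ) := by
  haveI := hX.isIntegral
  haveI := hX.isProper
  haveI := hX.flat
  haveI : IsOpenImmersion g := SmoothGeneric.isOpenImmersion_gK hg
  obtain ⟨π, hπ⟩ := IsDiscreteValuationRing.exists_irreducible R
  set U₀ := g.opensRange with hU₀def
  have hU₀ : U₀ = X.left.basicOpen (RegularExt.glob X.hom π) :=
    Opens.ext (SmoothGeneric.range_gK hg hπ)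
  have hj : g.isoOpensRange.inv ≫ g = U₀.ι := Scheme.Hom.isoOpensRange_inv_comp g
  obtain ⟨i₀⟩ := htriv
  have htr : Nonempty (M.restrict U₀.ι ≅ Coh.structureModule (U₀ : Scheme.{u})) :=
    ⟨(Scheme.Modules.restrictFunctorIsoPullback U₀.ι).app M ≪≫
      (Scheme.Modules.pullbackCongr hj.symm).app M ≪≫
      (Scheme.Modules.pullbackComp g.isoOpensRange.inv g).symm.app M ≪≫
      (Scheme.Modules.pullback g.isoOpensRange.inv).mapIso i₀ ≪≫
      PicLoc.pullbackStructureIso g.isoOpensRange.inv⟩
  obtain ⟨e, he⟩ := TensorMod.Gen.exists_gen_of_iso htr.some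
  haveI : M.IsQuasicoherent := TensorMod.QCohInv.isQCoh_of_isInvertible hM
  haveI : CompactSpace X.left := QuasiCompact.compactSpace_of_compactSpace X.hom
  haveI : QuasiSeparatedSpace X.left := quasiSeparatedSpace_of_quasiSeparated X.hom
  obtain ⟨N, t, ht⟩ := (QCoh.Localizing.localizes_of_qcqs M (U := (⊤ : X.left.Opens))
    isCompact_univ (isQuasiSeparated_univ_iff.2 inferInstance) (RegularExt.glob X.hom π)).ext'.exists_of_eq
      hU₀ le_top e
  let s : Coh.structureModule X.left ⟶ M := ClSub.Cartier.ofSection M t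
  have hu : IsUnit (QCoh.Localizing.resR (le_top : U₀ ≤ ⊤) (RegularExt.glob X.hom π)) :=
    isUnit_res_of_eq _ hU₀ le_top
  have hsv : Ample.GenLocus.sv s U₀ =
      QCoh.Localizing.resR (le_top : U₀ ≤ ⊤) (RegularExt.glob X.hom π) ^ N • e :=
    (ClSub.Cartier.ofSection_app M t U₀ 1).trans ((one_smul _ _).trans ht)
  have hgen : TensorMod.Gen.IsGen M U₀ (Ample.GenLocus.sv s U₀) :=
    hsv ▸ Ample.GenLocus.IsGen_smul_isUnit he (hu.pow N)
  have hle : U₀ ≤ CohB1.genLocus M s := Ample.GenLocus.le_genLocus hgen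
  have hs : s ≠ 0 := by
    obtain ⟨c⟩ := ‹Nonempty C›
    exact SurfInt.Pencil.ne_zero_of_mem_genLocus hM (hle ⟨c, rfl⟩ : g c ∈ CohB1.genLocus M s)
  obtain ⟨hD, hDiso, hsupp, -⟩ := SurfInt.Div.divisor_spec hM s hs
  obtain ⟨b, hb⟩ := exists_eq_idl hX Γ hΓ (PicF2.zeroScheme M s) (fun x => by
      obtain ⟨-, c, -, -, hc0, hc, -⟩ := SurfInt.Div.exists_stalk_zeroScheme hM s hs x
      exact ⟨c, hc0, hc⟩) (fun x hx => by
      rw [hsupp] at hx
      have hx' : x ∉ U₀ := fun h => hx (hle h)
      rw [hU₀, RegularExt.basicOpen_toGlobal] at hx'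
      change ¬ π ∉ (X.hom x).asIdeal at hx'
      refine PrimeSpectrum.ext (le_antisymm (IsLocalRing.le_maximalIdeal (X.hom x).2.ne_top) ?_)
      show maximalIdeal R ≤ _
      rw [hπ.maximalIdeal_eq]
      exact (_root_.Ideal.span_singleton_le_iff_mem _).2 (not_not.1 hx'))
  refine ⟨b, ?_⟩
  have h1 := (PicGrp.cls_mul_cls_eq_one_iff hM (ClSub.Cartier.isInvertible_idealMod hD)).2 hDiso
  rw [VertPic.cls_congr hb _ (ClSub.Cartier.isInvertible_idealMod (VertPic.isEffCartier_idl hX Γ b)),
    VertPic.cls_idl hX Γ b] at h1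
  exact mul_inv_eq_one.1 h1
where
  isUnit_res_of_eq {U₀ : X.left.Opens} (r : Γ(X.left, ⊤)) (h : U₀ = X.left.basicOpen r) (h' : U₀ ≤ ⊤) :
      IsUnit (QCoh.Localizing.resR h' r) := by
    subst h
    exact RingedSpace.isUnit_res_basicOpen X.left.toRingedSpace r

omit hΓ in
/-- Vertical divisors are trivial on the generic fibre. -/
theorem pullHom_φ (v : Fin n → ℤ) :
    PicGrp.pullHom g (TensorMod.Pullback.pullMul g) (VertPic.φ hX Γ v) = 1 := by
  haveI := hX.flat
  rw [VertPic.φ, map_prod]
  refine Finset.prod_eq_one fun i _ => ?_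
  rw [map_zpow, VertPic.cls_pullback, ← one_zpow (-v i)]
  congr 1
  rw [← PicGrp.cls_structureModule_eq_one (Y := C), PicGrp.cls_eq_cls_iff]
  haveI : IsOpenImmersion g := SmoothGeneric.isOpenImmersion_gK hg
  refine SmoothModel.pullback_idealMod_trivial g _ 1
    (fun z => by simpa only [map_one] using IsSMulRegular.one _) g.opensRange (fun c => ⟨c, rfl⟩) fun z hz => ?_
  rw [map_one, _root_.Ideal.span_singleton_one]
  refine VertStalk.stalkIdeal_ker_eq_top Γ i fun hzi => ?_
  obtain ⟨π, hπ⟩ := IsDiscreteValuationRing.exists_irreducible R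
  have h1 : X.hom z = closedPoint R := (Inter.range_mem hX (Γ i)).1.2 hzi
  have h2 : z ∈ X.left.basicOpen (RegularExt.glob X.hom π) := by
    have h3 : z ∈ (g.opensRange : Set X.left) := hz
    rw [Scheme.Hom.coe_opensRange, SmoothGeneric.range_gK hg hπ] at h3
    exact h3
  rw [RegularExt.basicOpen_toGlobal] at h2
  change π ∉ (X.hom z).asIdeal at h2
  rw [h1] at h2
  exact h2 (hπ.maximalIdeal_eq.ge (_root_.Ideal.mem_span_singleton_self π))

end

end Groth.Agent.Lib.ModelFibre.VertExt
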