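import Groth.Agent.Lib.ModelFibre.VertPic
import Groth.Agent.Lib.ClSub.Sections
import Groth.Agent.Lib.ModelFibre.GlobalFun

/-!
# Local structure of vertical divisors, and the kernel of `ℤ^n → Pic`
-/

set_option linter.style.haveILetI false

universe u

open CategoryTheory Limits AlgebraicGeometry IsLocalRing TopologicalSpace Groth.Agent.Lib.ModelFibre
open Groth.Agent.Lib
open Groth.Agent.Lib.Ideal.Prime (stalkIdeal)

namespace Groth.Agent.Lib.ModelFibre.VertStalk

noncomputable section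

local instance picLawInst (Y : Scheme.{u}) : PicGrp.Law Y := TensorMod.Invertible.law Y

variable {R : Type u} [CommRing R] [IsDomain R] [IsDiscreteValuationRing R]
variable {X : Over (Spec (CommRingCat.of R))} (hX : Inter.IsSurf X) {n : ℕ}
  (Γ : Fin n → ArSurf.VertComp R X) (hΓ : Models.IsComponentList R X Γ)

/-- The generic point of a component. -/
abbrev ξ (i : Fin n) : X.left := (Γ i).ι (genericPoint (Γ i).curve.left)

include hX

theorem prin (i : Fin n) {x : X.left} (hx : x ∈ Set.range ((Γ i).ι.base : (Γ i).curve.left → X.left)) :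
    ∃ a : X.left.presheaf.stalk x, Prime a ∧ stalkIdeal (Γ i).ι.ker x = _root_.Ideal.span {a} := by
  haveI := hX.flat
  obtain ⟨π, hπ⟩ := IsDiscreteValuationRing.exists_irreducible R
  exact (Components.stalk_structure X.hom hX.reg hπ Γ fun j => Inter.range_mem hX (Γ j)).1 i x hx

omit hX in
theorem stalkIdeal_ker_eq_top (i : Fin n) {x : X.left}
    (hx : x ∉ Set.range ((Γ i).ι.base : (Γ i).curve.left → X.left)) : stalkIdeal (Γ i).ι.ker x = ⊤ := by
  rw [StalkIdeal.stalkIdeal_eq_top_iff]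
  have h : (((Γ i).ι.ker.support : Closeds X.left) : Set X.left) = Set.range (Γ i).ι := by
    rw [Scheme.Hom.support_ker]; exact (Γ i).ι.isClosedEmbedding.isClosed_range.closure_eq
  exact fun h' => hx (h ▸ h')

include hΓ

theorem ker_gen_eq_top {i j : Fin n} (h : j ≠ i) : stalkIdeal (Γ j).ι.ker (ξ Γ i) = ⊤ := by
  rw [StalkIdeal.stalkIdeal_eq_top_iff]
  exact Inter.genPt_not_mem hX (Γ i) (Γ j) fun e => h (hΓ.1 e).symm

omit hΓ in
theorem ker_gen (i : Fin n) : ∃ q : X.left.presheaf.stalk (ξ Γ i), Prime q ∧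
    stalkIdeal (Γ i).ι.ker (ξ Γ i) = _root_.Ideal.span {q} ∧
      maximalIdeal (X.left.presheaf.stalk (ξ Γ i)) = _root_.Ideal.span {q} := by
  obtain ⟨q, hq, hqI⟩ := prin hX Γ i (x := ξ Γ i) ⟨_, rfl⟩
  exact ⟨q, hq, hqI, ((StalkIdeal.stalkIdeal_ker (Γ i).ι (ξ Γ i) specializes_rfl).2
    (closedPoint _) Scheme.fromSpecStalk_closedPoint).trans hqI⟩

omit hX hΓ in
theorem stalkIdeal_idl (a : Fin n → ℕ) (x : X.left) :
    stalkIdeal (VertPic.idl Γ a) x = ∏ i, stalkIdeal (Γ i).ι.ker x ^ a i := by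
  rw [VertPic.idl, StalkIdeal.stalkIdeal_prod]
  exact Finset.prod_congr rfl fun i _ => StalkIdeal.stalkIdeal_pow _ _ _

theorem prod_gen (a : Fin n → ℕ) (i : Fin n) :
    ∏ j, stalkIdeal (Γ j).ι.ker (ξ Γ i) ^ a j = stalkIdeal (Γ i).ι.ker (ξ Γ i) ^ a i := by
  refine Finset.prod_eq_single i (fun j _ hj => ?_) (fun h => absurd (Finset.mem_univ i) h)
  rw [ker_gen_eq_top hX Γ hΓ hj, ← _root_.Ideal.one_eq_top, one_pow]

theorem eq_of_pow_eq {i : Fin n} {k l : ℕ}
    (h : stalkIdeal (Γ i).ι.ker (ξ Γ i) ^ k = stalkIdeal (Γ i).ι.ker (ξ Γ i) ^ l) : k = l := by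
  haveI := hX.reg (ξ Γ i)
  haveI := Regular.Quotient.isDomain (X.left.presheaf.stalk (ξ Γ i))
  obtain ⟨q, hq, hqI, -⟩ := ker_gen hX Γ i
  rw [hqI, _root_.Ideal.span_singleton_pow, _root_.Ideal.span_singleton_pow,
    _root_.Ideal.span_singleton_eq_span_singleton] at h
  exact le_antisymm ((pow_dvd_pow_iff hq.ne_zero hq.not_isUnit).1 h.dvd)
    ((pow_dvd_pow_iff hq.ne_zero hq.not_isUnit).1 h.symm.dvd)

/-- The closed fibre as a product of components. -/
theorem span_uniformizer {π : R} (hπ : Irreducible π) (x : X.left) :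
    _root_.Ideal.span {Stalk.baseHom X.hom x π} =
      ∏ i, stalkIdeal (Γ i).ι.ker x ^ Models.mult R X (Γ i) := by
  haveI := hX.flat
  exact (Components.stalk_structure X.hom hX.reg hπ Γ fun j => Inter.range_mem hX (Γ j)).2 hΓ.1
    (fun S hS => (hΓ.2.symm ▸ hS : S ∈ Set.range fun i => Set.range ((Γ i).ι.base : (Γ i).curve.left → X.left))) x

/-- The closed fibre is a principal divisor. -/
theorem φ_mult : VertPic.φ hX Γ (fun i => (Models.mult R X (Γ i) : ℤ)) = 1 := by
  haveI := hX.flat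
  obtain ⟨π, hπ⟩ := IsDiscreteValuationRing.exists_irreducible R
  obtain ⟨e⟩ := SmoothModel.pullback_idealMod_trivial (𝟙 X.left)
    (VertPic.idl Γ fun i => Models.mult R X (Γ i)) (RegularExt.glob X.hom π)
    (fun z a b hab => Chart.isSMulRegular_baseHom X.hom z (IsRegular.of_ne_zero hπ.ne_zero) hab)
    ⊤ (fun _ => trivial) fun z _ => by
      rw [stalkIdeal_idl]
      exact (span_uniformizer hX Γ hΓ hπ z).symm
  have h := VertPic.cls_idl hX Γ fun i => Models.mult R X (Γ i)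
  have h2 := (PicGrp.cls_eq_cls_iff
    (ClSub.Cartier.isInvertible_idealMod (VertPic.isEffCartier_idl hX Γ fun i => Models.mult R X (Γ i)))
    (PicLoc.isInvertible_structureModule X.left)).2
      ⟨((Scheme.Modules.pullbackId X.left).app _).symm ≪≫ e⟩
  rw [h2, PicGrp.cls_structureModule_eq_one] at h
  exact inv_eq_one.1 h.symm

omit hΓ in
/-- An invertible ideal which is a free module is cut out by a global function. -/
theorem exists_global_eq {I : X.left.IdealSheafData}
    (e : _root_.ClSub.idealMod I ≅ Coh.structureModule X.left) :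
    ∃ s : Γ(X.left, ⊤), ∀ x : X.left,
      stalkIdeal I x = _root_.Ideal.span {X.left.presheaf.germ ⊤ x trivial s} := by
  let ψ : Coh.structureModule X.left ⟶ Coh.structureModule X.left := e.inv ≫ _root_.ClSub.idealModι I
  let v : ∀ W : X.left.Opens, Γ(X.left, W) := fun W => ψ.app W (TensorMod.Gen.one X.left W)
  refine ⟨v ⊤, fun x => ?_⟩
  obtain ⟨U, hU, hxU, -⟩ := exists_isAffineOpen_mem_and_subset (show x ∈ (⊤ : X.left.Opens) from trivial)
  have hv : (X.left.presheaf.map (homOfLE (le_top : U ≤ ⊤)).op).hom (v ⊤) = v U :=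
    TensorMod.Gen.rs_app_one ψ (le_top : U ≤ ⊤)
  have hsp : I.ideal ⟨U, hU⟩ = _root_.Ideal.span {v U} := by
    ext z
    rw [← ClSub.Sections.mem_range_idealModι_app_affine_iff, _root_.Ideal.mem_span_singleton']
    have key : ∀ a : Γ(X.left, U),
        (_root_.ClSub.idealModι I).app U (e.inv.app U a) = a * v U :=
      fun a => (TensorMod.Gen.app_eq_smul ψ a).trans rfl
    constructor
    · rintro ⟨m, hm⟩
      obtain ⟨a, ha⟩ := (ConcreteCategory.bijective_of_isIso (e.inv.app U)).2 m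
      exact ⟨a, (key a).symm.trans ((congrArg _ ha).trans hm)⟩
    · rintro ⟨a, ha⟩
      exact ⟨e.inv.app U a, (key a).trans ha⟩
  rw [Ideal.Prime.stalkIdeal_eq I ⟨U, hU⟩ hxU, hsp, _root_.Ideal.map_span, Set.image_singleton, ← hv]
  congr 1
  exact congrArg (fun t => ({t} : Set _)) (X.left.presheaf.germ_res_apply _ x hxU (v ⊤))

/-- A relation between the vertical divisors in the Picard group comes from the closed fibre. -/
theorem exists_nat_of_φ_eq_one (hglob : Function.Surjective (Coh.toGlobal X.hom)) (a : Fin n → ℕ)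
    (h : VertPic.φ hX Γ (fun i => (a i : ℤ)) = 1) :
    ∃ e : ℕ, ∀ i, a i = e * Models.mult R X (Γ i) := by
  rcases isEmpty_or_nonempty (Fin n) with _ | ⟨⟨i₀⟩⟩
  · exact ⟨0, fun i => isEmptyElim i⟩
  have h1 := VertPic.cls_idl hX Γ a
  rw [h, inv_one, ← PicGrp.cls_structureModule_eq_one (Y := X.left), PicGrp.cls_eq_cls_iff] at h1
  obtain ⟨e⟩ := h1
  obtain ⟨s, hs⟩ := exists_global_eq hX e
  obtain ⟨r, rfl⟩ := hglob s
  obtain ⟨π, hπ⟩ := IsDiscreteValuationRing.exists_irreducible R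
  have hgen : ∀ i, _root_.Ideal.span {Stalk.baseHom X.hom (ξ Γ i) r} =
      stalkIdeal (Γ i).ι.ker (ξ Γ i) ^ a i := fun i => by
    rw [← prod_gen hX Γ hΓ a i, ← stalkIdeal_idl]
    exact (hs (ξ Γ i)).symm
  have hr : r ≠ 0 := by
    rintro rfl
    obtain ⟨q, hq, hqI, -⟩ := ker_gen hX Γ i₀
    have h2 := hgen i₀
    haveI := hX.reg (ξ Γ i₀)
    haveI := Regular.Quotient.isDomain (X.left.presheaf.stalk (ξ Γ i₀))
    rw [map_zero, hqI, _root_.Ideal.span_singleton_pow, _root_.Ideal.span_singleton_eq_span_singleton] at h2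
    exact pow_ne_zero (a i₀) hq.ne_zero (associated_zero_iff_eq_zero _ |>.1 h2.symm)
  obtain ⟨k, u, rfl⟩ := IsDiscreteValuationRing.eq_unit_mul_pow_irreducible hr hπ
  refine ⟨k, fun i => eq_of_pow_eq hX Γ hΓ (i := i) ?_⟩
  rw [← hgen i, map_mul, map_pow, _root_.Ideal.span_singleton_mul_left_unit (u.isUnit.map _),
    ← _root_.Ideal.span_singleton_pow, span_uniformizer hX Γ hΓ hπ, prod_gen hX Γ hΓ, ← pow_mul, mul_comm]

/-- The kernel of `v ↦ Σ v i • Γ i` in the Picard group. -/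
theorem φ_eq_one_iff (hglob : Function.Surjective (Coh.toGlobal X.hom)) (v : Fin n → ℤ) :
    VertPic.φ hX Γ v = 1 ↔ ∃ c : ℤ, ∀ i, v i = c * (Models.mult R X (Γ i) : ℤ) := by
  constructor
  · intro h
    let N : ℕ := ∑ i, (v i).natAbs
    have hnn : ∀ i, 0 ≤ v i + (N : ℤ) * (Models.mult R X (Γ i) : ℤ) := fun i => by
      have h1 : (v i).natAbs ≤ N := Finset.single_le_sum (f := fun j => (v j).natAbs)
        (fun j _ => Nat.zero_le _) (Finset.mem_univ i)
      have h2 := InterForm.mult_pos hX (Γ i)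
      have h3 : (N : ℤ) ≤ (N : ℤ) * (Models.mult R X (Γ i) : ℤ) :=
        le_mul_of_one_le_right (Int.natCast_nonneg N) (by omega)
      omega
    obtain ⟨e, he⟩ := exists_nat_of_φ_eq_one hX Γ hΓ hglob
      (fun i => (v i + (N : ℤ) * (Models.mult R X (Γ i) : ℤ)).toNat) (by
        rw [show (fun i => (((v i + (N : ℤ) * (Models.mult R X (Γ i) : ℤ)).toNat : ℕ) : ℤ)) =
            v + (N : ℤ) • fun i => (Models.mult R X (Γ i) : ℤ) from
          funext fun i => (Int.toNat_of_nonneg (hnn i)).trans rfl,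
          VertPic.φ_add, VertPic.φ_zsmul, φ_mult hX Γ hΓ, one_zpow, h, mul_one])
    refine ⟨(e : ℤ) - N, fun i => ?_⟩
    have h1 : (((v i + (N : ℤ) * (Models.mult R X (Γ i) : ℤ)).toNat : ℕ) : ℤ) =
        ((e * Models.mult R X (Γ i) : ℕ) : ℤ) := congrArg Nat.cast (he i)
    rw [Int.toNat_of_nonneg (hnn i), Nat.cast_mul] at h1
    rw [sub_mul]
    omega
  · rintro ⟨c, hc⟩
    rw [show v = c • fun i => (Models.mult R X (Γ i) : ℤ) from funext hc, VertPic.φ_zsmul,
      φ_mult hX Γ hΓ, one_zpow]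

end

end Groth.Agent.Lib.ModelFibre.VertStalk
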